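import Groth.Prelude.Def_Wider
import Mathlib.Algebra.Homology.DerivedCategory.Ext.Linear
import Mathlib.Algebra.Homology.DerivedCategory.Ext.EnoughProjectives
import Mathlib.Algebra.Homology.DerivedCategory.TStructure
import Mathlib.Algebra.Category.ModuleCat.Projective
import Mathlib.Algebra.Category.ModuleCat.Ext.HasExt

/-!
# Morphisms between modules in `D(A)`; Gorenstein rings: `A[0]` is a dualizing complex
-/

set_option autoImplicit false
universe u

open CategoryTheory DerivedCategory

attribute [local instance] HasDerivedCategory.standard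

namespace Groth.Agent.Localalg.DGor

variable (A : Type u) [CommRing A]

/-- Maps `M → N[i]` in `D(A)` vanish for `i < 0`. -/
theorem subsingleton_hom_neg (M N : Type u) [AddCommGroup M] [Module A M] [AddCommGroup N]
    [Module A N] (i : ℤ) (hi : i < 0) : Subsingleton (Dual.inD A M ⟶ (Dual.inD A N)⟦i⟧) := by
  refine ⟨fun f g => ?_⟩
  have h1 : TStructure.t.IsGE ((Dual.inD A N)⟦i⟧) (-i) :=
    TStructure.t.isGE_shift (Dual.inD A N) 0 i (-i) (by omega)
  rw [TStructure.t.zero_of_isLE_of_isGE f 0 (-i) (by omega) inferInstance h1,
    TStructure.t.zero_of_isLE_of_isGE g 0 (-i) (by omega) inferInstance h1]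

/-- `Ext^n(M, N) = Hom_{D(A)}(M, N[n])`, linearly. -/
noncomputable def extEquiv (M N : Type u) [AddCommGroup M] [Module A M] [AddCommGroup N]
    [Module A N] (n : ℕ) : Abelian.Ext (ModuleCat.of A M) (ModuleCat.of A N) n ≃ₗ[A]
      (Dual.inD A M ⟶ (Dual.inD A N)⟦(n : ℤ)⟧) :=
  Abelian.Ext.homLinearEquiv

theorem subsingleton_hom_iff (M N : Type u) [AddCommGroup M] [Module A M] [AddCommGroup N]
    [Module A N] (n : ℕ) : Subsingleton (Dual.inD A M ⟶ (Dual.inD A N)⟦(n : ℤ)⟧) ↔
      Subsingleton (Abelian.Ext (ModuleCat.of A M) (ModuleCat.of A N) n) :=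
  (extEquiv A M N n).toEquiv.subsingleton_congr.symm

/-- `a ↦ a • 𝟙` is a bijection `A → End_{D(A)}(A)`. -/
theorem toEnd_bijective :
    Function.Bijective (fun a : A => a • (CategoryTheory.CategoryStruct.id (Dual.inD A A))) := by
  have h1 : Function.Bijective (fun a : A => a • (𝟙 (ModuleCat.of A A))) := by
    constructor
    · intro a b hab
      have := congrArg (fun f : ModuleCat.of A A ⟶ ModuleCat.of A A => f.hom (1 : A)) hab
      simpa using this
    · intro f
      refine ⟨f.hom (1 : A), ?_⟩
      ext
      simp
  have h2 : Function.Bijective ((singleFunctor (ModuleCat.{u} A) 0).map :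
      (ModuleCat.of A A ⟶ ModuleCat.of A A) → _) :=
    ⟨Functor.map_injective _, Functor.map_surjective _⟩
  have h3 := h2.comp h1
  convert h3 using 1
  funext a
  simp only [Function.comp_apply]
  rw [Functor.map_smul, CategoryTheory.Functor.map_id]

theorem homology_finite (W : Type u) [AddCommGroup W] [Module A W] [Module.Finite A W] (i : ℤ) :
    Module.Finite A (Dual.HD A (Dual.inD A W) i) := by
  by_cases hi : i = 0
  · subst hi
    have e := ((singleFunctorCompHomologyFunctorIso (ModuleCat.{u} A) 0).app
      (ModuleCat.of A W)).toLinearEquiv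
    have : Module.Finite A ((𝟭 (ModuleCat.{u} A)).obj (ModuleCat.of A W)) :=
      inferInstanceAs (Module.Finite A W)
    exact Module.Finite.equiv e.symm
  · have h : Limits.IsZero ((homologyFunctor (ModuleCat.{u} A) i).obj (Dual.inD A W)) := by
      rcases lt_or_gt_of_ne hi with h | h
      · exact isZero_of_isGE _ 0 i h
      · exact isZero_of_isLE _ 0 i h
    have : Subsingleton (Dual.HD A (Dual.inD A W) i) := ModuleCat.subsingleton_of_isZero h
    infer_instance

/-- If the Noetherian ring `A` has finite injective dimension over itself then `A[0]` is a dualizing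
complex. -/
theorem isDualizing_self [IsNoetherianRing A] (n : ℕ)
    (h : HasInjectiveDimensionLT (ModuleCat.of A A) n) : Dual.IsDualizing A (Dual.inD A A) where
  isNoetherianRing := inferInstance
  finite_injective_dimension := by
    refine ⟨0, n, fun M _ _ i hi => ?_⟩
    rcases hi with hi | hi
    · exact subsingleton_hom_neg A M A i hi
    · obtain ⟨m, rfl⟩ := Int.eq_ofNat_of_zero_le (show 0 ≤ i by omega)
      rw [subsingleton_hom_iff]
      exact HasInjectiveDimensionLT.subsingleton (ModuleCat.of A A) n m (by omega) _
  finite_cohomology := homology_finite A A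
  toEnd_bijective := toEnd_bijective A
  ext_self_subsingleton := by
    intro i hi
    rcases lt_or_gt_of_ne hi with h | h
    · exact subsingleton_hom_neg A A A i h
    · obtain ⟨m, rfl⟩ := Int.eq_ofNat_of_zero_le (show 0 ≤ i by omega)
      rw [subsingleton_hom_iff]
      have hproj : Projective (ModuleCat.of A A) := by
        rw [← IsProjective.iff_projective]
        infer_instance
      obtain ⟨k, rfl⟩ := Nat.exists_eq_succ_of_ne_zero (show m ≠ 0 by rintro rfl; exact hi rfl)
      exact ⟨fun x y => (Abelian.Ext.eq_zero_of_projective x).trans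
        (Abelian.Ext.eq_zero_of_projective y).symm⟩

/-- A Gorenstein local ring, placed in degree `0`, is a dualizing complex. -/
theorem isDualizing_of_gorenstein [h : LocCoh.IsGorensteinLocalRing A] :
    Dual.IsDualizing A (Dual.inD A A) := by
  obtain ⟨n, hn⟩ := h.exists_hasInjectiveDimensionLT
  exact isDualizing_self A n hn

end Groth.Agent.Localalg.DGor
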