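import Mathlib.Algebra.Category.ModuleCat.Ext.Finite
import Mathlib.Algebra.Category.ModuleCat.InjectiveDimension
import Mathlib.RingTheory.Ideal.AssociatedPrime.Finiteness
import Mathlib.RingTheory.Regular.Category
import Mathlib.Algebra.Category.Grp.Zero
import Mathlib.RingTheory.LocalRing.Module

/-!
# Ext vanishing and injective dimension over Noetherian rings
-/

set_option autoImplicit false
universe u

open CategoryTheory Abelian
open scoped Pointwise

namespace Groth.Agent.Localalg.InjDim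

variable {R : Type u} [CommRing R]

section basic

variable {S : ShortComplex (ModuleCat.{u} R)} (hS : S.ShortExact)
include hS

/-- contravariant: the middle term. -/
lemma subsingleton_ext_X₂ (M : ModuleCat.{u} R) (n : ℕ) (h₁ : Subsingleton (Ext S.X₁ M n))
    (h₃ : Subsingleton (Ext S.X₃ M n)) : Subsingleton (Ext S.X₂ M n) := by
  refine subsingleton_of_forall_eq 0 fun x ↦ ?_
  obtain ⟨y, rfl⟩ := Ext.contravariant_sequence_exact₂ hS M x (Subsingleton.elim _ _)
  rw [Subsingleton.elim y 0, Ext.comp_zero]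

/-- contravariant: the third term in degree `n + 1`. -/
lemma subsingleton_ext_X₃ (M : ModuleCat.{u} R) (n : ℕ) (h₁ : Subsingleton (Ext S.X₁ M n))
    (h₂ : Subsingleton (Ext S.X₂ M (n + 1))) : Subsingleton (Ext S.X₃ M (n + 1)) := by
  refine subsingleton_of_forall_eq 0 fun x ↦ ?_
  obtain ⟨y, rfl⟩ := Ext.contravariant_sequence_exact₃ hS M x (Subsingleton.elim _ _)
    (add_comm 1 n)
  rw [Subsingleton.elim y 0, Ext.comp_zero]

/-- contravariant: the first term in degree `n`. -/
lemma subsingleton_ext_X₁ (M : ModuleCat.{u} R) (n : ℕ) (h₂ : Subsingleton (Ext S.X₂ M n))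
    (h₃ : Subsingleton (Ext S.X₃ M (n + 1))) : Subsingleton (Ext S.X₁ M n) := by
  refine subsingleton_of_forall_eq 0 fun x ↦ ?_
  obtain ⟨y, rfl⟩ := Ext.contravariant_sequence_exact₁ hS M x (add_comm 1 n)
    (Subsingleton.elim _ _)
  rw [Subsingleton.elim y 0, Ext.comp_zero]

/-- covariant: the middle term. -/
lemma subsingleton_ext_of_X₂ (M : ModuleCat.{u} R) (n : ℕ) (h₁ : Subsingleton (Ext M S.X₁ n))
    (h₃ : Subsingleton (Ext M S.X₃ n)) : Subsingleton (Ext M S.X₂ n) := by
  refine subsingleton_of_forall_eq 0 fun x ↦ ?_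
  obtain ⟨y, rfl⟩ := Ext.covariant_sequence_exact₂ M hS x (Subsingleton.elim _ _)
  rw [Subsingleton.elim y 0, Ext.zero_comp]

/-- covariant: the third term in degree `n`. -/
lemma subsingleton_ext_of_X₃ (M : ModuleCat.{u} R) (n : ℕ) (h₁ : Subsingleton (Ext M S.X₁ (n + 1)))
    (h₂ : Subsingleton (Ext M S.X₂ n)) : Subsingleton (Ext M S.X₃ n) := by
  refine subsingleton_of_forall_eq 0 fun x ↦ ?_
  obtain ⟨y, rfl⟩ := Ext.covariant_sequence_exact₃ M hS x rfl (Subsingleton.elim _ _)
  rw [Subsingleton.elim y 0, Ext.zero_comp]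

/-- covariant: the first term in degree `n + 1`. -/
lemma subsingleton_ext_of_X₁ (M : ModuleCat.{u} R) (n : ℕ) (h₂ : Subsingleton (Ext M S.X₂ (n + 1)))
    (h₃ : Subsingleton (Ext M S.X₃ n)) : Subsingleton (Ext M S.X₁ (n + 1)) := by
  refine subsingleton_of_forall_eq 0 fun x ↦ ?_
  obtain ⟨y, rfl⟩ := Ext.covariant_sequence_exact₁ M hS x (Subsingleton.elim _ _) rfl
  rw [Subsingleton.elim y 0, Ext.zero_comp]

end basic

/-- Ext vanishing is invariant under linear equivalences. -/
lemma subsingleton_ext_congr {N N' : Type u} [AddCommGroup N] [Module R N] [AddCommGroup N']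
    [Module R N'] {M M' : Type u} [AddCommGroup M] [Module R M] [AddCommGroup M'] [Module R M']
    (e : N ≃ₗ[R] N') (e' : M ≃ₗ[R] M') (n : ℕ)
    (h : Subsingleton (Ext (ModuleCat.of R N) (ModuleCat.of R M) n)) :
    Subsingleton (Ext (ModuleCat.of R N') (ModuleCat.of R M') n) := by
  refine subsingleton_of_forall_eq 0 fun x ↦ ?_
  have h1 : (Ext.mk₀ e.symm.toModuleIso.hom).comp
      ((Ext.mk₀ e.toModuleIso.hom).comp (x.comp (Ext.mk₀ e'.symm.toModuleIso.hom) (add_zero n))
        (zero_add n)) (zero_add n) = x.comp (Ext.mk₀ e'.symm.toModuleIso.hom) (add_zero n) := by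
    rw [Ext.mk₀_comp_mk₀_assoc]
    have : e.symm.toModuleIso.hom ≫ e.toModuleIso.hom = 𝟙 (ModuleCat.of R N') := by
      ext x; simp
    rw [this, Ext.mk₀_id_comp]
  rw [Subsingleton.elim ((Ext.mk₀ e.toModuleIso.hom).comp
    (x.comp (Ext.mk₀ e'.symm.toModuleIso.hom) (add_zero n)) (zero_add n)) 0, Ext.comp_zero] at h1
  have h2 : (x.comp (Ext.mk₀ e'.symm.toModuleIso.hom) (add_zero n)).comp
      (Ext.mk₀ e'.toModuleIso.hom) (add_zero n) = x := by
    rw [Ext.comp_assoc_of_second_deg_zero, Ext.mk₀_comp_mk₀]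
    have : e'.symm.toModuleIso.hom ≫ e'.toModuleIso.hom = 𝟙 (ModuleCat.of R M') := by
      ext x; simp
    rw [this, Ext.comp_mk₀_id]
  rw [← h2, ← h1, Ext.zero_comp]

/-- Dévissage for the vanishing of `Ext^n(-, M)` on finite modules. -/
lemma subsingleton_ext_of_forall_prime [IsNoetherianRing R] (M : ModuleCat.{u} R) (n : ℕ)
    (N : Type u) [AddCommGroup N] [Module R N] [hN : Module.Finite R N]
    (h : ∀ p : PrimeSpectrum R, p ∈ Module.support R N →
      Subsingleton (Ext (ModuleCat.of R (R ⧸ p.asIdeal)) M n)) :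
    Subsingleton (Ext (ModuleCat.of R N) M n) := by
  revert h
  induction hN using IsNoetherianRing.induction_on_isQuotientEquivQuotientPrime R with
  | subsingleton N =>
    intro _
    refine subsingleton_of_forall_eq 0 fun x ↦ ?_
    rw [← x.mk₀_id_comp, (ModuleCat.isZero_of_subsingleton (ModuleCat.of R N)).eq_zero_of_src
      (𝟙 _), Ext.mk₀_zero, Ext.zero_comp]
  | quotient N p e =>
    intro h
    refine subsingleton_ext_congr e.symm (LinearEquiv.refl R M) n (h p ?_)
    rw [e.support_eq, Module.support_eq_zeroLocus, Ideal.annihilator_quotient]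
    simp
  | exact N₁ N₂ N₃ f g hf hg hfg ih₁ ih₃ =>
    intro h
    have hS : (ModuleCat.shortComplexOfCompEqZero f g hfg.linearMap_comp_eq_zero).ShortExact :=
      ModuleCat.shortComplex_shortExact _ hfg hf hg
    refine subsingleton_ext_X₂ hS M n (ih₁ fun p hp ↦ h p ?_) (ih₃ fun p hp ↦ h p ?_)
    · exact Module.support_subset_of_injective f hf hp
    · exact Module.support_subset_of_surjective g hg hp

/-- The short exact sequence `0 → I → R → R/I → 0`. -/
lemma shortExact_ideal (I : Ideal R) :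
    (ModuleCat.shortComplexOfCompEqZero I.subtype I.mkQ
      (LinearMap.exact_subtype_mkQ I).linearMap_comp_eq_zero).ShortExact :=
  ModuleCat.shortComplex_shortExact _ (LinearMap.exact_subtype_mkQ I)
    (Submodule.injective_subtype I) (Submodule.mkQ_surjective I)

/-- A module with `Ext^1(R/I, M) = 0` for all ideals `I` is injective. -/
lemma injective_of_subsingleton_ext_one (M : ModuleCat.{u} R)
    (h : ∀ I : Ideal R, Subsingleton (Ext (ModuleCat.of R (R ⧸ I)) M 1)) : Injective M := by
  rw [← Module.injective_iff_injective_object R M, ← Module.Baer.iff_injective]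
  intro I g
  obtain ⟨x, hx⟩ := Ext.contravariant_sequence_exact₁ (shortExact_ideal I) M
    (Ext.mk₀ (ModuleCat.ofHom g)) (add_zero 1) ((h I).elim _ _)
  obtain ⟨x, rfl⟩ := (Ext.mk₀_bijective _ _).2 x
  refine ⟨x.hom, fun r hr ↦ ?_⟩
  rw [Ext.mk₀_comp_mk₀] at hx
  have := (Ext.mk₀_bijective _ _).1 hx
  exact congr($this ⟨r, hr⟩)

/-- A short exact sequence `0 → M → J → C → 0` with `J` injective. -/
lemma exists_injective_shortExact (M : ModuleCat.{u} R) :
    ∃ (S : ShortComplex (ModuleCat.{u} R)), S.ShortExact ∧ S.X₁ = M ∧ Injective S.X₂ := by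
  obtain ⟨J, _, f, _⟩ := EnoughInjectives.presentation M
  have injf : Function.Injective f.hom := (ModuleCat.mono_iff_injective f).mp ‹_›
  exact ⟨ModuleCat.shortComplexOfCompEqZero _ _ f.hom.exact_map_mkQ_range.linearMap_comp_eq_zero,
    ModuleCat.shortComplex_shortExact _ f.hom.exact_map_mkQ_range injf
      (Submodule.mkQ_surjective _), rfl, ‹_›⟩

/-- Baer's criterion for the injective dimension. -/
lemma hasInjectiveDimensionLT_iff_ideal (M : ModuleCat.{u} R) (n : ℕ) :
    HasInjectiveDimensionLT M n ↔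
      ∀ I : Ideal R, Subsingleton (Ext (ModuleCat.of R (R ⧸ I)) M n) := by
  refine ⟨fun _ I ↦ HasInjectiveDimensionLT.subsingleton M n n le_rfl _, fun h ↦ ?_⟩
  obtain _ | n := n
  · have : Subsingleton (ModuleCat.of R (R ⧸ (⊥ : Ideal R)) ⟶ M) :=
      Ext.homEquiv₀.subsingleton_congr.mp (h ⊥)
    have h2 : Subsingleton ((R ⧸ (⊥ : Ideal R)) →ₗ[R] M) :=
      (ModuleCat.homEquiv (M := ModuleCat.of R (R ⧸ (⊥ : Ideal R))) (N := M)).symm.subsingleton
    have : Subsingleton M := by
      refine subsingleton_of_forall_eq 0 fun x ↦ ?_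
      have h3 := congr($(Subsingleton.elim ((LinearMap.toSpanSingleton R M x) ∘ₗ
        (Submodule.quotEquivOfEqBot (⊥ : Ideal R) rfl).toLinearMap) 0)
          ((Submodule.quotEquivOfEqBot (⊥ : Ideal R) rfl).symm 1))
      rw [LinearMap.comp_apply, LinearEquiv.coe_coe, LinearEquiv.apply_symm_apply,
        LinearMap.toSpanSingleton_apply, one_smul] at h3
      exact h3
    exact (ModuleCat.isZero_of_subsingleton M).hasInjectiveDimensionLT_zero
  · induction n generalizing M with
    | zero =>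
      have := injective_of_subsingleton_ext_one M h
      infer_instance
    | succ n ih =>
      obtain ⟨S, hS, rfl, hJ⟩ := exists_injective_shortExact M
      rw [← hS.hasInjectiveDimensionLT_X₃_iff n hJ]
      refine ih _ fun I ↦ ?_
      exact subsingleton_ext_of_X₃ hS _ _ (h I) (Ext.subsingleton_of_injective _ _ _)

/-- Over a Noetherian ring, the injective dimension is tested on the `R/p`. -/
lemma hasInjectiveDimensionLT_iff_prime [IsNoetherianRing R] (M : ModuleCat.{u} R) (n : ℕ) :
    HasInjectiveDimensionLT M n ↔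
      ∀ p : PrimeSpectrum R, Subsingleton (Ext (ModuleCat.of R (R ⧸ p.asIdeal)) M n) := by
  refine ⟨fun _ I ↦ HasInjectiveDimensionLT.subsingleton M n n le_rfl _, fun h ↦ ?_⟩
  rw [hasInjectiveDimensionLT_iff_ideal]
  exact fun I ↦ subsingleton_ext_of_forall_prime M n _ fun p _ ↦ h p

/-- If `x` acts surjectively on a finite module `E` over a local ring, `x` in the maximal ideal,
then `E = 0`. -/
lemma subsingleton_of_smul_surjective [IsLocalRing R] (E : Type u) [AddCommGroup E] [Module R E]
    [Module.Finite R E] (x : R) (hx : x ∈ IsLocalRing.maximalIdeal R)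
    (h : ∀ e : E, ∃ e' : E, x • e' = e) : Subsingleton E := by
  rw [← Submodule.subsingleton_iff R, ← subsingleton_iff_bot_eq_top, eq_comm]
  refine Submodule.eq_bot_of_le_smul_of_le_jacobson_bot (IsLocalRing.maximalIdeal R) ⊤
    Module.Finite.fg_top ?_ (IsLocalRing.maximalIdeal_le_jacobson _)
  intro e _
  obtain ⟨e', rfl⟩ := h e
  exact Submodule.smul_mem_smul hx trivial

/-- A prime in the support of `(R/p)/x(R/p)` strictly contains `p` when `x ∉ p`. -/
lemma lt_of_mem_support_quotSMulTop (p : Ideal R) (x : R) (hx : x ∉ p) (q : PrimeSpectrum R)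
    (hq : q ∈ Module.support R (QuotSMulTop x (R ⧸ p))) : p < q.asIdeal ∧ x ∈ q.asIdeal := by
  have h1 : p ≤ q.asIdeal := by
    have := Module.support_subset_of_surjective _ (Submodule.mkQ_surjective
      (x • (⊤ : Submodule R (R ⧸ p)))) hq
    rw [Module.support_eq_zeroLocus, Ideal.annihilator_quotient] at this
    exact this
  have h2 : x ∈ q.asIdeal := by
    rw [Module.support_eq_zeroLocus] at hq
    exact hq (QuotSMulTop.mem_annihilator (R ⧸ p) x)
  exact ⟨lt_of_le_of_ne h1 (fun h ↦ hx (h ▸ h2)), h2⟩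

/-- `x ∉ p` is regular on `R/p`. -/
lemma isSMulRegular_quotient_prime (p : Ideal R) [p.IsPrime] (x : R) (hx : x ∉ p) :
    IsSMulRegular (R ⧸ p) x := by
  rw [isSMulRegular_iff_right_eq_zero_of_smul]
  intro m hm
  have h3 : (Ideal.Quotient.mk p x) * m = 0 := by
    rw [← hm]; rfl
  rcases mul_eq_zero.1 h3 with h | h
  · exact absurd (Ideal.Quotient.eq_zero_iff_mem.1 h) hx
  · exact h

/-- The key step in Bass' lemma. -/
lemma subsingleton_ext_quotient_prime_of_lt [IsNoetherianRing R] [IsLocalRing R]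
    (M : ModuleCat.{u} R) [Module.Finite R M] (p : Ideal R) [p.IsPrime]
    (hp : p ≠ IsLocalRing.maximalIdeal R) (n : ℕ)
    (h : ∀ q : PrimeSpectrum R, p < q.asIdeal →
      Subsingleton (Ext (ModuleCat.of R (R ⧸ q.asIdeal)) M (n + 1))) :
    Subsingleton (Ext (ModuleCat.of R (R ⧸ p)) M n) := by
  obtain ⟨x, hxm, hxp⟩ : ∃ x ∈ IsLocalRing.maximalIdeal R, x ∉ p := by
    by_contra! hcon
    exact hp (le_antisymm (IsLocalRing.le_maximalIdeal (Ideal.IsPrime.ne_top ‹_›)) hcon)
  have hreg : IsSMulRegular (ModuleCat.of R (R ⧸ p)) x := isSMulRegular_quotient_prime p x hxp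
  have hS := hreg.smulShortComplex_shortExact
  refine subsingleton_of_smul_surjective _ x hxm fun e ↦ ?_
  have h3 : Subsingleton (Ext ((ModuleCat.of R (R ⧸ p)).smulShortComplex x).X₃ M (n + 1)) := by
    refine subsingleton_ext_of_forall_prime M (n + 1) (QuotSMulTop x (R ⧸ p)) fun q hq ↦ ?_
    exact h q (lt_of_mem_support_quotSMulTop p x hxp q hq).1
  obtain ⟨y, hy⟩ := Ext.contravariant_sequence_exact₁ hS M e (add_comm 1 n) (h3.elim _ _)
  change Ext (ModuleCat.of R (R ⧸ p)) M n at y
  refine ⟨y, ?_⟩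
  rw [← hy]
  change _ = (Ext.mk₀ (x • 𝟙 (ModuleCat.of R (R ⧸ p)))).comp y (zero_add n)
  rw [Ext.mk₀_smul, Ext.smul_comp, Ext.mk₀_id_comp]

/-- Over a Noetherian local ring, if `Ext^i(κ, M) = 0` for all `i ≥ N` then `M` (finite) has injective
dimension `< N`. -/
lemma hasInjectiveDimensionLT_of_ext_quotient_maximalIdeal [IsNoetherianRing R] [IsLocalRing R]
    (M : ModuleCat.{u} R) [Module.Finite R M] (N : ℕ)
    (h : ∀ i : ℕ, N ≤ i →
      Subsingleton (Ext (ModuleCat.of R (R ⧸ IsLocalRing.maximalIdeal R)) M i)) :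
    HasInjectiveDimensionLT M N := by
  rw [hasInjectiveDimensionLT_iff_prime]
  have key : ∀ (I : Ideal R) (hI : I.IsPrime) (i : ℕ), N ≤ i →
      Subsingleton (Ext (ModuleCat.of R (R ⧸ I)) M i) := by
    intro I
    induction I using WellFoundedGT.induction with
    | ind I ih =>
      intro hI i hi
      by_cases hIm : I = IsLocalRing.maximalIdeal R
      · subst hIm
        exact h i hi
      · exact subsingleton_ext_quotient_prime_of_lt M I hIm i
          fun q hq ↦ ih q.asIdeal hq q.2 (i + 1) (by omega)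
  exact fun p ↦ key p.asIdeal p.2 N le_rfl

end Groth.Agent.Localalg.InjDim
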