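import Groth.Prelude.Def_CAlg
import Groth.Agent.Localalg.InjDim
import Mathlib.RingTheory.Regular.LinearMap
import Mathlib.RingTheory.Ideal.AssociatedPrime.Localization
import Mathlib.RingTheory.KrullDimension.Regular
import Mathlib.RingTheory.KrullDimension.Basic

/-!
# Gorenstein local rings: depth zero and dimension zero
-/

set_option autoImplicit false
universe u

open CategoryTheory Abelian Limits
open scoped Pointwise

namespace Groth.Agent.Localalg.GorDepth

variable {A : Type u} [CommRing A]

/-- Over a Noetherian local ring, if no element of the maximal ideal is regular on the finite module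
`M`, the residue field embeds in `M`. -/
lemma exists_injective_residueField [IsLocalRing A] [IsNoetherianRing A]
    (M : Type u) [AddCommGroup M] [Module A M] [Module.Finite A M]
    (h : ∀ x ∈ IsLocalRing.maximalIdeal A, ¬ IsSMulRegular M x) :
    ∃ g : (A ⧸ IsLocalRing.maximalIdeal A) →ₗ[A] M, Function.Injective g := by
  have h1 : ¬ Subsingleton ((A ⧸ IsLocalRing.maximalIdeal A) →ₗ[A] M) := by
    rw [IsSMulRegular.subsingleton_linearMap_iff]
    rintro ⟨r, hr, hr'⟩
    rw [Ideal.annihilator_quotient] at hr
    exact h r hr hr'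
  rw [not_subsingleton_iff_nontrivial] at h1
  obtain ⟨g, hg⟩ := exists_ne (0 : (A ⧸ IsLocalRing.maximalIdeal A) →ₗ[A] M)
  have : IsSimpleModule A (A ⧸ IsLocalRing.maximalIdeal A) :=
    isSimpleModule_iff_isCoatom.2 (IsLocalRing.maximalIdeal.isMaximal A).out
  exact ⟨g, (LinearMap.injective_or_eq_zero g).resolve_right hg⟩

/-- If the residue field embeds in `A` and `A` has finite injective dimension, then `A` is
self-injective. More generally for a finite module `M` with `Ext^s(A, M) = 0` for `s > 0`. -/
lemma hasInjectiveDimensionLT_one [IsLocalRing A] [IsNoetherianRing A]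
    (M : ModuleCat.{u} A) [Module.Finite A M] (n : ℕ) (hM : HasInjectiveDimensionLT M n)
    (h : ∀ x ∈ IsLocalRing.maximalIdeal A, ¬ IsSMulRegular A x) :
    HasInjectiveDimensionLT M 1 := by
  obtain ⟨g, hg⟩ := exists_injective_residueField A h
  have hS : (ModuleCat.shortComplexOfCompEqZero g (LinearMap.range g).mkQ
      g.exact_map_mkQ_range.linearMap_comp_eq_zero).ShortExact :=
    ModuleCat.shortComplex_shortExact _ g.exact_map_mkQ_range hg (Submodule.mkQ_surjective _)
  induction n with
  | zero => exact hasInjectiveDimensionLT_of_ge M 0 1 (by omega)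
  | succ n ih =>
    obtain _ | n := n
    · exact hM
    apply ih
    refine InjDim.hasInjectiveDimensionLT_of_ext_quotient_maximalIdeal M (n + 1) fun i hi ↦ ?_
    obtain rfl | hi := hi.eq_or_lt
    · refine InjDim.subsingleton_ext_X₁ hS M (n + 1) ?_
        (HasInjectiveDimensionLT.subsingleton M (n + 2) _ le_rfl _)
      have : Projective (ModuleCat.of A A) := by
        rw [← IsProjective.iff_projective]
        infer_instance
      exact Ext.subsingleton_of_projective (ModuleCat.of A A) M n
    · exact HasInjectiveDimensionLT.subsingleton M (n + 2) _ (by omega) _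

/-- A self-injective Noetherian local ring has dimension zero. -/
lemma krullDimLE_zero [IsLocalRing A] [IsNoetherianRing A]
    (h : HasInjectiveDimensionLT (ModuleCat.of A A) 1) : Ring.KrullDimLE 0 A := by
  rw [Ring.krullDimLE_zero_iff_forall_minimalPrimes_isMaximal]
  intro p hp
  have hpp : p.IsPrime := hp.1.1
  by_contra hmax
  have hne : p ≠ IsLocalRing.maximalIdeal A := by
    rintro rfl
    exact hmax inferInstance
  have h1 : Subsingleton (Ext (ModuleCat.of A (A ⧸ p)) (ModuleCat.of A A) 0) :=
    InjDim.subsingleton_ext_quotient_prime_of_lt (ModuleCat.of A A) p hne 0 fun q _ ↦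
      HasInjectiveDimensionLT.subsingleton _ 1 _ le_rfl _
  have h2 : Subsingleton (ModuleCat.of A (A ⧸ p) ⟶ ModuleCat.of A A) :=
    Ext.homEquiv₀.subsingleton_congr.mp h1
  have h3 : Subsingleton ((A ⧸ p) →ₗ[A] A) :=
    (ModuleCat.homEquiv (M := ModuleCat.of A (A ⧸ p)) (N := ModuleCat.of A A)).symm.subsingleton
  have h4 : p ∈ associatedPrimes A A := by
    apply Module.associatedPrimes.minimalPrimes_annihilator_subset_associatedPrimes
    rwa [Module.annihilator_eq_bot.2 inferInstance]
  obtain ⟨x, hx⟩ := (isAssociatedPrime_iff.1 h4).2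
  have h5 : Submodule.liftQ p (LinearMap.toSpanSingleton A A x) (by
      intro a ha
      rw [hx] at ha
      simpa using ha) = 0 := Subsingleton.elim _ _
  have h6 : x = 0 := by
    have := congr($h5 (Submodule.Quotient.mk 1))
    rw [Submodule.liftQ_apply, LinearMap.toSpanSingleton_apply, one_smul] at this
    exact this
  apply hpp.ne_top
  rw [hx, h6]
  simp

/-- A Gorenstein local ring of positive dimension has a regular element in its maximal ideal. -/
lemma exists_isSMulRegular [LocCoh.IsGorensteinLocalRing A] (h : ¬ Ring.KrullDimLE 0 A) :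
    ∃ x ∈ IsLocalRing.maximalIdeal A, IsSMulRegular A x := by
  by_contra! hcon
  obtain ⟨n, hn⟩ := LocCoh.IsGorensteinLocalRing.exists_hasInjectiveDimensionLT (A := A)
  exact h (krullDimLE_zero (hasInjectiveDimensionLT_one _ n hn hcon))

end Groth.Agent.Localalg.GorDepth
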