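import Mathlib.Algebra.Homology.DerivedCategory.Ext.Map
import Mathlib.Algebra.Category.ModuleCat.ChangeOfRings
import Groth.Agent.Localalg.InjDim

/-!
# The lemma of Rees

For `φ : A →+* B` surjective with kernel `(f)`, `f` regular on `A` and on `M`, and `Q` a `B`-module with
`Q = M/fM`: `Ext_B^i(N, Q) ≃ Ext_A^{i+1}(N, M)` for every `B`-module `N`.
-/

set_option autoImplicit false
universe u

open CategoryTheory Abelian Limits
open scoped Pointwise

namespace Groth.Agent.Localalg.ReesLemma

variable {A B : Type u} [CommRing A] [CommRing B] (φ : A →+* B)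

/-- restriction of scalars along a surjective ring hom is full. -/
lemma exists_map_eq_of_surjective (hφ : Function.Surjective φ) {N N' : ModuleCat.{u} B}
    (g : (ModuleCat.restrictScalars φ).obj N ⟶ (ModuleCat.restrictScalars φ).obj N') :
    ∃ g' : N ⟶ N', (ModuleCat.restrictScalars φ).map g' = g := by
  refine ⟨ModuleCat.ofHom
    { toFun := fun x ↦ g.hom x
      map_add' := fun x y ↦ g.hom.map_add x y
      map_smul' := fun b x ↦ ?_ }, ?_⟩
  · obtain ⟨a, rfl⟩ := hφ b
    exact g.hom.map_smul a x
  · ext x
    rfl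

instance full_restrictScalars_quotient (I : Ideal A) :
    (ModuleCat.restrictScalars.{u} (Ideal.Quotient.mk I)).Full where
  map_surjective := exists_map_eq_of_surjective _ Ideal.Quotient.mk_surjective

variable {φ}

/-- The comparison map `Ext_B^i(N, Q) → Ext_A^{i+1}(N, M)`. -/
noncomputable def comparison {S : ShortComplex (ModuleCat.{u} A)} (hS : S.ShortExact)
    {Q : ModuleCat.{u} B} (e : (ModuleCat.restrictScalars φ).obj Q ⟶ S.X₃) (N : ModuleCat.{u} B)
    (i : ℕ) (x : Ext N Q i) : Ext ((ModuleCat.restrictScalars φ).obj N) S.X₁ (i + 1) :=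
  ((x.mapExactFunctor (ModuleCat.restrictScalars φ)).comp (Ext.mk₀ e) (add_zero i)).comp
    hS.extClass rfl

section

variable {S : ShortComplex (ModuleCat.{u} A)} (hS : S.ShortExact)
    {Q : ModuleCat.{u} B} (e : (ModuleCat.restrictScalars φ).obj Q ⟶ S.X₃)

lemma comparison_zero (N : ModuleCat.{u} B) (i : ℕ) : comparison hS e N i 0 = 0 := by
  simp [comparison]

lemma comparison_add (N : ModuleCat.{u} B) (i : ℕ) (x y : Ext N Q i) :
    comparison hS e N i (x + y) = comparison hS e N i x + comparison hS e N i y := by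
  simp [comparison]

lemma comparison_sub (N : ModuleCat.{u} B) (i : ℕ) (x y : Ext N Q i) :
    comparison hS e N i (x - y) = comparison hS e N i x - comparison hS e N i y := by
  rw [eq_sub_iff_add_eq, ← comparison_add, sub_add_cancel]

lemma comparison_comp {N N' : ModuleCat.{u} B} {i j k : ℕ} (y : Ext N' N j) (x : Ext N Q i)
    (h : j + i = k) :
    comparison hS e N' k (y.comp x h) =
      (y.mapExactFunctor (ModuleCat.restrictScalars φ)).comp (comparison hS e N i x)
        (by omega) := by
  simp only [comparison, Ext.mapExactFunctor_comp]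
  rw [Ext.comp_assoc_of_third_deg_zero, Ext.comp_assoc]
  omega

end

/-- restriction of a free module along `φ` has projective dimension `≤ 1`. -/
lemma subsingleton_ext_restrictScalars_finsupp {f : A} (hφ : Function.Surjective φ)
    (hker : RingHom.ker φ = Ideal.span {f}) (hf : IsSMulRegular A f) (ι : Type u)
    (M : ModuleCat.{u} A) (n : ℕ) :
    Subsingleton (Ext ((ModuleCat.restrictScalars φ).obj (ModuleCat.of B (ι →₀ B))) M (n + 2)) := by
  let P : ModuleCat.{u} A := ModuleCat.of A (ι →₀ A)
  let g : (ι →₀ A) →+ (ι →₀ B) := Finsupp.mapRange.addMonoidHom φ.toAddMonoidHom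
  have hg : ∀ (x : ι →₀ A) (i : ι), g x i = φ (x i) := fun x i ↦ rfl
  let g' : P ⟶ (ModuleCat.restrictScalars φ).obj (ModuleCat.of B (ι →₀ B)) :=
    ModuleCat.ofHom (Y := (ModuleCat.restrictScalars φ).obj (ModuleCat.of B (ι →₀ B)))
      { toFun := g
        map_add' := g.map_add
        map_smul' := fun a x ↦ Finsupp.ext fun i ↦ map_mul φ a (x i) }
  let f' : P ⟶ P := f • 𝟙 P
  have hf' : ∀ (x : ι →₀ A) (i : ι), (f'.hom x : ι →₀ A) i = f * x i := fun x i ↦ rfl
  have hcomp' : ∀ x : ι →₀ A, g (f • x) = 0 := fun x ↦ by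
    ext i
    rw [hg, Finsupp.smul_apply, smul_eq_mul, map_mul]
    have : φ f = 0 := by
      rw [← RingHom.mem_ker, hker]
      exact Ideal.mem_span_singleton_self f
    rw [this, zero_mul, Finsupp.coe_zero, Pi.zero_apply]
  have hcomp : f' ≫ g' = 0 := ModuleCat.hom_ext (LinearMap.ext hcomp')
  have hS : (ShortComplex.mk f' g' hcomp).ShortExact := by
    refine ModuleCat.shortComplex_shortExact _ ?_ ?_ ?_
    · intro x
      constructor
      · intro hx
        have h1 : ∀ i, ∃ c : A, f * c = (x : ι →₀ A) i := fun i ↦ by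
          have h2 : φ ((x : ι →₀ A) i) = 0 := by
            rw [← hg]
            exact congr_arg (fun y : ι →₀ B ↦ y i) hx
          rw [← RingHom.mem_ker, hker, Ideal.mem_span_singleton] at h2
          obtain ⟨c, hc⟩ := h2
          exact ⟨c, hc.symm⟩
        classical
        choose c hc using h1
        refine ⟨Finsupp.onFinset (x : ι →₀ A).support c fun i hi ↦ ?_, Finsupp.ext hc⟩
        rw [Finsupp.mem_support_iff]
        intro h0
        apply hi
        apply hf
        change f * c i = f * 0
        rw [hc, h0, mul_zero]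
      · rintro ⟨y, rfl⟩
        exact hcomp' y
    · intro x y hxy
      refine Finsupp.ext fun i ↦ hf ?_
      exact congr_arg (fun y : ι →₀ A ↦ y i) hxy
    · intro y
      obtain ⟨z, hz⟩ := Finsupp.mapRange_surjective φ (map_zero φ) hφ y
      exact ⟨z, hz⟩
  have : Projective P := by
    rw [← IsProjective.iff_projective]
    infer_instance
  exact InjDim.subsingleton_ext_X₃ hS M (n + 1) (Ext.subsingleton_of_projective P M n)
    (Ext.subsingleton_of_projective P M (n + 1))

lemma subsingleton_ext_of_iso {X Y M : ModuleCat.{u} A} (e : X ≅ Y) {n : ℕ}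
    (h : Subsingleton (Ext X M n)) : Subsingleton (Ext Y M n) := by
  refine subsingleton_of_forall_eq 0 fun x ↦ ?_
  have h1 : (Ext.mk₀ e.inv).comp ((Ext.mk₀ e.hom).comp x (zero_add n)) (zero_add n) = x := by
    rw [Ext.mk₀_comp_mk₀_assoc, e.inv_hom_id, Ext.mk₀_id_comp]
  rw [← h1, Subsingleton.elim ((Ext.mk₀ e.hom).comp x (zero_add n)) 0, Ext.comp_zero]

/-- The lemma of Rees: the comparison map is bijective. -/
theorem comparison_bijective {f : A} (hφ : Function.Surjective φ)
    (hker : RingHom.ker φ = Ideal.span {f}) (hf : IsSMulRegular A f)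
    (M : ModuleCat.{u} A) (hM : IsSMulRegular M f)
    {Q : ModuleCat.{u} B} (e : (ModuleCat.restrictScalars φ).obj Q ≅ (M.smulShortComplex f).X₃)
    (i : ℕ) (N : ModuleCat.{u} B) :
    Function.Bijective (comparison hM.smulShortComplex_shortExact e.hom N i) := by
  have hφf : φ f = 0 := by
    rw [← RingHom.mem_ker, hker]
    exact Ideal.mem_span_singleton_self f
  have hinj {N : ModuleCat.{u} B} {i : ℕ} (h : ∀ x : Ext N Q i,
      comparison hM.smulShortComplex_shortExact e.hom N i x = 0 → x = 0) :
      Function.Injective (comparison hM.smulShortComplex_shortExact e.hom N i) := by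
    intro x y hxy
    rw [← sub_eq_zero]
    apply h
    rw [comparison_sub, hxy, sub_self]
  have hS := hM.smulShortComplex_shortExact
  induction i generalizing N with
  | zero =>
    constructor
    · refine hinj fun x hx ↦ ?_
      obtain ⟨x, rfl⟩ := (Ext.mk₀_bijective _ _).2 x
      rw [comparison, Ext.mapExactFunctor_mk₀, Ext.mk₀_comp_mk₀] at hx
      obtain ⟨y, hy⟩ := Ext.covariant_sequence_exact₃ _ hS _ rfl hx
      obtain ⟨y, rfl⟩ := (Ext.mk₀_bijective _ _).2 y
      have hy0 : y = 0 := by
        ext z
        have h1 : f • y.hom z = 0 := by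
          rw [← map_smul]
          have h2 : f • z = 0 := by
            change φ f • (show N from z) = 0
            rw [hφf, zero_smul]
          rw [h2, map_zero]
        exact hM.right_eq_zero_of_smul h1
      rw [hy0, Ext.mk₀_zero, Ext.zero_comp, eq_comm, Ext.mk₀_eq_zero_iff] at hy
      rw [Ext.mk₀_eq_zero_iff]
      have h3 : (ModuleCat.restrictScalars φ).map x = 0 := by
        rw [← cancel_mono e.hom, hy, zero_comp]
      apply (ModuleCat.restrictScalars φ).map_injective
      rw [h3, Functor.map_zero]
    · intro y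
      change Ext _ M (0 + 1) at y
      have h1 : y.comp (Ext.mk₀ (M.smulShortComplex f).f) (add_zero _) = 0 := by
        have h2 : y = (Ext.mk₀ (𝟙 _)).comp y (zero_add _) := by rw [Ext.mk₀_id_comp]
        have h3 : f • (𝟙 ((ModuleCat.restrictScalars φ).obj N)) = 0 := by
          ext z
          change φ f • (show N from z) = 0
          rw [hφf, zero_smul]
        have h4 : f • y = 0 := by
          rw [h2, ← Ext.smul_comp, ← Ext.mk₀_smul, h3, Ext.mk₀_zero, Ext.zero_comp]
        change y.comp (Ext.mk₀ (f • 𝟙 M)) (add_zero _) = 0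
        rw [Ext.mk₀_smul, Ext.comp_smul, Ext.comp_mk₀_id, h4]
      obtain ⟨z, hz⟩ := Ext.covariant_sequence_exact₁ _ hS y h1 (zero_add 1)
      obtain ⟨z, rfl⟩ := (Ext.mk₀_bijective _ _).2 z
      obtain ⟨w, hw⟩ := exists_map_eq_of_surjective φ hφ (z ≫ e.inv)
      refine ⟨Ext.mk₀ w, ?_⟩
      rw [comparison, Ext.mapExactFunctor_mk₀, Ext.mk₀_comp_mk₀, hw, Category.assoc,
        e.inv_hom_id, Category.comp_id]
      exact hz
  | succ i ih =>
    let T := N.projectiveShortComplex
    have hT : T.ShortExact := N.shortExact_projectiveShortComplex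
    have hFT := hT.map_of_exact (ModuleCat.restrictScalars.{u} φ)
    have hproj : Projective T.X₂ := by
      rw [← IsProjective.iff_projective]
      infer_instance
    constructor
    · refine hinj fun x hx ↦ ?_
      obtain ⟨z, rfl⟩ := Ext.contravariant_sequence_exact₃ hT Q x (Ext.eq_zero_of_projective _)
        (add_comm 1 i)
      rw [comparison_comp _ _ _ _ (show 1 + i = i + 1 from add_comm 1 i),
        Ext.mapExactFunctor_extClass] at hx
      obtain ⟨w, hw⟩ := Ext.contravariant_sequence_exact₁ hFT M _ (by omega) hx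
      obtain ⟨w, rfl⟩ := (ih T.X₂).2 w
      have h1 : comparison hS e.hom T.X₁ i z = comparison hS e.hom T.X₁ i
          ((Ext.mk₀ T.f).comp w (zero_add i)) := by
        rw [comparison_comp, Ext.mapExactFunctor_mk₀]
        exact hw.symm
      rw [(ih T.X₁).1 h1, hT.extClass_comp_assoc]
    · intro y
      have hP : Subsingleton (Ext ((ModuleCat.restrictScalars φ).obj T.X₂) M (i + 2)) := by
        let eP : ModuleCat.of B (N →₀ B) ≅ T.X₂ :=
          (Finsupp.mapRange.linearEquiv (Shrink.linearEquiv.{u} B B).symm).toModuleIso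
        exact subsingleton_ext_of_iso ((ModuleCat.restrictScalars φ).mapIso eP)
          (subsingleton_ext_restrictScalars_finsupp hφ hker hf N M i)
      obtain ⟨z, hz⟩ := Ext.contravariant_sequence_exact₃ hFT M y
        (hP.elim _ _) (show 1 + (i + 1) = i + 2 by omega)
      obtain ⟨w, rfl⟩ := (ih T.X₁).2 z
      refine ⟨hT.extClass.comp w (add_comm 1 i), ?_⟩
      rw [comparison_comp, Ext.mapExactFunctor_extClass]
      exact hz

/-- The residue field of a surjective local quotient is the residue field. -/
noncomputable def residueFieldIso [IsLocalRing A] [IsLocalRing B] (hφ : Function.Surjective φ) :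
    ModuleCat.of A (IsLocalRing.ResidueField A) ≅
      (ModuleCat.restrictScalars φ).obj (ModuleCat.of B (IsLocalRing.ResidueField B)) :=
  have : IsLocalHom φ := hφ.isLocalHom φ
  LinearEquiv.toModuleIso (X₂ := (ModuleCat.restrictScalars φ).obj
      (ModuleCat.of B (IsLocalRing.ResidueField B))) <|
    LinearEquiv.ofBijective (M₂ := (ModuleCat.restrictScalars φ).obj
      (ModuleCat.of B (IsLocalRing.ResidueField B)))
      { toFun := IsLocalRing.ResidueField.map φ
        map_add' := map_add _
        map_smul' := fun a x ↦ by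
          obtain ⟨x, rfl⟩ := IsLocalRing.residue_surjective x
          change IsLocalRing.ResidueField.map φ (IsLocalRing.residue A (a * x)) =
            IsLocalRing.residue B (φ a) * (IsLocalRing.ResidueField.map φ (IsLocalRing.residue A x))
          simp }
      ⟨(IsLocalRing.ResidueField.map φ).injective, fun y ↦ by
        obtain ⟨y, rfl⟩ := IsLocalRing.residue_surjective y
        obtain ⟨x, rfl⟩ := hφ y
        exact ⟨IsLocalRing.residue A x, by
          change IsLocalRing.ResidueField.map φ (IsLocalRing.residue A x) = _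
          simp⟩⟩

/-- Vanishing form of the lemma of Rees for the residue field. -/
theorem subsingleton_ext_residueField_iff [IsLocalRing A] [IsLocalRing B] {f : A}
    (hφ : Function.Surjective φ)
    (hker : RingHom.ker φ = Ideal.span {f}) (hf : IsSMulRegular A f)
    (M : ModuleCat.{u} A) (hM : IsSMulRegular M f)
    {Q : ModuleCat.{u} B} (e : (ModuleCat.restrictScalars φ).obj Q ≅ (M.smulShortComplex f).X₃)
    (i : ℕ) :
    Subsingleton (Ext (ModuleCat.of B (IsLocalRing.ResidueField B)) Q i) ↔
      Subsingleton (Ext (ModuleCat.of A (IsLocalRing.ResidueField A)) M (i + 1)) := by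
  have h := comparison_bijective hφ hker hf M hM e i (ModuleCat.of B (IsLocalRing.ResidueField B))
  constructor
  · intro h1
    have h2 : Subsingleton (Ext ((ModuleCat.restrictScalars φ).obj
      (ModuleCat.of B (IsLocalRing.ResidueField B))) M (i + 1)) := h.2.subsingleton
    exact subsingleton_ext_of_iso (residueFieldIso hφ).symm h2
  · intro h1
    have h2 : Subsingleton (Ext ((ModuleCat.restrictScalars φ).obj
      (ModuleCat.of B (IsLocalRing.ResidueField B))) M (i + 1)) :=
      subsingleton_ext_of_iso (residueFieldIso hφ) h1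
    exact ⟨fun a b ↦ h.1 (h2.elim _ _)⟩

/-- `A/(f)` restricted to `A` as the cokernel of `f`. -/
noncomputable def quotientIso (f : A) :
    (ModuleCat.restrictScalars (Ideal.Quotient.mk (Ideal.span {f}))).obj
      (ModuleCat.of (A ⧸ Ideal.span {f}) (A ⧸ Ideal.span {f})) ≅
      ((ModuleCat.of A A).smulShortComplex f).X₃ :=
  LinearEquiv.toModuleIso (X₁ := (ModuleCat.restrictScalars (Ideal.Quotient.mk (Ideal.span {f}))).obj
      (ModuleCat.of (A ⧸ Ideal.span {f}) (A ⧸ Ideal.span {f})))
    (Submodule.quotEquivOfEq (Ideal.span {f}) (f • (⊤ : Submodule A A)) (by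
      rw [← Submodule.ideal_span_singleton_smul, smul_eq_mul, Ideal.mul_top]))

/-- Gorenstein case: `Ext_{A/f}^i(κ, A/f) = 0 ↔ Ext_A^{i+1}(κ, A) = 0`. -/
theorem subsingleton_ext_residueField_quotient_iff [IsLocalRing A] (f : A)
    [IsLocalRing (A ⧸ Ideal.span {f})] (hf : IsSMulRegular A f) (i : ℕ) :
    Subsingleton (Ext (ModuleCat.of (A ⧸ Ideal.span {f})
      (IsLocalRing.ResidueField (A ⧸ Ideal.span {f})))
      (ModuleCat.of (A ⧸ Ideal.span {f}) (A ⧸ Ideal.span {f})) i) ↔
      Subsingleton (Ext (ModuleCat.of A (IsLocalRing.ResidueField A)) (ModuleCat.of A A) (i + 1)) :=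
  subsingleton_ext_residueField_iff (φ := Ideal.Quotient.mk (Ideal.span {f}))
    Ideal.Quotient.mk_surjective (Ideal.mk_ker) hf (ModuleCat.of A A) hf (quotientIso f) i

end Groth.Agent.Localalg.ReesLemma
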