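import Groth.Agent.Localalg.CDFLocal
import Groth.Agent.Localalg.Depth
import Mathlib.RingTheory.Regular.LinearMap
import Mathlib.RingTheory.SimpleModule.Basic

/-!
# Contravariant cohomological functors over Noetherian local rings: depth
-/

set_option autoImplicit false
set_option linter.unusedSectionVars false

namespace Groth.Agent.Localalg.CDFDepth

open Module IsLocalRing CDFLocal

universe u w

variable {A : Type u} [CommRing A] [IsLocalRing A] [IsNoetherianRing A] (T : CDF.{u, w} A)

lemma exists_injective_residueField (M : Type u) [AddCommGroup M] [Module A M]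
    (h : ¬ Subsingleton (ResidueField A →ₗ[A] M)) :
    ∃ f : ResidueField A →ₗ[A] M, Function.Injective f := by
  rw [not_subsingleton_iff_nontrivial] at h
  obtain ⟨f, hf⟩ := exists_ne (0 : ResidueField A →ₗ[A] M)
  refine ⟨f, ?_⟩
  have hs : IsSimpleModule A (ResidueField A) :=
    (isSimpleModule_iff_quot_maximal).2 ⟨maximalIdeal A, inferInstance, ⟨LinearEquiv.refl _ _⟩⟩
  exact (LinearMap.injective_or_eq_zero f).resolve_right hf

lemma exists_regular_of_subsingleton (M : Type u) [AddCommGroup M] [Module A M]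
    [Module.Finite A M]
    (h : Subsingleton (ResidueField A →ₗ[A] M)) :
    ∃ x ∈ maximalIdeal A, IsSMulRegular M x := by
  obtain ⟨x, hx, hreg⟩ := (IsSMulRegular.subsingleton_linearMap_iff
    (R := A) (M := M) (N := ResidueField A)).1 h
  refine ⟨x, ?_, hreg⟩
  have : Module.annihilator A (ResidueField A) = maximalIdeal A :=
    Ideal.annihilator_quotient (I := maximalIdeal A)
  rwa [this] at hx

/-- `E⁰(M) ≠ 0` if `κ` embeds into `M`. -/
lemma nontrivial_of_injective
    (hfin : ∀ (i : ℤ) (M : Type u) [AddCommGroup M] [Module A M] [Module.Finite A M],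
      Module.Finite A (T.E i M))
    (hκ : ∀ i : ℤ, i ≠ 0 → Subsingleton (T.E i (ResidueField A)))
    (hκ0 : Nontrivial (T.E 0 (ResidueField A)))
    (M : Type u) [AddCommGroup M] [Module A M] [Module.Finite A M]
    (f : ResidueField A →ₗ[A] M) (hf : Function.Injective f) : Nontrivial (T.E 0 M) := by
  obtain ⟨δ, h1, h2⟩ := T.les f (Submodule.mkQ (LinearMap.range f)) hf
    (Submodule.mkQ_surjective _) (by rw [LinearMap.exact_iff, Submodule.ker_mkQ]) 0 1 (by norm_num)
  have h3 : Subsingleton (T.E 1 (M ⧸ LinearMap.range f)) :=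
    subsingleton_of_gt T hfin 0 (fun i hi ↦ hκ i (by omega)) _ 1 (by norm_num)
  have hsurj : Function.Surjective (T.map 0 f) := by
    intro y
    exact (h1 y).1 (Subsingleton.elim _ _)
  exact hsurj.nontrivial

/-- `n ≤ depth M` iff `E^{-δ}(M) = 0` for `δ < n`. -/
theorem le_depth_iff
    (hfin : ∀ (i : ℤ) (M : Type u) [AddCommGroup M] [Module A M] [Module.Finite A M],
      Module.Finite A (T.E i M))
    (hκ : ∀ i : ℤ, i ≠ 0 → Subsingleton (T.E i (ResidueField A)))
    (hκ0 : Nontrivial (T.E 0 (ResidueField A))) (n : ℕ) :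
    ∀ (M : Type u) [AddCommGroup M] [Module A M] [Module.Finite A M],
      (n : ℕ∞) ≤ LocCoh.depth A M ↔ ∀ δ : ℕ, δ < n → Subsingleton (T.E (-(δ : ℤ)) M) := by
  induction n with
  | zero => intro M _ _ _; simp
  | succ n ih =>
    intro M _ _ _
    by_cases hM : Subsingleton M
    · constructor
      · intro _ δ _
        exact T.subsingleton_of_subsingleton _
      · intro _
        rw [LocCoh.depth, Depth.idealDepth_eq_top_of_subsingleton]
        exact le_top
    rw [not_subsingleton_iff_nontrivial] at hM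
    constructor
    · intro h
      have hsm : maximalIdeal A • (⊤ : Submodule A M) ≠ ⊤ :=
        (Submodule.top_ne_ideal_smul_of_le_jacobson_annihilator
          (maximalIdeal_le_jacobson _)).symm
      obtain ⟨rs, hlen, hmem, hreg⟩ := (Depth.natCast_le_idealDepth_iff hsm (n + 1)).1 h
      obtain ⟨x, rs', rfl⟩ : ∃ x rs', rs = x :: rs' := by
        cases rs with
        | nil => simp at hlen
        | cons x rs' => exact ⟨x, rs', rfl⟩
      have hxm : x ∈ maximalIdeal A := hmem x (by simp)
      have hxreg : IsSMulRegular M x := ((RingTheory.Sequence.isRegular_cons_iff M _ _).1 hreg).1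
      have h2 := (Depth.natCast_succ_le_idealDepth_iff_quotSMulTop (maximalIdeal A) M x hxm hxreg
        n).1 h
      have h3 := (ih (QuotSMulTop x M)).1 h2
      intro δ hδ
      have := hfin (-(δ : ℤ)) M
      refine subsingleton_of_quot T hxm hxreg (-(δ : ℤ)) (-(δ : ℤ) + 1) rfl ?_
      rcases Nat.eq_zero_or_pos δ with rfl | hδ0
      · exact subsingleton_of_gt T hfin 0 (fun i hi ↦ hκ i (by omega)) (QuotSMulTop x M) _
          (by norm_num)
      · obtain ⟨δ, rfl⟩ := Nat.exists_eq_succ_of_ne_zero hδ0.ne'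
        have h4 := h3 δ (by omega)
        have h5 : -((δ + 1 : ℕ) : ℤ) + 1 = -(δ : ℤ) := by push_cast; ring
        rw [Nat.succ_eq_add_one, h5]
        exact h4
    · intro h
      have h0 : Subsingleton (T.E 0 M) := by simpa using h 0 (by omega)
      obtain ⟨x, hxm, hxreg⟩ : ∃ x ∈ maximalIdeal A, IsSMulRegular M x := by
        apply exists_regular_of_subsingleton
        by_contra hn
        obtain ⟨f, hf⟩ := exists_injective_residueField M hn
        have := nontrivial_of_injective T hfin hκ hκ0 M f hf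
        exact not_subsingleton (T.E 0 M) h0
      refine (Depth.natCast_succ_le_idealDepth_iff_quotSMulTop (maximalIdeal A) M x hxm hxreg
        n).2 ((ih (QuotSMulTop x M)).2 ?_)
      intro δ hδ
      obtain ⟨δ', h1, h2⟩ := les_smul T hxreg (-((δ + 1 : ℕ) : ℤ)) (-(δ : ℤ)) (by push_cast; ring)
      have h3 := h (δ + 1) (by omega)
      have h4 := h δ (by omega)
      refine subsingleton_of_forall_eq 0 fun y ↦ ?_
      obtain ⟨z, rfl⟩ := (h2 y).1 (Subsingleton.elim _ _)
      rw [Subsingleton.elim z 0, map_zero]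

/-- `depth M = n` iff `n` is the least `δ` with `E^{-δ}(M) ≠ 0`. -/
theorem depth_eq_iff
    (hfin : ∀ (i : ℤ) (M : Type u) [AddCommGroup M] [Module A M] [Module.Finite A M],
      Module.Finite A (T.E i M))
    (hκ : ∀ i : ℤ, i ≠ 0 → Subsingleton (T.E i (ResidueField A)))
    (hκ0 : Nontrivial (T.E 0 (ResidueField A)))
    (M : Type u) [AddCommGroup M] [Module A M] [Module.Finite A M] (n : ℕ) :
    LocCoh.depth A M = n ↔
      (∀ δ : ℕ, δ < n → Subsingleton (T.E (-(δ : ℤ)) M)) ∧ Nontrivial (T.E (-(n : ℤ)) M) := by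
  have h1 := le_depth_iff T hfin hκ hκ0 n M
  have h2 := le_depth_iff T hfin hκ hκ0 (n + 1) M
  constructor
  · intro h
    have h3 := h1.1 h.ge
    refine ⟨h3, ?_⟩
    by_contra h4
    rw [not_nontrivial_iff_subsingleton] at h4
    have h5 := h2.2 (fun δ hδ ↦ by
      rcases Nat.lt_succ_iff_lt_or_eq.1 hδ with h | rfl
      · exact h3 δ h
      · exact h4)
    rw [h] at h5
    have : n + 1 ≤ n := by exact_mod_cast h5
    omega
  · rintro ⟨h3, h4⟩
    refine le_antisymm ?_ (h1.2 h3)
    by_contra h5
    rw [not_le] at h5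
    have h6 : ((n + 1 : ℕ) : ℕ∞) ≤ LocCoh.depth A M := by
      push_cast
      exact Order.add_one_le_of_lt h5
    exact not_subsingleton (T.E (-(n : ℤ)) M) (h2.1 h6 n (by omega))

/-- Cohen-Macaulay modules. -/
theorem isCohenMacaulayModule_iff
    (hfin : ∀ (i : ℤ) (M : Type u) [AddCommGroup M] [Module A M] [Module.Finite A M],
      Module.Finite A (T.E i M))
    (hκ : ∀ i : ℤ, i ≠ 0 → Subsingleton (T.E i (ResidueField A)))
    (hκ0 : Nontrivial (T.E 0 (ResidueField A)))
    (M : Type u) [AddCommGroup M] [Module A M] [Module.Finite A M] [Nontrivial M] (d : ℕ)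
    (hd : supportDim A M = d) :
    LocCoh.IsCohenMacaulayModule A M ↔ ∀ i : ℤ, i ≠ d → Subsingleton (T.E (-i) M) := by
  have h1 : LocCoh.IsCohenMacaulayModule A M ↔ LocCoh.depth A M = d := by
    rw [LocCoh.IsCohenMacaulayModule, hd]
    constructor
    · intro h
      have h' : ((d : ℕ∞) : WithBot ℕ∞) = ((LocCoh.depth A M : ℕ∞) : WithBot ℕ∞) := by
        rw [← h]; norm_cast
      exact (WithBot.coe_injective h').symm
    · intro h
      rw [h]
      norm_cast
  rw [h1]
  constructor
  · intro h i hi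
    have h2 := (depth_eq_iff T hfin hκ hκ0 M d).1 h
    rcases lt_trichotomy i d with h3 | h3 | h3
    · rcases lt_or_ge i 0 with h4 | h4
      · exact subsingleton_of_gt T hfin 0 (fun i hi ↦ hκ i (by omega)) M (-i) (by omega)
      · obtain ⟨δ, rfl⟩ := Int.eq_ofNat_of_zero_le h4
        exact h2.1 δ (by simpa using h3)
    · exact absurd h3 hi
    · exact subsingleton_of_lt T hfin (fun i hi ↦ hκ i (by omega)) M d (-i) hd.le (by omega)
  · intro h
    have h2 : (d : ℕ∞) ≤ LocCoh.depth A M :=
      (le_depth_iff T hfin hκ hκ0 d M).2 (fun δ hδ ↦ h δ (by exact_mod_cast hδ.ne))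
    refine le_antisymm ?_ h2
    by_contra h5
    rw [not_le] at h5
    have h6 : ((d + 1 : ℕ) : ℕ∞) ≤ LocCoh.depth A M := by
      push_cast
      exact Order.add_one_le_of_lt h5
    have hsm : maximalIdeal A • (⊤ : Submodule A M) ≠ ⊤ :=
      (Submodule.top_ne_ideal_smul_of_le_jacobson_annihilator
        (maximalIdeal_le_jacobson _)).symm
    obtain ⟨rs, hlen, hmem, hreg⟩ := (Depth.natCast_le_idealDepth_iff hsm (d + 1)).1 h6
    have h7 := supportDim_add_length_eq_supportDim_of_isRegular rs hreg
    rw [hd, hlen] at h7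
    induction hb : supportDim A (M ⧸ Ideal.ofList rs • (⊤ : Submodule A M)) using
      WithBot.recBotCoe with
    | bot => rw [hb] at h7; simp at h7
    | coe b =>
      rw [hb] at h7
      have h8 : b + ((d + 1 : ℕ) : ℕ∞) = (d : ℕ∞) := by exact_mod_cast h7
      have h9 : ((d + 1 : ℕ) : ℕ∞) ≤ (d : ℕ∞) := by
        rw [← h8]
        exact le_add_self
      have : d + 1 ≤ d := by exact_mod_cast h9
      omega

end Groth.Agent.Localalg.CDFDepth
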