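import Groth.Agent.Localalg.DHomCDF
import Groth.Agent.Localalg.CDFDepth

/-!
# First properties of dualizing complexes
-/

set_option autoImplicit false
set_option backward.isDefEq.respectTransparency false
set_option backward.defeqAttrib.useBackward true
set_option linter.unusedSectionVars false

namespace Groth.Agent.Localalg.DDual

open CategoryTheory Limits DerivedCategory DHomCDF

universe u

attribute [local instance] HasDerivedCategory.standard

variable {A : Type u} [CommRing A]

/-- an object of `D(A)` with vanishing cohomology is zero. -/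
lemma isZero_of_HD (X : Dual.D A) (h : ∀ i : ℤ, Subsingleton (Dual.HD A X i)) : IsZero X := by
  rw [IsZero.iff_id_eq_zero]
  have h0 : IsIso (0 : X ⟶ X) := by
    rw [isIso_iff]
    intro n
    have := h n
    have hz : IsZero ((homologyFunctor (ModuleCat.{u} A) n).obj X) :=
      ModuleCat.isZero_of_subsingleton _
    exact ⟨⟨0, hz.eq_of_src _ _, hz.eq_of_src _ _⟩⟩
  rw [← IsIso.hom_inv_id (0 : X ⟶ X), zero_comp]

lemma subsingleton_of_isZero (X : Dual.D A) (hX : IsZero X) (i : ℤ) :
    Subsingleton (Dual.HD A X i) :=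
  ModuleCat.subsingleton_of_isZero ((homologyFunctor (ModuleCat.{u} A) i).map_isZero hX)

section Dualizing

variable {ω : Dual.D A} (hω : Dual.IsDualizing A ω)

include hω

/-- boundedness of `Hom(M, ω⟦i⟧)`. -/
lemma exists_bound : ∃ a b : ℤ, ∀ (M : Type u) [AddCommGroup M] [Module A M] (i : ℤ),
    (i < a ∨ b < i) → Subsingleton (Dual.inD A M ⟶ ω⟦i⟧) := hω.finite_injective_dimension

/-- `Hom(M, ω⟦i⟧)` is a finite module for `M` finite. -/
theorem finite_hom (i : ℤ) (M : Type u) [AddCommGroup M] [Module A M] [Module.Finite A M] :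
    Module.Finite A (Dual.inD A M ⟶ ω⟦i⟧) := by
  have := hω.isNoetherianRing
  obtain ⟨a, b, h⟩ := exists_bound hω
  refine (homCDF ω).finite a (fun i hi M _ _ _ ↦ h M i (Or.inl hi)) (fun i ↦ ?_) i M
  have := hω.finite_cohomology i
  exact Module.Finite.equiv (DRingHom.ringEquiv A ω i).symm

/-- `ω` is nonzero when `A` is. -/
lemma exists_nontrivial_HD [Nontrivial A] : ∃ i : ℤ, Nontrivial (Dual.HD A ω i) := by
  by_contra h
  push Not at h
  have hz : IsZero ω := isZero_of_HD ω (fun i ↦ not_nontrivial_iff_subsingleton.1 (by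
    rw [not_nontrivial_iff_subsingleton]; exact h i))
  have h1 : (1 : A) = 0 := by
    apply hω.toEnd_bijective.1
    exact hz.eq_of_src _ _
  exact one_ne_zero h1

end Dualizing

section Local

variable [IsLocalRing A] {ω : Dual.D A} (hω : Dual.IsDualizing A ω) (hn : Dual.IsNormalized A ω)

include hω hn

lemma residueField_nontrivial :
    Nontrivial ((homCDF ω).E 0 (IsLocalRing.ResidueField A)) := by
  have := hω.isNoetherianRing
  by_contra h
  rw [not_nontrivial_iff_subsingleton] at h
  have h1 : ∀ i : ℤ, Subsingleton ((homCDF ω).E i (IsLocalRing.ResidueField A)) := by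
    intro i
    by_cases hi : i = 0
    · subst hi; exact h
    · exact hn i hi
  obtain ⟨i, hi⟩ := exists_nontrivial_HD hω
  have h2 := CDFLocal.subsingleton_of_gt (homCDF ω) (fun i M _ _ _ ↦ finite_hom hω i M) (i - 1)
    (fun i _ ↦ h1 i) A i (by omega)
  have h2' : Subsingleton (Dual.inD A A ⟶ ω⟦i⟧) := h2
  have h3 : Subsingleton (Dual.HD A ω i) :=
    (DRingHom.ringEquiv A ω i).symm.toEquiv.subsingleton
  exact not_subsingleton _ h3

theorem subsingleton_of_pos (M : Type u) [AddCommGroup M] [Module A M] [Module.Finite A M]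
    (i : ℤ) (hi : 0 < i) : Subsingleton (Dual.inD A M ⟶ ω⟦i⟧) := by
  have := hω.isNoetherianRing
  exact CDFLocal.subsingleton_of_gt (homCDF ω) (fun i M _ _ _ ↦ finite_hom hω i M) 0
    (fun i hi ↦ hn i (by omega)) M i hi

theorem subsingleton_of_lt (M : Type u) [AddCommGroup M] [Module A M] [Module.Finite A M]
    (d : ℕ) (hd : Module.supportDim A M ≤ d)
    (i : ℤ) (hi : i < -(d : ℤ)) : Subsingleton (Dual.inD A M ⟶ ω⟦i⟧) := by
  have := hω.isNoetherianRing
  exact CDFLocal.subsingleton_of_lt (homCDF ω) (fun i M _ _ _ ↦ finite_hom hω i M)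
    (fun i hi ↦ hn i (by omega)) M d i hd hi

theorem supportDim_le (M : Type u) [AddCommGroup M] [Module A M] [Module.Finite A M] (n : ℕ) :
    Module.supportDim A (Dual.inD A M ⟶ ω⟦(-(n : ℤ))⟧) ≤ n := by
  have := hω.isNoetherianRing
  exact CDFLocal.supportDim_le (homCDF ω) (fun i M _ _ _ ↦ finite_hom hω i M)
    (fun i hi ↦ hn i hi) M n

theorem depth_eq_iff (M : Type u) [AddCommGroup M] [Module A M] [Module.Finite A M] (n : ℕ) :
    LocCoh.depth A M = n ↔ ((∀ δ : ℕ, δ < n → Subsingleton (Dual.inD A M ⟶ ω⟦(-(δ : ℤ))⟧)) ∧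
      Nontrivial (Dual.inD A M ⟶ ω⟦(-(n : ℤ))⟧)) := by
  have := hω.isNoetherianRing
  exact CDFDepth.depth_eq_iff (homCDF ω) (fun i M _ _ _ ↦ finite_hom hω i M)
    (fun i hi ↦ hn i hi) (residueField_nontrivial hω hn) M n

theorem le_depth_iff (M : Type u) [AddCommGroup M] [Module A M] [Module.Finite A M] (n : ℕ) :
    (n : ℕ∞) ≤ LocCoh.depth A M ↔
      ∀ δ : ℕ, δ < n → Subsingleton (Dual.inD A M ⟶ ω⟦(-(δ : ℤ))⟧) := by
  have := hω.isNoetherianRing
  exact CDFDepth.le_depth_iff (homCDF ω) (fun i M _ _ _ ↦ finite_hom hω i M)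
    (fun i hi ↦ hn i hi) (residueField_nontrivial hω hn) n M

theorem isCohenMacaulayModule_iff (M : Type u) [AddCommGroup M] [Module A M] [Module.Finite A M]
    [Nontrivial M] (d : ℕ) (hd : Module.supportDim A M = d) :
    LocCoh.IsCohenMacaulayModule A M ↔
      ∀ i : ℤ, i ≠ d → Subsingleton (Dual.inD A M ⟶ ω⟦(-i)⟧) := by
  have := hω.isNoetherianRing
  exact CDFDepth.isCohenMacaulayModule_iff (homCDF ω) (fun i M _ _ _ ↦ finite_hom hω i M)
    (fun i hi ↦ hn i hi) (residueField_nontrivial hω hn) M d hd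

end Local

end Groth.Agent.Localalg.DDual
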