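import Groth.Agent.Localalg.GorDepth

/-!
# The socle of a self-injective Noetherian local ring
-/

set_option autoImplicit false
universe u

open CategoryTheory Abelian Limits

namespace Groth.Agent.Localalg.GorSocle

variable {A : Type u} [CommRing A] [IsLocalRing A] [IsNoetherianRing A]

/-- A self-injective Noetherian local ring has a one-dimensional socle. -/
theorem exists_socle_generator (h : HasInjectiveDimensionLT (ModuleCat.of A A) 1) :
    ∃ σ : (A ⧸ IsLocalRing.maximalIdeal A) →ₗ[A] A, Function.Injective σ ∧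
      ∀ t : A, (∀ a ∈ IsLocalRing.maximalIdeal A, a * t = 0) → ∃ c : A, t = c * σ 1 := by
  have h0 := GorDepth.krullDimLE_zero h
  obtain ⟨σ, hσ⟩ := GorDepth.exists_injective_residueField (A := A) A (fun x hx hreg ↦ by
    have h1 : IsLocalRing.maximalIdeal A ∈ associatedPrimes A A := by
      apply Module.associatedPrimes.minimalPrimes_annihilator_subset_associatedPrimes
      rw [Module.annihilator_eq_bot.2 inferInstance]
      exact Ideal.mem_minimalPrimes_of_krullDimLE_zero _
    obtain ⟨hp, s, hs⟩ := isAssociatedPrime_iff.1 h1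
    have h2 : x • s = (0 : A) := by
      rw [hs] at hx
      simpa using hx
    have h3 : s = 0 := hreg.right_eq_zero_of_smul h2
    apply hp.ne_top
    rw [hs, h3]
    simp)
  refine ⟨σ, hσ, fun t ht ↦ ?_⟩
  have hinj : Module.Injective A A := by
    rw [Module.injective_iff_injective_object]
    infer_instance
  let τ : (A ⧸ IsLocalRing.maximalIdeal A) →ₗ[A] A :=
    Submodule.liftQ _ (LinearMap.toSpanSingleton A A t) (fun a ha ↦ by simpa using ht a ha)
  obtain ⟨g, hg⟩ := hinj.out σ hσ τ
  refine ⟨g 1, ?_⟩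
  have h1 : τ 1 = t := by
    change Submodule.liftQ _ _ _ (Submodule.Quotient.mk 1) = t
    rw [Submodule.liftQ_apply, LinearMap.toSpanSingleton_apply, one_smul]
  rw [← h1, ← hg]
  have : σ 1 = σ 1 • (1 : A) := by simp
  conv_lhs => rw [this]
  rw [map_smul, smul_eq_mul, mul_comm]

/-- `Hom(κ, A) ≃ κ` for a self-injective Noetherian local ring. -/
theorem exists_linearEquiv_residueField (h : HasInjectiveDimensionLT (ModuleCat.of A A) 1) :
    Nonempty ((A ⧸ IsLocalRing.maximalIdeal A) ≃ₗ[A]
      ((A ⧸ IsLocalRing.maximalIdeal A) →ₗ[A] A)) := by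
  obtain ⟨σ, hσ, hσ'⟩ := exists_socle_generator h
  refine ⟨LinearEquiv.ofBijective
    ((LinearMap.llcomp A _ _ _ σ) ∘ₗ (LinearMap.mul A (A ⧸ IsLocalRing.maximalIdeal A))) ⟨?_, ?_⟩⟩
  · rw [injective_iff_map_eq_zero]
    intro c hc
    have h1 := congr($hc 1)
    rw [LinearMap.comp_apply, LinearMap.llcomp_apply, LinearMap.mul_apply', mul_one,
      LinearMap.zero_apply] at h1
    exact hσ (h1.trans (map_zero σ).symm)
  · intro φ
    obtain ⟨c, hc⟩ := hσ' (φ 1) (fun a ha ↦ by
      rw [← smul_eq_mul, ← map_smul]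
      have : a • (1 : A ⧸ IsLocalRing.maximalIdeal A) = 0 := by
        rw [Algebra.smul_def, mul_one]
        exact Ideal.Quotient.eq_zero_iff_mem.2 ha
      rw [this, map_zero])
    refine ⟨c • 1, LinearMap.ext fun x ↦ ?_⟩
    obtain ⟨x, rfl⟩ := Ideal.Quotient.mk_surjective x
    have h2 : (Ideal.Quotient.mk (IsLocalRing.maximalIdeal A) x) = x • 1 := by
      rw [Algebra.smul_def, mul_one]; rfl
    rw [h2, map_smul, map_smul φ, hc, map_smul, LinearMap.smul_apply, LinearMap.comp_apply,
      LinearMap.llcomp_apply, LinearMap.mul_apply', mul_one, smul_eq_mul c]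

end Groth.Agent.Localalg.GorSocle
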