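import Groth.Agent.Localalg.Matlis2
import Mathlib.RingTheory.AdicCompletion.Algebra
import Mathlib.RingTheory.AdicCompletion.RingHom
import Mathlib.RingTheory.HopkinsLevitzki
import Mathlib.RingTheory.Ideal.KrullsHeightTheorem

/-!
# Matlis duality, part 3

The endomorphism ring of an injective hull of the residue field is the completion.
-/

set_option autoImplicit false
universe u v w

namespace Groth.Agent.Localalg.Matlis

open _root_.InjHull IsLocalRing

section FiniteLength

variable {R : Type u} [CommRing R] [IsLocalRing R] [IsNoetherianRing R]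

theorem isArtinianRing_quotient_pow (n : ℕ) : IsArtinianRing (R ⧸ (maximalIdeal R) ^ n) := by
  rcases Nat.eq_zero_or_pos n with rfl | hn
  · rw [pow_zero, Ideal.one_eq_top]
    have : Subsingleton (R ⧸ (⊤ : Ideal R)) := Ideal.Quotient.subsingleton_iff.mpr rfl
    infer_instance
  · apply IsLocalRing.quotient_artinian_of_mem_minimalPrimes_of_isLocalRing
    rw [Ideal.minimalPrimes, Set.mem_ofPred]
    refine ⟨⟨inferInstance, Ideal.pow_le_self hn.ne'⟩, ?_⟩
    rintro J ⟨hJ, hJ'⟩ -
    exact (hJ.pow_le_iff hn.ne').mp hJ'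

/-- A finitely generated module killed by a power of the maximal ideal has finite length. -/
theorem isFiniteLength_of_pow_smul {M : Type v} [AddCommGroup M] [Module R M] [Module.Finite R M]
    (n : ℕ) (h : ∀ a ∈ (maximalIdeal R) ^ n, ∀ x : M, a • x = 0) : IsFiniteLength R M := by
  rw [isFiniteLength_iff_isNoetherian_isArtinian]
  refine ⟨inferInstance, ?_⟩
  have htor : Module.IsTorsionBySet R M ((maximalIdeal R ^ n : Ideal R) : Set R) :=
    fun x a => h a.1 a.2 x
  let _ := htor.module
  have : IsScalarTower R (R ⧸ (maximalIdeal R) ^ n) M := htor.isScalarTower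
  have := isArtinianRing_quotient_pow (R := R) n
  have : Module.Finite (R ⧸ (maximalIdeal R) ^ n) M := Module.Finite.of_restrictScalars_finite R _ M
  have : IsArtinian (R ⧸ (maximalIdeal R) ^ n) M := inferInstance
  exact isArtinian_of_surjective_algebraMap (R := R ⧸ (maximalIdeal R) ^ n)
    Ideal.Quotient.mk_surjective

theorem isFiniteLength_quotient_pow (n : ℕ) : IsFiniteLength R (R ⧸ (maximalIdeal R) ^ n) :=
  isFiniteLength_of_pow_smul n (by
    intro a ha x
    obtain ⟨r, rfl⟩ := Ideal.Quotient.mk_surjective x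
    rw [← Ideal.Quotient.mk_eq_mk, ← Submodule.Quotient.mk_smul, Submodule.Quotient.mk_eq_zero]
    exact Ideal.mul_mem_right _ _ ha)

end FiniteLength

section Local

variable {R : Type u} [CommRing R] [IsLocalRing R] {E : Type u} [AddCommGroup E] [Module R E]
  {f : ResidueField R →ₗ[R] E}

theorem exists_smul_eq (hf : IsInjectiveHull f) (φ : E →ₗ[R] E) {I : Ideal R}
    (hI : IsFiniteLength R (R ⧸ I)) :
    ∃ r : R, ∀ x : E, (∀ a ∈ I, a • x = 0) → φ x = r • x := by
  obtain ⟨m, hm⟩ := (applyₗ_bijective hf (R ⧸ I) hI).2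
    (φ ∘ₗ (LinearMap.applyₗ (Submodule.Quotient.mk 1) : ((R ⧸ I) →ₗ[R] E) →ₗ[R] E))
  obtain ⟨r, rfl⟩ := Submodule.Quotient.mk_surjective _ m
  refine ⟨r, fun x hx => ?_⟩
  let g : (R ⧸ I) →ₗ[R] E := I.liftQ (LinearMap.toSpanSingleton R E x) (fun a ha => hx a ha)
  have h1 : g (Submodule.Quotient.mk r) = φ (g (Submodule.Quotient.mk 1)) :=
    LinearMap.congr_fun hm g
  have h2 : g (Submodule.Quotient.mk r) = r • x := rfl
  have h3 : g (Submodule.Quotient.mk 1) = x := one_smul R x
  rw [← h2, h1, h3]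

theorem mem_of_forall_smul_eq_zero (hf : IsInjectiveHull f) {I : Ideal R} {r : R}
    (h : ∀ x : E, (∀ a ∈ I, a • x = 0) → r • x = 0) : r ∈ I := by
  rw [← Submodule.Quotient.mk_eq_zero]
  apply applyₗ_injective hf (R ⧸ I)
  rw [map_zero]
  ext g
  change g (Submodule.Quotient.mk r) = 0
  have h1 : (Submodule.Quotient.mk r : R ⧸ I) = r • (Submodule.Quotient.mk 1) := by
    rw [← Submodule.Quotient.mk_smul, smul_eq_mul, mul_one]
  rw [h1, map_smul]
  apply h
  intro a ha
  rw [← map_smul, ← Submodule.Quotient.mk_smul, smul_eq_mul, mul_one,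
    (Submodule.Quotient.mk_eq_zero I).mpr ha, map_zero]

theorem mk_eq_mk_of_forall (hf : IsInjectiveHull f) {I : Ideal R} {r s : R}
    (h : ∀ x : E, (∀ a ∈ I, a • x = 0) → r • x = s • x) :
    Ideal.Quotient.mk I r = Ideal.Quotient.mk I s := by
  rw [Ideal.Quotient.mk_eq_mk_iff_sub_mem]
  exact mem_of_forall_smul_eq_zero hf fun x hx => by rw [sub_smul, h x hx, sub_self]

/-- The restriction of an endomorphism of `E` to `E[I]` is multiplication by an element of `R/I`. -/
noncomputable def endToQuot (hf : IsInjectiveHull f) {I : Ideal R}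
    (hI : IsFiniteLength R (R ⧸ I)) : Module.End R E →+* R ⧸ I where
  toFun φ := Ideal.Quotient.mk I (exists_smul_eq hf φ hI).choose
  map_one' := by
    rw [← map_one (Ideal.Quotient.mk I)]
    refine mk_eq_mk_of_forall hf fun x hx => ?_
    rw [← (exists_smul_eq hf (1 : Module.End R E) hI).choose_spec x hx]
    simp
  map_zero' := by
    rw [← map_zero (Ideal.Quotient.mk I)]
    refine mk_eq_mk_of_forall hf fun x hx => ?_
    rw [← (exists_smul_eq hf (0 : Module.End R E) hI).choose_spec x hx]
    simp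
  map_add' φ ψ := by
    rw [← map_add (Ideal.Quotient.mk I)]
    refine mk_eq_mk_of_forall hf fun x hx => ?_
    rw [add_smul, ← (exists_smul_eq hf (φ + ψ) hI).choose_spec x hx,
      ← (exists_smul_eq hf φ hI).choose_spec x hx, ← (exists_smul_eq hf ψ hI).choose_spec x hx]
    rfl
  map_mul' φ ψ := by
    rw [← map_mul (Ideal.Quotient.mk I)]
    refine mk_eq_mk_of_forall hf fun x hx => ?_
    rw [mul_comm, mul_smul, ← (exists_smul_eq hf (φ * ψ) hI).choose_spec x hx,
      ← (exists_smul_eq hf φ hI).choose_spec x hx, ← map_smul,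
      ← (exists_smul_eq hf ψ hI).choose_spec x hx]
    rfl

theorem endToQuot_eq (hf : IsInjectiveHull f) {I : Ideal R}
    (hI : IsFiniteLength R (R ⧸ I)) (φ : Module.End R E) (r : R)
    (hr : ∀ x : E, (∀ a ∈ I, a • x = 0) → φ x = r • x) :
    endToQuot hf hI φ = Ideal.Quotient.mk I r :=
  mk_eq_mk_of_forall hf fun x hx => by
    rw [← (exists_smul_eq hf φ hI).choose_spec x hx, hr x hx]

theorem apply_eq_of_endToQuot (hf : IsInjectiveHull f) {I : Ideal R}
    (hI : IsFiniteLength R (R ⧸ I)) (φ : Module.End R E) (r : R)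
    (hr : endToQuot hf hI φ = Ideal.Quotient.mk I r) {x : E} (hx : ∀ a ∈ I, a • x = 0) :
    φ x = r • x := by
  obtain ⟨s, hs⟩ := exists_smul_eq hf φ hI
  rw [endToQuot_eq hf hI φ s hs, Ideal.Quotient.mk_eq_mk_iff_sub_mem] at hr
  rw [hs x hx, ← sub_eq_zero, ← sub_smul, hx _ hr]

end Local

section Noetherian

variable {R : Type u} [CommRing R] [IsLocalRing R] [IsNoetherianRing R]
  {E : Type u} [AddCommGroup E] [Module R E] {f : ResidueField R →ₗ[R] E}

theorem endToQuot_compat (hf : IsInjectiveHull f) {m n : ℕ} (hle : m ≤ n) :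
    (Ideal.Quotient.factorPow (maximalIdeal R) hle).comp
      (endToQuot hf (isFiniteLength_quotient_pow n)) =
      endToQuot hf (isFiniteLength_quotient_pow m) := by
  ext φ
  obtain ⟨r, hr⟩ := exists_smul_eq hf φ (isFiniteLength_quotient_pow (R := R) n)
  rw [RingHom.comp_apply, endToQuot_eq hf _ φ r hr, endToQuot_eq hf _ φ r (fun x hx =>
    hr x fun a ha => hx a (Ideal.pow_le_pow_right hle ha))]
  rfl

/-- The map `End(E) → R^`. -/
noncomputable def endToAdicCompletion (hf : IsInjectiveHull f) :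
    Module.End R E →ₐ[R] AdicCompletion (maximalIdeal R) R where
  __ := AdicCompletion.liftRingHom (maximalIdeal R)
    (fun n => endToQuot hf (isFiniteLength_quotient_pow n)) (endToQuot_compat hf)
  commutes' r := by
    apply AdicCompletion.ext_evalₐ
    intro n
    change AdicCompletion.evalₐ (maximalIdeal R) n (AdicCompletion.liftRingHom (maximalIdeal R)
      (fun n => endToQuot hf (isFiniteLength_quotient_pow n)) (endToQuot_compat hf)
      (algebraMap R (Module.End R E) r)) = _
    rw [AdicCompletion.evalₐ_liftRingHom, AlgHom.commutes]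
    exact endToQuot_eq hf _ _ r fun x hx => rfl

theorem evalₐ_endToAdicCompletion (hf : IsInjectiveHull f) (n : ℕ) (φ : Module.End R E) :
    AdicCompletion.evalₐ (maximalIdeal R) n (endToAdicCompletion hf φ) =
      endToQuot hf (isFiniteLength_quotient_pow n) φ :=
  AdicCompletion.evalₐ_liftRingHom _ _ (endToQuot_compat hf) n φ

theorem endToAdicCompletion_injective (hf : IsInjectiveHull f) :
    Function.Injective (endToAdicCompletion hf) := by
  rw [injective_iff_map_eq_zero]
  intro φ hφ
  ext x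
  obtain ⟨n, hn⟩ := isPowerTorsion_hull hf x
  have h1 := evalₐ_endToAdicCompletion hf n φ
  rw [hφ, map_zero] at h1
  have h2 := apply_eq_of_endToQuot hf (isFiniteLength_quotient_pow n) φ 0
    (by rw [← h1, map_zero]) hn
  rw [h2, zero_smul]; rfl

omit [IsLocalRing R] [IsNoetherianRing R] in
/-- The endomorphism of a power torsion module given by a Cauchy sequence. -/
theorem exists_end_of_cauchySeq {I : Ideal R} {M : Type v} [AddCommGroup M] [Module R M]
    (hM : LocCoh.IsPowerTorsion I M) (c : ℕ → R)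
    (hc : ∀ {m n : ℕ}, m ≤ n → c n - c m ∈ I ^ m) :
    ∃ φ : M →ₗ[R] M, ∀ (n : ℕ) (x : M), (∀ a ∈ I ^ n, a • x = 0) → φ x = c n • x := by
  classical
  have key : ∀ (x : M) (m n : ℕ), (∀ a ∈ I ^ m, a • x = 0) → (∀ a ∈ I ^ n, a • x = 0) →
      c m • x = c n • x := by
    have aux : ∀ (x : M) (m n : ℕ), m ≤ n → (∀ a ∈ I ^ m, a • x = 0) → c m • x = c n • x := by
      intro x m n hmn h
      have := h _ (hc hmn)
      rw [sub_smul, sub_eq_zero] at this
      exact this.symm
    intro x m n hm hn
    rcases le_total m n with h | h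
    · exact aux x m n h hm
    · exact (aux x n m h hn).symm
  choose N hN using hM
  have hφ : ∀ (n : ℕ) (x : M), (∀ a ∈ I ^ n, a • x = 0) → c (N x) • x = c n • x :=
    fun n x hx => key x _ _ (hN x) hx
  have hmono : ∀ {x : M} {m n : ℕ}, m ≤ n → (∀ a ∈ I ^ m, a • x = 0) →
      (∀ a ∈ I ^ n, a • x = 0) := fun hmn h a ha => h a (Ideal.pow_le_pow_right hmn ha)
  refine ⟨⟨⟨fun x => c (N x) • x, ?_⟩, ?_⟩, hφ⟩
  · intro x y
    have hx := hmono (le_max_left (N x) (N y)) (hN x)
    have hy := hmono (le_max_right (N x) (N y)) (hN y)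
    have hxy : ∀ a ∈ I ^ (max (N x) (N y)), a • (x + y) = 0 := fun a ha => by
      rw [smul_add, hx a ha, hy a ha, add_zero]
    rw [hφ _ x hx, hφ _ y hy, hφ _ _ hxy, smul_add]
  · intro r x
    have hrx : ∀ a ∈ I ^ (N x), a • (r • x) = 0 := fun a ha => by
      rw [smul_comm, hN x a ha, smul_zero]
    simp only [RingHom.id_apply]
    rw [hφ _ _ hrx, smul_comm]

theorem endToAdicCompletion_surjective (hf : IsInjectiveHull f) :
    Function.Surjective (endToAdicCompletion hf) := by
  intro a
  obtain ⟨c, rfl⟩ := AdicCompletion.mk_surjective (maximalIdeal R) R a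
  obtain ⟨φ, hφ⟩ := exists_end_of_cauchySeq (isPowerTorsion_hull hf) c (fun {m n} hmn => by
    have := c.property hmn
    rw [SModEq.sub_mem] at this
    rw [← neg_sub]
    apply neg_mem
    simpa using this)
  refine ⟨φ, ?_⟩
  apply AdicCompletion.ext_evalₐ
  intro n
  rw [evalₐ_endToAdicCompletion, AdicCompletion.evalₐ_mk]
  exact endToQuot_eq hf _ _ _ (hφ n)

/-- `End(E) ≃ R^`. -/
noncomputable def endEquivAdicCompletion (hf : IsInjectiveHull f) :
    Module.End R E ≃ₐ[R] AdicCompletion (maximalIdeal R) R :=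
  AlgEquiv.ofBijective (endToAdicCompletion hf)
    ⟨endToAdicCompletion_injective hf, endToAdicCompletion_surjective hf⟩

end Noetherian

end Groth.Agent.Localalg.Matlis
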