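import Groth.Agent.Localalg.Matlis4
import Groth.Agent.S0310

/-!
# Matlis duality, part 5

Artinian modules over a Noetherian local ring, and Matlis duality over a complete Noetherian local ring.
-/

set_option autoImplicit false
universe u v w

namespace Groth.Agent.Localalg.Matlis

open _root_.InjHull IsLocalRing

section Artinian

variable {R : Type u} [CommRing R] [IsLocalRing R] [IsNoetherianRing R]

theorem isArtinian_iff (M : Type u) [AddCommGroup M] [Module R M] :
    IsArtinian R M ↔ (LocCoh.IsPowerTorsion (maximalIdeal R) M ∧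
      Module.Finite (R ⧸ maximalIdeal R) ↥(LocCoh.torsionBy (maximalIdeal R) M)) := by
  constructor
  · intro h
    exact ⟨isPowerTorsion_of_isArtinian M, finite_socle_of_isArtinian M⟩
  · rintro ⟨h1, h2⟩
    obtain ⟨E, _, _, f, hf⟩ :=
      Groth.Agent.Localalg.InjHull.exists_injective_hull R (ResidueField R)
    obtain ⟨g, hg⟩ := Groth.Agent.S0310.result R E f hf M h1 _ rfl
    have := isArtinian_hull hf
    exact isArtinian_of_injective g hg

/-- An Artinian module over a Noetherian local ring embeds into a finite power of the hull. -/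
theorem exists_embedding_of_isArtinian {E : Type u} [AddCommGroup E] [Module R E]
    {f : ResidueField R →ₗ[R] E} (hf : IsInjectiveHull f) (M : Type u) [AddCommGroup M]
    [Module R M] [IsArtinian R M] : ∃ (n : ℕ) (g : M →ₗ[R] (Fin n → E)), Function.Injective g := by
  have := finite_socle_of_isArtinian (R := R) M
  exact ⟨_, Groth.Agent.S0310.result R E f hf M (isPowerTorsion_of_isArtinian M) _ rfl⟩

end Artinian

section Complete

variable {R : Type u} [CommRing R] [IsLocalRing R] [IsNoetherianRing R]
  {E : Type u} [AddCommGroup E] [Module R E] {f : ResidueField R →ₗ[R] E}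

/-- The dual of a finite module is Artinian (no completeness needed). -/
theorem isArtinian_dual (hf : IsInjectiveHull f) (M : Type v) [AddCommGroup M] [Module R M]
    [Module.Finite R M] : IsArtinian R (M →ₗ[R] E) := by
  obtain ⟨n, π, hπ⟩ := Module.Finite.exists_fin' R M
  have := isArtinian_hull hf
  let q : ((Fin n → R) →ₗ[R] E) →ₗ[R] (Fin n → E) :=
    LinearMap.pi fun i => LinearMap.applyₗ (Pi.single i 1)
  have hq : Function.Injective q := fun a b hab => by
    apply LinearMap.pi_ext'
    intro i
    apply LinearMap.ext_ring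
    exact congrFun hab i
  have h1 : IsArtinian R ((Fin n → R) →ₗ[R] E) := isArtinian_of_injective q hq
  exact isArtinian_of_injective (LinearMap.lcomp R E π) (fun a b hab => by
    ext x
    obtain ⟨y, rfl⟩ := hπ x
    exact LinearMap.congr_fun hab y)

/-- Over a complete Noetherian local ring every endomorphism of `E` is a homothety. -/
theorem exists_smul_eq_of_complete [IsAdicComplete (maximalIdeal R) R] (hf : IsInjectiveHull f)
    (φ : E →ₗ[R] E) : ∃ r : R, ∀ x : E, φ x = r • x := by
  obtain ⟨r, hr⟩ := AdicCompletion.of_surjective (maximalIdeal R) R (endToAdicCompletion hf φ)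
  refine ⟨r, fun x => ?_⟩
  obtain ⟨n, hn⟩ := isPowerTorsion_hull hf x
  refine apply_eq_of_endToQuot hf (isFiniteLength_quotient_pow n) φ r ?_ hn
  rw [← evalₐ_endToAdicCompletion hf n φ, ← hr, AdicCompletion.evalₐ_of]

/-- Matlis biduality for finite modules over a complete Noetherian local ring. -/
theorem applyₗ_bijective_of_finite [IsAdicComplete (maximalIdeal R) R] (hf : IsInjectiveHull f)
    (M : Type v) [AddCommGroup M] [Module R M] [Module.Finite R M] :
    Function.Bijective (LinearMap.applyₗ : M →ₗ[R] (M →ₗ[R] E) →ₗ[R] E) := by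
  refine ⟨applyₗ_injective hf M, fun Φ => ?_⟩
  obtain ⟨n, π, hπ⟩ := Module.Finite.exists_fin' R M
  have hinj : Function.Injective (LinearMap.lcomp R E π) := fun a b hab => by
    ext x
    obtain ⟨y, rfl⟩ := hπ x
    exact LinearMap.congr_fun hab y
  obtain ⟨Φ', hΦ'⟩ := exists_extend hf.isInjective (LinearMap.lcomp R E π) hinj Φ
  -- the i-th component
  have h1 : ∀ i : Fin n, ∃ r : R, ∀ x : E,
      Φ' (((LinearMap.lsmul R E).flip x) ∘ₗ (LinearMap.proj i)) = r • x := by
    intro i
    obtain ⟨r, hr⟩ := exists_smul_eq_of_complete hf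
      (Φ' ∘ₗ (LinearMap.lcomp R E (LinearMap.proj i : (Fin n → R) →ₗ[R] R)) ∘ₗ
        (LinearMap.lsmul R E).flip)
    exact ⟨r, fun x => hr x⟩
  choose r hr using h1
  refine ⟨π r, ?_⟩
  ext g
  change g (π r) = Φ g
  have h2 : Φ g = Φ' (g ∘ₗ π) := by rw [← hΦ']; rfl
  have h3 : g ∘ₗ π = ∑ i, ((LinearMap.lsmul R E).flip (g (π (Pi.single i 1)))) ∘ₗ
      (LinearMap.proj i) := by
    apply LinearMap.ext
    intro y
    rw [LinearMap.sum_apply]
    conv_lhs => rw [← Finset.univ_sum_single y]
    rw [map_sum]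
    refine Finset.sum_congr rfl fun i _ => ?_
    have h4 : (Pi.single i (y i) : Fin n → R) = y i • Pi.single i 1 := by
      rw [← Pi.single_smul, smul_eq_mul, mul_one]
    rw [h4, map_smul]
    rfl
  rw [h2, h3, map_sum]
  have h5 : r = ∑ i, r i • (Pi.single i 1 : Fin n → R) := by
    conv_lhs => rw [← Finset.univ_sum_single r]
    refine Finset.sum_congr rfl fun i _ => ?_
    rw [← Pi.single_smul, smul_eq_mul, mul_one]
  conv_lhs => rw [h5]
  rw [map_sum, map_sum]
  refine Finset.sum_congr rfl fun i _ => ?_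
  rw [hr i, map_smul, map_smul]

/-- Homomorphisms `E^n → E` over a complete Noetherian local ring. -/
theorem exists_eq_sum_of_complete [IsAdicComplete (maximalIdeal R) R] (hf : IsInjectiveHull f)
    {n : ℕ} (φ : (Fin n → E) →ₗ[R] E) : ∃ r : Fin n → R, φ = ∑ i, r i • (LinearMap.proj i) := by
  have h1 : ∀ i : Fin n, ∃ r : R, ∀ x : E, φ (Pi.single i x) = r • x := fun i =>
    exists_smul_eq_of_complete hf (φ ∘ₗ LinearMap.single R (fun _ => E) i)
  choose r hr using h1
  refine ⟨r, ?_⟩
  apply LinearMap.ext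
  intro y
  conv_lhs => rw [← Finset.univ_sum_single y]
  rw [map_sum, LinearMap.sum_apply]
  exact Finset.sum_congr rfl fun i _ => hr i (y i)

/-- The dual of an Artinian module over a complete Noetherian local ring is finite. -/
theorem finite_dual_of_isArtinian [IsAdicComplete (maximalIdeal R) R] (hf : IsInjectiveHull f)
    (M : Type u) [AddCommGroup M] [Module R M] [IsArtinian R M] :
    Module.Finite R (M →ₗ[R] E) := by
  obtain ⟨n, g, hg⟩ := exists_embedding_of_isArtinian hf M
  let q : (Fin n → R) →ₗ[R] (M →ₗ[R] E) :=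
    (LinearMap.lcomp R E g) ∘ₗ (Fintype.linearCombination R
      (fun i : Fin n => (LinearMap.proj i : (Fin n → E) →ₗ[R] E)))
  apply Module.Finite.of_surjective q
  intro χ
  obtain ⟨χ', hχ'⟩ := exists_extend hf.isInjective g hg χ
  obtain ⟨r, hr⟩ := exists_eq_sum_of_complete hf χ'
  refine ⟨r, ?_⟩
  change (Fintype.linearCombination R
      (fun i : Fin n => (LinearMap.proj i : (Fin n → E) →ₗ[R] E)) r) ∘ₗ g = χ
  rw [← hχ', hr, Fintype.linearCombination_apply]

/-- Matlis biduality for Artinian modules over a complete Noetherian local ring. -/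
theorem applyₗ_bijective_of_isArtinian [IsAdicComplete (maximalIdeal R) R] (hf : IsInjectiveHull f)
    (M : Type u) [AddCommGroup M] [Module R M] [IsArtinian R M] :
    Function.Bijective (LinearMap.applyₗ : M →ₗ[R] (M →ₗ[R] E) →ₗ[R] E) := by
  refine ⟨applyₗ_injective hf M, fun Φ => ?_⟩
  obtain ⟨n, g, hg⟩ := exists_embedding_of_isArtinian hf M
  let y : Fin n → E := fun i => Φ ((LinearMap.proj i) ∘ₗ g)
  have hy : ∀ φ : (Fin n → E) →ₗ[R] E, Φ (φ ∘ₗ g) = φ y := by
    intro φ
    obtain ⟨r, rfl⟩ := exists_eq_sum_of_complete hf φ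
    have h1 : (∑ i, r i • (LinearMap.proj i : (Fin n → E) →ₗ[R] E)) ∘ₗ g =
        ∑ i, r i • ((LinearMap.proj i) ∘ₗ g) := by
      ext x
      simp
    rw [h1, map_sum, LinearMap.sum_apply]
    exact Finset.sum_congr rfl fun i _ => by rw [map_smul]; rfl
  have hrange : y ∈ LinearMap.range g := by
    by_contra h
    have h0 : (LinearMap.range g).mkQ y ≠ 0 := by
      rw [Ne, Submodule.mkQ_apply, Submodule.Quotient.mk_eq_zero]
      exact h
    obtain ⟨ψ, hψ⟩ := exists_apply_ne_zero hf h0
    apply hψ
    have h1 := hy (ψ ∘ₗ (LinearMap.range g).mkQ)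
    have h2 : (ψ ∘ₗ (LinearMap.range g).mkQ) ∘ₗ g = 0 := by
      ext x
      change ψ ((LinearMap.range g).mkQ (g x)) = 0
      rw [Submodule.mkQ_apply,
        (Submodule.Quotient.mk_eq_zero _).mpr (LinearMap.mem_range_self g x), map_zero]
    rw [h2, map_zero] at h1
    exact h1.symm
  obtain ⟨x, hx⟩ := hrange
  refine ⟨x, ?_⟩
  ext χ
  obtain ⟨χ', rfl⟩ := exists_extend hf.isInjective g hg χ
  rw [hy, ← hx]
  rfl

end Complete

end Groth.Agent.Localalg.Matlis
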