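import Mathlib.RingTheory.RegularLocalRing.Defs
import Mathlib.RingTheory.KrullDimension.NonZeroDivisors
import Mathlib.RingTheory.PowerSeries.Ideal
import Mathlib.RingTheory.PowerSeries.Inverse
import Mathlib.RingTheory.MvPowerSeries.Equiv
import Groth.Prelude.Def_Found

/-!
# Power series rings over regular local rings are regular local
-/

set_option autoImplicit false
universe u

open IsLocalRing

namespace Groth.Agent.Localalg.RegPowerSeries

theorem maximalIdeal_powerSeries (R : Type u) [CommRing R] [IsLocalRing R] :
    maximalIdeal (PowerSeries R) =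
      (maximalIdeal R).map (PowerSeries.C (R := R)) ⊔ Ideal.span {PowerSeries.X} := by
  apply le_antisymm
  · intro f hf
    have h1 : PowerSeries.constantCoeff f ∈ maximalIdeal R := by
      rw [mem_maximalIdeal, mem_nonunits_iff] at hf ⊢
      intro h
      exact hf (PowerSeries.isUnit_iff_constantCoeff.2 h)
    obtain ⟨g, hg⟩ : ∃ g, f = PowerSeries.X * g + PowerSeries.C (PowerSeries.constantCoeff f) := by
      exact ⟨_, PowerSeries.eq_X_mul_shift_add_const f⟩
    rw [hg, add_comm]
    exact Submodule.add_mem_sup (Ideal.mem_map_of_mem _ h1)
      (Ideal.mul_mem_right _ _ (Ideal.mem_span_singleton_self _))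
  · refine sup_le ?_ ?_
    · rw [Ideal.map_le_iff_le_comap]
      intro x hx
      rw [Ideal.mem_comap, mem_maximalIdeal, mem_nonunits_iff]
      intro h
      have := PowerSeries.isUnit_iff_constantCoeff.1 h
      rw [PowerSeries.constantCoeff_C] at this
      exact hx this
    · rw [Ideal.span_singleton_le_iff_mem, mem_maximalIdeal, mem_nonunits_iff]
      intro h
      have := PowerSeries.isUnit_iff_constantCoeff.1 h
      simp at this

theorem isRegularLocalRing_powerSeries (R : Type u) [CommRing R] [IsRegularLocalRing R] :
    IsRegularLocalRing (PowerSeries R) := by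
  refine IsRegularLocalRing.of_spanFinrank_maximalIdeal_le _ ?_
  have h1 : (maximalIdeal (PowerSeries R)).spanFinrank ≤ (maximalIdeal R).spanFinrank + 1 := by
    have hfg : (maximalIdeal R).FG := IsNoetherian.noetherian _
    have h2 : maximalIdeal (PowerSeries R) = Ideal.span
        (PowerSeries.C (R := R) '' (maximalIdeal R).generators ∪ {PowerSeries.X}) := by
      rw [maximalIdeal_powerSeries, Ideal.span_union, ← Ideal.map_span]
      congr 2
      exact (Submodule.span_generators (maximalIdeal R)).symm
    have hfin : (PowerSeries.C (R := R) '' (maximalIdeal R).generators ∪ {PowerSeries.X}).Finite :=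
      ((Submodule.FG.finite_generators hfg).image _).union (Set.finite_singleton _)
    rw [h2]
    refine (Submodule.spanFinrank_span_le_ncard_of_finite hfin).trans ?_
    refine (Set.ncard_union_le _ _).trans ?_
    rw [Set.ncard_singleton, ← Submodule.FG.generators_ncard hfg]
    gcongr
    exact Set.ncard_image_le (Submodule.FG.finite_generators hfg)
  refine le_trans ?_ (ringKrullDim_succ_le_ringKrullDim_powerseries (R := R))
  rw [← IsRegularLocalRing.spanFinrank_maximalIdeal (R := R)]
  exact_mod_cast h1

theorem isRegularLocalRing_mvPowerSeries (R : Type u) [CommRing R] [IsRegularLocalRing R] (n : ℕ) :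
    IsRegularLocalRing (MvPowerSeries (Fin n) R) := by
  induction n with
  | zero =>
    exact IsRegularLocalRing.of_ringEquiv (MvPowerSeries.isEmptyEquiv (Fin 0) R).toRingEquiv.symm
  | succ n ih =>
    have := isRegularLocalRing_powerSeries (MvPowerSeries (Fin n) R)
    exact IsRegularLocalRing.of_ringEquiv (MvPowerSeries.finSuccEquiv R n).toRingEquiv.symm

theorem isRegularLocalRing_of_isField_or_isCohenRing {Λ : Type u} [CommRing Λ]
    (h : IsField Λ ∨ CAlg.IsCohenRing Λ) : IsRegularLocalRing Λ := by
  rcases h with h | h
  · let _ := h.toField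
    infer_instance
  · obtain ⟨h1, h2, -⟩ := h
    infer_instance

end Groth.Agent.Localalg.RegPowerSeries
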