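import Groth.Agent.Localalg.GrpSchPts
import Groth.Agent.VarietyA.GeomIrrS
import Mathlib.AlgebraicGeometry.IdealSheaf.Subscheme
import Mathlib.RingTheory.Ideal.MinimalPrime.Basic

/-! Unique irreducible component through every point of a group scheme over a field. -/

set_option autoImplicit false
universe u v
open CategoryTheory MonoidalCategory CartesianMonoidalCategory MonObj GrpObj AlgebraicGeometry

namespace Groth.Agent.Localalg.GrpSchComp

open GrpSchShear GrpSchPts

/-- A closed subset is the range of a closed immersion. -/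
lemma exists_isClosedImmersion (X : Scheme.{u}) (Z : Set X) (hZ : IsClosed Z) :
    ∃ (Z' : Scheme.{u}) (i : Z' ⟶ X), IsClosedImmersion i ∧ Set.range i = Z := by
  let I := Scheme.IdealSheafData.vanishingIdeal (X := X) ⟨Z, hZ⟩
  refine ⟨I.subscheme, I.subschemeι, inferInstance, ?_⟩
  rw [Scheme.IdealSheafData.range_subschemeι]
  simp [I]

lemma irreducibleSpace_of_isClosedImmersion {Z' X : Scheme.{u}} (i : Z' ⟶ X) [IsClosedImmersion i]
    (h : IsIrreducible (Set.range i)) : IrreducibleSpace Z' := by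
  obtain ⟨_, x, rfl⟩ := h.1
  have : PreirreducibleSpace Z' := by
    refine ⟨?_⟩
    rintro U V hU hV ⟨x, -, hx⟩ ⟨y, -, hy⟩
    obtain ⟨U', hU', rfl⟩ := i.isClosedEmbedding.isInducing.isOpen_iff.mp hU
    obtain ⟨V', hV', rfl⟩ := i.isClosedEmbedding.isInducing.isOpen_iff.mp hV
    obtain ⟨_, ⟨z, rfl⟩, hz⟩ := h.2 U' V' hU' hV' ⟨i x, ⟨x, rfl⟩, hx⟩ ⟨i y, ⟨y, rfl⟩, hy⟩
    exact ⟨z, trivial, hz⟩
  exact ⟨⟨x⟩⟩

/-- An irreducible scheme over an algebraically closed field is geometrically irreducible. -/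
theorem geometricallyIrreducible_of_irreducibleSpace {k : Type u} [Field k] [IsAlgClosed k]
    {X : Scheme.{u}} (f : X ⟶ Spec (CommRingCat.of k)) [IrreducibleSpace X] :
    GeometricallyIrreducible f := by
  constructor
  rw [geometrically_iff_of_commRing_of_isClosedUnderIsomorphisms]
  intro L _ _
  have := VarietyA.GeomIrr.geometricallyIrreducible_of_isSepClosed k L
  exact inferInstanceAs (IrreducibleSpace
    ↥(Limits.pullback f (Spec.map (CommRingCat.ofHom (algebraMap k L)))))

section

variable {K : Type u} [Field K]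

/-- Over an algebraically closed field, the product of two irreducible closed subsets has a
generic point. -/
lemma exists_generic_of_isAlgClosed [IsAlgClosed K] (X Y : Over (Spec (CommRingCat.of K)))
    (Z₁ : Set X.left) (Z₂ : Set Y.left) (h1 : IsIrreducible Z₁) (h1' : IsClosed Z₁)
    (h2 : IsIrreducible Z₂) (h2' : IsClosed Z₂) :
    ∃ ξ : (X ⊗ Y).left, ∀ w, (fst X Y).left w ∈ Z₁ → (snd X Y).left w ∈ Z₂ → ξ ⤳ w := by
  obtain ⟨Z₁', i₁, hi₁, rfl⟩ := exists_isClosedImmersion X.left Z₁ h1'
  obtain ⟨Z₂', i₂, hi₂, rfl⟩ := exists_isClosedImmersion Y.left Z₂ h2'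
  have hZ1 := irreducibleSpace_of_isClosedImmersion i₁ h1
  have hZ2 := irreducibleSpace_of_isClosedImmersion i₂ h2
  have h3 := geometricallyIrreducible_of_irreducibleSpace (i₁ ≫ X.hom)
  have h4 : IrreducibleSpace ↥(Limits.pullback (i₁ ≫ X.hom) (i₂ ≫ Y.hom)) := inferInstance
  let φ : Limits.pullback (i₁ ≫ X.hom) (i₂ ≫ Y.hom) ⟶ (X ⊗ Y).left :=
    Limits.pullback.map _ _ X.hom Y.hom i₁ i₂ (𝟙 _) (by simp) (by simp)
  refine ⟨φ (genericPoint _), fun w hw1 hw2 => ?_⟩
  have hr : w ∈ Set.range φ := by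
    rw [Scheme.Pullback.range_map]
    exact ⟨hw1, hw2⟩
  obtain ⟨v, rfl⟩ := hr
  exact (genericPoint_specializes v).map φ.continuous

/-- `Q(x)`: any two generizations of `x` have a common generization. -/
def UniqueGen {X : Type u} [TopologicalSpace X] (x : X) : Prop :=
  ∀ y₁ y₂ : X, y₁ ⤳ x → y₂ ⤳ x → ∃ z, z ⤳ y₁ ∧ z ⤳ y₂

lemma uniqueGen_one_of_isAlgClosed [IsAlgClosed K] (G : Over (Spec (CommRingCat.of K))) [GrpObj G]
    (s : Spec (CommRingCat.of K)) : UniqueGen (η[G].left s) := by
  intro y₁ y₂ h1 h2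
  obtain ⟨ξ, hξ⟩ := exists_generic_of_isAlgClosed G G (closure {y₁}) (closure {y₂})
    isIrreducible_singleton.closure isClosed_closure isIrreducible_singleton.closure
    isClosed_closure
  refine ⟨μ[G].left ξ, ?_, ?_⟩
  · let φ : G ⟶ G ⊗ G := lift (𝟙 G) (toUnit G ≫ η[G])
    have h3 : μ[G].left (φ.left y₁) = y₁ := by
      rw [← comp_left_apply]
      have : φ ≫ μ[G] = 𝟙 G := by simp [φ]
      rw [this]; simp
    rw [← h3]
    refine (hξ _ ?_ ?_).map μ[G].left.continuous
    · rw [← comp_left_apply]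
      have : φ ≫ fst G G = 𝟙 G := by simp [φ]
      rw [this]
      exact subset_closure (by simp)
    · rw [← comp_left_apply]
      have : φ ≫ snd G G = toUnit G ≫ η[G] := by simp [φ]
      rw [this, comp_left_apply, Subsingleton.elim (α := Spec (CommRingCat.of K)) ((toUnit G).left y₁) s]
      exact h2.mem_closure
  · let φ : G ⟶ G ⊗ G := lift (toUnit G ≫ η[G]) (𝟙 G)
    have h3 : μ[G].left (φ.left y₂) = y₂ := by
      rw [← comp_left_apply]
      have : φ ≫ μ[G] = 𝟙 G := by simp [φ]
      rw [this]; simp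
    rw [← h3]
    refine (hξ _ ?_ ?_).map μ[G].left.continuous
    · rw [← comp_left_apply]
      have : φ ≫ fst G G = toUnit G ≫ η[G] := by simp [φ]
      rw [this, comp_left_apply, Subsingleton.elim (α := Spec (CommRingCat.of K)) ((toUnit G).left y₂) s]
      exact h1.mem_closure
    · rw [← comp_left_apply]
      have : φ ≫ snd G G = 𝟙 G := by simp [φ]
      rw [this]
      exact subset_closure (by simp)

/-- Translation by a rational point. -/
lemma uniqueGen_of_isIso {G : Over (Spec (CommRingCat.of K))} (e : G ≅ G) (x : G.left)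
    (hx : UniqueGen x) : UniqueGen (e.hom.left x) := by
  intro y₁ y₂ h1 h2
  have h3 : ∀ y, e.inv.left (e.hom.left y) = y := fun y => by
    rw [← comp_left_apply, Iso.hom_inv_id]; simp
  have h3' : ∀ y, e.hom.left (e.inv.left y) = y := fun y => by
    rw [← comp_left_apply, Iso.inv_hom_id]; simp
  obtain ⟨z, hz1, hz2⟩ := hx (e.inv.left y₁) (e.inv.left y₂)
    (by have := h1.map e.inv.left.continuous; rwa [h3] at this)
    (by have := h2.map e.inv.left.continuous; rwa [h3] at this)
  refine ⟨e.hom.left z, ?_, ?_⟩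
  · have := hz1.map e.hom.left.continuous; rwa [h3'] at this
  · have := hz2.map e.hom.left.continuous; rwa [h3'] at this

lemma uniqueGen_rational_of_isAlgClosed [IsAlgClosed K] (G : Over (Spec (CommRingCat.of K)))
    [GrpObj G] (g : 𝟙_ _ ⟶ G) (s : Spec (CommRingCat.of K)) : UniqueGen (g.left s) := by
  have h := uniqueGen_of_isIso (GrpObj.mulRight g) _ (uniqueGen_one_of_isAlgClosed G s)
  have h2 : η[G] ≫ (GrpObj.mulRight g).hom = g := by
    have h3 : η[G] ≫ (GrpObj.mulRight g).hom = η[G] * g := by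
      simp [comp_lift_assoc, Hom.mul_def]
    rw [h3, one_eq_one, _root_.one_mul]
  rwa [← comp_left_apply, h2] at h

/-- Any two generizations of any point of a group scheme over a field have a common
generization. -/
lemma uniqueGen (G : Over (Spec (CommRingCat.of K))) [GrpObj G] (x : G.left) : UniqueGen x := by
  let Ω : Type u := AlgebraicClosure (G.left.residueField x)
  let j : Spec (CommRingCat.of Ω) ⟶ G.left :=
    Spec.map (CommRingCat.ofHom (algebraMap (G.left.residueField x) Ω)) ≫
      G.left.fromSpecResidueField x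
  let f : Spec (CommRingCat.of Ω) ⟶ Spec (CommRingCat.of K) := j ≫ G.hom
  let G' : Over (Spec (CommRingCat.of Ω)) := (Over.pullback f).obj G
  let : GrpObj G' := Functor.grpObjObj
  let π : G'.left ⟶ G.left := Limits.pullback.fst G.hom f
  have hπ : Flat π := inferInstanceAs (Flat (Limits.pullback.fst G.hom f))
  let g : 𝟙_ (Over (Spec (CommRingCat.of Ω))) ⟶ G' :=
    Over.homMk (Limits.pullback.lift j (𝟙 _) (by simp [f])) (by
      exact Limits.pullback.lift_snd _ _ _)
  have hg : g.left ≫ π = j := Limits.pullback.lift_fst _ _ _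
  let s : Spec (CommRingCat.of Ω) := IsLocalRing.closedPoint Ω
  have hx : π (g.left s) = x := by
    have h1 : π (g.left s) = (g.left ≫ π) s := (Scheme.Hom.comp_apply _ _ _).symm
    have h2 : j s = G.left.fromSpecResidueField x
      (Spec.map (CommRingCat.ofHom (algebraMap (G.left.residueField x) Ω)) s) :=
      Scheme.Hom.comp_apply _ _ _
    rw [h1, hg, h2]
    exact Scheme.fromSpecResidueField_apply x _
  intro y₁ y₂ h1 h2
  rw [← hx] at h1 h2
  obtain ⟨y₁', h1', rfl⟩ := Flat.generalizingMap π h1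
  obtain ⟨y₂', h2', rfl⟩ := Flat.generalizingMap π h2
  obtain ⟨z, hz1, hz2⟩ := uniqueGen_rational_of_isAlgClosed G' g s y₁' y₂' h1' h2'
  exact ⟨π z, hz1.map π.continuous, hz2.map π.continuous⟩

end

lemma UniqueGen.subsingleton_minimalPrimes {X : Scheme.{u}} {x : X} (hx : UniqueGen x) :
    (minimalPrimes (X.presheaf.stalk x)).Subsingleton := by
  intro p hp q hq
  have hp' := hp.1.1
  have hq' := hq.1.1
  let P : Spec (X.presheaf.stalk x) := ⟨p, hp'⟩
  let Q : Spec (X.presheaf.stalk x) := ⟨q, hq'⟩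
  have hr : ∀ y : Spec (X.presheaf.stalk x), X.fromSpecStalk x y ⤳ x := by
    intro y
    have : X.fromSpecStalk x y ∈ Set.range (X.fromSpecStalk x) := ⟨y, rfl⟩
    rwa [Scheme.range_fromSpecStalk] at this
  obtain ⟨z, hz1, hz2⟩ := hx _ _ (hr P) (hr Q)
  have hz : z ∈ Set.range (X.fromSpecStalk x) := by
    rw [Scheme.range_fromSpecStalk]; exact hz1.trans (hr P)
  obtain ⟨w, rfl⟩ := hz
  have h1 : w ⤳ P := (X.fromSpecStalk x).isEmbedding.isInducing.specializes_iff.mp hz1
  have h2 : w ⤳ Q := (X.fromSpecStalk x).isEmbedding.isInducing.specializes_iff.mp hz2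
  replace h1 : w.asIdeal ≤ p := (PrimeSpectrum.le_iff_specializes w P).mpr h1
  replace h2 : w.asIdeal ≤ q := (PrimeSpectrum.le_iff_specializes w Q).mpr h2
  have h3 : p ≤ w.asIdeal := hp.2 ⟨w.isPrime, bot_le⟩ h1
  have h4 : q ≤ w.asIdeal := hq.2 ⟨w.isPrime, bot_le⟩ h2
  exact (le_antisymm h3 h1).trans (le_antisymm h4 h2).symm

lemma UniqueGen.eq_of_mem {X : Type u} [TopologicalSpace X] [QuasiSober X] {x : X}
    (hx : UniqueGen x) {Z Z' : Set X} (hZ : Z ∈ irreducibleComponents X)
    (hZ' : Z' ∈ irreducibleComponents X) (hxZ : x ∈ Z) (hxZ' : x ∈ Z') : Z = Z' := by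
  have h1 := hZ.1.isGenericPoint_genericPoint (isClosed_of_mem_irreducibleComponents Z hZ)
  have h2 := hZ'.1.isGenericPoint_genericPoint (isClosed_of_mem_irreducibleComponents Z' hZ')
  obtain ⟨z, hz1, hz2⟩ := hx _ _ (h1.specializes hxZ) (h2.specializes hxZ')
  have h3 : Z ⊆ closure {z} := by
    rw [← h1.def]
    exact closure_minimal (by simpa using hz1.mem_closure) isClosed_closure
  have h4 : Z' ⊆ closure {z} := by
    rw [← h2.def]
    exact closure_minimal (by simpa using hz2.mem_closure) isClosed_closure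
  have h5 := hZ.2 isIrreducible_singleton.closure h3
  have h6 := hZ'.2 isIrreducible_singleton.closure h4
  exact (h3.antisymm h5).trans (h4.antisymm h6).symm

lemma UniqueGen.existsUnique {X : Type u} [TopologicalSpace X] [QuasiSober X] {x : X}
    (hx : UniqueGen x) : ∃! Z : Set X, Z ∈ irreducibleComponents X ∧ x ∈ Z :=
  ⟨irreducibleComponent x, ⟨irreducibleComponent_mem_irreducibleComponents x,
    mem_irreducibleComponent⟩, fun _ h => hx.eq_of_mem h.1
      (irreducibleComponent_mem_irreducibleComponents x) h.2 mem_irreducibleComponent⟩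

end Groth.Agent.Localalg.GrpSchComp
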