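import Groth.Prelude.Def_CAlg
import Groth.Agent.Localalg.ReesLemma
import Groth.Agent.Localalg.GorDepth
import Groth.Agent.S0343
import Mathlib.RingTheory.KrullDimension.Regular

/-!
# `Ext^i(κ, A)` for a Gorenstein local ring

`Ext^i_A(κ, A) = 0` for `i ≠ dim A` and `Ext^d_A(κ, A) ≃ κ` for `d = dim A`.
-/

set_option autoImplicit false
universe u

open CategoryTheory Abelian Limits
open scoped Pointwise

namespace Groth.Agent.Localalg.GorExt

section Rees

variable {A B : Type u} [CommRing A] [CommRing B] {φ : A →+* B}

lemma mapExactFunctor_smul {N N' : ModuleCat.{u} B} (i : ℕ) (a : A) (x : Ext N N' i) :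
    (φ a • x).mapExactFunctor (ModuleCat.restrictScalars φ) =
      a • x.mapExactFunctor (ModuleCat.restrictScalars φ) := by
  have h : (ModuleCat.restrictScalars φ).map (φ a • 𝟙 N') =
      a • 𝟙 ((ModuleCat.restrictScalars φ).obj N') := rfl
  rw [Ext.smul_eq_comp_mk₀, Ext.mapExactFunctor_comp, Ext.mapExactFunctor_mk₀, h,
    ← Ext.smul_eq_comp_mk₀]

lemma comparison_smul {S : ShortComplex (ModuleCat.{u} A)} (hS : S.ShortExact)
    {Q : ModuleCat.{u} B} (e : (ModuleCat.restrictScalars φ).obj Q ⟶ S.X₃) (N : ModuleCat.{u} B)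
    (i : ℕ) (a : A) (x : Ext N Q i) :
    ReesLemma.comparison hS e N i (φ a • x) = a • ReesLemma.comparison hS e N i x := by
  rw [ReesLemma.comparison, mapExactFunctor_smul, Ext.smul_comp, Ext.smul_comp]
  rfl

end Rees

variable {A : Type u} [CommRing A]

/-- `Hom(κ, A) ≃ κ` for `A` self-injective of depth zero. -/
theorem nonempty_homEquiv [IsLocalRing A] [IsNoetherianRing A]
    (hinj : Module.Injective A A)
    (h : ∀ x ∈ IsLocalRing.maximalIdeal A, ¬ IsSMulRegular A x) :
    Nonempty (IsLocalRing.ResidueField A ≃ₗ[A] (IsLocalRing.ResidueField A →ₗ[A] A)) := by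
  obtain ⟨g, hg⟩ := GorDepth.exists_injective_residueField A h
  let K := IsLocalRing.ResidueField A
  let g' : K →ₗ[A] A := g
  have hg' : Function.Injective g' := hg
  let F : A →ₗ[A] (K →ₗ[A] A) := LinearMap.toSpanSingleton A _ g'
  have hF : ∀ (a : A) (x : K), F a x = a • g' x := fun a x ↦ rfl
  have hker : LinearMap.ker F = IsLocalRing.maximalIdeal A := by
    ext a
    rw [LinearMap.mem_ker]
    constructor
    · intro h0
      by_contra hmem
      have hu : IsUnit a := by
        by_contra hu
        exact hmem ((IsLocalRing.mem_maximalIdeal a).2 hu)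
      have h1 : a • g' 1 = 0 := by rw [← hF, h0]; rfl
      have h2 : g' 1 = 0 := by
        obtain ⟨u, rfl⟩ := hu
        have := congr_arg (fun y : A ↦ (↑u⁻¹ : A) • y) h1
        simpa [smul_smul] using this
      have h3 : (1 : K) = 0 := hg' (by rw [h2, map_zero])
      exact one_ne_zero h3
    · intro ha
      ext x
      rw [hF, ← map_smul]
      have : a • x = 0 := by
        rw [Algebra.smul_def]
        have : algebraMap A K a = 0 := (IsLocalRing.residue_eq_zero_iff a).2 ha
        rw [this, zero_mul]
      rw [this, map_zero]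
      rfl
  have hsurj : Function.Surjective F := by
    intro t
    obtain ⟨e, he⟩ := Module.Injective.out (R := A) (Q := A) g' hg' t
    refine ⟨e 1, ?_⟩
    refine LinearMap.ext fun x ↦ ?_
    rw [hF, ← he x, smul_eq_mul, mul_comm, ← smul_eq_mul, ← map_smul, smul_eq_mul, mul_one]
  exact ⟨(Submodule.quotEquivOfEq _ _ hker.symm).trans (F.quotKerEquivOfSurjective hsurj)⟩

/-- `Ext_A^i(κ, A)` for a Gorenstein local ring `A` of dimension `d`. -/
theorem ext_residueField (d : ℕ) : ∀ (A : Type u) [CommRing A] [LocCoh.IsGorensteinLocalRing A]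
    (_ : ringKrullDim A = d),
    (∀ i : ℕ, i ≠ d →
      Subsingleton (Ext (ModuleCat.of A (IsLocalRing.ResidueField A)) (ModuleCat.of A A) i)) ∧
    Nonempty (IsLocalRing.ResidueField A ≃ₗ[A]
      Ext (ModuleCat.of A (IsLocalRing.ResidueField A)) (ModuleCat.of A A) d) := by
  induction d with
  | zero =>
    intro A _ _ hd
    have hreg : ∀ x ∈ IsLocalRing.maximalIdeal A, ¬ IsSMulRegular A x := by
      intro x hx hreg
      have h1 := ringKrullDim_quotient_span_singleton_succ_eq_ringKrullDim hreg hx
      rw [hd] at h1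
      have : Nontrivial (A ⧸ Ideal.span {x}) := Ideal.Quotient.nontrivial_iff.2 (by
        rw [Ne, Ideal.span_singleton_eq_top]
        exact (IsLocalRing.mem_maximalIdeal x).1 hx)
      have h2 : 0 ≤ ringKrullDim (A ⧸ Ideal.span {x}) := ringKrullDim_nonneg_of_nontrivial
      have h3 : (1 : WithBot ℕ∞) ≤ 0 := by
        calc (1 : WithBot ℕ∞) = 0 + 1 := (zero_add 1).symm
          _ ≤ ringKrullDim (A ⧸ Ideal.span {x}) + 1 := by gcongr
          _ = 0 := by rw [h1]; rfl
      exact absurd h3 (by decide)
    obtain ⟨n, hn⟩ := LocCoh.IsGorensteinLocalRing.exists_hasInjectiveDimensionLT (A := A)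
    have h1 := GorDepth.hasInjectiveDimensionLT_one (ModuleCat.of A A) n hn hreg
    refine ⟨fun i hi ↦ HasInjectiveDimensionLT.subsingleton _ 1 _ (by omega) _, ?_⟩
    have hinj : Injective (ModuleCat.of A A) :=
      injective_iff_hasInjectiveDimensionLT_one.2 h1
    have hinj' : Module.Injective A A := Module.injective_module_of_injective_object A A
    obtain ⟨e⟩ := nonempty_homEquiv hinj' hreg
    let e' : (IsLocalRing.ResidueField A →ₗ[A] A) ≃ₗ[A]
        (ModuleCat.of A (IsLocalRing.ResidueField A) ⟶ ModuleCat.of A A) :=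
      { toFun := fun f ↦ ModuleCat.ofHom f
        map_add' := fun _ _ ↦ rfl
        map_smul' := fun _ _ ↦ rfl
        invFun := fun f ↦ f.hom
        left_inv := fun _ ↦ rfl
        right_inv := fun _ ↦ rfl }
    exact ⟨(e.trans e').trans (Ext.linearEquiv₀ (R := A)).symm⟩
  | succ d ih =>
    intro A _ _ hd
    have hdim : ¬ Ring.KrullDimLE 0 A := by
      intro h
      have := Ring.krullDimLE_iff.1 h
      rw [hd] at this
      norm_cast at this
    obtain ⟨x, hx, hreg⟩ := GorDepth.exists_isSMulRegular hdim
    have hgor := (Groth.Agent.S0343.result A x hx hreg).1 inferInstance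
    have hd' : ringKrullDim (A ⧸ Ideal.span {x}) = d := by
      have h1 := ringKrullDim_quotient_span_singleton_succ_eq_ringKrullDim hreg hx
      rw [hd] at h1
      have h2 : ringKrullDim (A ⧸ Ideal.span {x}) + 1 = (d : WithBot ℕ∞) + 1 := by
        rw [h1]; norm_cast
      exact (ENat.WithBot.add_natCast_cancel (c := 1)).1 (by exact_mod_cast h2)
    obtain ⟨h1, ⟨e⟩⟩ := ih (A ⧸ Ideal.span {x}) hd'
    let φ := Ideal.Quotient.mk (Ideal.span {x})
    have hφ : Function.Surjective φ := Ideal.Quotient.mk_surjective
    have hker : RingHom.ker φ = Ideal.span {x} := Ideal.mk_ker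
    constructor
    · intro i hi
      obtain _ | i := i
      · have h2 : Subsingleton (IsLocalRing.ResidueField A →ₗ[A] A) := by
          rw [IsSMulRegular.subsingleton_linearMap_iff]
          refine ⟨x, ?_, hreg⟩
          rw [Module.mem_annihilator]
          intro y
          rw [Algebra.smul_def]
          have : algebraMap A (IsLocalRing.ResidueField A) x = 0 :=
            (IsLocalRing.residue_eq_zero_iff x).2 hx
          rw [this, zero_mul]
        have h3 : Subsingleton
            (ModuleCat.of A (IsLocalRing.ResidueField A) ⟶ ModuleCat.of A A) :=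
          (ModuleCat.homEquiv (M := ModuleCat.of A (IsLocalRing.ResidueField A))
            (N := ModuleCat.of A A)).subsingleton
        exact Ext.homEquiv₀.subsingleton_congr.mpr h3
      · exact (ReesLemma.subsingleton_ext_residueField_quotient_iff x hreg i).1
          (h1 i (by omega))
    · let kB := ModuleCat.of (A ⧸ Ideal.span {x})
        (IsLocalRing.ResidueField (A ⧸ Ideal.span {x}))
      let iso := ReesLemma.residueFieldIso (φ := φ) hφ
      have hcb := ReesLemma.comparison_bijective hφ hker hreg (ModuleCat.of A A) hreg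
        (ReesLemma.quotientIso x) d kB
      let F : IsLocalRing.ResidueField A →ₗ[A]
          Ext (ModuleCat.of A (IsLocalRing.ResidueField A)) (ModuleCat.of A A) (d + 1) :=
        { toFun := fun y ↦ (Ext.mk₀ iso.hom).comp
            (ReesLemma.comparison (IsSMulRegular.smulShortComplex_shortExact
              (M := ModuleCat.of A A) hreg) (ReesLemma.quotientIso x).hom kB d
              (e (iso.hom.hom y))) (zero_add _)
          map_add' := fun y z ↦ by
            rw [map_add]
            erw [map_add]
            rw [ReesLemma.comparison_add, Ext.comp_add]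
            rfl
          map_smul' := fun a y ↦ by
            rw [map_smul]
            erw [e.map_smul (φ a)]
            erw [comparison_smul]
            rw [Ext.comp_smul]
            rfl }
      refine ⟨LinearEquiv.ofBijective F ?_⟩
      have hiso : Function.Bijective iso.hom.hom := iso.toLinearEquiv.bijective
      have hpre : Function.Bijective (fun z : Ext ((ModuleCat.restrictScalars φ).obj kB)
          (ModuleCat.of A A) (d + 1) ↦ (Ext.mk₀ iso.hom).comp z (zero_add _)) := by
        refine Function.bijective_iff_has_inverse.2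
          ⟨fun z ↦ (Ext.mk₀ iso.inv).comp z (zero_add _), fun z ↦ ?_, fun z ↦ ?_⟩
        · change (Ext.mk₀ iso.inv).comp ((Ext.mk₀ iso.hom).comp z _) _ = z
          rw [Ext.mk₀_comp_mk₀_assoc, iso.inv_hom_id, Ext.mk₀_id_comp]
        · change (Ext.mk₀ iso.hom).comp ((Ext.mk₀ iso.inv).comp z _) _ = z
          rw [Ext.mk₀_comp_mk₀_assoc, iso.hom_inv_id, Ext.mk₀_id_comp]
      exact hpre.comp (hcb.comp (e.bijective.comp hiso))

end Groth.Agent.Localalg.GorExt
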