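import Groth.Agent.Localalg.FaltAbs
import Groth.Agent.Localalg.LCAbs

/-!
# Faltings' finiteness lemma for a realisation `LC I` of the derived functors of `Γ_I`
-/

set_option autoImplicit false
universe u

open CategoryTheory Limits
open Groth.Agent.Localalg.DeltaFun Groth.Agent.Localalg.Gam Groth.Agent.Localalg.LCAbs
open Groth.Agent.Localalg.FaltAbs

namespace Groth.Agent.Localalg.FaltLC

variable {R : Type u} [CommRing R] {I : Ideal R}

lemma smul_id_zero (T : LC I) (M : ModuleCat.{u} R) (a : R) :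
    (T.D.T 0).map (a • 𝟙 M) = a • 𝟙 ((T.D.T 0).obj M) := by
  rw [zero_f_map_iso, show (gamFunctor I).map (a • 𝟙 M) = a • 𝟙 ((gamFunctor I).obj M) from rfl,
    Linear.smul_comp, Category.id_comp, Linear.comp_smul, Iso.hom_inv_id_app]

lemma smul_id (T : LC I) (a : R) (i : ℕ) : ∀ (M : ModuleCat.{u} R),
    (T.D.T i).map (a • 𝟙 M) = a • 𝟙 ((T.D.T i).obj M) := by
  induction i with
  | zero => exact fun M ↦ smul_id_zero T M a
  | succ i ih =>
    intro M
    have hS := injSES_shortExact M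
    have hepi : Epi (T.D.δ hS i) := epi_δ T.D hS i (T.eff _ i)
    let φ : injSES M ⟶ injSES M :=
      { τ₁ := a • 𝟙 (injSES M).X₁
        τ₂ := a • 𝟙 (injSES M).X₂
        τ₃ := a • 𝟙 (injSES M).X₃
        comm₁₂ := by rw [Linear.smul_comp, Linear.comp_smul, Category.id_comp, Category.comp_id]
        comm₂₃ := by rw [Linear.smul_comp, Linear.comp_smul, Category.id_comp, Category.comp_id] }
    have h1 := T.D.naturality hS hS φ i
    have h2 : φ.τ₃ = a • 𝟙 (injSES M).X₃ := rfl
    have h3 : φ.τ₁ = a • 𝟙 (injSES M).X₁ := rfl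
    rw [h2, h3, ih, Linear.smul_comp, Category.id_comp] at h1
    rw [← cancel_epi (T.D.δ hS i)]
    change _ ≫ (T.D.T (i + 1)).map (a • 𝟙 (injSES M).X₁) = _
    rw [← h1, Linear.comp_smul]
    exact (congr_arg (a • ·) (Category.comp_id _)).symm

lemma gammaT_eq_gam [IsNoetherianRing R] (M : Type u) [AddCommGroup M] [Module R M] :
    gammaT (PrimeSpectrum.zeroLocus (I : Set R)) M = gam I M := by
  ext x
  rw [mem_gam]
  constructor
  · intro hx
    have := TTors.exists_pow (gammaT_ttors (PrimeSpectrum.zeroLocus (I : Set R)) M) ⟨x, hx⟩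
    obtain ⟨n, hn⟩ := this
    exact ⟨n, fun a ha ↦ congr_arg Subtype.val (hn a ha)⟩
  · rintro ⟨n, hn⟩ p hp
    exact p.isPrime.le_of_pow_le (n := n) (fun a ha => hp (hn a ha))

theorem lcax [IsNoetherianRing R] (T : LC I) :
    LCAx (PrimeSpectrum.zeroLocus (I : Set R)) T.D.T where
  exact₂ := fun S hS i ↦
    (ShortComplex.ShortExact.moduleCat_exact_iff_function_exact _).1 (T.D.exact₂ hS i)
  conn := fun S hS i ↦ ⟨(T.D.δ hS i).hom,
    (ShortComplex.ShortExact.moduleCat_exact_iff_function_exact _).1 (T.D.exact₃ hS i),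
    (ShortComplex.ShortExact.moduleCat_exact_iff_function_exact _).1 (T.D.exact₁ hS i)⟩
  map_smul' := fun i M a x ↦ by
    rw [smul_id]
    rfl
  h0 := fun M ↦ ⟨(T.zero.app M).toLinearEquiv.trans (LinearEquiv.ofEq _ _ (gammaT_eq_gam M).symm)⟩
  vanish := fun M hM p hp ↦ by
    obtain ⟨p, rfl⟩ := Nat.exists_eq_add_of_le' hp
    exact ModuleCat.subsingleton_of_isZero (T.acyc_of_torsion p M fun x ↦ hM.exists_pow x)

theorem ttors [IsNoetherianRing R] (T : LC I) (i : ℕ) : ∀ (M : ModuleCat.{u} R),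
    TTors (PrimeSpectrum.zeroLocus (I : Set R)) ((T.D.T i).obj M) := by
  induction i with
  | zero =>
    intro M
    refine ttors_of_pow fun x ↦ ?_
    obtain ⟨n, hn⟩ := ((T.zero.app M).toLinearEquiv x).2
    refine ⟨n, fun a ha ↦ ?_⟩
    apply (T.zero.app M).toLinearEquiv.injective
    rw [map_smul, map_zero]
    exact Subtype.ext (hn a ha)
  | succ i ih =>
    intro M
    have hS := injSES_shortExact M
    have hepi : Epi (T.D.δ hS i) := epi_δ T.D hS i (T.eff _ i)
    refine ttors_of_pow fun x ↦ ?_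
    obtain ⟨y, rfl⟩ := (ModuleCat.epi_iff_surjective _).1 hepi x
    obtain ⟨n, hn⟩ := (ih _).exists_pow y
    refine ⟨n, fun a ha ↦ ?_⟩
    have := hn a ha
    change a • (T.D.δ hS i).hom y = 0
    rw [← map_smul, this, map_zero]

/-- Faltings' finiteness lemma, Stacks 0AW8. -/
theorem finite_iff_annihilated [IsNoetherianRing R] (T : LC I) (M : ModuleCat.{u} R)
    [Module.Finite R M] (n : ℕ) :
    (∀ i : ℕ, i ≤ n → Module.Finite R ((T.D.T i).obj M)) ↔
    ∃ J : Ideal R, I ≤ J.radical ∧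
      ∀ i : ℕ, i ≤ n → ∀ a ∈ J, ∀ x : (T.D.T i).obj M, a • x = 0 := by
  rw [(lcax T).finite_iff_annihilated (fun M i ↦ ttors T i M)]
  simp only [PrimeSpectrum.zeroLocus_subset_zeroLocus_iff]

/-- Faltings' local-global principle, Stacks 0AW9. -/
theorem finite_iff_locally [IsNoetherianRing R] (T : LC I) (M : ModuleCat.{u} R)
    [Module.Finite R M] (n : ℕ) :
    (∀ i : ℕ, i ≤ n → Module.Finite R ((T.D.T i).obj M)) ↔
    ∀ (p : Ideal R) [p.IsPrime], ∀ i : ℕ, i ≤ n →
      Module.Finite (Localization.AtPrime p)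
        (LocalizedModule p.primeCompl ((T.D.T i).obj M)) :=
  (lcax T).finite_iff_locally (fun M i ↦ ttors T i M) n M

/-- Stacks 0BPY. -/
theorem finite_of_locally_projective [IsNoetherianRing R] (T : LC I) (n : ℕ)
    (hR : ∀ i : ℕ, i ≤ n → Module.Finite R ((T.D.T i).obj (ModuleCat.of R R)))
    (M : ModuleCat.{u} R) [Module.Finite R M]
    (hM : ∀ f ∈ I, Module.Projective (Localization.Away f)
      (LocalizedModule (Submonoid.powers f) M)) (i : ℕ) (hi : i ≤ n) :
    Module.Finite R ((T.D.T i).obj M) :=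
  (lcax T).finite_of_locally_projective (fun M i ↦ ttors T i M) n hR M I le_rfl hM i hi

end Groth.Agent.Localalg.FaltLC
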