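import Groth.Agent.Localalg.Depth2
import Mathlib.RingTheory.Localization.BaseChange

/-!
# Depth and localization

* `localizedQuotSMulTopEquiv` : `(M/xM)_q ≃ M_q/xM_q`
* `isSMulRegular_localized` etc.
* `idealDepth_le_depth_localization`
* `idealDepth_lt_top`
* `exists_depth_localized_eq_add` (0DWY key step)
-/

set_option autoImplicit false
universe u v w v'

open CategoryTheory LinearMap RingTheory.Sequence Abelian Limits Pointwise IsLocalRing

namespace Groth.Agent.Localalg.Depth3

open Groth.Agent.Localalg.Depth Groth.Agent.Localalg.Depth2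

variable {R : Type u} [CommRing R]

section Basic

/-- Base change commutes with the quotient by `x`. -/
noncomputable def baseChangeQuotSMulTopEquiv {S : Type w} [CommRing S] [Algebra R S]
    {M : Type v} [AddCommGroup M] [Module R M] {N : Type v'} [AddCommGroup N] [Module R N]
    [Module S N] [IsScalarTower R S N] {f : M →ₗ[R] N} (hf : IsBaseChange S f) (x : R) :
    TensorProduct R S (QuotSMulTop x M) ≃ₗ[S] QuotSMulTop (algebraMap R S x) N :=
  (QuotSMulTop.algebraMapTensorEquivTensorQuotSMulTop x M S).symm ≪≫ₗ
      QuotSMulTop.congr ((algebraMap R S) x) hf.equiv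

/-- Localization commutes with the quotient by `x`. -/
noncomputable def localizedQuotSMulTopEquiv (q : Ideal R) [q.IsPrime] (M : Type v) [AddCommGroup M]
    [Module R M] (x : R) :
    LocalizedModule q.primeCompl (QuotSMulTop x M) ≃ₗ[Localization.AtPrime q]
      QuotSMulTop (algebraMap R (Localization.AtPrime q) x) (LocalizedModule q.primeCompl M) :=
  (LocalizedModule.isBaseChange q.primeCompl (QuotSMulTop x M)).equiv.symm ≪≫ₗ
    baseChangeQuotSMulTopEquiv (LocalizedModule.isBaseChange q.primeCompl M) x

theorem mkLinearMap_eq_zero_iff (q : Ideal R) [q.IsPrime] {M : Type v} [AddCommGroup M]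
    [Module R M] (m : M) :
    LocalizedModule.mkLinearMap q.primeCompl M m = 0 ↔ ∃ t ∉ q, t • m = 0 := by
  rw [IsLocalizedModule.eq_zero_iff q.primeCompl (LocalizedModule.mkLinearMap q.primeCompl M)]
  constructor
  · rintro ⟨t, ht⟩
    exact ⟨t.1, t.2, ht⟩
  · rintro ⟨t, ht, h⟩
    exact ⟨⟨t, ht⟩, h⟩

theorem isSMulRegular_localized_iff (q : Ideal R) [q.IsPrime] {M : Type v} [AddCommGroup M]
    [Module R M] (x : R) :
    IsSMulRegular (LocalizedModule q.primeCompl M) (algebraMap R (Localization.AtPrime q) x) ↔
      ∀ m : M, x • m = 0 → ∃ t ∉ q, t • m = 0 := by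
  constructor
  · intro h m hm
    rw [← mkLinearMap_eq_zero_iff]
    apply h.right_eq_zero_of_smul
    rw [algebraMap_smul, ← map_smul, hm, map_zero]
  · intro h
    refine IsSMulRegular.of_right_eq_zero_of_smul ?_
    intro y hy
    obtain ⟨⟨m, s⟩, rfl⟩ := IsLocalizedModule.mk'_surjective q.primeCompl
      (LocalizedModule.mkLinearMap q.primeCompl M) y
    simp only [Function.uncurry_apply_pair] at hy ⊢
    rw [algebraMap_smul, ← IsLocalizedModule.mk'_smul, IsLocalizedModule.mk'_eq_zero'] at hy
    obtain ⟨t, ht⟩ := hy
    obtain ⟨t', ht', h'⟩ := h (t • m) (by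
      rw [smul_comm]
      exact ht)
    rw [IsLocalizedModule.mk'_eq_zero']
    refine ⟨⟨t' * t.1, q.primeCompl.mul_mem ht' t.2⟩, ?_⟩
    change (t' * t.1) • m = 0
    rw [mul_smul]
    exact h'

/-- an element of `q R_q` regular on a module may be replaced by an element of `q`. -/
theorem exists_mem_isSMulRegular (q : Ideal R) [q.IsPrime] {N : Type v} [AddCommGroup N]
    [Module (Localization.AtPrime q) N]
    (h : ∃ y ∈ maximalIdeal (Localization.AtPrime q), IsSMulRegular N y) :
    ∃ x ∈ q, IsSMulRegular N (algebraMap R (Localization.AtPrime q) x) := by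
  obtain ⟨y, hy, hreg⟩ := h
  obtain ⟨⟨x, s⟩, hxs⟩ := IsLocalization.surj q.primeCompl y
  simp only at hxs
  have h1 : algebraMap R (Localization.AtPrime q) x ∈ maximalIdeal (Localization.AtPrime q) := by
    rw [← hxs]
    exact Ideal.mul_mem_right _ _ hy
  refine ⟨x, (IsLocalization.AtPrime.to_map_mem_maximal_iff (Localization.AtPrime q) q x).mp h1, ?_⟩
  rw [← hxs]
  have hu : IsUnit (algebraMap R (Localization.AtPrime q) s) := IsLocalization.map_units _ s
  have h2 : IsSMulRegular N (algebraMap R (Localization.AtPrime q) s) := hu.isSMulRegular N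
  exact hreg.mul h2

end Basic

section Noetherian

variable [IsNoetherianRing R]

instance finite_localized (q : Ideal R) [q.IsPrime] (M : Type v) [AddCommGroup M]
    [Module R M] [Module.Finite R M] :
    Module.Finite (Localization.AtPrime q) (LocalizedModule q.primeCompl M) :=
  Module.Finite.of_isLocalizedModule q.primeCompl (LocalizedModule.mkLinearMap q.primeCompl M)

theorem depth_localized_quotSMulTop_add_one (q : Ideal R) [q.IsPrime] (M : Type u)
    [AddCommGroup M] [Module R M] [Module.Finite R M] (x : R) (hx : x ∈ q)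
    (hreg : IsSMulRegular (LocalizedModule q.primeCompl M)
      (algebraMap R (Localization.AtPrime q) x)) :
    LocCoh.depth (Localization.AtPrime q) (LocalizedModule q.primeCompl (QuotSMulTop x M)) + 1 =
      LocCoh.depth (Localization.AtPrime q) (LocalizedModule q.primeCompl M) := by
  have : IsNoetherianRing (Localization.AtPrime q) :=
    IsLocalization.isNoetherianRing q.primeCompl _ inferInstance
  have hx' : algebraMap R (Localization.AtPrime q) x ∈ maximalIdeal (Localization.AtPrime q) :=
    (IsLocalization.AtPrime.to_map_mem_maximal_iff (Localization.AtPrime q) q x).mpr hx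
  rw [LocCoh.depth, idealDepth_congr_equiv _ (localizedQuotSMulTopEquiv q M x)]
  exact idealDepth_quotSMulTop_add_one (maximalIdeal (Localization.AtPrime q))
    (LocalizedModule q.primeCompl M) _ hx' hreg

/-- `depth_I M ≤ depth M_q` for every prime `q ⊇ I`. -/
theorem idealDepth_le_depth_localization (I : Ideal R) (M : Type u) [AddCommGroup M] [Module R M]
    [Module.Finite R M] (q : Ideal R) [q.IsPrime] (hIq : I ≤ q) :
    LocCoh.idealDepth I M ≤
      LocCoh.depth (Localization.AtPrime q) (LocalizedModule q.primeCompl M) := by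
  have : IsNoetherianRing (Localization.AtPrime q) :=
    IsLocalization.isNoetherianRing q.primeCompl _ inferInstance
  by_cases hnt : Nontrivial (LocalizedModule q.primeCompl M)
  · have hsupp : (⟨q, inferInstance⟩ : PrimeSpectrum R) ∈ Module.support R M :=
      (Module.mem_support_iff).mpr hnt
    have hIM : I • (⊤ : Submodule R M) ≠ ⊤ := by
      intro h
      have h1 := Module.support_quotient (M := M) I
      rw [h] at h1
      have h2 : (⟨q, inferInstance⟩ : PrimeSpectrum R) ∈
          Module.support R (M ⧸ (⊤ : Submodule R M)) := by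
        rw [h1]
        exact ⟨hsupp, hIq⟩
      rw [Module.mem_support_iff'] at h2
      obtain ⟨m, hm⟩ := h2
      have hss : Subsingleton (M ⧸ (⊤ : Submodule R M)) :=
        Submodule.Quotient.subsingleton_iff.mpr rfl
      exact hm 1 ((Ideal.ne_top_iff_one q).mp Ideal.IsPrime.ne_top') (hss.elim _ _)
    refine ENat.forall_natCast_le_iff_le.mp fun n hn => ?_
    obtain ⟨rs, h1, h2, h3⟩ := (natCast_le_idealDepth_iff hIM n).mp hn
    have h4 := h3.toIsWeaklyRegular.isRegular_of_isLocalizedModule_of_mem
      (Localization.AtPrime q) q (LocalizedModule.mkLinearMap q.primeCompl M)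
      (fun r hr => hIq (h2 r hr))
    refine (natCast_le_idealDepth_iff ?_ n).mpr ⟨rs.map (algebraMap R _), by simpa using h1, ?_, h4⟩
    · exact smul_top_ne_top_of_local Ideal.IsPrime.ne_top' _
    · intro r hr
      obtain ⟨s, hs, rfl⟩ := List.mem_map.mp hr
      exact (IsLocalization.AtPrime.to_map_mem_maximal_iff (Localization.AtPrime q) q s).mpr
        (hIq (h2 s hs))
  · rw [not_nontrivial_iff_subsingleton] at hnt
    exact le_of_le_of_eq le_top (idealDepth_eq_top_of_subsingleton _ _).symm

/-- The `I`-depth of a finite module over a Noetherian ring is finite if `IM ≠ M`. -/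
theorem idealDepth_lt_top (I : Ideal R) (M : Type u) [AddCommGroup M] [Module R M]
    [Module.Finite R M] (hIM : I • (⊤ : Submodule R M) ≠ ⊤) : LocCoh.idealDepth I M < ⊤ := by
  have h1 : Nontrivial (M ⧸ (I • (⊤ : Submodule R M))) :=
    Submodule.Quotient.nontrivial_iff.mpr hIM
  obtain ⟨q, hq⟩ := Module.nonempty_support_of_nontrivial (R := R)
    (M := M ⧸ (I • (⊤ : Submodule R M)))
  rw [Module.support_quotient] at hq
  have : IsNoetherianRing (Localization.AtPrime q.asIdeal) :=
    IsLocalization.isNoetherianRing q.asIdeal.primeCompl _ inferInstance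
  have : Nontrivial (LocalizedModule q.asIdeal.primeCompl M) := Module.mem_support_iff.mp hq.1
  exact lt_of_le_of_lt (idealDepth_le_depth_localization I M q.asIdeal hq.2) (depth_lt_top _)

/-- Key step for Stacks 0DWY. -/
theorem exists_depth_localized_eq_add (p : Ideal R) [p.IsPrime] (e : ℕ) :
    ∀ (M : Type u) [AddCommGroup M] [Module R M] [Module.Finite R M],
      LocCoh.depth (Localization.AtPrime p) (LocalizedModule p.primeCompl M) = e →
      ∃ (f : R) (M' : Type u) (_ : AddCommGroup M') (_ : Module R M'),
        Module.Finite R M' ∧ f ∉ p ∧ ∀ (q : Ideal R) [q.IsPrime], p ≤ q → f ∉ q →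
          LocCoh.depth (Localization.AtPrime q) (LocalizedModule q.primeCompl M) =
            LocCoh.depth (Localization.AtPrime q) (LocalizedModule q.primeCompl M') + e := by
  induction e with
  | zero =>
    intro M _ _ _ _
    refine ⟨1, M, inferInstance, inferInstance, inferInstance, ?_, ?_⟩
    · exact (Ideal.ne_top_iff_one p).mp Ideal.IsPrime.ne_top'
    · intro q _ _ _
      simp
  | succ e ih =>
    intro M _ _ _ hM
    have : IsNoetherianRing (Localization.AtPrime p) :=
      IsLocalization.isNoetherianRing p.primeCompl _ inferInstance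
    have hne : maximalIdeal (Localization.AtPrime p) •
        (⊤ : Submodule (Localization.AtPrime p) (LocalizedModule p.primeCompl M)) ≠ ⊤ := by
      intro h
      rw [LocCoh.depth, idealDepth_eq_top_of_smul_eq_top h] at hM
      exact absurd hM (ENat.top_ne_natCast (e + 1))
    obtain ⟨x, hx, hreg⟩ := exists_mem_isSMulRegular p
      (exists_regular_of_idealDepth_ne_zero hne (by
        change LocCoh.depth _ _ ≠ 0
        rw [hM]
        simp))
    have h1 := depth_localized_quotSMulTop_add_one p M x hx hreg
    rw [hM] at h1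
    have h2 : LocCoh.depth (Localization.AtPrime p)
        (LocalizedModule p.primeCompl (QuotSMulTop x M)) = e := by
      push_cast at h1
      exact ENat.add_left_injective_of_ne_top (by simp) h1
    obtain ⟨f, M', _, _, hfin, hf, hM'⟩ := ih (QuotSMulTop x M) h2
    -- the kernel of `x` on `M`
    let K : Submodule R M := LinearMap.ker (LinearMap.lsmul R M x)
    have hK : (⟨p, inferInstance⟩ : PrimeSpectrum R) ∉ Module.support R K := by
      rw [Module.notMem_support_iff']
      rintro ⟨m, hm⟩
      obtain ⟨t, ht, h⟩ := (isSMulRegular_localized_iff p x).mp hreg m hm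
      exact ⟨t, ht, Subtype.ext h⟩
    rw [Module.mem_support_iff_of_finite, SetLike.not_le_iff_exists] at hK
    obtain ⟨g, hg, hgp⟩ := hK
    refine ⟨f * g, M', inferInstance, inferInstance, hfin, ?_, ?_⟩
    · intro h
      rcases Ideal.IsPrime.mem_or_mem inferInstance h with h | h
      · exact hf h
      · exact hgp h
    · intro q _ hpq hfg
      have hfq : f ∉ q := fun h => hfg (Ideal.mul_mem_right _ _ h)
      have hgq : g ∉ q := fun h => hfg (Ideal.mul_mem_left _ _ h)
      have hreg' : IsSMulRegular (LocalizedModule q.primeCompl M)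
          (algebraMap R (Localization.AtPrime q) x) := by
        rw [isSMulRegular_localized_iff]
        intro m hm
        refine ⟨g, hgq, ?_⟩
        have := Module.mem_annihilator.mp hg ⟨m, hm⟩
        exact congrArg Subtype.val this
      rw [← depth_localized_quotSMulTop_add_one q M x (hpq hx) hreg', hM' q hpq hfq]
      push_cast
      rw [add_assoc]

/-- Stacks 0DWY -/
theorem depth_semicontinuous (M : Type u) [AddCommGroup M] [Module R M] [Module.Finite R M]
    (p : Ideal R) [p.IsPrime] (e : ℕ)
    (he : LocCoh.depth (Localization.AtPrime p) (LocalizedModule p.primeCompl M) = e) :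
    ∃ f : R, f ∉ p ∧ (∀ (q : Ideal R) [q.IsPrime], p ≤ q → f ∉ q →
      (e : ℕ∞) ≤ LocCoh.depth (Localization.AtPrime q) (LocalizedModule q.primeCompl M)) ∧
      {q : PrimeSpectrum R | p ≤ q.asIdeal ∧ f ∉ q.asIdeal ∧
        LocCoh.depth (Localization.AtPrime q.asIdeal)
          (LocalizedModule q.asIdeal.primeCompl M) = e}.Finite := by
  obtain ⟨f, M', _, _, hfin, hf, hM'⟩ := exists_depth_localized_eq_add p e M he
  refine ⟨f, hf, ?_, ?_⟩
  · intro q _ hpq hfq
    rw [hM' q hpq hfq]
    exact le_add_self
  · have hfinite : (associatedPrimes R M').Finite := associatedPrimes.finite R M'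
    refine Set.Finite.subset (Set.Finite.preimage (f := PrimeSpectrum.asIdeal) ?_ hfinite) ?_
    · intro a _ b _ h
      exact PrimeSpectrum.ext h
    · rintro q ⟨hpq, hfq, hq⟩
      rw [hM' q.asIdeal hpq hfq] at hq
      have h0 : LocCoh.depth (Localization.AtPrime q.asIdeal)
          (LocalizedModule q.asIdeal.primeCompl M') = 0 := by
        have : LocCoh.depth (Localization.AtPrime q.asIdeal)
          (LocalizedModule q.asIdeal.primeCompl M') + e = 0 + e := by rw [hq, zero_add]
        exact ENat.add_left_injective_of_ne_top (by simp) this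
      have : IsNoetherianRing (Localization.AtPrime q.asIdeal) :=
        IsLocalization.isNoetherianRing q.asIdeal.primeCompl _ inferInstance
      obtain ⟨P, hP, hle⟩ := exists_mem_associatedPrimes_of_idealDepth_eq_zero h0
      have hPmax : P = maximalIdeal (Localization.AtPrime q.asIdeal) :=
        le_antisymm (le_maximalIdeal hP.isPrime.ne_top) hle
      have h3 := Module.associatedPrimes.comap_mem_associatedPrimes_of_mem_associatedPrimes_of_isLocalizedModule_of_fg
        q.asIdeal.primeCompl (LocalizedModule.mkLinearMap q.asIdeal.primeCompl M') P hP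
        ((isNoetherianRing_iff_ideal_fg R).mp inferInstance _)
      rw [hPmax] at h3
      change q.asIdeal ∈ associatedPrimes R M'
      convert h3
      exact (Localization.AtPrime.under_maximalIdeal (I := q.asIdeal)).symm

end Noetherian

end Groth.Agent.Localalg.Depth3
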