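import Groth.Agent.Localalg.OldExt
import Groth.Agent.Localalg.Depth3
import Groth.Prelude.Def_Wider
import Mathlib.Algebra.Category.ModuleCat.FilteredColimits
import Mathlib.CategoryTheory.Limits.ConcreteCategory.WithAlgebraicStructures

set_option autoImplicit false
universe u v
open CategoryTheory Limits Opposite

namespace Groth.Agent.Localalg.DepthLC
open Groth.Agent.Localalg.Depth Groth.Agent.Localalg.Depth2 Groth.Agent.Localalg.Depth3

variable {R : Type u} [CommRing R]

/-- the diagram computing `H I i M`. -/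
noncomputable abbrev dia (I : Ideal R) (i : ℕ) (M : ModuleCat.{u} R) : (ℕᵒᵖ)ᵒᵖ ⥤ ModuleCat.{u} R :=
  localCohomology.diagram (localCohomology.idealPowersDiagram I) i ⋙ (evaluation _ _).obj M

/-- `H I i M` is the colimit of the diagram. -/
noncomputable def isoColimit (I : Ideal R) (i : ℕ) (M : ModuleCat.{u} R) :
    (localCohomology I i).obj M ≅ colimit (dia I i M) :=
  colimitObjIsoColimitCompEvaluation (localCohomology.diagram (localCohomology.idealPowersDiagram I) i) M

theorem subsingleton_H_of_forall (I : Ideal R) (i : ℕ) (M : Type u) [AddCommGroup M] [Module R M]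
    (h : ∀ k : ℕ, Subsingleton (Abelian.Ext (ModuleCat.of R (R ⧸ (I ^ k))) (ModuleCat.of R M) i)) :
    Subsingleton (LocCoh.H I i M) := by
  have h1 : IsZero (colimit (dia I i (ModuleCat.of R M))) := by
    rw [IsZero.iff_id_eq_zero]
    apply colimit.hom_ext
    intro j
    have : Subsingleton ((dia I i (ModuleCat.of R M)).obj j) := 
      (OldExt.extEquiv (R := R) (ModuleCat.of R (R ⧸ (I ^ (unop (unop j))))) (ModuleCat.of R M) i).toEquiv.subsingleton_congr.mpr (h _)
    exact (ModuleCat.isZero_of_subsingleton _).eq_of_src _ _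
  have h2 : IsZero ((localCohomology I i).obj (ModuleCat.of R M)) := h1.of_iso (isoColimit I i _)
  exact ModuleCat.subsingleton_of_isZero h2

theorem nontrivial_H_of_forall (I : Ideal R) (i : ℕ) (M : Type u) [AddCommGroup M] [Module R M]
    (k : ℕ) (x : Abelian.Ext (ModuleCat.of R (R ⧸ (I ^ k))) (ModuleCat.of R M) i)
    (hx : ∀ (m : ℕ) (hkm : k ≤ m), (Abelian.Ext.mk₀ (ModuleCat.ofHom (Submodule.mapQ (I ^ m) (I ^ k) LinearMap.id (Ideal.pow_le_pow_right hkm)))).comp x (zero_add i) ≠ 0) :
    Nontrivial (LocCoh.H I i M) := by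
  rw [← not_subsingleton_iff_nontrivial]
  intro hss
  let F := dia I i (ModuleCat.of R M)
  let y : F.obj (op (op k)) := (OldExt.extEquiv (R := R) (ModuleCat.of R (R ⧸ (I ^ k))) (ModuleCat.of R M) i).symm x
  have hss' : Subsingleton ((colimit F : ModuleCat.{u} R)) := 
    ((isoColimit I i (ModuleCat.of R M)).toLinearEquiv.toEquiv.subsingleton_congr).mp hss
  have hy : colimit.ι F (op (op k)) y = 0 := hss'.elim _ _
  have : PreservesFilteredColimitsOfSize.{0, 0} (forget (ModuleCat.{u} R)) :=
    preservesSmallestFilteredColimits_of_preservesFilteredColimits.{u, u} _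
  have : PreservesColimitsOfShape (ℕᵒᵖ)ᵒᵖ (forget (ModuleCat.{u} R)) :=
    PreservesFilteredColimitsOfSize.preserves_filtered_colimits _
  obtain ⟨j', f, hf⟩ := Concrete.colimit_rep_eq_zero R F (op (op k)) y hy
  obtain ⟨⟨m⟩⟩ := j'
  have hkm : k ≤ m := leOfHom f.unop.unop
  apply hx m hkm
  have h3 := OldExt.extEquiv_naturality_left (R := R) (ModuleCat.ofHom (Submodule.mapQ (I ^ m) (I ^ k) LinearMap.id (Ideal.pow_le_pow_right hkm))) (ModuleCat.of R M) i y
  have h4 : OldExt.extEquiv (R := R) (ModuleCat.of R (R ⧸ (I ^ k))) (ModuleCat.of R M) i y = x := LinearEquiv.apply_symm_apply _ _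
  rw [h4] at h3
  rw [← h3]
  have h5 : (((Ext R (ModuleCat.{u} R) i).map (ModuleCat.ofHom (Submodule.mapQ (I ^ m) (I ^ k) LinearMap.id (Ideal.pow_le_pow_right hkm))).op).app (ModuleCat.of R M)).hom y = 0 := hf
  rw [h5, map_zero]

section Noetherian

variable [IsNoetherianRing R]

theorem support_quotient_pow (I : Ideal R) (k : ℕ) :
    Module.support R (R ⧸ (I ^ k)) ⊆ PrimeSpectrum.zeroLocus (I : Set R) := by
  rw [Module.support_eq_zeroLocus, Ideal.annihilator_quotient]
  rcases Nat.eq_zero_or_pos k with rfl | hk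
  · rw [pow_zero, Ideal.one_eq_top]
    intro p hp
    rw [PrimeSpectrum.mem_zeroLocus] at hp
    have hp' : (⊤ : Ideal R) ≤ p.asIdeal := hp
    exact absurd (top_le_iff.mp hp') p.isPrime.ne_top
  · rw [PrimeSpectrum.zeroLocus_pow I hk.ne']

/-- Local cohomology vanishes below the depth. -/
theorem subsingleton_H_of_lt_idealDepth (I : Ideal R) (M : Type u) [AddCommGroup M] [Module R M]
    [Module.Finite R M] (i : ℕ) (hi : (i : ℕ∞) < LocCoh.idealDepth I M) :
    Subsingleton (LocCoh.H I i M) := by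
  apply subsingleton_H_of_forall
  intro k
  exact ext_subsingleton_of_lt_idealDepth I _ (support_quotient_pow I k) M i hi

/-- The transition maps in the system `Ext^d(R/I^k, M)` are injective, `d = depth_I M`. -/
theorem precomp_injective (I : Ideal R) (M : Type u) [AddCommGroup M] [Module R M]
    [Module.Finite R M] (i : ℕ) (hi : (i : ℕ∞) ≤ LocCoh.idealDepth I M) (k m : ℕ) (hkm : k ≤ m)
    (x : Abelian.Ext (ModuleCat.of R (R ⧸ (I ^ k))) (ModuleCat.of R M) i)
    (hx : (Abelian.Ext.mk₀ (ModuleCat.ofHom (Submodule.mapQ (I ^ m) (I ^ k) LinearMap.id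
      (Ideal.pow_le_pow_right hkm)))).comp x (zero_add i) = 0) : x = 0 := by
  let g : (R ⧸ (I ^ m)) →ₗ[R] (R ⧸ (I ^ k)) :=
    Submodule.mapQ (I ^ m) (I ^ k) LinearMap.id (Ideal.pow_le_pow_right hkm)
  have hg : Function.Surjective g := by
    intro y
    obtain ⟨y, rfl⟩ := Submodule.mkQ_surjective _ y
    exact ⟨Submodule.mkQ _ y, rfl⟩
  let K := LinearMap.ker g
  have hS := shortExact_of_exact K.subtype g K.injective_subtype hg
    (LinearMap.exact_subtype_ker_map g)
  rcases i with _ | i
  · have := hS.epi_g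
    apply Abelian.Ext.precomp_mk₀_injective_of_epi (ModuleCat.of R M) (ModuleCat.ofHom g)
    rw [map_zero]
    exact hx
  · obtain ⟨z, hz⟩ := Abelian.Ext.contravariant_sequence_exact₃ hS (ModuleCat.of R M) x hx
      (n₀ := i) (by omega)
    have hss : Subsingleton (Abelian.Ext (ModuleCat.of R K) (ModuleCat.of R M) i) := by
      refine ext_subsingleton_of_lt_idealDepth I K ?_ M i
        (lt_of_lt_of_le (by exact_mod_cast Nat.lt_succ_self i) hi)
      exact (Module.support_subset_of_injective K.subtype K.injective_subtype).trans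
        (support_quotient_pow I m)
    have hz0 : z = 0 := hss.elim _ _
    rw [← hz, hz0, Abelian.Ext.comp_zero]

theorem nontrivial_H_idealDepth (I : Ideal R) (M : Type u) [AddCommGroup M] [Module R M]
    [Module.Finite R M] (n : ℕ) (hn : LocCoh.idealDepth I M = n) :
    Nontrivial (LocCoh.H I n M) := by
  obtain ⟨-, h2⟩ := (idealDepth_eq_iff_ext I M n).mp hn
  have h3 : Nontrivial (Abelian.Ext (ModuleCat.of R (R ⧸ (I ^ 1))) (ModuleCat.of R M) n) := by
    rw [← not_subsingleton_iff_nontrivial] at h2 ⊢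
    intro h
    apply h2
    have e : (R ⧸ I) ≃ₗ[R] (R ⧸ (I ^ 1)) := Submodule.quotEquivOfEq _ _ (pow_one I).symm
    exact (ext_subsingleton_congr e.toModuleIso (Iso.refl _) n).mpr h
  obtain ⟨x, hx⟩ := exists_ne (0 : Abelian.Ext (ModuleCat.of R (R ⧸ (I ^ 1))) (ModuleCat.of R M) n)
  exact nontrivial_H_of_forall I n M 1 x fun m hm h0 =>
    hx (precomp_injective I M n hn.ge 1 m hm x h0)

/-- Stacks 0AVZ (1)=(3). -/
theorem idealDepth_eq_iff_localCohomology (I : Ideal R) (M : Type u) [AddCommGroup M] [Module R M]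
    [Module.Finite R M] (hIM : I • (⊤ : Submodule R M) ≠ ⊤) (n : ℕ) :
    LocCoh.idealDepth I M = n ↔
      ((∀ i : ℕ, i < n → Subsingleton (LocCoh.H I i M)) ∧ Nontrivial (LocCoh.H I n M)) := by
  constructor
  · intro h
    refine ⟨fun i hi => subsingleton_H_of_lt_idealDepth I M i ?_, nontrivial_H_idealDepth I M n h⟩
    rw [h]
    exact_mod_cast hi
  · rintro ⟨h1, h2⟩
    obtain ⟨d, hd⟩ := ENat.ne_top_iff_exists.mp (idealDepth_lt_top I M hIM).ne
    rcases lt_trichotomy d n with hlt | rfl | hlt
    · exfalso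
      have h3 := nontrivial_H_idealDepth I M d hd.symm
      exact (not_subsingleton_iff_nontrivial.mpr h3) (h1 d hlt)
    · exact hd.symm
    · exfalso
      have h3 := subsingleton_H_of_lt_idealDepth I M n (by
        rw [← hd]
        exact_mod_cast hlt)
      exact (not_subsingleton_iff_nontrivial.mpr h2) h3

end Noetherian

end Groth.Agent.Localalg.DepthLC
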