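import Groth.Agent.Localalg.LCInst
import Mathlib.RingTheory.Flat.Localization
import Mathlib.RingTheory.Flat.FaithfullyFlat.Basic
import Mathlib.RingTheory.LocalProperties.Submodule
import Mathlib.RingTheory.Localization.BaseChange

/-!
# Local cohomology: cohomological dimension and change of rings
-/

set_option autoImplicit false
universe u

open CategoryTheory Limits TensorProduct
open Groth.Agent.Localalg.DeltaFun Groth.Agent.Localalg.Gam Groth.Agent.Localalg.LCAbs

namespace Groth.Agent.Localalg.LCRows

theorem cdLE_iff {R : Type u} [CommRing R] (I : Ideal R) (d : ℕ) :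
    LocCoh.CdLE R I d ↔ ∀ (M : ModuleCat.{u} R) (n : ℕ), d < n → IsZero ((lc I).obj n M) := by
  constructor
  · intro h M n hn
    rw [ModuleCat.isZero_iff_subsingleton, LC.obj, lc_T]
    exact h M n hn
  · intro h M _ _ n hn
    have := h (ModuleCat.of R M) n hn
    rwa [ModuleCat.isZero_iff_subsingleton, LC.obj, lc_T] at this

theorem cdLE_card {R : Type u} [CommRing R] [IsNoetherianRing R] (s : Finset R) :
    LocCoh.CdLE R (Ideal.span (s : Set R)) s.card := by
  rw [cdLE_iff]
  intro M n hn
  exact LC.isZero_card (fun I => lc I) s M n hn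

theorem cdLE_sup {R : Type u} [CommRing R] [IsNoetherianRing R] (I J : Ideal R) (a b : ℕ)
    (hI : LocCoh.CdLE R I a) (hJ : LocCoh.CdLE R J b) : LocCoh.CdLE R (I ⊔ J) (a + b) := by
  rw [cdLE_iff] at hI hJ ⊢
  intro M n hn
  exact (lc I).isZero_sup (lc J) (lc (I ⊔ J)) a hI b M (fun n hn => hJ M n hn) n hn

section Change

variable {A : Type u} [CommRing A] [IsNoetherianRing A] {B : Type u} [CommRing B]
  [IsNoetherianRing B] [Algebra A B] (I : Ideal A)

variable (B) in
/-- Independence of the base, as an isomorphism of functors. -/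
theorem exists_resIso (n : ℕ) :
    Nonempty (localCohomology (I.map (algebraMap A B)) n ⋙ res A B ≅
      res A B ⋙ localCohomology I n) := by
  obtain ⟨E, -, -⟩ := LC.exists_resIso (B := B) (fun J => lc J) I (lc _)
  have := E n
  rw [lc_T, lc_T] at this
  exact ⟨this⟩

variable (B) in
/-- Flat base change, as an isomorphism of functors. -/
theorem exists_bcIso [Module.Flat A B] (n : ℕ) :
    Nonempty (localCohomology I n ⋙ bc A B ≅
      bc A B ⋙ localCohomology (I.map (algebraMap A B)) n) := by
  obtain ⟨E, -, -⟩ := LC.exists_bcIso (B := B) (fun J => lc J) I (lc _)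
  have := E n
  rw [lc_T, lc_T] at this
  exact ⟨this⟩

/-- Flat base change for local cohomology modules. -/
theorem nonempty_bcEquiv [Module.Flat A B] (n : ℕ) (M : Type u) [AddCommGroup M] [Module A M] :
    Nonempty ((B ⊗[A] LocCoh.H I n M) ≃ₗ[B]
      LocCoh.H (I.map (algebraMap A B)) n (B ⊗[A] M)) := by
  obtain ⟨E⟩ := exists_bcIso B I n
  exact ⟨(E.app (ModuleCat.of A M)).toLinearEquiv⟩

/-- Independence of the base for local cohomology modules. -/
theorem nonempty_resEquiv (n : ℕ) (N : Type u) [AddCommGroup N] [Module A N] [Module B N]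
    [IsScalarTower A B N] :
    ∃ e : LocCoh.H (I.map (algebraMap A B)) n N ≃+ LocCoh.H I n N,
      ∀ (a : A) (x : LocCoh.H (I.map (algebraMap A B)) n N),
        e (algebraMap A B a • x) = a • e x := by
  obtain ⟨E⟩ := exists_resIso B I n
  let i : (res A B).obj (ModuleCat.of B N) ≅ ModuleCat.of A N :=
    { hom := ModuleCat.ofHom (X := (res A B).obj (ModuleCat.of B N)) (Y := N)
        { toFun := fun x => x
          map_add' := fun _ _ => rfl
          map_smul' := fun a (x : N) => algebraMap_smul B a x }
      inv := ModuleCat.ofHom (X := N) (Y := (res A B).obj (ModuleCat.of B N))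
        { toFun := fun x => x
          map_add' := fun _ _ => rfl
          map_smul' := fun a (x : N) => (algebraMap_smul B a x).symm } }
  let e := (E.app (ModuleCat.of B N) ≪≫ (localCohomology I n).mapIso i).toLinearEquiv
  exact ⟨e.toAddEquiv, fun a x => e.map_smul a x⟩

theorem subsingleton_iff_res (n : ℕ) (N : Type u) [AddCommGroup N] [Module A N] [Module B N]
    [IsScalarTower A B N] :
    Subsingleton (LocCoh.H (I.map (algebraMap A B)) n N) ↔ Subsingleton (LocCoh.H I n N) := by
  obtain ⟨e, -⟩ := nonempty_resEquiv (B := B) I n N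
  exact e.toEquiv.subsingleton_congr

theorem cdLE_map (d : ℕ) (h : LocCoh.CdLE A I d) : LocCoh.CdLE B (I.map (algebraMap A B)) d := by
  intro N _ _ n hn
  let _ : Module A N := Module.compHom N (algebraMap A B)
  have : IsScalarTower A B N := IsScalarTower.of_algebraMap_smul fun _ _ => rfl
  rw [subsingleton_iff_res]
  exact h N n hn

theorem cdLE_of_faithfullyFlat [Module.FaithfullyFlat A B] (d : ℕ)
    (h : LocCoh.CdLE B (I.map (algebraMap A B)) d) : LocCoh.CdLE A I d := by
  intro M _ _ n hn
  obtain ⟨e⟩ := nonempty_bcEquiv (B := B) I n M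
  have h1 := h (B ⊗[A] M) n hn
  have h2 : Subsingleton (B ⊗[A] LocCoh.H I n M) := e.toEquiv.subsingleton
  rwa [Module.FaithfullyFlat.subsingleton_tensorProduct_iff_right] at h2

end Change

section Localization

variable {R : Type u} [CommRing R] [IsNoetherianRing R] (I : Ideal R)

/-- Local cohomology commutes with localization. -/
theorem nonempty_localizationEquiv (S : Submonoid R) (n : ℕ) (M : Type u) [AddCommGroup M]
    [Module R M] :
    Nonempty (LocalizedModule S (LocCoh.H I n M) ≃ₗ[Localization S]
      LocCoh.H (I.map (algebraMap R (Localization S))) n (LocalizedModule S M)) := by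
  have : Module.Flat R (Localization S) := IsLocalization.flat _ S
  have : IsNoetherianRing (Localization S) := IsLocalization.isNoetherianRing S _ inferInstance
  obtain ⟨e⟩ := nonempty_bcEquiv (B := Localization S) I n M
  refine ⟨LocalizedModule.equivTensorProduct S _ ≪≫ₗ e ≪≫ₗ ?_⟩
  exact ((localCohomology _ n).mapIso
    (LocalizedModule.equivTensorProduct S M).symm.toModuleIso).toLinearEquiv

theorem cdLE_iff_localizations (d : ℕ) : LocCoh.CdLE R I d ↔ ∀ (p : Ideal R) [p.IsPrime],
    LocCoh.CdLE (Localization.AtPrime p) (I.map (algebraMap R (Localization.AtPrime p))) d := by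
  constructor
  · intro h p _
    have : IsNoetherianRing (Localization.AtPrime p) :=
      IsLocalization.isNoetherianRing p.primeCompl _ inferInstance
    exact cdLE_map I d h
  · intro h M _ _ n hn
    refine Module.subsingleton_of_localization_maximal (R := R)
      (fun p _ => LocalizedModule p.primeCompl (LocCoh.H I n M))
      (fun p _ => LocalizedModule.mkLinearMap p.primeCompl (LocCoh.H I n M)) ?_
    intro p hp
    obtain ⟨e⟩ := nonempty_localizationEquiv I p.primeCompl n M
    have := h p (LocalizedModule p.primeCompl M) n hn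
    exact e.toEquiv.subsingleton

end Localization

end Groth.Agent.Localalg.LCRows
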