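import Mathlib.RingTheory.Artinian.Module
import Mathlib.RingTheory.Noetherian.Basic
import Mathlib.RingTheory.LocalRing.MaximalIdeal.Basic
import Mathlib.RingTheory.Spectrum.Prime.Basic
import Mathlib.RingTheory.Ideal.Operations
import Mathlib.RingTheory.Ideal.Maps
import Mathlib.RingTheory.Finiteness.Ideal
import Mathlib.Algebra.Module.Torsion.Basic

/-!
# Artinian modules: Melkersson's criterion and (the part we need of) secondary decompositions

* `isArtinian_of_torsion`: if every element of `M` is killed by a power of `x` and the kernel of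
  `x` on `M` is Artinian then `M` is Artinian (Melkersson).
* `exists_primes_pow_smul_le`: `M` Artinian over a Noetherian local ring. There are finitely many
  nonmaximal primes and `t` such that for `r` outside these primes `𝔪 ^ t • M ≤ r • M`.
-/

set_option autoImplicit false
universe u v

namespace Groth.Agent.Localalg.ArtinSec

variable {R : Type u} [CommRing R] {M : Type v} [AddCommGroup M] [Module R M]

/-- The submodule `(x ^ k • N) ⊓ ker x`. -/
def T (x : R) (N : Submodule R M) (k : ℕ) : Submodule R M :=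
  (N.map (LinearMap.lsmul R M (x ^ k))) ⊓ LinearMap.ker (LinearMap.lsmul R M x)

lemma mem_T {x : R} {N : Submodule R M} {k : ℕ} {m : M} :
    m ∈ T x N k ↔ (∃ n ∈ N, x ^ k • n = m) ∧ x • m = 0 := by
  simp [T]

lemma T_anti_right (x : R) (N : Submodule R M) {k l : ℕ} (h : k ≤ l) : T x N l ≤ T x N k := by
  intro m hm
  rw [mem_T] at hm ⊢
  obtain ⟨⟨n, hn, rfl⟩, h2⟩ := hm
  refine ⟨⟨x ^ (l - k) • n, N.smul_mem _ hn, ?_⟩, h2⟩
  rw [← mul_smul, ← pow_add]
  congr 2
  omega

lemma T_mono_left (x : R) {N N' : Submodule R M} (h : N ≤ N') (k : ℕ) : T x N k ≤ T x N' k := by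
  intro m hm
  rw [mem_T] at hm ⊢
  obtain ⟨⟨n, hn, rfl⟩, h2⟩ := hm
  exact ⟨⟨n, h hn, rfl⟩, h2⟩

/-- If `N ≤ N'` have the same `T x _ k` for all `k` and `N'` is `x`-power torsion then `N = N'`. -/
lemma eq_of_T_eq (x : R) {N N' : Submodule R M} (h : N ≤ N')
    (htors : ∀ m : M, ∃ k : ℕ, x ^ k • m = 0) (hT : ∀ k, T x N' k ≤ T x N k) : N' ≤ N := by
  have key : ∀ k : ℕ, ∀ m ∈ N', x ^ k • m = 0 → m ∈ N := by
    intro k
    induction k with
    | zero => intro m _ h0; simp at h0; subst h0; exact N.zero_mem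
    | succ k ih =>
      intro m hm h0
      have h1 : x ^ k • m ∈ T x N' k := by
        rw [mem_T]
        refine ⟨⟨m, hm, rfl⟩, ?_⟩
        rw [← mul_smul, ← pow_succ']
        exact h0
      have h2 := hT k h1
      rw [mem_T] at h2
      obtain ⟨⟨n, hn, hn2⟩, -⟩ := h2
      have h3 : m - n ∈ N := by
        apply ih (m - n) (N'.sub_mem hm (h hn))
        rw [smul_sub, hn2, sub_self]
      have := N.add_mem h3 hn
      simpa using this
  intro m hm
  obtain ⟨k, hk⟩ := htors m
  exact key k m hm hk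

/-- Melkersson: an `x`-power torsion module with Artinian `x`-kernel is Artinian. -/
theorem isArtinian_of_torsion (x : R) (htors : ∀ m : M, ∃ k : ℕ, x ^ k • m = 0)
    (hart : IsArtinian R (LinearMap.ker (LinearMap.lsmul R M x))) : IsArtinian R M := by
  rw [← monotone_stabilizes_iff_artinian]
  intro f
  -- the submodules of the kernel
  let K : Submodule R M := LinearMap.ker (LinearMap.lsmul R M x)
  let g : ℕ → ℕ → Submodule R K := fun j k => (T x (OrderDual.ofDual (f j)) k).comap K.subtype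
  have hgle : ∀ j k, T x (OrderDual.ofDual (f j)) k ≤ K := fun j k => inf_le_right
  have hTg : ∀ j k, (g j k).map K.subtype = T x (OrderDual.ofDual (f j)) k := by
    intro j k
    rw [Submodule.map_comap_subtype]
    exact inf_eq_right.mpr (hgle j k)
  have hmono : ∀ {i j : ℕ}, i ≤ j → (OrderDual.ofDual (f j)) ≤ (OrderDual.ofDual (f i)) :=
    fun h => f.monotone h
  -- choose a minimal element among the g j j
  have hdiag : ∃ n : ℕ, ∀ m, n ≤ m → g n n = g m m := by
    have := (monotone_stabilizes_iff_artinian (R := R) (M := K)).mpr hart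
    obtain ⟨n, hn⟩ := this ⟨fun j => OrderDual.toDual (g j j), by
      intro i j hij
      change g j j ≤ g i i
      apply Submodule.comap_mono
      exact (T_anti_right x _ hij).trans (T_mono_left x (hmono hij) i)⟩
    exact ⟨n, fun m hm => hn m hm⟩
  obtain ⟨n, hn⟩ := hdiag
  have hrow : ∀ k : ℕ, ∃ l : ℕ, ∀ m, l ≤ m → g l k = g m k := by
    intro k
    have := (monotone_stabilizes_iff_artinian (R := R) (M := K)).mpr hart
    obtain ⟨l, hl⟩ := this ⟨fun j => OrderDual.toDual (g j k), by
      intro i j hij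
      change g j k ≤ g i k
      exact Submodule.comap_mono (T_mono_left x (hmono hij) k)⟩
    exact ⟨l, fun m hm => hl m hm⟩
  choose l hl using hrow
  let L : ℕ := n + ∑ k ∈ Finset.range n, l k
  have hLn : n ≤ L := Nat.le_add_right _ _
  have hLl : ∀ k < n, l k ≤ L := by
    intro k hk
    have : l k ≤ ∑ k ∈ Finset.range n, l k :=
      Finset.single_le_sum (f := l) (fun _ _ => Nat.zero_le _) (Finset.mem_range.mpr hk)
    omega
  refine ⟨L, fun m hm => ?_⟩
  apply le_antisymm
  · exact f.monotone hm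
  · -- f m ≤ f L in the dual order, i.e. `f L ≤ f m` as submodules
    change OrderDual.ofDual (f L) ≤ OrderDual.ofDual (f m)
    apply eq_of_T_eq x (hmono hm) htors
    intro k
    rw [← hTg L k, ← hTg m k]
    apply Submodule.map_mono
    rcases lt_or_ge k n with hk | hk
    · rw [← hl k L (hLl k hk), ← hl k m ((hLl k hk).trans hm)]
    · -- `g L k ≤ g n n = g K K ≤ g m k` with `K = max m k`
      have h1 : g L k ≤ g n n :=
        Submodule.comap_mono ((T_anti_right x _ hk).trans (T_mono_left x (hmono hLn) n))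
      have h2 : g n n = g (max m k) (max m k) := hn _ (hk.trans (le_max_right _ _))
      have h3 : g (max m k) (max m k) ≤ g m k :=
        Submodule.comap_mono ((T_anti_right x _ (le_max_right _ _)).trans
          (T_mono_left x (hmono (le_max_left _ _)) k))
      exact h1.trans (h2.le.trans h3)

section Secondary

variable [IsLocalRing R] [IsNoetherianRing R]

open IsLocalRing

/-- The property used for the (weak) secondary decomposition. -/
def Good (N : Submodule R M) : Prop :=
  ∃ S : Set (Ideal R), S.Finite ∧ (∀ p ∈ S, p.IsPrime ∧ p ≠ maximalIdeal R) ∧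
    ∃ L : Submodule R M, L ≤ N ∧ (∃ t : ℕ, maximalIdeal R ^ t • L = ⊥) ∧
      ∀ r : R, (∀ p ∈ S, r ∉ p) → ∀ x ∈ N, ∃ y ∈ N, ∃ z ∈ L, x = r • y + z

omit [IsNoetherianRing R] in
lemma good_sup {N₁ N₂ : Submodule R M} (h₁ : Good N₁) (h₂ : Good N₂) : Good (N₁ ⊔ N₂) := by
  obtain ⟨S₁, hS₁, hp₁, L₁, hL₁, ⟨t₁, ht₁⟩, H₁⟩ := h₁
  obtain ⟨S₂, hS₂, hp₂, L₂, hL₂, ⟨t₂, ht₂⟩, H₂⟩ := h₂
  refine ⟨S₁ ∪ S₂, hS₁.union hS₂, ?_, L₁ ⊔ L₂, sup_le_sup hL₁ hL₂, ⟨t₁ + t₂, ?_⟩, ?_⟩
  · rintro p (hp | hp)
    · exact hp₁ p hp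
    · exact hp₂ p hp
  · rw [Submodule.smul_sup, eq_bot_iff, sup_le_iff]
    constructor
    · rw [← ht₁]
      exact Submodule.smul_mono_left (Ideal.pow_le_pow_right (by omega))
    · rw [← ht₂]
      exact Submodule.smul_mono_left (Ideal.pow_le_pow_right (by omega))
  · intro r hr x hx
    obtain ⟨x₁, hx₁, x₂, hx₂, rfl⟩ := Submodule.mem_sup.mp hx
    obtain ⟨y₁, hy₁, z₁, hz₁, rfl⟩ := H₁ r (fun p hp => hr p (Or.inl hp)) x₁ hx₁
    obtain ⟨y₂, hy₂, z₂, hz₂, rfl⟩ := H₂ r (fun p hp => hr p (Or.inr hp)) x₂ hx₂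
    refine ⟨y₁ + y₂, Submodule.add_mem_sup hy₁ hy₂, z₁ + z₂, Submodule.add_mem_sup hz₁ hz₂, ?_⟩
    rw [smul_add]
    abel

/-- A nonzero module which is not the sum of two proper submodules is secondary. -/
lemma good_of_irreducible [IsArtinian R M] {N : Submodule R M} (hN : N ≠ ⊥)
    (hirr : ∀ N₁ N₂ : Submodule R M, N₁ ⊔ N₂ = N → N₁ = N ∨ N₂ = N) : Good N := by
  -- every `r` is surjective or nilpotent on `N`
  have hr : ∀ r : R, (∀ x ∈ N, ∃ y ∈ N, x = r • y) ∨ ∃ k : ℕ, ∀ x ∈ N, r ^ k • x = 0 := by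
    intro r
    have hstab := (monotone_stabilizes_iff_artinian (R := R) (M := M)).mpr inferInstance
      ⟨fun k => OrderDual.toDual (N.map (LinearMap.lsmul R M (r ^ k))), by
        intro i j hij
        change N.map (LinearMap.lsmul R M (r ^ j)) ≤ N.map (LinearMap.lsmul R M (r ^ i))
        rintro _ ⟨n, hn, rfl⟩
        refine ⟨r ^ (j - i) • n, N.smul_mem _ hn, ?_⟩
        simp only [LinearMap.lsmul_apply]
        rw [← mul_smul, ← pow_add]
        congr 2
        omega⟩
    obtain ⟨k, hk⟩ := hstab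
    have hk' : ∀ m, k ≤ m → N.map (LinearMap.lsmul R M (r ^ k)) =
        N.map (LinearMap.lsmul R M (r ^ m)) := fun m hm => hk m hm
    -- N = r^k N + ker (r^k) ∩ N
    have hsum : N.map (LinearMap.lsmul R M (r ^ (k + 1))) ⊔
        (N ⊓ LinearMap.ker (LinearMap.lsmul R M (r ^ k))) = N := by
      apply le_antisymm
      · apply sup_le
        · rintro _ ⟨n, hn, rfl⟩
          exact N.smul_mem _ hn
        · exact inf_le_left
      · intro x hx
        have hx1 : r ^ k • x ∈ N.map (LinearMap.lsmul R M (r ^ (k + (k + 1)))) := by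
          rw [← hk' (k + (k + 1)) (by omega)]
          exact ⟨x, hx, rfl⟩
        obtain ⟨y, hy, hxy⟩ := hx1
        simp only [LinearMap.lsmul_apply] at hxy
        rw [Submodule.mem_sup]
        refine ⟨r ^ (k + 1) • y, ⟨y, hy, rfl⟩, x - r ^ (k + 1) • y,
          ⟨N.sub_mem hx (N.smul_mem _ hy), ?_⟩, by abel⟩
        change r ^ k • (x - r ^ (k + 1) • y) = 0
        rw [smul_sub, ← mul_smul, ← pow_add, hxy, sub_self]
    rcases hirr _ _ hsum with h | h
    · left
      intro x hx
      rw [← h] at hx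
      obtain ⟨y, hy, hxy⟩ := hx
      refine ⟨r ^ k • y, N.smul_mem _ hy, ?_⟩
      rw [← hxy, LinearMap.lsmul_apply, ← mul_smul, ← pow_succ']
    · right
      refine ⟨k, fun x hx => ?_⟩
      rw [← h] at hx
      exact hx.2
  -- the prime
  let P : Ideal R :=
    { carrier := {r | ∃ k : ℕ, ∀ x ∈ N, r ^ k • x = 0}
      zero_mem' := ⟨1, fun x _ => by simp⟩
      add_mem' := by
        rintro a b ⟨k, hk⟩ ⟨l, hl⟩
        refine ⟨k + l, fun x hx => ?_⟩
        rw [add_pow, Finset.sum_smul]
        apply Finset.sum_eq_zero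
        intro i hi
        rw [Finset.mem_range] at hi
        rcases le_total k i with hki | hki
        · have : a ^ i = a ^ (i - k) * a ^ k := by rw [← pow_add]; congr 1; omega
          rw [show a ^ i * b ^ (k + l - i) * ((k + l).choose i : R) =
            (a ^ (i - k) * b ^ (k + l - i) * ((k + l).choose i : R)) * a ^ k by rw [this]; ring,
            mul_smul, hk x hx, smul_zero]
        · have : b ^ (k + l - i) = b ^ (k + l - i - l) * b ^ l := by rw [← pow_add]; congr 1; omega
          rw [show a ^ i * b ^ (k + l - i) * ((k + l).choose i : R) =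
            (a ^ i * b ^ (k + l - i - l) * ((k + l).choose i : R)) * b ^ l by rw [this]; ring,
            mul_smul, hl x hx, smul_zero]
      smul_mem' := by
        rintro c a ⟨k, hk⟩
        refine ⟨k, fun x hx => ?_⟩
        rw [smul_eq_mul, mul_pow, mul_smul, hk x hx, smul_zero] }
  have hPmem : ∀ r, r ∈ P ↔ ∃ k : ℕ, ∀ x ∈ N, r ^ k • x = 0 := fun r => Iff.rfl
  have hP : P.IsPrime := by
    refine ⟨?_, ?_⟩
    · rw [Ideal.ne_top_iff_one]
      rintro ⟨k, hk⟩
      apply hN
      rw [eq_bot_iff]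
      intro x hx
      have := hk x hx
      simpa using this
    · intro a b hab
      rw [or_iff_not_imp_left]
      intro ha
      rcases hr a with h | h
      · rw [hPmem] at hab ⊢
        obtain ⟨k, hk⟩ := hab
        refine ⟨k, fun x hx => ?_⟩
        have hak : ∀ j : ℕ, ∀ x ∈ N, ∃ y ∈ N, x = a ^ j • y := by
          intro j
          induction j with
          | zero => intro x hx; exact ⟨x, hx, by simp⟩
          | succ j ih =>
            intro x hx
            obtain ⟨y, hy, rfl⟩ := ih x hx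
            obtain ⟨z, hz, rfl⟩ := h y hy
            exact ⟨z, hz, by rw [← mul_smul, pow_succ]⟩
        obtain ⟨y, hy, rfl⟩ := hak k x hx
        rw [← mul_smul, ← mul_pow, mul_comm b a]
        exact hk y hy
      · exact absurd h ha
  by_cases hPm : P = maximalIdeal R
  · refine ⟨∅, Set.finite_empty, by simp, N, le_rfl, ?_, ?_⟩
    · -- `𝔪` is finitely generated and each element is nilpotent on `N`
      have hle : maximalIdeal R ≤ (N.annihilator).radical := by
        intro r hr
        rw [← hPm, hPmem] at hr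
        obtain ⟨k, hk⟩ := hr
        exact ⟨k, (Submodule.mem_annihilator).mpr hk⟩
      obtain ⟨t, ht⟩ := Ideal.exists_pow_le_of_le_radical_of_fg hle
        (IsNoetherian.noetherian (maximalIdeal R))
      refine ⟨t, ?_⟩
      rw [eq_bot_iff]
      calc maximalIdeal R ^ t • N ≤ N.annihilator • N := Submodule.smul_mono_left ht
        _ = ⊥ := Submodule.annihilator_smul N
        _ ≤ ⊥ := le_rfl
    · intro r _ x hx
      exact ⟨0, N.zero_mem, x, hx, by simp⟩
  · refine ⟨{P}, Set.finite_singleton P, ?_, ⊥, bot_le, ⟨0, by simp⟩, ?_⟩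
    · rintro p (rfl : p = P)
      exact ⟨hP, hPm⟩
    · intro r hrP x hx
      rcases hr r with h | h
      · obtain ⟨y, hy, hxy⟩ := h x hx
        exact ⟨y, hy, 0, Submodule.zero_mem _, by simpa using hxy⟩
      · exact absurd h (hrP P rfl)

/-- Every submodule of an Artinian module over a Noetherian local ring is `Good`. -/
lemma good_of_isArtinian [IsArtinian R M] (N : Submodule R M) : Good N := by
  induction N using WellFoundedLT.induction with
  | ind N ih =>
    by_cases hN : N = ⊥
    · subst hN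
      refine ⟨∅, Set.finite_empty, by simp, ⊥, le_rfl, ⟨0, by simp⟩, ?_⟩
      intro r _ x hx
      rw [Submodule.mem_bot] at hx
      subst hx
      exact ⟨0, Submodule.zero_mem _, 0, Submodule.zero_mem _, by simp⟩
    by_cases hirr : ∀ N₁ N₂ : Submodule R M, N₁ ⊔ N₂ = N → N₁ = N ∨ N₂ = N
    · exact good_of_irreducible hN hirr
    · push Not at hirr
      obtain ⟨N₁, N₂, h, h₁, h₂⟩ := hirr
      rw [← h]
      apply good_sup
      · exact ih N₁ (lt_of_le_of_ne (h ▸ le_sup_left) h₁)
      · exact ih N₂ (lt_of_le_of_ne (h ▸ le_sup_right) h₂)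

/-- `M` Artinian over a Noetherian local ring: there are finitely many nonmaximal primes and a
`t` such that `𝔪 ^ t • M ⊆ r • M` for every `r` outside these primes. -/
theorem exists_primes_pow_smul_le (R : Type u) [CommRing R] [IsLocalRing R] [IsNoetherianRing R]
    (M : Type v) [AddCommGroup M] [Module R M] [IsArtinian R M] :
    ∃ S : Set (Ideal R), S.Finite ∧ (∀ p ∈ S, p.IsPrime ∧ p ≠ maximalIdeal R) ∧
      ∃ t : ℕ, ∀ r : R, (∀ p ∈ S, r ∉ p) → ∀ a ∈ maximalIdeal R ^ t, ∀ x : M,
        ∃ y : M, a • x = r • y := by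
  obtain ⟨S, hS, hp, L, -, ⟨t, ht⟩, H⟩ := good_of_isArtinian (R := R) (⊤ : Submodule R M)
  refine ⟨S, hS, hp, t, fun r hr a ha x => ?_⟩
  obtain ⟨y, -, z, hz, rfl⟩ := H r hr x trivial
  refine ⟨a • y, ?_⟩
  have : a • z = 0 := by
    rw [← Submodule.mem_bot R, ← ht]
    exact Submodule.smul_mem_smul ha hz
  rw [smul_add, this, add_zero, smul_comm]

end Secondary

end Groth.Agent.Localalg.ArtinSec
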