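import Mathlib.Algebra.Category.ModuleCat.Ext.HasExt
import Mathlib.Algebra.Category.ModuleCat.Projective
import Mathlib.Algebra.Homology.DerivedCategory.Ext.ExactSequences
import Mathlib.Algebra.Homology.ShortComplex.ModuleCat
import Mathlib.CategoryTheory.Abelian.Projective.Ext
import Mathlib.RingTheory.Noetherian.Basic
import Mathlib.RingTheory.Finiteness.Cardinality
import Mathlib.LinearAlgebra.FreeModule.Basic
import Mathlib.LinearAlgebra.StdBasis

set_option autoImplicit false
universe u

/-!
# Ext classes out of a finite module come from finitely generated submodules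
-/

open CategoryTheory Abelian

namespace Groth.Agent.Localalg.ExtFG

variable {R : Type u} [CommRing R] [IsNoetherianRing R]

/-- Every Ext class from a finite module `N` to `M` comes from a finitely generated submodule of `M`. -/
theorem exists_fg_submodule (n : ℕ) : ∀ (N M : ModuleCat.{u} R) [Module.Finite R N]
    (x : Ext N M n), ∃ (M' : Submodule R M), M'.FG ∧ ∃ x' : Ext N (ModuleCat.of R M') n,
      x'.comp (Ext.mk₀ (ModuleCat.ofHom M'.subtype)) (add_zero n) = x := by
  induction n with
  | zero =>
    intro N M _ x
    obtain ⟨f, rfl⟩ := Ext.mk₀_bijective N M |>.2 x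
    refine ⟨LinearMap.range f.hom, ?_, Ext.mk₀ (ModuleCat.ofHom f.hom.rangeRestrict), ?_⟩
    · rw [LinearMap.range_eq_map]
      exact Submodule.FG.map _ Module.Finite.fg_top
    · rw [Ext.mk₀_comp_mk₀]
      rfl
  | succ n ih =>
    intro N M _ x
    obtain ⟨k, π, hπ⟩ := Module.Finite.exists_fin' R N
    let S : ShortComplex (ModuleCat.{u} R) :=
      ShortComplex.mk (ModuleCat.ofHom (LinearMap.ker π).subtype) (ModuleCat.ofHom π) (by
        ext x
        exact x.2)
    have hS : S.ShortExact :=
      { exact := by
          rw [ShortComplex.moduleCat_exact_iff]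
          intro y hy
          exact ⟨⟨y, hy⟩, rfl⟩
        mono_f := by
          rw [ModuleCat.mono_iff_injective]
          exact Subtype.val_injective
        epi_g := by
          rw [ModuleCat.epi_iff_surjective]
          exact hπ }
    have : Projective S.X₂ := by
      have : Module.Projective R (Fin k → R) := inferInstance
      exact ModuleCat.projective_of_free (Pi.basisFun R (Fin k))
    have h0 : (Ext.mk₀ S.g).comp x (zero_add (n + 1)) = 0 :=
      Ext.eq_zero_of_projective _
    obtain ⟨y, hy⟩ := Ext.contravariant_sequence_exact₃ hS M x h0 (Nat.add_comm 1 n)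
    have : Module.Finite R S.X₁ := inferInstanceAs (Module.Finite R (LinearMap.ker π))
    obtain ⟨M', hM', y', hy'⟩ := ih S.X₁ M y
    refine ⟨M', hM', hS.extClass.comp y' (Nat.add_comm 1 n), ?_⟩
    rw [Ext.comp_assoc_of_third_deg_zero, hy', hy]

end Groth.Agent.Localalg.ExtFG
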