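import Groth.Agent.Localalg.DeltaFun
import Mathlib.Algebra.Homology.ShortComplex.SnakeLemma
import Mathlib.Algebra.Homology.ShortComplex.Limits

/-!
# The long exact sequence attached to a sequence of delta functors

Given three effaceable delta functors `T₁ → T₂ → T₃`, left exact in degree `0`, such that
`0 → T₁⁰ J → T₂⁰ J → T₃⁰ J → 0` is exact for `J` injective, we get a natural long exact sequence
`⋯ → T₁ⁿ M → T₂ⁿ M → T₃ⁿ M → T₁ⁿ⁺¹ M → ⋯`.
-/

set_option autoImplicit false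

universe v u v' u'

open CategoryTheory Category Limits

namespace Groth.Agent.Localalg.DeltaFun

variable {C : Type u} [Category.{v} C] [Abelian C] {D : Type u'} [Category.{v'} D] [Abelian D]

lemma exact_of_epi_mono {S₁ S₂ : ShortComplex D} (φ : S₁ ⟶ S₂) (h : S₁.Exact)
    (h₂ : Epi φ.τ₂) (h₃ : Mono φ.τ₃) : S₂.Exact := by
  rw [ShortComplex.exact_iff_exact_up_to_refinements] at h ⊢
  intro A x hx
  obtain ⟨A', π, hπ, y, hy⟩ := surjective_up_to_refinements_of_epi φ.τ₂ x
  have hy' : y ≫ S₁.g = 0 := by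
    rw [← cancel_mono φ.τ₃, assoc, ← φ.comm₂₃, zero_comp, ← reassoc_of% hy, hx, comp_zero]
  obtain ⟨A'', π', hπ', z, hz⟩ := h y hy'
  refine ⟨A'', π' ≫ π, inferInstance, z ≫ φ.τ₁, ?_⟩
  rw [assoc, hy, ← assoc, hz, assoc, assoc, φ.comm₁₂]

/-- composition of morphisms of delta functors -/
def DeltaHom.comp {T₁ T₂ T₃ : DeltaFunctor C D} (α : DeltaHom T₁ T₂) (β : DeltaHom T₂ T₃) :
    DeltaHom T₁ T₃ where
  app n := α.app n ≫ β.app n
  comm hS n := by
    rw [NatTrans.comp_app, NatTrans.comp_app, assoc, β.comm, ← assoc, α.comm, assoc]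

/-- the zero morphism of delta functors -/
def DeltaHom.zero (T₁ T₂ : DeltaFunctor C D) : DeltaHom T₁ T₂ where
  app _ := 0
  comm hS n := by simp

/-- the shifted delta functor `n ↦ T (n + 1)` -/
def DeltaFunctor.shift (T : DeltaFunctor C D) : DeltaFunctor C D where
  T n := T.T (n + 1)
  additive n := T.additive (n + 1)
  δ hS n := T.δ hS (n + 1)
  naturality hS hS' φ n := T.naturality hS hS' φ (n + 1)
  zero₃ hS n := T.zero₃ hS (n + 1)
  zero₁ hS n := T.zero₁ hS (n + 1)
  exact₂ hS n := T.exact₂ hS (n + 1)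
  exact₃ hS n := T.exact₃ hS (n + 1)
  exact₁ hS n := T.exact₁ hS (n + 1)

/-- Left exactness in degree zero. -/
def DeltaFunctor.LeftExact (T : DeltaFunctor C D) : Prop :=
  ∀ {S : ShortComplex C} (_ : S.ShortExact), Mono ((T.T 0).map S.f)

/-- A short exact sequence of (effaceable, left exact) delta functors. -/
structure Seq (C : Type u) [Category.{v} C] [Abelian C] (D : Type u') [Category.{v'} D]
    [Abelian D] where
  /-- the three delta functors -/
  T₁ : DeltaFunctor C D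
  /-- the three delta functors -/
  T₂ : DeltaFunctor C D
  /-- the three delta functors -/
  T₃ : DeltaFunctor C D
  eff₁ : T₁.Effaceable
  eff₂ : T₂.Effaceable
  eff₃ : T₃.Effaceable
  left₁ : T₁.LeftExact
  left₂ : T₂.LeftExact
  left₃ : T₃.LeftExact
  /-- first map -/
  α : DeltaHom T₁ T₂
  /-- second map -/
  β : DeltaHom T₂ T₃
  w₀ : ∀ M : C, (α.app 0).app M ≫ (β.app 0).app M = 0
  short : ∀ (J : C) [Injective J], (ShortComplex.mk _ _ (w₀ J)).ShortExact

namespace Seq

variable (W : Seq C D)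

variable [EnoughInjectives C]

lemma w (n : ℕ) (M : C) : (W.α.app n).app M ≫ (W.β.app n).app M = 0 := by
  have h := DeltaHom.ext_zero W.eff₁ (W.α.comp W.β) (DeltaHom.zero W.T₁ W.T₃) (by
    ext M
    exact W.w₀ M) n
  exact congrArg (fun t => NatTrans.app t M) h

/-- The rows. -/
abbrev row (n : ℕ) (M : C) : ShortComplex D := ShortComplex.mk _ _ (W.w n M)

lemma row_zero_mono (M : C) : Mono ((W.α.app 0).app M) := by
  have hS := injSES_shortExact M
  have h1 := W.left₁ hS
  have h2 : Mono ((W.α.app 0).app (injSES M).X₂) := (W.short (Injective.under M)).mono_f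
  have h3 : Mono ((W.α.app 0).app M ≫ (W.T₂.T 0).map (injSES M).f) := by
    have : (W.α.app 0).app M ≫ (W.T₂.T 0).map (injSES M).f =
        (W.T₁.T 0).map (injSES M).f ≫ (W.α.app 0).app (injSES M).X₂ :=
      ((W.α.app 0).naturality (injSES M).f).symm
    rw [this]
    infer_instance
  exact mono_of_mono _ ((W.T₂.T 0).map (injSES M).f)

lemma row_zero_exact (M : C) : (W.row 0 M).Exact := by
  have hS := injSES_shortExact M
  have m1 := W.left₁ hS
  have m2 := W.left₂ hS
  have m3 := W.row_zero_mono (injSES M).X₃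
  rw [ShortComplex.exact_iff_exact_up_to_refinements]
  intro A x hx
  have nα : ∀ {X Y : C} (f : X ⟶ Y), (W.T₁.T 0).map f ≫ (W.α.app 0).app Y =
    (W.α.app 0).app X ≫ (W.T₂.T 0).map f := fun f => (W.α.app 0).naturality f
  have nβ : ∀ {X Y : C} (f : X ⟶ Y), (W.T₂.T 0).map f ≫ (W.β.app 0).app Y =
    (W.β.app 0).app X ≫ (W.T₃.T 0).map f := fun f => (W.β.app 0).naturality f
  have hx' : x ≫ (W.β.app 0).app M = 0 := hx
  have h1 : (x ≫ (W.T₂.T 0).map (injSES M).f) ≫ (W.β.app 0).app (injSES M).X₂ = 0 := by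
    rw [assoc, nβ]
    exact (reassoc_of% hx') _ |>.trans zero_comp
  have hJ := W.short (Injective.under M)
  have hJm : Mono ((W.α.app 0).app (injSES M).X₂) := hJ.mono_f
  obtain ⟨y, hy⟩ : ∃ y : A ⟶ (W.T₁.T 0).obj (injSES M).X₂,
      y ≫ (W.α.app 0).app (injSES M).X₂ = x ≫ (W.T₂.T 0).map (injSES M).f :=
    ⟨hJ.exact.lift _ h1, hJ.exact.lift_f _ h1⟩
  have h2 : y ≫ (W.T₁.T 0).map (injSES M).g = 0 := by
    rw [← cancel_mono ((W.α.app 0).app (injSES M).X₃), assoc, nα, ← assoc, hy, assoc,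
      ← Functor.map_comp, (injSES M).zero, Functor.map_zero, comp_zero, zero_comp]
  have e1 := W.T₁.exact₂ hS 0
  have e1m : Mono ((injSES M).map (W.T₁.T 0)).f := m1
  obtain ⟨z, hz⟩ : ∃ z : A ⟶ (W.T₁.T 0).obj M, z ≫ (W.T₁.T 0).map (injSES M).f = y :=
    ⟨e1.lift _ h2, e1.lift_f _ h2⟩
  refine ⟨A, 𝟙 A, inferInstance, z, ?_⟩
  rw [id_comp]
  change x = z ≫ (W.α.app 0).app M
  rw [← cancel_mono ((W.T₂.T 0).map (injSES M).f), ← hy, ← hz, assoc, assoc]
  exact congrArg (fun t => z ≫ t) (nα (injSES M).f)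

/-- The snake diagram. -/
noncomputable def snake {S : ShortComplex C} (hS : S.ShortExact) (hJ : Injective S.X₂) :
    ShortComplex.SnakeInput D where
  L₀ := W.row 0 S.X₁
  L₁ := W.row 0 S.X₂
  L₂ := W.row 0 S.X₃
  L₃ := W.row 1 S.X₁
  v₀₁ :=
    { τ₁ := (W.T₁.T 0).map S.f
      τ₂ := (W.T₂.T 0).map S.f
      τ₃ := (W.T₃.T 0).map S.f
      comm₁₂ := (W.α.app 0).naturality S.f
      comm₂₃ := (W.β.app 0).naturality S.f }
  v₁₂ :=
    { τ₁ := (W.T₁.T 0).map S.g
      τ₂ := (W.T₂.T 0).map S.g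
      τ₃ := (W.T₃.T 0).map S.g
      comm₁₂ := (W.α.app 0).naturality S.g
      comm₂₃ := (W.β.app 0).naturality S.g }
  v₂₃ :=
    { τ₁ := W.T₁.δ hS 0
      τ₂ := W.T₂.δ hS 0
      τ₃ := W.T₃.δ hS 0
      comm₁₂ := (W.α.comm hS 0).symm
      comm₂₃ := (W.β.comm hS 0).symm }
  w₀₂ := by ext <;> dsimp <;> rw [← Functor.map_comp, S.zero, Functor.map_zero]
  w₁₃ := by
    ext
    · exact W.T₁.zero₃ hS 0
    · exact W.T₂.zero₃ hS 0
    · exact W.T₃.zero₃ hS 0
  h₀ := by
    apply ShortComplex.isLimitOfIsLimitπ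
    · have : Mono (S.map (W.T₁.T 0)).f := W.left₁ hS
      exact (KernelFork.isLimitMapConeEquiv _ _).symm (W.T₁.exact₂ hS 0).fIsKernel
    · have : Mono (S.map (W.T₂.T 0)).f := W.left₂ hS
      exact (KernelFork.isLimitMapConeEquiv _ _).symm (W.T₂.exact₂ hS 0).fIsKernel
    · have : Mono (S.map (W.T₃.T 0)).f := W.left₃ hS
      exact (KernelFork.isLimitMapConeEquiv _ _).symm (W.T₃.exact₂ hS 0).fIsKernel
  h₃ := by
    apply ShortComplex.isColimitOfIsColimitπ
    · have : Epi (W.T₁.δ hS 0) := epi_δ _ hS 0 (W.eff₁ S.X₂ 0)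
      exact (CokernelCofork.isColimitMapCoconeEquiv _ _).symm (W.T₁.exact₃ hS 0).gIsCokernel
    · have : Epi (W.T₂.δ hS 0) := epi_δ _ hS 0 (W.eff₂ S.X₂ 0)
      exact (CokernelCofork.isColimitMapCoconeEquiv _ _).symm (W.T₂.exact₃ hS 0).gIsCokernel
    · have : Epi (W.T₃.δ hS 0) := epi_δ _ hS 0 (W.eff₃ S.X₂ 0)
      exact (CokernelCofork.isColimitMapCoconeEquiv _ _).symm (W.T₃.exact₃ hS 0).gIsCokernel
  L₁_exact := W.row_zero_exact _
  epi_L₁_g := (W.short S.X₂).epi_g
  L₂_exact := W.row_zero_exact _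
  mono_L₂_f := W.row_zero_mono _

/-- The connecting map in degree zero. -/
noncomputable def partial₀ : W.T₃.T 0 ⟶ W.T₁.T 1 where
  app M := (W.snake (injSES_shortExact M) (inferInstanceAs (Injective (Injective.under M)))).δ
  naturality M N f := by
    obtain ⟨φ, hφ⟩ := exists_hom (S := injSES M) (S' := injSES N) (injSES_shortExact M)
      (injSES_shortExact N) f
    let F : W.snake (injSES_shortExact M) (inferInstanceAs (Injective (Injective.under M))) ⟶
        W.snake (injSES_shortExact N) (inferInstanceAs (Injective (Injective.under N))) :=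
      { f₀ :=
          { τ₁ := (W.T₁.T 0).map φ.τ₁
            τ₂ := (W.T₂.T 0).map φ.τ₁
            τ₃ := (W.T₃.T 0).map φ.τ₁
            comm₁₂ := (W.α.app 0).naturality φ.τ₁
            comm₂₃ := (W.β.app 0).naturality φ.τ₁ }
        f₁ :=
          { τ₁ := (W.T₁.T 0).map φ.τ₂
            τ₂ := (W.T₂.T 0).map φ.τ₂
            τ₃ := (W.T₃.T 0).map φ.τ₂
            comm₁₂ := (W.α.app 0).naturality φ.τ₂
            comm₂₃ := (W.β.app 0).naturality φ.τ₂ }
        f₂ :=
          { τ₁ := (W.T₁.T 0).map φ.τ₃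
            τ₂ := (W.T₂.T 0).map φ.τ₃
            τ₃ := (W.T₃.T 0).map φ.τ₃
            comm₁₂ := (W.α.app 0).naturality φ.τ₃
            comm₂₃ := (W.β.app 0).naturality φ.τ₃ }
        f₃ :=
          { τ₁ := (W.T₁.T 1).map φ.τ₁
            τ₂ := (W.T₂.T 1).map φ.τ₁
            τ₃ := (W.T₃.T 1).map φ.τ₁
            comm₁₂ := (W.α.app 1).naturality φ.τ₁
            comm₂₃ := (W.β.app 1).naturality φ.τ₁ }
        comm₀₁ := by
          ext <;> simp only [ShortComplex.comp_τ₁, ShortComplex.comp_τ₂, ShortComplex.comp_τ₃, snake,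
            ← Functor.map_comp, φ.comm₁₂]
        comm₁₂ := by
          ext <;> simp only [ShortComplex.comp_τ₁, ShortComplex.comp_τ₂, ShortComplex.comp_τ₃, snake,
            ← Functor.map_comp, φ.comm₂₃]
        comm₂₃ := by
          ext
          · exact (W.T₁.naturality _ _ φ 0)
          · exact (W.T₂.naturality _ _ φ 0)
          · exact (W.T₃.naturality _ _ φ 0) }
    have h := ShortComplex.SnakeInput.naturality_δ F
    have h' : _ ≫ (W.T₁.T 1).map φ.τ₁ = (W.T₃.T 0).map φ.τ₁ ≫ _ := h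
    rw [hφ] at h'
    exact h'.symm

/-- **The long exact sequence.** -/
theorem exists_les : ∃ d : ∀ n, W.T₃.T n ⟶ W.T₁.T (n + 1),
    (∀ {S : ShortComplex C} (hS : S.ShortExact) (n : ℕ),
      (d n).app S.X₃ ≫ W.T₁.δ hS (n + 1) = W.T₃.δ hS n ≫ (d (n + 1)).app S.X₁) ∧
    (∀ n M, (W.row n M).Exact) ∧
    (∀ n M, ∃ w : (W.β.app n).app M ≫ (d n).app M = 0, (ShortComplex.mk _ _ w).Exact) ∧
    (∀ n M, ∃ w : (d n).app M ≫ (W.α.app (n + 1)).app M = 0, (ShortComplex.mk _ _ w).Exact) := by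
  obtain ⟨d, hd⟩ := exists_deltaHom W.T₃ W.T₁.shift W.eff₃ W.partial₀
  have hd0 : ∀ M, (d.app 0).app M =
      (W.snake (injSES_shortExact M) (inferInstanceAs (Injective (Injective.under M)))).δ := by
    intro M; rw [hd]; rfl
  have key : ∀ n M, (W.row n M).Exact ∧ (W.row (n + 1) M).Exact ∧
      (∃ w : (W.β.app n).app M ≫ (d.app n).app M = 0, (ShortComplex.mk _ _ w).Exact) ∧
      (∃ w : (d.app n).app M ≫ (W.α.app (n + 1)).app M = 0, (ShortComplex.mk _ _ w).Exact) := by
    intro n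
    induction n with
    | zero =>
      intro M
      let sn := W.snake (injSES_shortExact M) (inferInstanceAs (Injective (Injective.under M)))
      refine ⟨sn.L₀_exact, sn.L₃_exact, ?_, ?_⟩
      · refine ⟨by rw [hd0]; exact sn.L₀_g_δ, ?_⟩
        have h := sn.L₁'_exact
        simp only [hd0]
        exact h
      · refine ⟨by rw [hd0]; exact sn.δ_L₃_f, ?_⟩
        have h := sn.L₂'_exact
        simp only [hd0]
        exact h
    | succ n ih =>
      intro M
      have hS := injSES_shortExact M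
      obtain ⟨-, h2, ⟨w3, h3⟩, ⟨w4, h4⟩⟩ := ih (injSES M).X₃
      have E1 : ∀ k, Epi (W.T₁.δ hS k) := fun k => epi_δ _ hS k (W.eff₁ (Injective.under M) k)
      have E2 : ∀ k, Epi (W.T₂.δ hS k) := fun k => epi_δ _ hS k (W.eff₂ (Injective.under M) k)
      have E3 : ∀ k, Epi (W.T₃.δ hS k) := fun k => epi_δ _ hS k (W.eff₃ (Injective.under M) k)
      have M1 : ∀ k, Mono (W.T₁.δ hS (k + 1)) := fun k =>
        (W.T₁.exact₃ hS (k + 1)).mono_g ((W.eff₁ (Injective.under M) k).eq_of_src _ _)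
      have M2 : ∀ k, Mono (W.T₂.δ hS (k + 1)) := fun k =>
        (W.T₂.exact₃ hS (k + 1)).mono_g ((W.eff₂ (Injective.under M) k).eq_of_src _ _)
      have M3 : ∀ k, Mono (W.T₃.δ hS (k + 1)) := fun k =>
        (W.T₃.exact₃ hS (k + 1)).mono_g ((W.eff₃ (Injective.under M) k).eq_of_src _ _)
      have w3' : (W.β.app (n + 1)).app M ≫ (d.app (n + 1)).app M = 0 := by
        rw [← cancel_epi (W.T₂.δ hS n), ← assoc]
        have c1 := W.β.comm hS n
        have c2 := d.comm hS n
        rw [comp_zero]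
        refine (congrArg (fun t => t ≫ _) c1.symm).trans ?_
        rw [assoc]
        refine (congrArg (fun t => _ ≫ t) c2.symm).trans ?_
        rw [← assoc, w3, zero_comp]
      have w4' : (d.app (n + 1)).app M ≫ (W.α.app (n + 1 + 1)).app M = 0 := by
        rw [← cancel_epi (W.T₃.δ hS n), ← assoc]
        have c1 := d.comm hS n
        have c2 := W.α.comm hS (n + 1)
        rw [comp_zero]
        refine (congrArg (fun t => t ≫ _) c1.symm).trans ?_
        rw [assoc]
        refine (congrArg (fun t => _ ≫ t) c2.symm).trans ?_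
        rw [← assoc]
        exact (congrArg (fun t => t ≫ _) w4).trans zero_comp
      refine ⟨(ih M).2.1, ?_, ⟨w3', ?_⟩, ⟨w4', ?_⟩⟩
      · let φ : W.row (n + 1) (injSES M).X₃ ⟶ W.row (n + 1 + 1) M :=
          { τ₁ := W.T₁.δ hS (n + 1)
            τ₂ := W.T₂.δ hS (n + 1)
            τ₃ := W.T₃.δ hS (n + 1)
            comm₁₂ := (W.α.comm hS (n + 1)).symm
            comm₂₃ := (W.β.comm hS (n + 1)).symm }
        exact exact_of_epi_mono φ h2 (E2 _) (M3 _)
      · let φ : ShortComplex.mk _ _ w3 ⟶ ShortComplex.mk _ _ w3' :=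
          { τ₁ := W.T₂.δ hS n
            τ₂ := W.T₃.δ hS n
            τ₃ := W.T₁.δ hS (n + 1)
            comm₁₂ := (W.β.comm hS n).symm
            comm₂₃ := (d.comm hS n).symm }
        exact exact_of_epi_mono φ h3 (E3 _) (M1 _)
      · let φ : ShortComplex.mk _ _ w4 ⟶ ShortComplex.mk _ _ w4' :=
          { τ₁ := W.T₃.δ hS n
            τ₂ := W.T₁.δ hS (n + 1)
            τ₃ := W.T₂.δ hS (n + 1)
            comm₁₂ := (d.comm hS n).symm
            comm₂₃ := (W.α.comm hS (n + 1)).symm }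
        exact exact_of_epi_mono φ h4 (E1 _) (M2 _)
  exact ⟨d.app, d.comm, fun n M => (key n M).1, fun n M => (key n M).2.2.1,
    fun n M => (key n M).2.2.2⟩

end Seq

end Groth.Agent.Localalg.DeltaFun
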