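import Groth.Agent.Localalg.LCInst
import Groth.Agent.Localalg.DeltaSeq
import Mathlib.RingTheory.Flat.Localization
import Mathlib.RingTheory.Localization.BaseChange
import Mathlib.RingTheory.Localization.Away.Basic

/-!
# The exact sequence `H^n_{I+(f)}(M) → H^n_I(M) → H^n_I(M)_f → H^{n+1}_{I+(f)}(M)`
-/

set_option autoImplicit false
universe u

open CategoryTheory Limits TensorProduct
open Groth.Agent.Localalg.DeltaFun Groth.Agent.Localalg.Gam Groth.Agent.Localalg.LCAbs

namespace Groth.Agent.Localalg.LCSeq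

variable {R : Type u} [CommRing R]

lemma leftExact {I : Ideal R} (T : LC I) : T.D.LeftExact := by
  intro S hS
  have := hS.mono_f
  have h : Mono ((gamFunctor I).map S.f) := by
    rw [ModuleCat.mono_iff_injective]
    exact gamMap_injective S.f.hom ((ModuleCat.mono_iff_injective _).1 inferInstance)
  rw [zero_f_map_iso]
  infer_instance

lemma leftExact_postcomp {C : Type*} [Category* C] [Abelian C] {D : Type*} [Category* D] [Abelian D]
    {E : Type*} [Category* E] [Abelian E] (T : DeltaFunctor C D) (hT : T.LeftExact) (G : D ⥤ E)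
    [G.Additive] [PreservesFiniteLimits G] [PreservesFiniteColimits G] :
    (T.postcomp G).LeftExact := by
  intro S hS
  have := hT hS
  exact (inferInstance : Mono (G.map ((T.T 0).map S.f)))

/-- The localization functor `M ↦ R_f ⊗ M` on `R`-modules. -/
noncomputable abbrev loc (f : R) : ModuleCat.{u} R ⥤ ModuleCat.{u} R :=
  bc R (Localization.Away f) ⋙ res R (Localization.Away f)

/-- The localization map as a natural transformation. -/
noncomputable def toLoc (f : R) : 𝟭 (ModuleCat.{u} R) ⟶ loc f where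
  app M := ModuleCat.ofHom (X := M) (Y := (loc f).obj M)
    { toFun := fun m => (1 : Localization.Away f) ⊗ₜ[R] m
      map_add' := fun m m' => TensorProduct.tmul_add _ _ _
      map_smul' := fun r m => by
        change (1 : Localization.Away f) ⊗ₜ[R] (r • m) =
          (algebraMap R (Localization.Away f) r) • ((1 : Localization.Away f) ⊗ₜ[R] m)
        rw [TensorProduct.tmul_smul, algebraMap_smul] }
  naturality M N g := by
    ext m
    rfl

lemma toLoc_eq_zero {f : R} {M : ModuleCat.{u} R} (m : M) (h : ((toLoc f).app M).hom m = 0) :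
    ∃ n : ℕ, f ^ n • m = 0 := by
  have h' : TensorProduct.mk R (Localization.Away f) M 1 m = 0 := h
  rw [IsLocalizedModule.eq_zero_iff (Submonoid.powers f)] at h'
  obtain ⟨⟨_, n, rfl⟩, hn⟩ := h'
  exact ⟨n, hn⟩

lemma toLoc_eq_zero_of {f : R} {M : ModuleCat.{u} R} (m : M) (n : ℕ) (h : f ^ n • m = 0) :
    ((toLoc f).app M).hom m = 0 := by
  change TensorProduct.mk R (Localization.Away f) M 1 m = 0
  rw [IsLocalizedModule.eq_zero_iff (Submonoid.powers f)]
  exact ⟨⟨f ^ n, n, rfl⟩, h⟩

lemma toLoc_surjective {f : R} {M : ModuleCat.{u} R} (h : Div f M) :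
    Function.Surjective ((toLoc f).app M).hom := by
  intro (y : (Localization.Away f) ⊗[R] M)
  obtain ⟨⟨m, ⟨_, n, rfl⟩⟩, hm⟩ := IsLocalizedModule.mk'_surjective (Submonoid.powers f)
    (TensorProduct.mk R (Localization.Away f) M 1) y
  obtain ⟨z, k, hk⟩ := h m n
  refine ⟨z, ?_⟩
  change TensorProduct.mk R (Localization.Away f) M 1 z = y
  rw [← hm]
  symm
  change IsLocalizedModule.mk' _ _ _ = _
  rw [IsLocalizedModule.mk'_eq_iff, Submonoid.smul_def]
  change TensorProduct.mk R (Localization.Away f) M 1 m =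
    f ^ n • TensorProduct.mk R (Localization.Away f) M 1 z
  rw [← map_smul, ← sub_eq_zero, ← map_sub]
  rw [IsLocalizedModule.eq_zero_iff (Submonoid.powers f)]
  exact ⟨⟨f ^ k, k, rfl⟩, hk⟩

instance (f : R) : Module.Flat R (Localization.Away f) :=
  IsLocalization.flat _ (Submonoid.powers f)

instance (f : R) : PreservesFiniteLimits (loc f) := comp_preservesFiniteLimits _ _

instance (f : R) : PreservesFiniteColimits (loc f) := comp_preservesFiniteColimits _ _

/-- The inclusion `Γ_{I+J} → Γ_I`. -/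
def inclGam (I J : Ideal R) : gamFunctor.{u, u} (I ⊔ J) ⟶ gamFunctor I where
  app M := ModuleCat.ofHom (Submodule.inclusion (gam_mono (M := M) (le_sup_left : I ≤ I ⊔ J)))
  naturality _ _ _ := rfl

section

variable {I : Ideal R} {f : R}

/-- A lift of `Γ_{I+J} → Γ_I` to a morphism of delta functors. -/
noncomputable def incl {J : Ideal R} (T : LC I) (T' : LC (I ⊔ J)) : DeltaHom T'.D T.D :=
  (exists_deltaHom T'.D T.D T'.eff (T'.zero.hom ≫ inclGam I J ≫ T.zero.inv)).choose

lemma incl_zero {J : Ideal R} (T : LC I) (T' : LC (I ⊔ J)) :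
    (incl T T').app 0 = T'.zero.hom ≫ inclGam I J ≫ T.zero.inv :=
  (exists_deltaHom T'.D T.D T'.eff (T'.zero.hom ≫ inclGam I J ≫ T.zero.inv)).choose_spec

/-- The localization map as a morphism of delta functors. -/
noncomputable def toLocHom (f : R) (T : LC I) : DeltaHom T.D (T.D.postcomp (loc f)) where
  app n := { app := fun M => (toLoc f).app ((T.D.T n).obj M)
             naturality := fun _ _ g => (toLoc f).naturality ((T.D.T n).map g) }
  comm hS n := ((toLoc f).naturality (T.D.δ hS n)).symm

lemma inclGam_toLoc (I : Ideal R) (f : R) (M : ModuleCat.{u} R) :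
    (inclGam I (Ideal.span {f})).app M ≫ (toLoc f).app ((gamFunctor I).obj M) = 0 := by
  ext x
  obtain ⟨n, hn⟩ := mem_gam_span_singleton.1 (gam_mono (M := M) le_sup_right x.2)
  exact toLoc_eq_zero_of _ n (Subtype.ext hn)

lemma zero_comm (T : LC I) (T' : LC (I ⊔ Ideal.span {f})) (M : ModuleCat.{u} R) :
    T'.zero.hom.app M ≫ (inclGam I (Ideal.span {f})).app M =
      ((incl T T').app 0).app M ≫ T.zero.hom.app M := by
  rw [incl_zero]
  simp

lemma toLoc_comm (T : LC I) (M : ModuleCat.{u} R) :
    T.zero.hom.app M ≫ (toLoc f).app ((gamFunctor I).obj M) =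
      (toLoc f).app ((T.D.T 0).obj M) ≫ (loc f).map (T.zero.hom.app M) :=
  (toLoc f).naturality (T.zero.hom.app M)

lemma w_zero (T : LC I) (T' : LC (I ⊔ Ideal.span {f})) (M : ModuleCat.{u} R) :
    ((incl T T').app 0).app M ≫ ((toLocHom f T).app 0).app M = 0 := by
  have h1 := zero_comm T T' M
  have h2 := toLoc_comm (f := f) T M
  have key : ∀ {X Y : ModuleCat.{u} R} (i : X ⟶ (T.D.T 0).obj M)
      (j : X ⟶ (gamFunctor I).obj M) (_ : j = i ≫ T.zero.hom.app M)
      (_ : j ≫ (toLoc f).app ((gamFunctor I).obj M) = 0),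
      i ≫ (toLoc f).app ((T.D.T 0).obj M) = 0 := by
    intro X Y i j hj hj0
    rw [← cancel_mono ((loc f).map (T.zero.hom.app M)), zero_comp, Category.assoc, ← h2,
      ← Category.assoc, ← hj, hj0]
  exact key (Y := M) _ _ h1 (by rw [Category.assoc, inclGam_toLoc, comp_zero])

/-- Exactness on injectives. -/
lemma short_gam [IsNoetherianRing R] (I : Ideal R) (f : R) (J : ModuleCat.{u} R) [Injective J] :
    (ShortComplex.mk _ _ (inclGam_toLoc I f J)).ShortExact := by
  have hJ : Injective ((gamFunctor I).obj J) := injective_gamObj I J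
  refine ShortComplex.ShortExact.mk' ?_ ?_ ?_
  · rw [ShortComplex.moduleCat_exact_iff]
    intro (x : gam I J) hx
    obtain ⟨n, hn⟩ := toLoc_eq_zero (M := (gamFunctor I).obj J) x hx
    refine ⟨⟨x.1, ?_⟩, rfl⟩
    rw [gam_sup]
    exact ⟨x.2, mem_gam_span_singleton.2 ⟨n, congrArg Subtype.val hn⟩⟩
  · rw [ModuleCat.mono_iff_injective]
    exact Submodule.inclusion_injective (gam_mono (M := J) (le_sup_left : I ≤ I ⊔ Ideal.span {f}))
  · rw [ModuleCat.epi_iff_surjective]
    exact toLoc_surjective (div_of_injective f _ (moduleInjective ((gamFunctor I).obj J)))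

/-- The three term sequence of delta functors. -/
noncomputable def seq [IsNoetherianRing R] (T : LC I) (T' : LC (I ⊔ Ideal.span {f})) :
    Seq (ModuleCat.{u} R) (ModuleCat.{u} R) where
  T₁ := T'.D
  T₂ := T.D
  T₃ := T.D.postcomp (loc f)
  eff₁ := T'.eff
  eff₂ := T.eff
  eff₃ := fun J _ n => (loc f).map_isZero (T.eff J n)
  left₁ := leftExact T'
  left₂ := leftExact T
  left₃ := leftExact_postcomp T.D (leftExact T) (loc f)
  α := incl T T'
  β := toLocHom f T
  w₀ := w_zero T T'
  short := by
    intro J _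
    refine ShortComplex.shortExact_of_iso ?_ (short_gam I f J)
    exact (ShortComplex.isoMk (T'.zero.app J) (T.zero.app J) ((loc f).mapIso (T.zero.app J))
      (zero_comm T T' J) (toLoc_comm T J)).symm

end

section Concrete

variable [IsNoetherianRing R] (I : Ideal R) (f : R)

/-- The exact sequence `H^n_{I+(f)} → H^n_I → (H^n_I)_f → H^{n+1}_{I+(f)}`, natural. -/
theorem exists_natural : ∃ (a : ∀ n, localCohomology (I ⊔ Ideal.span {f}) n ⟶ localCohomology I n)
    (d : ∀ n, localCohomology I n ⋙ loc f ⟶ localCohomology (I ⊔ Ideal.span {f}) (n + 1)),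
    (∀ M : ModuleCat.{u} R, Function.Injective ((a 0).app M).hom) ∧
    ∀ (n : ℕ) (M : ModuleCat.{u} R),
      Function.Exact ((a n).app M).hom ((toLoc f).app ((localCohomology I n).obj M)).hom ∧
      Function.Exact ((toLoc f).app ((localCohomology I n).obj M)).hom ((d n).app M).hom ∧
      Function.Exact ((d n).app M).hom ((a (n + 1)).app M).hom := by
  let W := seq (lc I) (lc (I ⊔ Ideal.span {f}))
  obtain ⟨d, -, h1, h2, h3⟩ := W.exists_les
  refine ⟨fun n => (incl (lc I) (lc (I ⊔ Ideal.span {f}))).app n, d, ?_, fun n M => ⟨?_, ?_, ?_⟩⟩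
  · intro M
    exact (ModuleCat.mono_iff_injective _).1 (W.row_zero_mono M)
  · exact (ShortComplex.ShortExact.moduleCat_exact_iff_function_exact _).1 (h1 n M)
  · obtain ⟨w, hw⟩ := h2 n M
    exact (ShortComplex.ShortExact.moduleCat_exact_iff_function_exact _).1 hw
  · obtain ⟨w, hw⟩ := h3 n M
    exact (ShortComplex.ShortExact.moduleCat_exact_iff_function_exact _).1 hw

omit [IsNoetherianRing R] in
/-- The carrier of `loc f` -/
noncomputable def locEquiv (N : Type u) [AddCommGroup N] [Module R N] :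
    ((Localization.Away f) ⊗[R] N) ≃ₗ[R] (loc f).obj (ModuleCat.of R N) where
  toFun x := x
  invFun x := x
  left_inv _ := rfl
  right_inv _ := rfl
  map_add' _ _ := rfl
  map_smul' r x := (algebraMap_smul (Localization.Away f) r x).symm

/-- The exact sequence `H^n_{I+(f)}(M) → H^n_I(M) → H^n_I(M)_f → H^{n+1}_{I+(f)}(M)`. -/
theorem exists_exact (M : Type u) [AddCommGroup M] [Module R M] :
    ∃ (a : ∀ n, LocCoh.H (I ⊔ Ideal.span {f}) n M →ₗ[R] LocCoh.H I n M)
      (d : ∀ n, LocalizedModule (Submonoid.powers f) (LocCoh.H I n M) →ₗ[R]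
        LocCoh.H (I ⊔ Ideal.span {f}) (n + 1) M),
      Function.Injective (a 0) ∧ ∀ n : ℕ,
        Function.Exact (a n) (LocalizedModule.mkLinearMap (Submonoid.powers f) (LocCoh.H I n M)) ∧
        Function.Exact (LocalizedModule.mkLinearMap (Submonoid.powers f) (LocCoh.H I n M)) (d n) ∧
        Function.Exact (d n) (a (n + 1)) := by
  obtain ⟨a, d, h0, h⟩ := exists_natural I f
  let e : ∀ n, LocalizedModule (Submonoid.powers f) (LocCoh.H I n M) ≃ₗ[R]
      (loc f).obj ((localCohomology I n).obj (ModuleCat.of R M)) := fun n =>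
    IsLocalizedModule.linearEquiv (Submonoid.powers f)
      (LocalizedModule.mkLinearMap (Submonoid.powers f) (LocCoh.H I n M))
      (TensorProduct.mk R (Localization.Away f) (LocCoh.H I n M) 1) ≪≫ₗ
      locEquiv f (LocCoh.H I n M)
  have he : ∀ n x, e n (LocalizedModule.mkLinearMap (Submonoid.powers f) (LocCoh.H I n M) x) =
      ((toLoc f).app ((localCohomology I n).obj (ModuleCat.of R M))).hom x := by
    intro n x
    change locEquiv f (LocCoh.H I n M) (IsLocalizedModule.linearEquiv (Submonoid.powers f)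
      (LocalizedModule.mkLinearMap (Submonoid.powers f) (LocCoh.H I n M))
      (TensorProduct.mk R (Localization.Away f) (LocCoh.H I n M) 1)
      (LocalizedModule.mkLinearMap (Submonoid.powers f) (LocCoh.H I n M) x)) = _
    rw [IsLocalizedModule.linearEquiv_apply]
    rfl
  refine ⟨fun n => ((a n).app (ModuleCat.of R M)).hom,
    fun n => ((d n).app (ModuleCat.of R M)).hom ∘ₗ (e n).toLinearMap, h0 _, fun n => ?_⟩
  obtain ⟨h1, h2, h3⟩ := h n (ModuleCat.of R M)
  refine ⟨fun x => ?_, fun y => ?_, fun z => ?_⟩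
  · rw [← h1 x, ← he n x]
    exact ((e n).map_eq_zero_iff).symm
  · refine (h2 (e n y)).trans ?_
    constructor
    · rintro ⟨x, hx⟩
      exact ⟨x, (e n).injective ((he n x).trans hx)⟩
    · rintro ⟨x, rfl⟩
      exact ⟨x, (he n x).symm⟩
  · refine (h3 z).trans ?_
    constructor
    · rintro ⟨y, rfl⟩
      obtain ⟨y, rfl⟩ := (e n).surjective y
      exact ⟨y, rfl⟩
    · rintro ⟨y, rfl⟩
      exact ⟨e n y, rfl⟩

end Concrete

end Groth.Agent.Localalg.LCSeq
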