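import Groth.Agent.Localalg.GrpSchComp
import Mathlib.AlgebraicGeometry.Group.Abelian
import Mathlib.Topology.Spectral.Prespectral

/-! The connected component of the identity of a group scheme over a field. -/

set_option autoImplicit false
universe u v
open CategoryTheory MonoidalCategory CartesianMonoidalCategory MonObj GrpObj AlgebraicGeometry

namespace Groth.Agent.Localalg.GrpSchComp2

open GrpSchShear GrpSchPts GrpSchComp

/-- The range of a quasi-compact morphism is closed if it is stable under specialization. -/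
lemma isClosed_range_of_stableUnderSpecialization {X Y : Scheme.{u}} (f : X ⟶ Y) [QuasiCompact f]
    (h : StableUnderSpecialization (Set.range f)) : IsClosed (Set.range f) := by
  wlog hY : ∃ R, Y = Spec R
  · refine isClosed_of_closure_subset fun y hy => ?_
    obtain ⟨i, v, rfl⟩ := Y.affineCover.exists_eq y
    let j := Y.affineCover.f i
    have h1 : Set.range (Limits.pullback.snd f j) = j ⁻¹' (Set.range f) :=
      Scheme.Pullback.range_snd _ _
    have h2 : IsClosed (Set.range (Limits.pullback.snd f j)) := by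
      refine this _ ?_ ⟨_, rfl⟩
      rw [h1]
      exact h.preimage j.continuous
    have h3 : v ∈ closure (j ⁻¹' (Set.range f)) :=
      j.isOpenEmbedding.isOpenMap.preimage_closure_subset_closure_preimage hy
    rw [← h1, h2.closure_eq, h1] at h3
    exact h3
  obtain ⟨R, rfl⟩ := hY
  obtain ⟨S, g, hg⟩ := compactSpace_iff_exists.mp (QuasiCompact.compactSpace_of_compactSpace f)
  have h4 : Set.range (g ≫ f) = Set.range f := by
    rw [Scheme.Hom.comp_base, TopCat.coe_comp, Set.range_comp, hg.range_eq, Set.image_univ]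
  rw [← h4] at h ⊢
  obtain ⟨φ, hφ⟩ := Spec.homEquiv.symm.surjective (g ≫ f)
  rw [← hφ] at h ⊢
  exact PrimeSpectrum.isClosed_range_of_stableUnderSpecialization φ.hom h

/-- A morphism from a compact scheme to a quasi-separated scheme is quasi-compact, so its range is
closed as soon as it is stable under specialization. -/
lemma isClosed_range_of_compactSpace {X Y : Scheme.{u}} (f : X ⟶ Y) [CompactSpace X]
    [QuasiSeparatedSpace Y] (h : StableUnderSpecialization (Set.range f)) :
    IsClosed (Set.range f) := by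
  have : QuasiCompact f := by
    have h1 : QuasiCompact (f ≫ Limits.terminal.from Y) := by
      rw [Subsingleton.elim (f ≫ Limits.terminal.from Y) (Limits.terminal.from X)]
      infer_instance
    exact QuasiCompact.of_comp f (Limits.terminal.from Y)
  exact isClosed_range_of_stableUnderSpecialization f h

lemma isPullback_diag {C : Type u} [Category.{v} C] [CartesianMonoidalCategory C] (G : C)
    [GrpObj G] :
    IsPullback (lift (𝟙 G) (𝟙 G)) (toUnit G) ((fst G G)⁻¹ * snd G G) η[G] where
  w := by
    rw [comp_mul, comp_inv, lift_fst, lift_snd, inv_mul_cancel, Hom.one_def]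
  isLimit' := ⟨Limits.PullbackCone.IsLimit.mk _ (fun s => s.fst ≫ fst G G)
    (fun s => by
      have h := s.condition
      rw [comp_mul, comp_inv] at h
      have h2 : s.snd ≫ η[G] = 1 := by
        rw [toUnit_unique s.snd (toUnit _), Hom.one_def]
      rw [h2, inv_mul_eq_one] at h
      ext
      · simp
      · simpa using h)
    (fun s => toUnit_unique _ _)
    (fun s m hm _ => by
      rw [← hm]; simp)⟩

set_option backward.isDefEq.respectTransparency false in
lemma isPullback_diagonal (S : Scheme.{u}) (G : Over S) [GrpObj G] :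
    IsPullback (Limits.pullback.diagonal G.hom) G.hom ((fst G G)⁻¹ * snd G G).left η[G].left :=
  (isPullback_diag G).map (Over.forget S)

section

variable {K : Type u} [Field K] (G : Over (Spec (CommRingCat.of K))) [GrpObj G]

/-- A group scheme over a field is separated. -/
lemma isSeparated_hom : IsSeparated G.hom :=
  ⟨MorphismProperty.of_isPullback (P := @IsClosedImmersion) (isPullback_diagonal _ G).flip
    inferInstance⟩

lemma quasiSeparatedSpace : QuasiSeparatedSpace G.left := by
  have := isSeparated_hom G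
  exact quasiSeparatedSpace_of_quasiSeparated G.hom

/-- The identity point. -/
noncomputable def one : G.left := η[G].left (IsLocalRing.closedPoint K)

lemma one_eq (s : Spec (CommRingCat.of K)) : η[G].left s = one G := by
  rw [one, Subsingleton.elim (α := Spec (CommRingCat.of K)) s (IsLocalRing.closedPoint K)]

/-- The irreducible component of the identity. -/
def N : Set G.left := irreducibleComponent (one G)

lemma isClosed_N : IsClosed (N G) := isClosed_irreducibleComponent

lemma isIrreducible_N : IsIrreducible (N G) := isIrreducible_irreducibleComponent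

lemma one_mem_N : one G ∈ N G := mem_irreducibleComponent

variable {G} in
lemma mem_N_of_specializes {y : G.left} (hy : y ⤳ one G) : y ∈ N G := by
  have h1 : irreducibleComponent y = irreducibleComponent (one G) :=
    (uniqueGen G (one G)).eq_of_mem (irreducibleComponent_mem_irreducibleComponents y)
      (irreducibleComponent_mem_irreducibleComponents _)
      (hy.mem_closed isClosed_irreducibleComponent mem_irreducibleComponent)
      mem_irreducibleComponent
  rw [N, ← h1]
  exact mem_irreducibleComponent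

/-- The generic point of `N`. -/
noncomputable def ξ : G.left := (isIrreducible_N G).genericPoint

lemma isGenericPoint_ξ : IsGenericPoint (ξ G) (N G) :=
  (isIrreducible_N G).isGenericPoint_genericPoint (isClosed_N G)

lemma ξ_mem : ξ G ∈ N G := (isGenericPoint_ξ G).mem

variable {G} in
lemma ξ_specializes {x : G.left} (hx : x ∈ N G) : ξ G ⤳ x := (isGenericPoint_ξ G).specializes hx

variable {G} in
lemma eq_ξ_of_specializes {z : G.left} (hz : z ⤳ ξ G) : z = ξ G := by
  have h1 : z ∈ N G := mem_N_of_specializes (hz.trans (ξ_specializes (one_mem_N G)))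
  exact (hz.antisymm (ξ_specializes h1)).eq

/-- The base change to an algebraic closure: closed subsets above irreducible component of the
identity are irreducible. -/
lemma isIrreducible_preimage_N (Kb : Type u) [Field Kb] [Algebra K Kb] [Algebra.IsAlgebraic K Kb] :
    IsIrreducible ((Limits.pullback.fst G.hom
      (Spec.map (CommRingCat.ofHom (algebraMap K Kb)))) ⁻¹' (N G)) := by
  let f := Spec.map (CommRingCat.ofHom (algebraMap K Kb))
  let G' : Over (Spec (CommRingCat.of Kb)) := (Over.pullback f).obj G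
  let : GrpObj G' := Functor.grpObjObj
  let π : G'.left ⟶ G.left := Limits.pullback.fst G.hom f
  have hflat : Flat π := inferInstanceAs (Flat (Limits.pullback.fst G.hom f))
  have hint0 : IsIntegralHom f := by
    rw [IsIntegralHom.SpecMap_iff]
    exact algebraMap_isIntegral_iff.mpr inferInstance
  have hint : IsIntegralHom π := inferInstanceAs (IsIntegralHom (Limits.pullback.fst G.hom f))
  have hclosed : IsClosedMap π := π.isClosedMap
  -- the fibre over the identity is a single point
  have hsq : IsPullback π G'.hom G.hom f := IsPullback.of_hasPullback G.hom f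
  let η' : Spec (CommRingCat.of Kb) ⟶ G'.left :=
    hsq.lift (f ≫ η[G].left) (𝟙 _) (by simp)
  have h1 : η' ≫ π = f ≫ η[G].left := hsq.lift_fst _ _ _
  have h2 : η' ≫ G'.hom = 𝟙 _ := hsq.lift_snd _ _ _
  have hfib : IsPullback η' f π η[G].left := by
    refine IsPullback.of_right (h₁₂ := G'.hom) (h₂₂ := G.hom) (v₁₃ := f) ?_ h1 hsq.flip
    have h3 : η[G].left ≫ G.hom = 𝟙 (Spec (CommRingCat.of K)) := by simp
    rw [h2]
    have h4 : IsPullback (𝟙 (Spec (CommRingCat.of Kb))) f f (η[G].left ≫ G.hom) := by
      rw [h3]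
      exact IsPullback.of_horiz_isIso ⟨by simp⟩
    exact h4
  have huniq : ∀ a b : G'.left, π a = one G → π b = one G → a = b := by
    intro a b ha hb
    obtain ⟨p, hp, -⟩ := Scheme.exists_preimage_of_isPullback hfib a
      (IsLocalRing.closedPoint K) ha
    obtain ⟨q, hq, -⟩ := Scheme.exists_preimage_of_isPullback hfib b
      (IsLocalRing.closedPoint K) hb
    rw [← hp, ← hq, Subsingleton.elim p q]
  have hspec : ∀ y : G'.left, π y = ξ G → ∃ e : G'.left, y ⤳ e ∧ π e = one G := by
    intro y hy
    have h3 : IsClosed (π '' (closure {y})) := hclosed _ isClosed_closure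
    have h4 : one G ∈ π '' (closure {y}) :=
      (ξ_specializes (one_mem_N G)).mem_closed h3 ⟨y, subset_closure rfl, hy⟩
    obtain ⟨e, he, he'⟩ := h4
    exact ⟨e, specializes_iff_mem_closure.mpr he, he'⟩
  have hgen : ∀ y : G'.left, π y ∈ N G → ∃ y' : G'.left, y' ⤳ y ∧ π y' = ξ G := fun y hy =>
    Flat.generalizingMap π (ξ_specializes hy)
  refine ⟨?_, ?_⟩
  · let s : Spec (CommRingCat.of Kb) := IsLocalRing.closedPoint Kb
    refine ⟨η' s, ?_⟩
    have h3 : π (η' s) = one G := by
      rw [← Scheme.Hom.comp_apply, h1, Scheme.Hom.comp_apply]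
      exact one_eq G _
    change π (η' s) ∈ N G
    rw [h3]
    exact one_mem_N G
  · rintro U V hU hV ⟨u, hu, huU⟩ ⟨v, hv, hvV⟩
    obtain ⟨u', hu', hu''⟩ := hgen u hu
    obtain ⟨v', hv', hv''⟩ := hgen v hv
    obtain ⟨a, ha, ha'⟩ := hspec u' hu''
    obtain ⟨b, hb, hb'⟩ := hspec v' hv''
    obtain rfl := huniq a b ha' hb'
    obtain ⟨z, hz1, hz2⟩ := uniqueGen G' a u' v' ha hb
    have hz3 : π z = ξ G := by
      apply eq_ξ_of_specializes
      have := hz1.map π.continuous
      rwa [hu''] at this
    refine ⟨z, ?_, (hz1.trans hu').mem_open hU huU, (hz2.trans hv').mem_open hV hvV⟩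
    change π z ∈ N G
    rw [hz3]
    exact ξ_mem G

/-- The irreducible component of the identity is geometrically irreducible. -/
theorem geometricallyIrreducible_N {Z' : Scheme.{u}} (i : Z' ⟶ G.left) [IsClosedImmersion i]
    (hi : Set.range i = N G) : GeometricallyIrreducible (i ≫ G.hom) := by
  let Kb := AlgebraicClosure K
  let f := Spec.map (CommRingCat.ofHom (algebraMap K Kb))
  have h1 : IrreducibleSpace ↥(Limits.pullback i (Limits.pullback.fst G.hom f)) := by
    have : IsClosedImmersion (Limits.pullback.snd i (Limits.pullback.fst G.hom f)) := inferInstance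
    refine irreducibleSpace_of_isClosedImmersion
      (Limits.pullback.snd i (Limits.pullback.fst G.hom f)) ?_
    rw [Scheme.Pullback.range_snd, hi]
    exact isIrreducible_preimage_N G Kb
  have h2 : IrreducibleSpace ↥(Limits.pullback (i ≫ G.hom) f) :=
    (Limits.pullbackRightPullbackFstIso G.hom f i).hom.homeomorph.irreducibleSpace_iff.mp h1
  exact VarietyA.GeomIrr.geometricallyIrreducible_of_irreducibleSpace_of_isSepClosed K Kb
    (i ≫ G.hom)

/-- The box `N × N` has a generic point mapping into `N`. -/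
lemma isSubgroupSet_N : IsSubgroupSet G (N G) := by
  obtain ⟨Z', i, hi, hr⟩ := exists_isClosedImmersion G.left (N G) (isClosed_N G)
  have hZ := irreducibleSpace_of_isClosedImmersion i (by rw [hr]; exact isIrreducible_N G)
  have h3 := geometricallyIrreducible_N G i hr
  have h4 : IrreducibleSpace ↥(Limits.pullback (i ≫ G.hom) (i ≫ G.hom)) := inferInstance
  let φ : Limits.pullback (i ≫ G.hom) (i ≫ G.hom) ⟶ (G ⊗ G).left :=
    Limits.pullback.map _ _ G.hom G.hom i i (𝟙 _) (by simp) (by simp)
  have hφ : ∀ w : (G ⊗ G).left, (fst G G).left w ∈ N G → (snd G G).left w ∈ N G →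
      φ (genericPoint _) ⤳ w := fun w hw1 hw2 => by
    have hr : w ∈ Set.range φ := by
      rw [Scheme.Pullback.range_map, hr]
      exact ⟨hw1, hw2⟩
    obtain ⟨v, rfl⟩ := hr
    exact (genericPoint_specializes v).map φ.continuous
  have hz : μ[G].left (φ (genericPoint _)) ∈ N G := by
    apply mem_N_of_specializes
    let ψ : 𝟙_ _ ⟶ G ⊗ G := lift η[G] η[G]
    let s : (𝟙_ (Over (Spec (CommRingCat.of K)))).left := IsLocalRing.closedPoint K
    have h5 : μ[G].left (ψ.left s) = one G := by
      rw [← comp_left_apply]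
      have : ψ ≫ μ[G] = η[G] := by
        have : ψ ≫ μ[G] = η[G] * η[G] := by simp [ψ, Hom.mul_def]
        rw [this, one_eq_one, _root_.one_mul]
      rw [this]
      exact one_eq G _
    rw [← h5]
    refine (hφ _ ?_ ?_).map μ[G].left.continuous
    · rw [← comp_left_apply]
      have : ψ ≫ fst G G = η[G] := by simp [ψ]
      rw [this]
      rw [one_eq G]
      exact one_mem_N G
    · rw [← comp_left_apply]
      have : ψ ≫ snd G G = η[G] := by simp [ψ]
      rw [this]
      rw [one_eq G]
      exact one_mem_N G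
  refine ⟨fun s => ?_, fun w h1 h2 => ?_, fun x hx => ?_⟩
  · rw [one_eq]; exact one_mem_N G
  · exact ((hφ w h1 h2).map μ[G].left.continuous).mem_closed (isClosed_N G) hz
  · have h5 : ι[G].left (one G) = one G := by
      let s : (𝟙_ (Over (Spec (CommRingCat.of K)))).left := IsLocalRing.closedPoint K
      have h6 : η[G].left s = one G := one_eq G s
      rw [← h6, ← comp_left_apply, one_inv]
    have h6 : ι[G].left (ξ G) ∈ N G := by
      apply mem_N_of_specializes
      have := (ξ_specializes (one_mem_N G)).map ι[G].left.continuous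
      rwa [h5] at this
    exact ((ξ_specializes hx).map ι[G].left.continuous).mem_closed (isClosed_N G) h6

/-- The inverse of the other shear `(x, y) ↦ (x * y, y)`. -/
noncomputable def shear' : G ⊗ G ≅ G ⊗ G where
  hom := lift μ[G] (snd G G)
  inv := lift (fst G G * (snd G G)⁻¹) (snd G G)
  hom_inv_id := by
    have : μ[G] = fst G G * snd G G := by simp [Hom.mul_def]
    rw [this]
    ext <;> simp [comp_mul, comp_inv]
  inv_hom_id := by
    have : μ[G] = fst G G * snd G G := by simp [Hom.mul_def]
    rw [this]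
    ext <;> simp [comp_mul]

lemma shear'_hom_fst : (shear' G).hom ≫ fst G G = μ[G] := by simp [shear']

lemma shear'_hom_snd : (shear' G).hom ≫ snd G G = snd G G := by simp [shear']

lemma iso_hom_inv_apply {S : Scheme.{u}} {X Y : Over S} (e : X ≅ Y) (x : X.left) :
    e.inv.left (e.hom.left x) = x := by
  rw [← comp_left_apply, Iso.hom_inv_id]; simp

lemma iso_inv_hom_apply {S : Scheme.{u}} {X Y : Over S} (e : X ≅ Y) (y : Y.left) :
    e.hom.left (e.inv.left y) = y := by
  rw [← comp_left_apply, Iso.inv_hom_id]; simp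

/-- existence of points in `X × Y` with given projections. -/
lemma exists_tensor (X Y : Over (Spec (CommRingCat.of K))) (x : X.left) (y : Y.left) :
    ∃ w : (X ⊗ Y).left, (fst X Y).left w = x ∧ (snd X Y).left w = y :=
  Scheme.exists_preimage_of_isPullback (isPullback_tensor X Y) x y
    (Subsingleton.elim (α := Spec (CommRingCat.of K)) _ _)

/-- Any element of `N` is a product of two elements of any relatively open nonempty subset. -/
lemma exists_mul_eq {O O' : Set G.left} (hO : IsOpen O) (hO' : IsOpen O')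
    (hNO : (N G ∩ O).Nonempty) (hNO' : (N G ∩ O').Nonempty) (g : G.left)
    (hg : g ∈ N G) : ∃ w : (G ⊗ G).left, (fst G G).left w ∈ N G ∩ O ∧
      (snd G G).left w ∈ N G ∩ O' ∧ μ[G].left w = g := by
  obtain ⟨Z', i, hi, hr⟩ := exists_isClosedImmersion G.left (N G) (isClosed_N G)
  have hZ := irreducibleSpace_of_isClosedImmersion i (by rw [hr]; exact isIrreducible_N G)
  have h3 := geometricallyIrreducible_N G i hr
  let k := G.left.fromSpecResidueField g
  have h4 : IrreducibleSpace ↥(Limits.pullback (i ≫ G.hom) (k ≫ G.hom)) := by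
    have : IrreducibleSpace (Spec (G.left.residueField g)) :=
      inferInstanceAs (IrreducibleSpace (PrimeSpectrum (G.left.residueField g)))
    infer_instance
  let φ : Limits.pullback (i ≫ G.hom) (k ≫ G.hom) ⟶ (G ⊗ G).left :=
    Limits.pullback.map _ _ G.hom G.hom i k (𝟙 _) (by simp) (by simp)
  have hφ : Set.range φ = {w | (fst G G).left w ∈ N G ∧ (snd G G).left w = g} := by
    rw [Scheme.Pullback.range_map, hr, Scheme.range_fromSpecResidueField]
    rfl
  let φ' := φ ≫ (shear G).inv.left
  have h1 : ∀ q, (fst G G).left (φ' q) ∈ N G := fun q => by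
    have : φ q ∈ Set.range φ := ⟨q, rfl⟩
    rw [hφ] at this
    rw [Scheme.Hom.comp_apply, ← comp_left_apply]
    have h5 : (shear G).inv ≫ fst G G = fst G G := by simp [shear]
    rw [h5]
    exact this.1
  have h2 : ∀ q, μ[G].left (φ' q) = g := fun q => by
    have : φ q ∈ Set.range φ := ⟨q, rfl⟩
    rw [hφ] at this
    rw [Scheme.Hom.comp_apply, ← comp_left_apply]
    have h5 : (shear G).inv ≫ μ[G] = snd G G := by rw [← shear_hom_snd, Iso.inv_hom_id_assoc]
    rw [h5]
    exact this.2
  have h2' : ∀ q, (snd G G).left (φ' q) ∈ N G := fun q =>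
    (isSubgroupSet_N G).snd_mem G _ (h1 q) (by rw [h2]; exact hg)
  -- the two open subsets
  have hne1 : ((φ' ≫ (fst G G).left) ⁻¹' O).Nonempty := by
    obtain ⟨a, ha, haO⟩ := hNO
    obtain ⟨w, hw1, hw2⟩ := exists_tensor G G a g
    have : w ∈ Set.range φ := by rw [hφ]; exact ⟨by rwa [hw1], hw2⟩
    obtain ⟨q, hq⟩ := this
    refine ⟨q, ?_⟩
    have h6 : (φ' ≫ (fst G G).left) q = a := by
      rw [Scheme.Hom.comp_apply, Scheme.Hom.comp_apply, ← comp_left_apply, hq]
      have h5 : (shear G).inv ≫ fst G G = fst G G := by simp [shear]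
      rw [h5, hw1]
    rw [Set.mem_preimage, h6]
    exact haO
  have hne2 : ((φ' ≫ (snd G G).left) ⁻¹' O').Nonempty := by
    obtain ⟨b, hb, hbO⟩ := hNO'
    obtain ⟨v, hv1, hv2⟩ := exists_tensor G G g b
    let w := (shear' G).inv.left v
    have hwv : (shear' G).hom.left w = v := iso_inv_hom_apply _ v
    have hw1 : μ[G].left w = g := by
      rw [← shear'_hom_fst, comp_left_apply, hwv, hv1]
    have hw2 : (snd G G).left w = b := by
      rw [← shear'_hom_snd, comp_left_apply, hwv, hv2]
    have hw3 : (fst G G).left w ∈ N G :=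
      (isSubgroupSet_N G).fst_mem G w (by rwa [hw2]) (by rwa [hw1])
    have : (shear G).hom.left w ∈ Set.range φ := by
      rw [hφ]
      refine ⟨?_, ?_⟩
      · rw [← comp_left_apply, shear_hom_fst]; exact hw3
      · rw [← comp_left_apply, shear_hom_snd]; exact hw1
    obtain ⟨q, hq⟩ := this
    refine ⟨q, ?_⟩
    have h6 : (φ' ≫ (snd G G).left) q = b := by
      rw [Scheme.Hom.comp_apply, Scheme.Hom.comp_apply, hq, iso_hom_inv_apply, hw2]
    rw [Set.mem_preimage, h6]
    exact hbO
  obtain ⟨q, hq1, hq2⟩ := nonempty_preirreducible_inter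
    (hO.preimage (φ' ≫ (fst G G).left).continuous)
    (hO'.preimage (φ' ≫ (snd G G).left).continuous) hne1 hne2
  exact ⟨φ' q, ⟨h1 q, by simpa using hq1⟩, ⟨h2' q, by simpa using hq2⟩, h2 q⟩

/-- The irreducible component of the identity is quasi-compact. -/
theorem isCompact_N : IsCompact (N G) := by
  obtain ⟨Z', i, hi, hr⟩ := exists_isClosedImmersion G.left (N G) (isClosed_N G)
  obtain ⟨V, hV, hxV, -⟩ := exists_isAffineOpen_mem_and_subset (X := G.left) (x := one G)
    (U := ⊤) trivial
  let j : (i ⁻¹ᵁ V).toScheme ⟶ G.left := (i ⁻¹ᵁ V).ι ≫ i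
  have hVa : IsAffine (i ⁻¹ᵁ V).toScheme := hV.preimage i
  have hj : Set.range j = N G ∩ V := by
    rw [Scheme.Hom.comp_base, TopCat.coe_comp, Set.range_comp, Scheme.Opens.range_ι]
    change i '' (i ⁻¹' (V : Set G.left)) = _
    rw [Set.image_preimage_eq_range_inter, hr]
  have hc : CompactSpace ↥(Limits.pullback (j ≫ G.hom) (j ≫ G.hom)) := inferInstance
  let φ : Limits.pullback (j ≫ G.hom) (j ≫ G.hom) ⟶ (G ⊗ G).left :=
    Limits.pullback.map _ _ G.hom G.hom j j (𝟙 _) (by simp) (by simp)
  have hN : N G = Set.range (φ ≫ μ[G].left) := by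
    ext g
    constructor
    · intro hg
      obtain ⟨w, hw1, hw2, hw3⟩ := exists_mul_eq G V.isOpen V.isOpen ⟨_, one_mem_N G, hxV⟩
        ⟨_, one_mem_N G, hxV⟩ g hg
      have : w ∈ Set.range φ := by
        rw [Scheme.Pullback.range_map, hj]
        exact ⟨hw1, hw2⟩
      obtain ⟨q, hq⟩ := this
      exact ⟨q, by rw [Scheme.Hom.comp_apply, hq, hw3]⟩
    · rintro ⟨q, rfl⟩
      have : φ q ∈ Set.range φ := ⟨q, rfl⟩
      rw [Scheme.Pullback.range_map, hj] at this
      rw [Scheme.Hom.comp_apply]
      exact (isSubgroupSet_N G).mul_mem _ this.1.1 this.2.1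
  rw [hN]
  exact isCompact_range (φ ≫ μ[G].left).continuous

/-- `x ∈ N * y`. -/
def Rel (x y : G.left) : Prop :=
  ∃ p : (G ⊗ G).left, (fst G G).left p ∈ N G ∧ (snd G G).left p = y ∧ μ[G].left p = x

variable {G}

lemma Rel.symm {x y : G.left} (h : Rel G x y) : Rel G y x := by
  obtain ⟨p, hp1, hp2, hp3⟩ := h
  let φ : G ⊗ G ⟶ G ⊗ G := lift (fst G G)⁻¹ μ[G]
  have hφ1 : φ ≫ fst G G = fst G G ≫ ι[G] := by simp [φ, Hom.inv_def]
  have hφ2 : φ ≫ snd G G = μ[G] := by simp [φ]
  have hφ3 : φ ≫ μ[G] = snd G G := by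
    have : φ ≫ μ[G] = (fst G G)⁻¹ * (fst G G * snd G G) := by
      simp [φ, Hom.mul_def]
    rw [this, inv_mul_cancel_left]
  refine ⟨φ.left p, ?_, ?_, ?_⟩
  · rw [← comp_left_apply, hφ1, comp_left_apply]
    exact (isSubgroupSet_N G).inv_mem _ hp1
  · rw [← comp_left_apply, hφ2, hp3]
  · rw [← comp_left_apply, hφ3, hp2]

lemma Rel.refl (x : G.left) : Rel G x x := by
  let φ : G ⟶ G ⊗ G := lift (toUnit G ≫ η[G]) (𝟙 G)
  refine ⟨φ.left x, ?_, ?_, ?_⟩
  · rw [← comp_left_apply]
    have : φ ≫ fst G G = toUnit G ≫ η[G] := by simp [φ]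
    rw [this, comp_left_apply, one_eq G]
    exact one_mem_N G
  · rw [← comp_left_apply]
    have : φ ≫ snd G G = 𝟙 G := by simp [φ]
    rw [this]; simp
  · rw [← comp_left_apply]
    have : φ ≫ μ[G] = 𝟙 G := by simp [φ]
    rw [this]; simp

lemma isPullback_whiskerLeft {C : Type u} [Category.{v} C] [CartesianMonoidalCategory C]
    (X : C) {Y Z : C} (f : Y ⟶ Z) : IsPullback (snd X Y) (X ◁ f) f (snd X Z) where
  w := by simp
  isLimit' := ⟨Limits.PullbackCone.IsLimit.mk _ (fun s => lift (s.snd ≫ fst X Z) s.fst)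
    (fun s => by simp)
    (fun s => by
      ext
      · simp
      · simpa using s.condition)
    (fun s m h1 h2 => by
      ext
      · rw [← h2]; simp
      · rw [← h1]; simp)⟩

lemma Rel.trans {x y z : G.left} (h : Rel G x y) (h' : Rel G y z) : Rel G x z := by
  obtain ⟨p, hp1, hp2, hp3⟩ := h
  obtain ⟨p', hp1', hp2', hp3'⟩ := h'
  have hsq : IsPullback (snd G (G ⊗ G)).left (G ◁ μ[G]).left μ[G].left (snd G G).left :=
    (isPullback_whiskerLeft G μ[G]).map (Over.forget _)
  obtain ⟨q, hq1, hq2⟩ := Scheme.exists_preimage_of_isPullback hsq p' p (hp3'.trans hp2.symm)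
  let a : G ⊗ (G ⊗ G) ⟶ G ⊗ G := lift (fst G (G ⊗ G)) (snd G (G ⊗ G) ≫ fst G G)
  let φ : G ⊗ (G ⊗ G) ⟶ G ⊗ G := lift (a ≫ μ[G]) (snd G (G ⊗ G) ≫ snd G G)
  refine ⟨φ.left q, ?_, ?_, ?_⟩
  · rw [← comp_left_apply]
    have : φ ≫ fst G G = a ≫ μ[G] := by simp [φ]
    rw [this, comp_left_apply]
    refine (isSubgroupSet_N G).mul_mem _ ?_ ?_
    · rw [← comp_left_apply]
      have : a ≫ fst G G = (G ◁ μ[G]) ≫ fst G G := by simp [a]
      rw [this, comp_left_apply]
      change (fst G G).left ((G ◁ μ[G]).left q) ∈ N G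
      rw [hq2]
      exact hp1
    · rw [← comp_left_apply]
      have : a ≫ snd G G = snd G (G ⊗ G) ≫ fst G G := by simp [a]
      rw [this, comp_left_apply]
      change (fst G G).left ((snd G (G ⊗ G)).left q) ∈ N G
      rw [hq1]
      exact hp1'
  · rw [← comp_left_apply]
    have : φ ≫ snd G G = snd G (G ⊗ G) ≫ snd G G := by simp [φ]
    rw [this, comp_left_apply]
    change (snd G G).left ((snd G (G ⊗ G)).left q) = z
    rw [hq1, hp2']
  · rw [← comp_left_apply]
    have : φ ≫ μ[G] = (G ◁ μ[G]) ≫ μ[G] := by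
      have h1 : φ ≫ μ[G] = fst _ _ * (snd _ _ ≫ fst _ _) * (snd _ _ ≫ snd _ _) := by
        simp [φ, a, Hom.mul_def]
      have h2 : (G ◁ μ[G]) ≫ μ[G] = fst _ _ * (snd _ _ ≫ (fst _ _ * snd _ _)) := by
        have h3 : (G ◁ μ[G]) = lift (fst G (G ⊗ G)) (snd G (G ⊗ G) ≫ μ[G]) := by ext <;> simp
        have h4 : μ[G] = fst G G * snd G G := by simp [Hom.mul_def]
        rw [h3, ← h4, Hom.mul_def]
      rw [h1, h2, comp_mul, _root_.mul_assoc]
    rw [this, comp_left_apply]
    change μ[G].left ((G ◁ μ[G]).left q) = x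
    rw [hq2, hp3]

/-- Specialization implies the relation. -/
lemma rel_of_specializes {w x : G.left} (h : w ⤳ x) : Rel G w x := by
  let φ : G ⟶ G ⊗ G := lift (toUnit G ≫ η[G]) (𝟙 G)
  let p₀ := φ.left x
  have h01 : (fst G G).left p₀ = one G := by
    rw [← comp_left_apply]
    have : φ ≫ fst G G = toUnit G ≫ η[G] := by simp [φ]
    rw [this, comp_left_apply, one_eq G]
  have h02 : (snd G G).left p₀ = x := by
    rw [← comp_left_apply]
    have : φ ≫ snd G G = 𝟙 G := by simp [φ]
    rw [this]; simp
  have h03 : μ[G].left p₀ = x := by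
    rw [← comp_left_apply]
    have : φ ≫ μ[G] = 𝟙 G := by simp [φ]
    rw [this]; simp
  let d := (shear' G).hom.left p₀
  have hd1 : (fst G G).left d = x := by
    rw [← comp_left_apply, shear'_hom_fst, h03]
  have hd2 : (snd G G).left d = x := by
    rw [← comp_left_apply, shear'_hom_snd, h02]
  obtain ⟨q, hq1, hq2, hq3⟩ := exists_specializes_of_fst_eq (isPullback_tensor G G).flip d w
    (by rwa [hd1])
  let p := (shear' G).inv.left q
  have hpq : (shear' G).hom.left p = q := iso_inv_hom_apply _ q
  have hdp : (shear' G).inv.left d = p₀ := iso_hom_inv_apply _ p₀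
  have hp : p ⤳ p₀ := by
    have := hq1.map (shear' G).inv.left.continuous
    rwa [hdp] at this
  refine ⟨p, ?_, ?_, ?_⟩
  · apply mem_N_of_specializes
    have := hp.map (fst G G).left.continuous
    rwa [h01] at this
  · rw [← shear'_hom_snd, comp_left_apply, hpq, hq2, hd2]
  · rw [← shear'_hom_fst, comp_left_apply, hpq, hq3]

lemma isOpen_setOf_rel {U : Set G.left} (hU : IsOpen U) : IsOpen {x | ∃ u ∈ U, Rel G x u} := by
  rw [isOpen_iff_forall_mem_open]
  rintro x ⟨u, hu, p, hp1, hp2, hp3⟩
  let r := (shear G).hom.left p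
  have hr1 : (fst G G).left r = (fst G G).left p := by
    rw [← comp_left_apply, shear_hom_fst]
  have hr2 : (snd G G).left r = x := by
    rw [← comp_left_apply, shear_hom_snd, hp3]
  let W : Set (G ⊗ G).left := ((shear G).inv.left) ⁻¹' ((snd G G).left ⁻¹' U)
  have hW : IsOpen W := (hU.preimage (snd G G).left.continuous).preimage
    (shear G).inv.left.continuous
  have hrW : r ∈ W := by
    change (snd G G).left ((shear G).inv.left r) ∈ U
    rw [iso_hom_inv_apply, hp2]
    exact hu
  obtain ⟨V, hV, hrV, hV'⟩ := exists_isOpen_of_fst_eq (isPullback_tensor G G) r W hW hrW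
  rw [hr2] at hrV
  refine ⟨V, fun v hv => ?_, hV, hrV⟩
  obtain ⟨r', hr'W, hr'1, hr'2⟩ := hV' v hv
  rw [hr1] at hr'1
  refine ⟨(snd G G).left ((shear G).inv.left r'), hr'W, (shear G).inv.left r', ?_, rfl, ?_⟩
  · rw [← comp_left_apply]
    have h5 : (shear G).inv ≫ fst G G = fst G G := by simp [shear]
    rw [h5, hr'1]
    exact hp1
  · rw [← comp_left_apply]
    have h5 : (shear G).inv ≫ μ[G] = snd G G := by rw [← shear_hom_snd, Iso.inv_hom_id_assoc]
    rw [h5, hr'2]

/-- `N * range j` is closed for a morphism from a compact scheme. -/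
lemma isClosed_setOf_rel {T : Scheme.{u}} [CompactSpace T] (j : T ⟶ G.left) :
    IsClosed {x | ∃ u ∈ Set.range j, Rel G x u} := by
  obtain ⟨Z', i, hi, hr⟩ := exists_isClosedImmersion G.left (N G) (isClosed_N G)
  have hZc : CompactSpace Z' := by
    rw [← isCompact_univ_iff, i.isClosedEmbedding.isInducing.isCompact_iff, Set.image_univ, hr]
    exact isCompact_N G
  have hqc : QuasiCompact (i ≫ G.hom) := by
    have h1 : QuasiCompact ((i ≫ G.hom) ≫ Limits.terminal.from _) := by
      rw [Subsingleton.elim ((i ≫ G.hom) ≫ Limits.terminal.from _) (Limits.terminal.from Z')]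
      infer_instance
    exact QuasiCompact.of_comp (i ≫ G.hom) (Limits.terminal.from _)
  have hc : CompactSpace ↥(Limits.pullback (i ≫ G.hom) (j ≫ G.hom)) := inferInstance
  let φ : Limits.pullback (i ≫ G.hom) (j ≫ G.hom) ⟶ (G ⊗ G).left :=
    Limits.pullback.map _ _ G.hom G.hom i j (𝟙 _) (by simp) (by simp)
  have hqs : QuasiSeparatedSpace G.left := quasiSeparatedSpace G
  have hrange : {x | ∃ u ∈ Set.range j, Rel G x u} = Set.range (φ ≫ μ[G].left) := by
    ext x
    constructor
    · rintro ⟨u, hu, p, hp1, rfl, hp3⟩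
      have : p ∈ Set.range φ := by
        rw [Scheme.Pullback.range_map, hr]
        exact ⟨hp1, hu⟩
      obtain ⟨q, hq⟩ := this
      exact ⟨q, by rw [Scheme.Hom.comp_apply, hq, hp3]⟩
    · rintro ⟨q, rfl⟩
      have : φ q ∈ Set.range φ := ⟨q, rfl⟩
      rw [Scheme.Pullback.range_map, hr] at this
      rw [Scheme.Hom.comp_apply]
      exact ⟨_, this.2, φ q, this.1, rfl, rfl⟩
  rw [hrange]
  refine isClosed_range_of_compactSpace _ ?_
  rw [← hrange]
  rintro x y hxy ⟨u, hu, hux⟩
  exact ⟨u, hu, (rel_of_specializes hxy).symm.trans hux⟩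

/-- The connected component of the identity is the irreducible component of the identity. -/
theorem connectedComponent_one : connectedComponent (one G) = N G := by
  refine Set.Subset.antisymm (fun x hx => ?_)
    ((isIrreducible_N G).isConnected.isPreconnected.subset_connectedComponent (one_mem_N G))
  by_contra hxN
  have h1 := isClosed_setOf_rel (G.left.fromSpecResidueField x)
  rw [Scheme.range_fromSpecResidueField] at h1
  obtain ⟨W, hWc, hWo, hNW, hWx⟩ := PrespectralSpace.exists_isCompact_and_isOpen_between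
    (isCompact_N G) h1.isOpen_compl (by
      rintro y hyN ⟨u, rfl, p, hp1, hp2, hp3⟩
      exact hxN ((isSubgroupSet_N G).snd_mem G p hp1 (by rwa [hp3]) |> fun h => by rwa [hp2] at h))
  let U : G.left.Opens := ⟨W, hWo⟩
  have hUc : CompactSpace U.toScheme := isCompact_iff_compactSpace.mp hWc
  have h2 : IsClopen {y | ∃ u ∈ W, Rel G y u} := by
    refine ⟨?_, isOpen_setOf_rel hWo⟩
    have := isClosed_setOf_rel U.ι
    rwa [Scheme.Opens.range_ι] at this
  have h3 := h2.connectedComponent_subset (x := one G) ⟨one G, hNW (one_mem_N G), Rel.refl _⟩ hx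
  obtain ⟨u, hu, hxu⟩ := h3
  exact hWx hu ⟨x, rfl, hxu.symm⟩

end

end Groth.Agent.Localalg.GrpSchComp2
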