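import Groth.Agent.Localalg.CartierAlg
import Mathlib.AlgebraicGeometry.Group.Smooth
import Mathlib.RingTheory.DualNumber
import Mathlib.CategoryTheory.Monoidal.Cartesian.Grp

set_option autoImplicit false
universe u
set_option linter.style.haveILetI false
open CategoryTheory MonoidalCategory CartesianMonoidalCategory MonObj GrpObj AlgebraicGeometry
open TrivSqZeroExt

namespace Groth.Agent.Localalg.CartierSch

variable {K : Type u} [Field K] {G : Over (Spec (CommRingCat.of K))}

/-- the affine scheme over `K` attached to a `K`-algebra -/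
noncomputable abbrev sp (K : Type u) [Field K] (S : Type u) [CommRing S] [Algebra K S] :
    Over (Spec (CommRingCat.of K)) :=
  Over.mk (Spec.map (CommRingCat.ofHom (algebraMap K S)))

/-- functoriality -/
noncomputable def spMap {S S' : Type u} [CommRing S] [Algebra K S] [CommRing S'] [Algebra K S'] (f : S →ₐ[K] S') :
    sp K S' ⟶ sp K S :=
  Over.homMk (Spec.map (CommRingCat.ofHom f.toRingHom)) (by
    simp only [Over.mk_left, Over.mk_hom, ← Spec.map_comp, ← CommRingCat.ofHom_comp]
    congr 2
    exact f.comp_algebraMap)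

section one

variable {R : Type u} [CommRing R] [Algebra K R] (j : Spec (CommRingCat.of R) ⟶ G.left)
  (hj : j ≫ G.hom = Spec.map (CommRingCat.ofHom (algebraMap K R)))

/-- points -/
noncomputable def pt {S : Type u} [CommRing S] [Algebra K S] (f : R →ₐ[K] S) : sp K S ⟶ G :=
  Over.homMk (Spec.map (CommRingCat.ofHom f.toRingHom) ≫ j) (by
    simp only [Over.mk_left, Over.mk_hom, Category.assoc, hj, ← Spec.map_comp, ← CommRingCat.ofHom_comp]
    congr 2
    exact f.comp_algebraMap)

lemma spMap_pt {S S' : Type u} [CommRing S] [Algebra K S] [CommRing S'] [Algebra K S'] 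
    (f : R →ₐ[K] S) (g : S →ₐ[K] S') : spMap g ≫ pt j hj f = pt j hj (g.comp f) := by
  ext1
  simp only [pt, spMap, Over.comp_left, Over.homMk_left, ← Category.assoc, ← Spec.map_comp, ← CommRingCat.ofHom_comp]
  rfl


/-- base change of dual numbers -/
noncomputable def dualMap {S S' : Type u} [CommRing S] [Algebra K S] [CommRing S'] [Algebra K S'] (g : S →ₐ[K] S') :
    DualNumber S →ₐ[K] DualNumber S' where
  toFun z := inl (g z.fst) + inr (g z.snd)
  map_one' := by ext <;> simp
  map_mul' a b := by ext <;> simp [mul_comm]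
  map_zero' := by ext <;> simp
  map_add' a b := by ext <;> simp 
  commutes' r := by ext <;> simp [TrivSqZeroExt.algebraMap_eq_inl']

lemma dualMap_fst {S S' : Type u} [CommRing S] [Algebra K S] [CommRing S'] [Algebra K S'] (g : S →ₐ[K] S')
    (z : DualNumber S) : (dualMap g z).fst = g z.fst := by
  simp [dualMap]

lemma dualMap_snd {S S' : Type u} [CommRing S] [Algebra K S] [CommRing S'] [Algebra K S'] (g : S →ₐ[K] S')
    (z : DualNumber S) : (dualMap g z).snd = g z.snd := by
  simp [dualMap]

variable [GrpObj G] [IsOpenImmersion j] (x : R →ₐ[K] K) (l : R →ₐ[K] DualNumber K) (hl : ∀ f, (l f).fst = x f)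

/-- the structure map as algebra hom -/
noncomputable abbrev oi (K : Type u) [Field K] (S : Type u) [CommRing S] [Algebra K S] : K →ₐ[K] S := Algebra.ofId K S

/-- the K-algebra inclusion of `S` in `S[ε]` -/
noncomputable abbrev inlH (K : Type u) [Field K] (S : Type u) [CommRing S] [Algebra K S] : S →ₐ[K] DualNumber S :=
  TrivSqZeroExt.inlAlgHom K S S

/-- the K-algebra projection `S[ε] → S` -/
noncomputable abbrev fstH (K : Type u) [Field K] (S : Type u) [CommRing S] [Algebra K S] : DualNumber S →ₐ[K] S :=
  TrivSqZeroExt.fstHom K S S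

/-- the product point -/
noncomputable def prodPt : sp K (DualNumber R) ⟶ G :=
  pt j hj (inlH K R) * (pt j hj ((oi K (DualNumber R)).comp x))⁻¹ * pt j hj ((dualMap (oi K R)).comp l)

include hl in
omit [IsOpenImmersion j] in
lemma fst_prodPt : spMap (fstH K R) ≫ prodPt j hj x l = pt j hj (AlgHom.id K R) := by
  rw [prodPt, MonObj.comp_mul, MonObj.comp_mul, GrpObj.comp_inv, spMap_pt, spMap_pt, spMap_pt]
  have h1 : (fstH K R).comp (inlH K R) = AlgHom.id K R := by ext; simp
  have h2 : (fstH K R).comp ((oi K (DualNumber R)).comp x) = (oi K R).comp x := by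
    rw [← AlgHom.comp_assoc]
    congr 1
  have h3 : (fstH K R).comp ((dualMap (oi K R)).comp l) = (oi K R).comp x := by
    ext f
    simp [dualMap_fst, hl]
  rw [h1, h2, h3, inv_mul_cancel_right]

omit [IsOpenImmersion j] in
lemma snd_prodPt : spMap (dualMap x) ≫ prodPt j hj x l = pt j hj l := by
  rw [prodPt, MonObj.comp_mul, MonObj.comp_mul, GrpObj.comp_inv, spMap_pt, spMap_pt, spMap_pt]
  have h1 : (dualMap x).comp (inlH K R) = (inlH K K).comp x := by
    ext f <;> simp [dualMap_fst, dualMap_snd]
  have h2 : (dualMap x).comp ((oi K (DualNumber R)).comp x) = (inlH K K).comp x := by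
    rw [← AlgHom.comp_assoc]
    congr 1
    ext
  have h3 : (dualMap x).comp ((dualMap (oi K R)).comp l) = l := by
    ext f <;> simp [dualMap_fst, dualMap_snd]
  rw [h1, h2, h3, mul_inv_cancel, _root_.one_mul]

lemma isNilpotent_ker_fst (S : Type u) [CommRing S] [Algebra K S] (z : DualNumber S)
    (hz : z ∈ RingHom.ker (fstH K S)) : IsNilpotent z := by
  refine ⟨2, ?_⟩
  have : z.fst = 0 := hz
  rw [pow_two]
  ext <;> simp [this]

lemma surj_fst' (S : Type u) [CommRing S] [Algebra K S] :
    Function.Surjective (PrimeSpectrum.comap (fstH K S).toRingHom) := by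
  intro y
  have h := _root_.range_comap_of_surjective _ (fstH K S).toRingHom (fun s => ⟨inl s, rfl⟩)
  have hy : y ∈ Set.range (PrimeSpectrum.comap (fstH K S).toRingHom) := by
    rw [h, PrimeSpectrum.mem_zeroLocus]
    intro z hz
    obtain ⟨n, hn⟩ := isNilpotent_ker_fst S z hz
    exact y.isPrime.mem_of_pow_mem n (by rw [hn]; exact Ideal.zero_mem _)
  exact hy

lemma surj_fst (S : Type u) [CommRing S] [Algebra K S] :
    Function.Surjective (Spec.map (CommRingCat.ofHom (fstH K S).toRingHom)) :=
  surj_fst' (K := K) S

include hj hl in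
theorem exists_derivation : ∃ D : Derivation K R R, ∀ f, x (D f) = (l f).snd := by
  have h1 := fst_prodPt j hj x l hl
  have h2 := snd_prodPt j hj x l
  set p := prodPt j hj x l
  have h3 : Spec.map (CommRingCat.ofHom (fstH K R).toRingHom) ≫ p.left = j := by
    have := congrArg (fun t => t.left) h1
    simpa [spMap, pt] using this
  have h4 : Spec.map (CommRingCat.ofHom (dualMap x).toRingHom) ≫ p.left =
      Spec.map (CommRingCat.ofHom l.toRingHom) ≫ j := by
    have := congrArg (fun t => t.left) h2
    simpa [spMap, pt] using this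
  have hr : Set.range p.left ⊆ Set.range j := by
    rintro _ ⟨y, rfl⟩
    obtain ⟨z, rfl⟩ := surj_fst (K := K) R y
    rw [← Scheme.Hom.comp_apply, h3]
    exact ⟨z, rfl⟩
  let q : Spec (CommRingCat.of (DualNumber R)) ⟶ Spec (CommRingCat.of R) := IsOpenImmersion.lift j p.left hr
  have hq : q ≫ j = p.left := IsOpenImmersion.lift_fac _ _ _
  let φ : CommRingCat.of R ⟶ CommRingCat.of (DualNumber R) := Spec.preimage q
  have hφ : Spec.map φ = q := Spec.map_preimage q
  have h5 : φ ≫ CommRingCat.ofHom (fstH K R).toRingHom = 𝟙 _ := by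
    apply Spec.map_injective
    rw [Spec.map_comp, hφ, Spec.map_id, ← cancel_mono j, Category.assoc, hq, h3, Category.id_comp]
  have h6 : φ ≫ CommRingCat.ofHom (dualMap x).toRingHom = CommRingCat.ofHom l.toRingHom := by
    apply Spec.map_injective
    rw [Spec.map_comp, hφ, ← cancel_mono j, Category.assoc, hq, h4]
  have h5' : ∀ f, (φ.hom f).fst = f := fun f => by
    have := congrArg (fun t => t.hom f) h5
    exact this
  have h6' : ∀ f, x (φ.hom f).snd = (l f).snd := fun f => by
    have := congrArg (fun t => t.hom f) h6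
    rw [← dualMap_snd]
    exact congrArg TrivSqZeroExt.snd this
  have h7 : ∀ c : K, φ.hom (algebraMap K R c) = algebraMap K (DualNumber R) c := by
    have hw : p.left ≫ G.hom = Spec.map (CommRingCat.ofHom (algebraMap K (DualNumber R))) := Over.w p
    rw [← hq, Category.assoc, hj, ← hφ, ← Spec.map_comp] at hw
    intro c
    have := congrArg (fun t => t.hom c) (Spec.map_injective hw)
    exact this
  refine ⟨Derivation.mk' 
    { toFun := fun f => (φ.hom f).snd
      map_add' := fun a b => by simp
      map_smul' := fun c a => by 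
        rw [Algebra.smul_def, map_mul, h7]
        simp [TrivSqZeroExt.algebraMap_eq_inl', Algebra.smul_def] } ?_, ?_⟩
  · intro a b
    simp [h5']
    ring
  · intro f
    exact h6' f

end one


section affine

variable {R : Type u} [CommRing R] [Algebra K R] (m : Ideal R)

instance : IsScalarTower K R m.Cotangent := inferInstance

lemma exists_point [IsAlgClosed K] [Algebra.FiniteType K R] [m.IsMaximal] : 
    ∃ x : R →ₐ[K] K, ∀ f, x f = 0 ↔ f ∈ m := by
  letI := Ideal.Quotient.field m
  haveI : Algebra.FiniteType K (R ⧸ m) := inferInstance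
  haveI : Module.Finite K (R ⧸ m) := finite_of_finite_type_of_isJacobsonRing K (R ⧸ m)
  have hb : Function.Bijective (algebraMap K (R ⧸ m)) := IsAlgClosed.algebraMap_bijective_of_isIntegral
  let e : K ≃ₐ[K] (R ⧸ m) := AlgEquiv.ofBijective (Algebra.ofId K (R ⧸ m)) hb
  refine ⟨e.symm.toAlgHom.comp (Ideal.Quotient.mkₐ K m), fun f => ?_⟩
  simp [Ideal.Quotient.eq_zero_iff_mem]

variable (x : R →ₐ[K] K) (hx : ∀ f, x f = 0 ↔ f ∈ m)

include hx in
lemma sub_mem (f : R) : f - algebraMap K R (x f) ∈ m := by
  rw [← hx, map_sub, x.commutes]; simp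

/-- f ↦ class of f - f(x) in the cotangent space -/
noncomputable def dd : R →ₗ[K] m.Cotangent where
  toFun f := m.toCotangent ⟨f - algebraMap K R (x f), sub_mem m x hx f⟩
  map_add' f g := by
    rw [← map_add]
    congr 1
    ext
    simp; ring
  map_smul' c f := by
    rw [RingHom.id_apply, ← algebraMap_smul R c (m.toCotangent _), ← map_smul]
    congr 1
    ext
    simp [Algebra.smul_def, mul_sub]

lemma dd_of_mem (f : R) (hf : f ∈ m) : dd m x hx f = m.toCotangent ⟨f, hf⟩ := by
  simp only [dd, LinearMap.coe_mk, AddHom.coe_mk]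
  congr 2
  rw [(hx f).mpr hf]; simp

lemma dd_mul (f g : R) : dd m x hx (f * g) = x f • dd m x hx g + x g • dd m x hx f := by
  have h1 : f * g - algebraMap K R (x (f * g)) =
    (f - algebraMap K R (x f)) * (g - algebraMap K R (x g)) + 
      (algebraMap K R (x f) * (g - algebraMap K R (x g)) + algebraMap K R (x g) * (f - algebraMap K R (x f))) := by
    rw [map_mul, map_mul]; ring
  have h2 : dd m x hx (f * g) - (x f • dd m x hx g + x g • dd m x hx f) = 0 := by
    simp only [dd, LinearMap.coe_mk, AddHom.coe_mk]
    rw [← algebraMap_smul R (x f) (m.toCotangent _), ← algebraMap_smul R (x g) (m.toCotangent _),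
      ← map_smul, ← map_smul, ← map_add, ← map_sub, Ideal.toCotangent_eq_zero]
    simp only [Submodule.coe_sub, Submodule.coe_add, Submodule.coe_smul, smul_eq_mul]
    rw [h1, add_sub_cancel_right, pow_two]
    exact Ideal.mul_mem_mul (sub_mem m x hx f) (sub_mem m x hx g)
  exact sub_eq_zero.mp h2

/-- the tangent vector associated to a linear form on the cotangent space -/
noncomputable def tangent (t : m.Cotangent →ₗ[K] K) : R →ₐ[K] DualNumber K where
  toFun f := inl (x f) + inr (t (dd m x hx f))
  map_one' := by 
    have : dd m x hx 1 = 0 := by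
      have := dd_mul m x hx 1 1
      simp only [map_one, one_smul, _root_.mul_one] at this
      simpa using this
    rw [this]
    ext <;> simp
  map_mul' f g := by
    rw [dd_mul]
    ext <;> simp; ring
  map_zero' := by ext <;> simp
  map_add' a b := by ext <;> simp 
  commutes' r := by 
    have h1 : dd m x hx 1 = 0 := by
      have := dd_mul m x hx 1 1
      simp only [map_one, one_smul, _root_.mul_one] at this
      simpa using this
    have : dd m x hx (algebraMap K R r) = 0 := by
      rw [Algebra.algebraMap_eq_smul_one, map_smul, h1, smul_zero]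
    rw [this]
    ext <;> simp [TrivSqZeroExt.algebraMap_eq_inl']

include hx in
lemma finite_cotangent [IsNoetherianRing R] : Module.Finite K m.Cotangent := by
  haveI : Module.Finite R m := Module.Finite.iff_fg.mpr (IsNoetherian.noetherian m)
  haveI : Module.Finite R m.Cotangent := Module.Finite.of_surjective _ m.toCotangent_surjective
  obtain ⟨s, hs⟩ := Module.Finite.fg_top (R := R) (M := m.Cotangent)
  refine ⟨⟨s, ?_⟩⟩
  rw [eq_top_iff]
  intro z _
  have hz : z ∈ Submodule.span R (s : Set m.Cotangent) := by rw [hs]; trivial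
  refine Submodule.span_induction (p := fun z _ => z ∈ Submodule.span K (s : Set m.Cotangent)) ?_ ?_ ?_ ?_ hz
  · intro y hy; exact Submodule.subset_span hy
  · exact Submodule.zero_mem _
  · intro y z _ _ hy hz; exact Submodule.add_mem _ hy hz
  · intro a y _ hy
    have : a • y = x a • y := by
      obtain ⟨w, rfl⟩ := m.toCotangent_surjective y
      rw [← algebraMap_smul R (x a), ← map_smul, ← map_smul, ← sub_eq_zero, ← map_sub, Ideal.toCotangent_eq_zero]
      simp only [Submodule.coe_sub, Submodule.coe_smul, smul_eq_mul]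
      rw [← sub_mul, pow_two]
      exact Ideal.mul_mem_mul (sub_mem m x hx a) w.2
    rw [this]
    exact Submodule.smul_mem _ _ hy

end affine

section main

variable {R : Type u} [CommRing R] [Algebra K R] (j : Spec (CommRingCat.of R) ⟶ G.left)
  (hj : j ≫ G.hom = Spec.map (CommRingCat.ofHom (algebraMap K R))) [GrpObj G] [IsOpenImmersion j]

include hj in
theorem isReduced_affine [IsAlgClosed K] [CharZero K] [Algebra.FiniteType K R] : IsReduced R := by
  classical
  haveI : IsNoetherianRing R := Algebra.FiniteType.isNoetherianRing K R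
  letI : Algebra ℚ R := Algebra.compHom R (algebraMap ℚ K)
  constructor
  intro a ha
  by_contra hne
  -- the annihilator of a
  let I : Ideal R := Ideal.span {a} |>.annihilator
  have hI : I ≠ ⊤ := by
    intro h
    have : (1 : R) ∈ I := by rw [h]; trivial
    rw [Submodule.mem_annihilator_span_singleton, one_smul] at this
    exact hne this
  obtain ⟨m, hm, hIm⟩ := Ideal.exists_le_maximal I hI
  obtain ⟨x, hx⟩ := exists_point (K := K) m
  haveI := finite_cotangent m x hx
  let b := Module.finBasis K m.Cotangent
  choose y hy using fun i => m.toCotangent_surjective (b i)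
  choose D hD using fun i => exists_derivation j hj x (tangent m x hx (b.coord i)) (fun f => by simp [tangent])
  obtain ⟨c, hc, hca⟩ := CartierAlg.exists_mul_eq_zero m (fun i => (y i : R)) (fun i => (D i).restrictScalars ℤ)
    (fun i => (y i).2) (by
      intro z hz
      refine ⟨fun i => algebraMap K R (b.coord i (m.toCotangent ⟨z, hz⟩)), ?_⟩
      have h1 : m.toCotangent (⟨z, hz⟩ - ∑ i, algebraMap K R (b.coord i (m.toCotangent ⟨z, hz⟩)) • y i) = 0 := by
        rw [map_sub, map_sum, sub_eq_zero]
        conv_lhs => rw [← b.sum_repr (m.toCotangent ⟨z, hz⟩)]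
        refine Finset.sum_congr rfl fun i _ => ?_
        rw [map_smul, hy, algebraMap_smul]
        rfl
      rw [Ideal.toCotangent_eq_zero] at h1
      simp only [Submodule.coe_sub, Submodule.coe_sum, Submodule.coe_smul, smul_eq_mul] at h1
      exact h1) (by
      intro i k
      rw [← hx]
      have h1 := hD i (y k)
      have h2 : (tangent m x hx (b.coord i) (y k : R)).snd = if i = k then 1 else 0 := by
        simp only [tangent, dd_of_mem m x hx _ (y k).2, AlgHom.coe_mk, RingHom.coe_mk, MonoidHom.coe_mk,
          OneHom.coe_mk, Subtype.coe_eta, hy, Module.Basis.coord_apply, Module.Basis.repr_self,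
          snd_add, snd_inl, snd_inr, zero_add, Finsupp.single_apply]
        simp only [eq_comm]
      rw [h2] at h1
      simp only [Derivation.restrictScalars_apply, map_sub, h1]
      split_ifs <;> simp) hm.ne_top a ha
  apply hc
  apply hIm
  rw [Submodule.mem_annihilator_span_singleton]
  exact hca

end main


/-- Cartier's theorem over an algebraically closed field. -/
theorem isReduced_of_isAlgClosed (G : Over (Spec (CommRingCat.of K))) [GrpObj G] [IsAlgClosed K] [CharZero K]
    [LocallyOfFiniteType G.hom] : IsReduced G.left := by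
  have : ∀ i, IsReduced (G.left.affineCover.X i) := by
    intro i
    obtain ⟨R, j, hj, hRj⟩ : ∃ (R : CommRingCat.{u}) (j : Spec R ⟶ G.left) (_ : IsOpenImmersion j),
        (IsReduced (Spec R) → IsReduced (G.left.affineCover.X i)) :=
      ⟨_, G.left.affineCover.f i, G.left.affineCover.map_prop i, fun h => h⟩
    apply hRj
    rw [affine_isReduced_iff]
    let φ : CommRingCat.of K ⟶ R := Spec.preimage (j ≫ G.hom)
    letI : Algebra K R := φ.hom.toAlgebra
    have hφ : j ≫ G.hom = Spec.map (CommRingCat.ofHom (algebraMap K R)) := (Spec.map_preimage _).symm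
    haveI : Algebra.FiniteType K R := by
      have h1 : LocallyOfFiniteType (Spec.map φ) := by
        rw [Spec.map_preimage]; infer_instance
      exact HasRingHomProperty.Spec_iff.mp h1
    exact isReduced_affine (R := R) j hφ
  exact IsReduced.of_openCover _ G.left.affineCover

set_option backward.defeqAttrib.useBackward true in
set_option backward.isDefEq.respectTransparency false in
/-- Over an algebraically closed field of characteristic zero, group schemes are smooth. -/
lemma smooth_of_isAlgClosed {G : Scheme.{u}} (f : G ⟶ Spec (CommRingCat.of K))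
    [LocallyOfFiniteType f] [GrpObj (Over.mk f)] [IsReduced G] [IsAlgClosed K] : Smooth f := by
  have := LocallyOfFiniteType.jacobsonSpace f
  have : Nonempty G := ⟨η[Over.mk f].1 (IsLocalRing.closedPoint _)⟩
  rw [← Scheme.Hom.smoothLocus_eq_top_iff, ← TopologicalSpace.Opens.coe_eq_univ,
    ← not_ne_iff, ← Set.nonempty_compl]
  intro H
  obtain ⟨x, hx, hxc⟩ :=
    nonempty_inter_closedPoints H f.smoothLocus.2.isClosed_compl.isLocallyClosed
  obtain ⟨y, hy : y ∈ f.smoothLocus, hyc⟩ := nonempty_inter_closedPoints
    f.dense_smoothLocus_of_perfectField.nonempty f.smoothLocus.2.isLocallyClosed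
  let x' : 𝟙_ _ ⟶ Over.mk f := Over.homMk _ ((pointEquivClosedPoint f).symm ⟨x, hxc⟩).2
  let y' : 𝟙_ _ ⟶ Over.mk f := Over.homMk _ ((pointEquivClosedPoint f).symm ⟨y, hyc⟩).2
  let α := (GrpObj.mulRight (A := Over.mk f) x').symm ≪≫
    (GrpObj.mulRight (A := Over.mk f) y')
  have hα : x' ≫ α.hom = y' := by
    dsimp only [Iso.trans_hom, Iso.symm_hom, α]
    rw [← Category.assoc, ← Iso.eq_comp_inv]
    simp [comp_lift_assoc]
  have hα' : α.hom.left x = y := by
    simpa [x', y', pointEquivClosedPoint] using congr(($hα).left (IsLocalRing.closedPoint K))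
  rw! [← hα', ← α.hom.left.mem_preimage, Scheme.Hom.preimage_smoothLocus_eq,
    show α.hom.left ≫ f = f from α.hom.w] at hy
  exact hx hy

lemma smooth_of_grpObj_of_charZero {G : Scheme.{u}} (f : G ⟶ Spec (CommRingCat.of K))
    [LocallyOfFiniteType f] [GrpObj (Over.mk f)] [CharZero K] : Smooth f := by
  let Ω : Type u := AlgebraicClosure K
  haveI : CharZero Ω := charZero_of_injective_algebraMap (algebraMap K Ω).injective
  let g : Spec (.of Ω) ⟶ Spec (.of K) := Spec.map (CommRingCat.ofHom <| algebraMap K Ω)
  apply MorphismProperty.of_pullback_snd_of_descendsAlong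
    (Q := @Surjective ⊓ @Flat ⊓ @QuasiCompact) (g := g)
  · exact ⟨⟨inferInstance, inferInstance⟩, inferInstance⟩
  · let : GrpObj (Over.mk (Limits.pullback.snd f g)) := Over.grpObjMkPullbackSnd
    haveI : LocallyOfFiniteType (Over.mk (Limits.pullback.snd f g)).hom := by
      dsimp; infer_instance
    haveI : IsReduced (Limits.pullback f g) := isReduced_of_isAlgClosed (Over.mk (Limits.pullback.snd f g))
    exact smooth_of_isAlgClosed _

end Groth.Agent.Localalg.CartierSch
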