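import Groth.Agent.Divis.CartierCompl
import Groth.Agent.Divis.BlowUpFormal
import Groth.Agent.Flat2C.BlowProper

/-!
# Blowing up the boundary of a nonempty open subscheme of an integral scheme

`exists_blowUp_boundary`: `X` integral and locally Noetherian, `U` a nonempty open.  The blow-up
`b : X' ⟶ X` of the reduced complement of `U` is proper, an isomorphism over `U`, `X'` is integral and
`b⁻¹(U) ⟶ X'` is affine (the complement of an effective Cartier divisor).
-/

set_option autoImplicit false

universe u

open CategoryTheory CategoryTheory.Limits AlgebraicGeometry TopologicalSpace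

namespace Groth.Agent.Localalg.BlowBoundary

/-- On a locally Noetherian scheme every ideal sheaf is of finite type. -/
theorem isFiniteTypeIdeal {X : Scheme.{u}} [IsLocallyNoetherian X] (I : X.IdealSheafData) :
    BlowUp.IsFiniteTypeIdeal I := by
  intro V
  have := IsLocallyNoetherian.component_noetherian V
  exact IsNoetherian.noetherian _

/-- A scheme with a schematically dominant open immersion from an integral scheme is integral. -/
theorem isIntegral_of_dominant {X : Scheme.{u}} (V : X.Opens) [IsIntegral V]
    [QuasiCompact V.ι] [IsSchemeTheoreticallyDominant V.ι] (hV : Dense (V : Set X)) : IsIntegral X := by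
  have h1 : IsReduced X := IsSchemeTheoreticallyDominant.isReduced V.ι
  have h2 : IrreducibleSpace X := by
    have h3 : IsIrreducible (Set.univ : Set V) :=
      (irreducibleSpace_def V).1 inferInstance
    have h4 : IsIrreducible (V : Set X) := by
      have h5 := h3.image V.ι V.ι.continuous.continuousOn
      rwa [Set.image_univ, Scheme.Opens.range_ι] at h5
    have h6 := h4.closure
    rw [hV.closure_eq] at h6
    exact (irreducibleSpace_def X).2 h6
  exact isIntegral_of_irreducibleSpace_of_isReduced X

/-- Blowing up the reduced boundary. -/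
theorem exists_blowUp_boundary (X : Scheme.{u}) [IsIntegral X] [IsLocallyNoetherian X]
    (U : X.Opens) (hU : (U : Set X).Nonempty) :
    ∃ (X' : Scheme.{u}) (b : X' ⟶ X) (I : X.IdealSheafData), BlowUp.IsBlowUp b I ∧
      BlowUp.IsFiniteTypeIdeal I ∧ (I.support : Set X) = (U : Set X)ᶜ ∧
      BlowUp.IsEffCartierIdeal (I.comap b) ∧ b ⁻¹ᵁ U = (I.comap b).support.compl ∧
      IsIntegral X' ∧ IsProper b ∧ IsIso (b ∣_ U) ∧ IsAffineHom (b ⁻¹ᵁ U).ι := by
  let Z : Closeds X := ⟨(U : Set X)ᶜ, U.isOpen.isClosed_compl⟩
  let I : X.IdealSheafData := Scheme.IdealSheafData.vanishingIdeal Z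
  have hI : (I.support : Set X) = (U : Set X)ᶜ := by
    exact Scheme.IdealSheafData.coe_support_vanishingIdeal Z
  have hft : BlowUp.IsFiniteTypeIdeal I := isFiniteTypeIdeal I
  obtain ⟨X', b, hb⟩ := Groth.Agent.Flat2C.BlowExist.exists_isBlowUp I
  have hpre : b ⁻¹ᵁ U = (I.comap b).support.compl := by
    rw [Scheme.IdealSheafData.support_comap]
    ext x
    show b x ∈ U ↔ ¬ (b x ∈ (I.support : Set X))
    rw [hI]
    simp
  have hiso : IsIso (b ∣_ U) :=
    Groth.Agent.Divis.BlowUpFormal.isIso_morphismRestrict_compl_support hb U (by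
      rw [hI]; exact disjoint_compl_right)
  have hdom : IsSchemeTheoreticallyDominant (b ⁻¹ᵁ U).ι := by
    rw [hpre]
    exact Groth.Agent.Divis.CartierCompl.isSchemeTheoreticallyDominant_compl hb.1
  have haff : IsAffineHom (b ⁻¹ᵁ U).ι := by
    rw [hpre]
    exact Groth.Agent.Divis.CartierCompl.isAffineHom_compl hb.1
  have hdense : Dense ((b ⁻¹ᵁ U : X'.Opens) : Set X') := by
    have h3 : IsDominant (b ⁻¹ᵁ U).ι := inferInstance
    have h4 := h3.denseRange
    rwa [DenseRange, Scheme.Opens.range_ι] at h4
  have hUne : Nonempty U := hU.to_subtype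
  have hUint : IsIntegral U := isIntegral_of_isOpenImmersion U.ι
  have hVint : IsIntegral (b ⁻¹ᵁ U) := by
    exact IsIntegral.of_isIso (inv (b ∣_ U))
  exact ⟨X', b, I, hb, hft, hI, hb.1, hpre, isIntegral_of_dominant _ hdense,
    Groth.Agent.Flat2C.BlowProper.isProper_of_isBlowUp hb hft, hiso, haff⟩

end Groth.Agent.Localalg.BlowBoundary
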