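import Groth.Agent.Localalg.BlowBoundary
import Groth.Agent.CycA.ProdDim

/-!
# Blowing up the boundary: affine nonunit, dimension
-/

set_option autoImplicit false

universe u

open CategoryTheory CategoryTheory.Limits AlgebraicGeometry TopologicalSpace

namespace Groth.Agent.Localalg.BlowBoundary2

theorem nonempty_preimage {X X' : Scheme.{u}} (b : X' ⟶ X) (U : X.Opens) [IsIso (b ∣_ U)]
    (hU : (U : Set X).Nonempty) : ((b ⁻¹ᵁ U : X'.Opens) : Set X').Nonempty := by
  obtain ⟨x, hx⟩ := hU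
  let y : (b ⁻¹ᵁ U : X'.Opens) := (inv (b ∣_ U)) ⟨x, hx⟩
  exact ⟨y.1, y.2⟩

/-- A closed morphism to an irreducible scheme which is an isomorphism over a nonempty open is
surjective. -/
theorem surjective_of_isProper {X X' : Scheme.{u}} [IrreducibleSpace X] (b : X' ⟶ X) [IsProper b]
    (U : X.Opens) [IsIso (b ∣_ U)] (hU : (U : Set X).Nonempty) : Function.Surjective b := by
  have h1 : IsClosed (Set.range b) := b.isClosedMap.isClosed_range
  have h2 : (U : Set X) ⊆ Set.range b := by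
    intro x hx
    let y : (b ⁻¹ᵁ U : X'.Opens) := (inv (b ∣_ U)) ⟨x, hx⟩
    refine ⟨(b ⁻¹ᵁ U).ι y, ?_⟩
    have h3 : (b ⁻¹ᵁ U).ι ≫ b = (b ∣_ U) ≫ U.ι := (morphismRestrict_ι b U).symm
    have h4 : b ((b ⁻¹ᵁ U).ι y) = U.ι ((b ∣_ U) y) := by
      rw [← Scheme.Hom.comp_apply, h3, Scheme.Hom.comp_apply]
    rw [h4]
    have h5 : (b ∣_ U) y = ⟨x, hx⟩ := by
      show (b ∣_ U) ((inv (b ∣_ U)) ⟨x, hx⟩) = _
      rw [← Scheme.Hom.comp_apply, IsIso.inv_hom_id]
      rfl
    rw [h5]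
    rfl
  have h3 : Dense (U : Set X) := U.isOpen.dense hU
  rw [← Set.range_eq_univ]
  apply Set.eq_univ_of_univ_subset
  rw [← h3.closure_eq]
  exact h1.closure_subset_iff.2 h2

/-- A nonunit local equation of an effective Cartier divisor whose complement is a proper open. -/
theorem exists_nonunit {X' : Scheme.{u}} {J : X'.IdealSheafData} (hJ : BlowUp.IsEffCartierIdeal J)
    (W : X'.Opens) (hW : W = J.support.compl) (hne : W ≠ ⊤) :
    ∃ (V : X'.Opens) (_ : IsAffineOpen V) (a : Γ(X', V)), ¬ IsUnit a ∧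
      a ∈ nonZeroDivisors Γ(X', V) ∧ V ⊓ W = X'.basicOpen a := by
  obtain ⟨x, hx⟩ : ∃ x : X', x ∉ W := by
    by_contra! h
    exact hne (by ext x; simpa using h x)
  obtain ⟨V, hxV, a, ha, hV⟩ := hJ x
  have h1 : V.1 ⊓ W = X'.basicOpen a := by
    rw [inf_comm, hW]
    exact Groth.Agent.Divis.CartierCompl.compl_support_inf_eq_basicOpen J V a hV
  refine ⟨V.1, V.2, a, ?_, ha, h1⟩
  intro hu
  rw [X'.basicOpen_of_isUnit hu] at h1
  exact hx (by
    have h2 : x ∈ V.1 ⊓ W := by rw [h1]; exact hxV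
    exact h2.2)

/-- Dimension is preserved by modifications of integral schemes locally of finite type over a
field. -/
theorem topologicalKrullDim_eq {K : Type u} [Field K] {X X' : Scheme.{u}}
    (f : X ⟶ Spec (CommRingCat.of K)) [LocallyOfFiniteType f] [IsIntegral X] [IsIntegral X']
    (b : X' ⟶ X) [LocallyOfFiniteType b] (U : X.Opens) [IsIso (b ∣_ U)]
    (hU : (U : Set X).Nonempty) : topologicalKrullDim X' = topologicalKrullDim X := by
  have h1 : Nonempty U := hU.to_subtype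
  have h2 : Nonempty (b ⁻¹ᵁ U : X'.Opens) := (nonempty_preimage b U hU).to_subtype
  rw [← Groth.Agent.CycA.ProdDim.dim_of_isOpenImmersion f U.ι,
    ← Groth.Agent.CycA.ProdDim.dim_of_isOpenImmersion (b ≫ f) (b ⁻¹ᵁ U).ι]
  exact IsHomeomorph.topologicalKrullDim_eq _
    (Scheme.Hom.homeomorph (b ∣_ U)).isHomeomorph

/-- Blowing up the reduced boundary, full package over a field. -/
theorem exists_blowUp_boundary_field {K : Type u} [Field K] (X : Scheme.{u}) [IsIntegral X]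
    (f : X ⟶ Spec (CommRingCat.of K)) [LocallyOfFiniteType f]
    (U : X.Opens) (hU : (U : Set X).Nonempty) (hne : U ≠ ⊤) :
    ∃ (X' : Scheme.{u}) (b : X' ⟶ X) (I : X.IdealSheafData), BlowUp.IsBlowUp b I ∧
      BlowUp.IsFiniteTypeIdeal I ∧ (I.support : Set X) = (U : Set X)ᶜ ∧
      BlowUp.IsEffCartierIdeal (I.comap b) ∧ b ⁻¹ᵁ U = (I.comap b).support.compl ∧
      IsIntegral X' ∧ IsProper b ∧ IsIso (b ∣_ U) ∧ IsAffineHom (b ⁻¹ᵁ U).ι ∧
      Function.Surjective b ∧ topologicalKrullDim X' = topologicalKrullDim X ∧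
      ∃ (V : X'.Opens) (_ : IsAffineOpen V) (a : Γ(X', V)), ¬ IsUnit a ∧
        a ∈ nonZeroDivisors Γ(X', V) ∧ V ⊓ (b ⁻¹ᵁ U) = X'.basicOpen a := by
  have : IsLocallyNoetherian X := LocallyOfFiniteType.isLocallyNoetherian f
  obtain ⟨X', b, I, hb, hft, hI, hE, hpre, hint, hprop, hiso, haff⟩ :=
    Groth.Agent.Localalg.BlowBoundary.exists_blowUp_boundary X U hU
  have hsurj := surjective_of_isProper b U hU
  have hne' : b ⁻¹ᵁ U ≠ ⊤ := by
    intro h
    apply hne
    ext x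
    obtain ⟨y, rfl⟩ := hsurj x
    have : y ∈ (b ⁻¹ᵁ U) := by rw [h]; trivial
    simpa using this
  exact ⟨X', b, I, hb, hft, hI, hE, hpre, hint, hprop, hiso, haff, hsurj,
    topologicalKrullDim_eq f b U hU, exists_nonunit hE _ hpre hne'⟩

end Groth.Agent.Localalg.BlowBoundary2
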