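import Mathlib.RingTheory.Ideal.AssociatedPrime.Finiteness
import Mathlib.RingTheory.KrullDimension.Module
import Mathlib.RingTheory.Regular.RegularSequence
import Mathlib.Algebra.Exact.Basic
import Mathlib.RingTheory.LocalRing.ResidueField.Basic

/-!
# Contravariant cohomological functors on modules (unbundled)
-/

set_option autoImplicit false

namespace Groth.Agent.Localalg

universe u w

/-- A contravariant cohomological functor on `A`-modules with values in `A`-modules. -/
structure CDF (A : Type u) [CommRing A] where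
  /-- the functors -/
  E : ℤ → (M : Type u) → [AddCommGroup M] → [Module A M] → Type w
  /-- additive structure -/
  grp : ∀ (i : ℤ) (M : Type u) [AddCommGroup M] [Module A M], AddCommGroup (E i M)
  /-- linear structure -/
  mod : ∀ (i : ℤ) (M : Type u) [AddCommGroup M] [Module A M], Module A (E i M)
  /-- functoriality -/
  map : ∀ (i : ℤ) {M N : Type u} [AddCommGroup M] [Module A M] [AddCommGroup N] [Module A N]
    (_ : M →ₗ[A] N), E i N →ₗ[A] E i M
  map_id : ∀ (i : ℤ) (M : Type u) [AddCommGroup M] [Module A M],
    map i (LinearMap.id : M →ₗ[A] M) = LinearMap.id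
  map_comp : ∀ (i : ℤ) {M N P : Type u} [AddCommGroup M] [Module A M] [AddCommGroup N] [Module A N]
    [AddCommGroup P] [Module A P] (f : M →ₗ[A] N) (g : N →ₗ[A] P),
    map i (g ∘ₗ f) = map i f ∘ₗ map i g
  map_smul : ∀ (i : ℤ) {M N : Type u} [AddCommGroup M] [Module A M] [AddCommGroup N] [Module A N]
    (a : A) (f : M →ₗ[A] N), map i (a • f) = a • map i f
  map_add : ∀ (i : ℤ) {M N : Type u} [AddCommGroup M] [Module A M] [AddCommGroup N] [Module A N]
    (f g : M →ₗ[A] N), map i (f + g) = map i f + map i g
  exact : ∀ {M' M M'' : Type u} [AddCommGroup M'] [Module A M'] [AddCommGroup M] [Module A M]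
    [AddCommGroup M''] [Module A M''] (f : M' →ₗ[A] M) (g : M →ₗ[A] M''), Function.Injective f →
    Function.Surjective g → Function.Exact f g → ∀ i : ℤ, Function.Exact (map i g) (map i f)
  les : ∀ {M' M M'' : Type u} [AddCommGroup M'] [Module A M'] [AddCommGroup M] [Module A M]
    [AddCommGroup M''] [Module A M''] (f : M' →ₗ[A] M) (g : M →ₗ[A] M''), Function.Injective f →
    Function.Surjective g → Function.Exact f g → ∀ i j : ℤ, i + 1 = j →
      ∃ δ : E i M' →ₗ[A] E j M'', Function.Exact (map i f) δ ∧ Function.Exact δ (map j g)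

attribute [instance] CDF.grp CDF.mod

namespace CDF

variable {A : Type u} [CommRing A] (T : CDF.{u, w} A)

section

variable {M N P : Type u} [AddCommGroup M] [Module A M] [AddCommGroup N] [Module A N]
  [AddCommGroup P] [Module A P]

lemma map_zero (i : ℤ) : T.map i (0 : M →ₗ[A] N) = 0 := by
  have := T.map_smul i (0 : A) (0 : M →ₗ[A] N)
  simpa using this

lemma map_comp_apply (i : ℤ) (f : M →ₗ[A] N) (g : N →ₗ[A] P) (x : T.E i P) :
    T.map i (g ∘ₗ f) x = T.map i f (T.map i g x) := by
  rw [T.map_comp]; rfl

lemma map_smul_id (i : ℤ) (a : A) (x : T.E i M) :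
    T.map i (a • (LinearMap.id : M →ₗ[A] M)) x = a • x := by
  rw [T.map_smul, T.map_id]; rfl

/-- the induced linear equivalence -/
def mapEquiv (i : ℤ) (e : M ≃ₗ[A] N) : T.E i N ≃ₗ[A] T.E i M :=
  LinearEquiv.ofLinearMap (T.map i e.toLinearMap) (T.map i e.symm.toLinearMap)
    (by rw [← T.map_comp, LinearEquiv.symm_comp, T.map_id])
    (by rw [← T.map_comp, LinearEquiv.comp_symm, T.map_id])

lemma subsingleton_of_subsingleton (i : ℤ) [Subsingleton M] : Subsingleton (T.E i M) := by
  have h : (LinearMap.id : M →ₗ[A] M) = 0 := by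
    ext x; exact Subsingleton.elim _ _
  refine subsingleton_of_forall_eq 0 fun x ↦ ?_
  have := T.map_id i M
  rw [h, T.map_zero] at this
  simpa using (LinearMap.congr_fun this x).symm

lemma subsingleton_of_equiv (i : ℤ) (e : M ≃ₗ[A] N) (h : Subsingleton (T.E i N)) :
    Subsingleton (T.E i M) := (T.mapEquiv i e).symm.toEquiv.subsingleton

lemma finite_of_equiv (i : ℤ) (e : M ≃ₗ[A] N) (h : Module.Finite A (T.E i N)) :
    Module.Finite A (T.E i M) := Module.Finite.equiv (T.mapEquiv i e)

/-- the middle term vanishes if the outer terms do -/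
lemma subsingleton_middle (i : ℤ) (f : M →ₗ[A] N) (g : N →ₗ[A] P) (hf : Function.Injective f)
    (hg : Function.Surjective g) (hfg : Function.Exact f g) (h₁ : Subsingleton (T.E i M))
    (h₂ : Subsingleton (T.E i P)) : Subsingleton (T.E i N) := by
  refine subsingleton_of_forall_eq 0 fun x ↦ ?_
  obtain ⟨y, rfl⟩ := (T.exact f g hf hg hfg i x).1 (Subsingleton.elim _ _)
  rw [Subsingleton.elim y 0, _root_.map_zero]

lemma finite_middle [IsNoetherianRing A] (i : ℤ) (f : M →ₗ[A] N) (g : N →ₗ[A] P)
    (hf : Function.Injective f)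
    (hg : Function.Surjective g) (hfg : Function.Exact f g) (h₁ : Module.Finite A (T.E i M))
    (h₂ : Module.Finite A (T.E i P)) : Module.Finite A (T.E i N) := by
  have h := T.exact f g hf hg hfg i
  have := isNoetherian_of_range_eq_ker (T.map i g) (T.map i f)
    (LinearMap.exact_iff.1 h).symm
  infer_instance

end

/-- finiteness of all values on finite modules -/
theorem finite [IsNoetherianRing A] (a : ℤ)
    (ha : ∀ (i : ℤ), i < a → ∀ (M : Type u) [AddCommGroup M] [Module A M] [Module.Finite A M],
      Subsingleton (T.E i M))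
    (hA : ∀ i : ℤ, Module.Finite A (T.E i A)) :
    ∀ (i : ℤ) (M : Type u) [AddCommGroup M] [Module A M] [Module.Finite A M],
      Module.Finite A (T.E i M) := by
  have key : ∀ n : ℕ, ∀ (M : Type u) [AddCommGroup M] [Module A M] [Module.Finite A M],
      Module.Finite A (T.E (a - 1 + n) M) := by
    intro n
    induction n with
    | zero =>
      intro M _ _ _
      have := ha (a - 1 + (0 : ℕ)) (by simp) M
      infer_instance
    | succ n ih =>
      intro M _ _ hM
      induction hM using IsNoetherianRing.induction_on_isQuotientEquivQuotientPrime A with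
      | subsingleton N =>
        have := T.subsingleton_of_subsingleton (a - 1 + ((n + 1 : ℕ) : ℤ)) (M := N)
        infer_instance
      | quotient N p e =>
        apply T.finite_of_equiv _ e
        obtain ⟨δ, h1, h2⟩ := T.les (Submodule.subtype p.asIdeal) (Submodule.mkQ p.asIdeal)
          (Submodule.injective_subtype _) (Submodule.mkQ_surjective _)
          (LinearMap.exact_subtype_mkQ _) (a - 1 + n) (a - 1 + ((n + 1 : ℕ) : ℤ)) (by push_cast; ring)
        have := ih p.asIdeal
        have := hA (a - 1 + ((n + 1 : ℕ) : ℤ))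
        have := isNoetherian_of_range_eq_ker δ
          (T.map (a - 1 + ((n + 1 : ℕ) : ℤ)) (Submodule.mkQ p.asIdeal)) (LinearMap.exact_iff.1 h2).symm
        infer_instance
      | exact N₁ N₂ N₃ f g hf hg hfg h₁ h₃ =>
        exact T.finite_middle _ f g hf hg hfg h₁ h₃
  intro i M _ _ _
  rcases lt_or_ge i a with h | h
  · have := ha i h M
    infer_instance
  · have := key (i - (a - 1)).toNat M
    rwa [Int.toNat_of_nonneg (by omega), add_sub_cancel] at this

end CDF

end Groth.Agent.Localalg
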