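import Groth.Agent.Localalg.CDF
import Mathlib.RingTheory.KrullDimension.Regular
import Mathlib.RingTheory.KrullDimension.Field

/-!
# Contravariant cohomological functors over Noetherian local rings: vanishing and support bounds
-/

set_option autoImplicit false
set_option linter.unusedSectionVars false

namespace Groth.Agent.Localalg.CDFLocal

open Module IsLocalRing

universe u w

section Aux

lemma wb_le {a : WithBot ℕ∞} {n : ℕ} (h : a + 1 ≤ ((n + 1 : ℕ) : WithBot ℕ∞)) :
    a ≤ (n : WithBot ℕ∞) := by
  induction a using WithBot.recBotCoe with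
  | bot => exact bot_le
  | coe a =>
    have h1 : a + 1 ≤ ((n + 1 : ℕ) : ℕ∞) := by exact_mod_cast h
    have h2 : a ≤ (n : ℕ∞) := by
      push_cast at h1
      exact (ENat.add_le_add_iff_right (by simp)).1 h1
    exact_mod_cast h2

lemma wb_not_le {a : WithBot ℕ∞} (ha : a ≠ ⊥) : ¬ (a + 1 ≤ ((0 : ℕ) : WithBot ℕ∞)) := by
  induction a using WithBot.recBotCoe with
  | bot => exact absurd rfl ha
  | coe a =>
    intro h
    have h1 : a + 1 ≤ ((0 : ℕ) : ℕ∞) := by exact_mod_cast h
    simp at h1

lemma wb_add_one_le {a : WithBot ℕ∞} {n : ℕ} (h : a ≤ (n : WithBot ℕ∞)) :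
    a + 1 ≤ ((n + 1 : ℕ) : WithBot ℕ∞) := by
  push_cast
  gcongr

/-- the dimension of the support of the middle term of an exact sequence. -/
theorem supportDim_le_max_of_exact {A : Type*} [CommRing A] {N₁ N₂ N₃ : Type*} [AddCommGroup N₁]
    [Module A N₁] [AddCommGroup N₂] [Module A N₂] [AddCommGroup N₃] [Module A N₃]
    (f : N₁ →ₗ[A] N₂) (g : N₂ →ₗ[A] N₃) (h : Function.Exact f g) :
    supportDim A N₂ ≤ max (supportDim A N₁) (supportDim A N₃) := by
  have hsupp : Module.support A N₂ ⊆ Module.support A N₁ ∪ Module.support A N₃ := by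
    have h1 := Module.support_of_exact (R := A) (f := (LinearMap.ker g).subtype)
      (g := g.rangeRestrict) (by
        rw [LinearMap.exact_iff]
        simp) (Submodule.injective_subtype _) (LinearMap.surjective_rangeRestrict g)
    rw [h1]
    refine Set.union_subset_union ?_ ?_
    · have h2 : Function.Surjective (f.codRestrict (LinearMap.ker g) (fun x ↦ by
          simp [h.apply_apply_eq_zero])) := by
        rintro ⟨y, hy⟩
        obtain ⟨x, rfl⟩ := (h y).1 hy
        exact ⟨x, rfl⟩
      exact Module.support_subset_of_surjective _ h2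
    · exact Module.support_subset_of_injective (LinearMap.range g).subtype
        (Submodule.injective_subtype _)
  rw [supportDim, Order.krullDim]
  refine iSup_le fun p ↦ ?_
  rcases hsupp p.head.2 with hp | hp
  · refine le_trans ?_ (le_max_left _ _)
    rw [supportDim, Order.krullDim]
    let q : LTSeries (Module.support A N₁) :=
      { length := p.length
        toFun := fun i ↦ ⟨(p.toFun i).1, Module.mem_support_mono
          (show p.head.1 ≤ (p.toFun i).1 from p.monotone (Fin.zero_le _)) hp⟩
        step := fun i ↦ p.step i }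
    exact le_iSup (fun (q : LTSeries (Module.support A N₁)) ↦ ((q.length : ℕ) : WithBot ℕ∞)) q
  · refine le_trans ?_ (le_max_right _ _)
    rw [supportDim, Order.krullDim]
    let q : LTSeries (Module.support A N₃) :=
      { length := p.length
        toFun := fun i ↦ ⟨(p.toFun i).1, Module.mem_support_mono
          (show p.head.1 ≤ (p.toFun i).1 from p.monotone (Fin.zero_le _)) hp⟩
        step := fun i ↦ p.step i }
    exact le_iSup (fun (q : LTSeries (Module.support A N₃)) ↦ ((q.length : ℕ) : WithBot ℕ∞)) q

end Aux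

section Induction

variable {A : Type u} [CommRing A] [IsNoetherianRing A]

/-- dévissage with a control on the annihilators. -/
theorem prime_induction
    {P : (M : Type u) → [AddCommGroup M] → [Module A M] → [Module.Finite A M] → Prop}
    (subsingleton : ∀ (N : Type u) [AddCommGroup N] [Module A N] [Module.Finite A N]
      [Subsingleton N], P N)
    (exact : ∀ (N₁ : Type u) [AddCommGroup N₁] [Module A N₁] [Module.Finite A N₁]
      (N₂ : Type u) [AddCommGroup N₂] [Module A N₂] [Module.Finite A N₂]
      (N₃ : Type u) [AddCommGroup N₃] [Module A N₃] [Module.Finite A N₃]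
      (f : N₁ →ₗ[A] N₂) (g : N₂ →ₗ[A] N₃),
      Function.Injective f → Function.Surjective g → Function.Exact f g → P N₁ → P N₃ → P N₂)
    (prime : ∀ (p : Ideal A) [p.IsPrime],
      (∀ (N : Type u) [AddCommGroup N] [Module A N] [Module.Finite A N] (J : Ideal A), p < J →
        J ≤ Module.annihilator A N → P N) →
      ∀ (N : Type u) [AddCommGroup N] [Module A N] [Module.Finite A N], (N ≃ₗ[A] A ⧸ p) → P N)
    (M : Type u) [AddCommGroup M] [Module A M] [Module.Finite A M] : P M := by
  have key : ∀ J : Ideal A, ∀ (N : Type u) [AddCommGroup N] [Module A N] [Module.Finite A N],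
      J ≤ Module.annihilator A N → P N := by
    intro J
    induction J using WellFoundedGT.induction with
    | ind J ih =>
      intro N _ _ hN hJ
      induction hN using IsNoetherianRing.induction_on_isQuotientEquivQuotientPrime A with
      | subsingleton N => exact subsingleton N
      | quotient N p e =>
        have hJp : J ≤ p.asIdeal := by
          rw [← Ideal.annihilator_quotient (I := p.asIdeal), ← LinearEquiv.annihilator_eq e]
          exact hJ
        have := p.2
        refine prime p.asIdeal (fun N' _ _ _ J' hJ' hJN' ↦ ?_) N e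
        exact ih J' (lt_of_le_of_lt hJp hJ') N' hJN'
      | exact N₁ N₂ N₃ f g hf hg hfg h₁ h₃ =>
        refine exact N₁ N₂ N₃ f g hf hg hfg (h₁ ?_) (h₃ ?_)
        · exact hJ.trans (LinearMap.annihilator_le_of_injective f hf)
        · exact hJ.trans (LinearMap.annihilator_le_of_surjective g hg)
  exact key ⊥ M bot_le

end Induction

section

variable {A : Type u} [CommRing A] (T : CDF.{u, w} A)
variable {M : Type u} [AddCommGroup M] [Module A M]

open Pointwise in
/-- for `x` regular on `M`, `Eⁱ(M)/x` embeds in `Eⁱ⁺¹(M/xM)`. -/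
theorem exists_injective_quotSMulTop {x : A} (hreg : IsSMulRegular M x) (i j : ℤ)
    (h : i + 1 = j) :
    ∃ φ : QuotSMulTop x (T.E i M) →ₗ[A] T.E j (QuotSMulTop x M), Function.Injective φ := by
  let f : M →ₗ[A] M := x • LinearMap.id
  let g : M →ₗ[A] QuotSMulTop x M := Submodule.mkQ (x • (⊤ : Submodule A M))
  have hf : Function.Injective f := fun a b hab ↦ hreg hab
  have hg : Function.Surjective g := Submodule.mkQ_surjective _
  have hfg : Function.Exact f g := by
    rw [LinearMap.exact_iff, Submodule.ker_mkQ]
    ext y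
    simp [f, Submodule.mem_smul_pointwise_iff_exists]
  obtain ⟨δ, h1, -⟩ := T.les f g hf hg hfg i j h
  have hker : LinearMap.ker δ = x • (⊤ : Submodule A (T.E i M)) := by
    rw [LinearMap.exact_iff.1 h1]
    ext y
    simp only [LinearMap.mem_range, Submodule.mem_smul_pointwise_iff_exists, Submodule.mem_top,
      true_and]
    constructor
    · rintro ⟨z, rfl⟩
      exact ⟨z, (T.map_smul_id i x z).symm⟩
    · rintro ⟨z, rfl⟩
      exact ⟨z, (T.map_smul_id i x z)⟩
  refine ⟨Submodule.liftQ _ δ hker.ge, ?_⟩
  rw [← LinearMap.ker_eq_bot, Submodule.ker_liftQ, hker, Submodule.mkQ_map_self]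

open Pointwise in
/-- the multiplication sequence. -/
theorem les_smul {x : A} (hreg : IsSMulRegular M x) (i j : ℤ) (h : i + 1 = j) :
    ∃ δ : T.E i M →ₗ[A] T.E j (QuotSMulTop x M),
      Function.Exact (T.map i (x • (LinearMap.id : M →ₗ[A] M))) δ ∧
      Function.Exact δ (T.map j (Submodule.mkQ (x • (⊤ : Submodule A M)))) := by
  refine T.les (x • LinearMap.id) (Submodule.mkQ (x • (⊤ : Submodule A M)))
    (fun a b hab ↦ hreg hab) (Submodule.mkQ_surjective _) ?_ i j h
  rw [LinearMap.exact_iff, Submodule.ker_mkQ]
  ext y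
  simp [Submodule.mem_smul_pointwise_iff_exists]

/-- the last map of the multiplication sequence. -/
theorem exact_mkQ_smul {x : A} (hreg : IsSMulRegular M x) (i : ℤ) (y : T.E i M) (hy : x • y = 0) :
    ∃ z : T.E i (QuotSMulTop x M), T.map i (Submodule.mkQ _) z = y := by
  let f : M →ₗ[A] M := x • LinearMap.id
  let g : M →ₗ[A] QuotSMulTop x M := Submodule.mkQ _
  have hf : Function.Injective f := fun a b hab ↦ hreg hab
  have hg : Function.Surjective g := Submodule.mkQ_surjective _
  have hfg : Function.Exact f g := by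
    rw [LinearMap.exact_iff, Submodule.ker_mkQ]
    ext y
    simp [f, Submodule.mem_smul_pointwise_iff_exists]
  exact (T.exact f g hf hg hfg i y).1 ((T.map_smul_id i x y).trans hy)

variable [IsLocalRing A] [IsNoetherianRing A]

theorem subsingleton_of_quotSMulTop {x : A} (hx : x ∈ maximalIdeal A) (N : Type w)
    [AddCommGroup N] [Module A N] [Module.Finite A N] (h : Subsingleton (QuotSMulTop x N)) :
    Subsingleton N := by
  by_contra hN
  rw [not_subsingleton_iff_nontrivial] at hN
  have h1 := Submodule.top_ne_pointwise_smul_of_mem_jacobson_annihilator (R := A) (M := N) (r := x)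
    (maximalIdeal_le_jacobson _ hx)
  exact h1 (Submodule.Quotient.subsingleton_iff.1 h).symm

/-- Nakayama: if `Eⁱ⁺¹(M/xM) = 0` then `Eⁱ(M) = 0`. -/
theorem subsingleton_of_quot {x : A} (hx : x ∈ maximalIdeal A) (hreg : IsSMulRegular M x) (i j : ℤ)
    (h : i + 1 = j) [Module.Finite A (T.E i M)] (h0 : Subsingleton (T.E j (QuotSMulTop x M))) :
    Subsingleton (T.E i M) := by
  obtain ⟨φ, hφ⟩ := exists_injective_quotSMulTop T hreg i j h
  exact subsingleton_of_quotSMulTop hx _ hφ.subsingleton

theorem supportDim_le_of_quot {x : A} (hx : x ∈ maximalIdeal A) (hreg : IsSMulRegular M x)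
    (i j : ℤ)
    (h : i + 1 = j) [Module.Finite A (T.E i M)] :
    supportDim A (T.E i M) ≤ supportDim A (T.E j (QuotSMulTop x M)) + 1 := by
  obtain ⟨φ, hφ⟩ := exists_injective_quotSMulTop T hreg i j h
  refine (supportDim_le_supportDim_quotSMulTop_succ hx).trans ?_
  gcongr
  exact supportDim_le_of_injective φ hφ

end

section Local

variable {A : Type u} [CommRing A] [IsLocalRing A] [IsNoetherianRing A] (T : CDF.{u, w} A)

/-- the annihilator of `(A/p)/x` is bigger than `p`. -/
lemma lt_and_le_annihilator {p : Ideal A} {x : A} (hx : x ∉ p) {N : Type u} [AddCommGroup N]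
    [Module A N] (e : N ≃ₗ[A] A ⧸ p) :
    p < p ⊔ Ideal.span {x} ∧ p ⊔ Ideal.span {x} ≤ Module.annihilator A (QuotSMulTop x N) := by
  constructor
  · refine lt_of_le_of_ne le_sup_left fun h ↦ hx ?_
    rw [h]
    exact Ideal.mem_sup_right (Ideal.mem_span_singleton_self x)
  · refine sup_le ?_ ?_
    · have : p ≤ Module.annihilator A N := by
        rw [LinearEquiv.annihilator_eq e, Ideal.annihilator_quotient]
      refine this.trans ?_
      exact LinearMap.annihilator_le_of_surjective (M := N) (Submodule.mkQ _)
        (Submodule.mkQ_surjective _)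
    · rw [Ideal.span_le, Set.singleton_subset_iff, SetLike.mem_coe, Module.mem_annihilator]
      intro m
      obtain ⟨m, rfl⟩ := Submodule.mkQ_surjective _ m
      rw [← map_smul, Submodule.mkQ_apply, Submodule.Quotient.mk_eq_zero]
      exact Submodule.smul_mem_pointwise_smul _ _ _ trivial

lemma isSMulRegular_of_equiv {p : Ideal A} [p.IsPrime] {x : A} (hx : x ∉ p) {N : Type u}
    [AddCommGroup N] [Module A N] (e : N ≃ₗ[A] A ⧸ p) : IsSMulRegular N x := by
  intro a b hab
  apply e.injective
  have h1 : x • e a = x • e b := by rw [← map_smul, ← map_smul]; exact congr_arg e hab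
  obtain ⟨a', ha'⟩ := Ideal.Quotient.mk_surjective (e a)
  obtain ⟨b', hb'⟩ := Ideal.Quotient.mk_surjective (e b)
  rw [← ha', ← hb'] at h1 ⊢
  have h2 : Ideal.Quotient.mk p (x * a') = Ideal.Quotient.mk p (x * b') := h1
  rw [Ideal.Quotient.eq] at h2 ⊢
  rw [← mul_sub] at h2
  exact (Ideal.IsPrime.mem_or_mem ‹_› h2).resolve_left hx

/-- a nonmaximal prime misses an element of the maximal ideal. -/
lemma exists_mem_not_mem {p : Ideal A} [hp : p.IsPrime] (h : p ≠ maximalIdeal A) :
    ∃ x ∈ maximalIdeal A, x ∉ p :=
  Set.not_subset.1 (fun hle ↦ h (le_antisymm (le_maximalIdeal hp.ne_top) hle))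

/-- If `Eⁱ(κ) = 0` for all `i > c` then `Eⁱ(M) = 0` for all `i > c` and finite `M`. -/
theorem subsingleton_of_gt
    (hfin : ∀ (i : ℤ) (M : Type u) [AddCommGroup M] [Module A M] [Module.Finite A M],
      Module.Finite A (T.E i M)) (c : ℤ)
    (hκ : ∀ i : ℤ, c < i → Subsingleton (T.E i (ResidueField A)))
    (M : Type u) [AddCommGroup M] [Module A M] [Module.Finite A M] :
    ∀ i : ℤ, c < i → Subsingleton (T.E i M) := by
  refine prime_induction (P := fun (M : Type u) [AddCommGroup M] [Module A M] [Module.Finite A M] ↦ ∀ i : ℤ, c < i → Subsingleton (T.E i M))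
    ?_ ?_ ?_ M
  · intro N _ _ _ _ i _
    exact T.subsingleton_of_subsingleton i
  · intro N₁ _ _ _ N₂ _ _ _ N₃ _ _ _ f g hf hg hfg h₁ h₃ i hi
    exact T.subsingleton_middle i f g hf hg hfg (h₁ i hi) (h₃ i hi)
  · intro p hp ih N _ _ _ e i hi
    by_cases hpm : p = maximalIdeal A
    · subst hpm
      exact T.subsingleton_of_equiv i e (hκ i hi)
    · obtain ⟨x, hxm, hxp⟩ := exists_mem_not_mem hpm
      have hreg := isSMulRegular_of_equiv hxp e
      obtain ⟨h1, h2⟩ := lt_and_le_annihilator hxp e
      have := hfin i N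
      exact subsingleton_of_quot T hxm hreg i (i + 1) rfl (ih (QuotSMulTop x N) _ h1 h2 (i + 1) (by omega))

/-- If `Eⁱ(κ) = 0` for all `i < 0` then `Eⁱ(M) = 0` for all `i < - dim M` and finite `M`. -/
theorem subsingleton_of_lt
    (hfin : ∀ (i : ℤ) (M : Type u) [AddCommGroup M] [Module A M] [Module.Finite A M],
      Module.Finite A (T.E i M))
    (hκ : ∀ i : ℤ, i < 0 → Subsingleton (T.E i (ResidueField A)))
    (M : Type u) [AddCommGroup M] [Module A M] [Module.Finite A M] :
    ∀ (d : ℕ) (i : ℤ), supportDim A M ≤ d → i < -(d : ℤ) → Subsingleton (T.E i M) := by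
  refine prime_induction (P := fun (M : Type u) [AddCommGroup M] [Module A M] [Module.Finite A M] ↦
    ∀ (d : ℕ) (i : ℤ), supportDim A M ≤ d → i < -(d : ℤ) → Subsingleton (T.E i M)) ?_ ?_ ?_ M
  · intro N _ _ _ _ _ i _ _
    exact T.subsingleton_of_subsingleton i
  · intro N₁ _ _ _ N₂ _ _ _ N₃ _ _ _ f g hf hg hfg h₁ h₃ d i hd hi
    exact T.subsingleton_middle i f g hf hg hfg
      (h₁ d i ((supportDim_le_of_injective f hf).trans hd) hi)
      (h₃ d i ((supportDim_le_of_surjective g hg).trans hd) hi)
  · intro p hp ih N _ _ _ e d i hd hi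
    by_cases hpm : p = maximalIdeal A
    · subst hpm
      exact T.subsingleton_of_equiv i e (hκ i (by omega))
    · obtain ⟨x, hxm, hxp⟩ := exists_mem_not_mem hpm
      have hreg := isSMulRegular_of_equiv hxp e
      obtain ⟨h1, h2⟩ := lt_and_le_annihilator hxp e
      have := hfin i N
      have hd' := supportDim_quotSMulTop_succ_eq_supportDim hreg hxm
      have : Nontrivial N := e.toEquiv.nontrivial
      -- the quotient is nontrivial
      have hne : Nontrivial (QuotSMulTop x N) := by
        by_contra hN
        rw [not_nontrivial_iff_subsingleton] at hN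
        exact not_subsingleton N (subsingleton_of_quotSMulTop hxm N hN)
      rw [← hd'] at hd
      have hd0 : d ≠ 0 := by
        rintro rfl
        exact wb_not_le (supportDim_ne_bot_of_nontrivial A (QuotSMulTop x N)) hd
      obtain ⟨d', rfl⟩ := Nat.exists_eq_succ_of_ne_zero hd0
      refine subsingleton_of_quot T hxm hreg i (i + 1) rfl (ih (QuotSMulTop x N) _ h1 h2 d' (i + 1) ?_ ?_)
      · exact wb_le hd
      · push_cast at hi; omega

/-- If `Eⁱ(κ) = 0` for all `i ≠ 0` then `dim Supp Eⁱ(M) ≤ -i` for all finite `M`. -/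
theorem supportDim_le
    (hfin : ∀ (i : ℤ) (M : Type u) [AddCommGroup M] [Module A M] [Module.Finite A M],
      Module.Finite A (T.E i M))
    (hκ : ∀ i : ℤ, i ≠ 0 → Subsingleton (T.E i (ResidueField A)))
    (M : Type u) [AddCommGroup M] [Module A M] [Module.Finite A M] :
    ∀ (n : ℕ), supportDim A (T.E (-(n : ℤ)) M) ≤ n := by
  refine prime_induction (P := fun (M : Type u) [AddCommGroup M] [Module A M] [Module.Finite A M] ↦
    ∀ (n : ℕ), supportDim A (T.E (-(n : ℤ)) M) ≤ n) ?_ ?_ ?_ M
  · intro N _ _ _ _ n
    have := T.subsingleton_of_subsingleton (-(n : ℤ)) (M := N)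
    rw [supportDim_eq_bot_of_subsingleton]
    exact bot_le
  · intro N₁ _ _ _ N₂ _ _ _ N₃ _ _ _ f g hf hg hfg h₁ h₃ n
    refine (supportDim_le_max_of_exact _ _ (T.exact f g hf hg hfg (-(n : ℤ)))).trans ?_
    exact max_le (h₃ n) (h₁ n)
  · intro p hp ih N _ _ _ e n
    by_cases hpm : p = maximalIdeal A
    · subst hpm
      rcases Nat.eq_zero_or_pos n with rfl | hn
      · -- `E⁰(κ)` is killed by the maximal ideal
        by_cases hnt : Nontrivial (T.E (-((0 : ℕ) : ℤ)) N)
        · have := hfin (-((0 : ℕ) : ℤ)) N
          have hann : maximalIdeal A ≤ Module.annihilator A (T.E (-((0 : ℕ) : ℤ)) N) := by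
            intro a ha
            rw [Module.mem_annihilator]
            intro y
            rw [← T.map_smul_id]
            have : a • (LinearMap.id : N →ₗ[A] N) = 0 := by
              ext z
              apply e.injective
              simp only [LinearMap.smul_apply, LinearMap.id_coe, id_eq, map_smul,
                LinearMap.zero_apply, map_zero]
              obtain ⟨w, hw⟩ := Ideal.Quotient.mk_surjective (e z)
              rw [← hw]
              change Ideal.Quotient.mk _ (a * w) = 0
              rw [Ideal.Quotient.eq_zero_iff_mem]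
              exact Ideal.mul_mem_right _ _ ha
            rw [this, T.map_zero]
            rfl
          rw [supportDim_eq_ringKrullDim_quotient_annihilator]
          have hmax : Module.annihilator A (T.E (-((0 : ℕ) : ℤ)) N) = maximalIdeal A := by
            refine le_antisymm (le_maximalIdeal ?_) hann
            rw [Ne, Module.annihilator_eq_top_iff]
            exact not_subsingleton _
          rw [hmax]
          exact (ringKrullDim_eq_zero_of_field (ResidueField A)).le
        · rw [not_nontrivial_iff_subsingleton] at hnt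
          rw [supportDim_eq_bot_of_subsingleton]
          exact bot_le
      · have := T.subsingleton_of_equiv (-(n : ℤ)) e (hκ (-(n : ℤ)) (by omega))
        rw [supportDim_eq_bot_of_subsingleton]
        exact bot_le
    · obtain ⟨x, hxm, hxp⟩ := exists_mem_not_mem hpm
      have hreg := isSMulRegular_of_equiv hxp e
      obtain ⟨h1, h2⟩ := lt_and_le_annihilator hxp e
      have := hfin (-(n : ℤ)) N
      rcases Nat.eq_zero_or_pos n with rfl | hn
      · -- vanishing
        have h3 : Subsingleton (T.E (-((0 : ℕ) : ℤ)) N) := by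
          refine subsingleton_of_quot T hxm hreg (-((0 : ℕ) : ℤ)) 1 (by simp) ?_
          exact subsingleton_of_gt T hfin 0 (fun i hi ↦ hκ i (by omega)) (QuotSMulTop x N) 1 (by norm_num)
        rw [supportDim_eq_bot_of_subsingleton]
        exact bot_le
      · obtain ⟨n, rfl⟩ := Nat.exists_eq_succ_of_ne_zero hn.ne'
        refine (supportDim_le_of_quot T hxm hreg (-((n + 1 : ℕ) : ℤ)) (-(n : ℤ))
          (by push_cast; ring)).trans ?_
        exact wb_add_one_le (ih (QuotSMulTop x N) _ h1 h2 n)

end Local

end Groth.Agent.Localalg.CDFLocal
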