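import Mathlib.RingTheory.Derivation.Basic
import Mathlib.RingTheory.Nilpotent.Lemmas
import Mathlib.RingTheory.Filtration
import Mathlib.RingTheory.Ideal.Cotangent
import Mathlib.RingTheory.Localization.AtPrime.Basic
import Mathlib.Algebra.Algebra.Rat
import Mathlib.RingTheory.Localization.Ideal
import Mathlib.RingTheory.LocalProperties.Reduced
import Mathlib.Tactic.LinearCombination
import Mathlib.Tactic.Ring

/-!
# Characteristic zero rings with enough derivations are reduced
-/

set_option autoImplicit false

namespace Groth.Agent.Localalg.CartierAlg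

/-- A derivation of a `ℚ`-algebra preserves nilpotent elements. -/
theorem isNilpotent_derivation {R : Type*} [CommRing R] [Algebra ℚ R] (D : Derivation ℤ R R) {a : R}
    (ha : IsNilpotent a) : IsNilpotent (D a) := by
  obtain ⟨n, hn⟩ := ha
  -- `a^(n-k) * (D a)^(2k) = 0`
  have key : ∀ k : ℕ, k ≤ n → a ^ (n - k) * (D a) ^ (2 * k) = 0 := by
    intro k
    induction k with
    | zero => intro _; simpa using hn
    | succ k ih =>
      intro hk
      have h1 := ih (by omega)
      obtain ⟨m, hm⟩ : ∃ m, n - k = m + 1 := ⟨n - k - 1, by omega⟩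
      have hm' : n - (k + 1) = m := by omega
      rw [hm] at h1
      rw [hm']
      have h2 : D (a ^ (m + 1) * (D a) ^ (2 * k)) = 0 := by rw [h1, map_zero]
      rw [D.leibniz, D.leibniz_pow, D.leibniz_pow] at h2
      simp only [smul_eq_mul, nsmul_eq_mul, Nat.add_sub_cancel] at h2
      have h3 : ((m + 1 : ℕ) : R) * (a ^ m * (D a) ^ (2 * (k + 1))) = 0 := by
        rcases Nat.eq_zero_or_pos k with hk0 | hk0
        · subst hk0
          simp only [Nat.mul_zero, pow_zero, Nat.cast_zero, zero_mul, mul_zero, zero_add, one_mul] at h2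
          simp only [zero_add, mul_one]
          linear_combination (D a) * h2
        · obtain ⟨l, hl⟩ : ∃ l, 2 * k = l + 1 := ⟨2 * k - 1, by omega⟩
          rw [hl] at h1 h2
          have hl2 : 2 * (k + 1) = l + 3 := by omega
          rw [hl2]
          simp only [Nat.add_sub_cancel] at h2
          linear_combination (D a) * h2 - ((l + 1 : ℕ) : R) * (D (D a)) * h1
      have h4 : IsUnit (((m + 1 : ℕ) : R)) := by
        have : ((m + 1 : ℕ) : R) = algebraMap ℚ R ((m + 1 : ℕ) : ℚ) := by simp
        rw [this]
        apply IsUnit.map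
        exact (Nat.cast_ne_zero.mpr (Nat.succ_ne_zero m)).isUnit
      exact (h4.mul_right_eq_zero).mp h3
  refine ⟨2 * n, ?_⟩
  simpa using key n le_rfl

variable {R : Type*} [CommRing R] [Algebra ℚ R] (m : Ideal R)
  {ι : Type*} [Fintype ι] [DecidableEq ι] (x : ι → R) (D : ι → Derivation ℤ R R)

/-- the Euler derivation -/
noncomputable def euler : Derivation ℤ R R := ∑ i, x i • D i

lemma euler_apply (y : R) : euler x D y = ∑ i, x i * D i y := by
  have : ∀ s : Finset ι, (∑ i ∈ s, x i • D i) y = ∑ i ∈ s, x i * D i y := by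
    classical
    intro s
    induction s using Finset.induction_on with
    | empty => simp
    | insert a s ha ih => rw [Finset.sum_insert ha, Finset.sum_insert ha, Derivation.add_apply, ih]; rfl
  exact this Finset.univ

variable (hx : ∀ i, x i ∈ m)
  (hgen : ∀ y ∈ m, ∃ c : ι → R, y - ∑ i, c i * x i ∈ m ^ 2)
  (hD : ∀ i j, D i (x j) - (if i = j then 1 else 0) ∈ m)

include hx in
lemma euler_mem (y : R) : euler x D y ∈ m := by
  rw [euler_apply]
  exact Ideal.sum_mem _ fun i _ => Ideal.mul_mem_right _ _ (hx i)

include hx in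
lemma euler_sq (y : R) (hy : y ∈ m ^ 2) : euler x D y ∈ m ^ 2 := by
  rw [pow_two] at hy
  refine Submodule.mul_induction_on hy ?_ ?_
  · intro a ha b hb
    rw [Derivation.leibniz]
    refine Ideal.add_mem _ ?_ ?_
    · rw [smul_eq_mul, pow_two]; exact Ideal.mul_mem_mul ha (euler_mem m x D hx _)
    · rw [smul_eq_mul, pow_two]; exact Ideal.mul_mem_mul hb (euler_mem m x D hx _)
  · intro a b ha hb
    rw [map_add]
    exact Ideal.add_mem _ ha hb

include hx hgen hD in
lemma euler_sub (y : R) (hy : y ∈ m) : euler x D y - y ∈ m ^ 2 := by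
  obtain ⟨c, hc⟩ := hgen y hy
  have h1 := euler_sq m x D hx _ hc
  have h2 : euler x D (∑ i, c i * x i) - ∑ i, c i * x i ∈ m ^ 2 := by
    rw [map_sum, ← Finset.sum_sub_distrib]
    refine Ideal.sum_mem _ fun i _ => ?_
    rw [Derivation.leibniz, smul_eq_mul, smul_eq_mul]
    have h3 : x i * euler x D (c i) ∈ m ^ 2 := by
      rw [pow_two]; exact Ideal.mul_mem_mul (hx i) (euler_mem m x D hx _)
    have h4 : euler x D (x i) - x i ∈ m ^ 2 := by
      have : euler x D (x i) - x i = ∑ j, x j * (D j (x i) - (if j = i then 1 else 0)) := by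
        rw [euler_apply]
        simp only [mul_sub, Finset.sum_sub_distrib]
        simp
      rw [this]
      refine Ideal.sum_mem _ fun j _ => ?_
      rw [pow_two]; exact Ideal.mul_mem_mul (hx j) (hD j i)
    have : c i * euler x D (x i) + x i * euler x D (c i) - c i * x i =
      c i * (euler x D (x i) - x i) + x i * euler x D (c i) := by ring
    rw [this]
    exact Ideal.add_mem _ (Ideal.mul_mem_left _ _ h4) h3
  rw [map_sub] at h1
  have : euler x D y - y = (euler x D y - euler x D (∑ i, c i * x i)) +
    (euler x D (∑ i, c i * x i) - ∑ i, c i * x i) - (y - ∑ i, c i * x i) := by ring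
  rw [this]
  exact Ideal.sub_mem _ (Ideal.add_mem _ h1 h2) hc

include hx hgen hD in
lemma euler_pow_sub (d : ℕ) (y : R) (hy : y ∈ m ^ d) : euler x D y - (d : R) * y ∈ m ^ (d + 1) := by
  induction d generalizing y with
  | zero => simpa using euler_mem m x D hx y
  | succ d ih =>
    rw [pow_succ] at hy
    refine Submodule.mul_induction_on hy ?_ ?_
    · intro a ha b hb
      rw [Derivation.leibniz, smul_eq_mul, smul_eq_mul]
      have h1 := ih a ha
      have h2 := euler_sub m x D hx hgen hD b hb
      have h3 : a * (euler x D b - b) ∈ m ^ (d + 2) := by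
        rw [pow_add]; exact Ideal.mul_mem_mul ha h2
      have h4 : (euler x D a - (d : R) * a) * b ∈ m ^ (d + 2) := by
        rw [show d + 2 = (d + 1) + 1 by omega, pow_succ]; exact Ideal.mul_mem_mul h1 hb
      have h5 := Ideal.add_mem _ h3 h4
      convert h5 using 1
      push_cast
      ring
    · intro a b ha hb
      have := Ideal.add_mem _ ha hb
      convert this using 1
      rw [map_add]; ring

include hx hgen hD in
theorem nilradical_le_pow (hm : m ≠ ⊤) [m.IsPrime] (d : ℕ) : nilradical R ≤ m ^ d := by
  induction d with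
  | zero => simp
  | succ d ih =>
    intro a ha
    rcases Nat.eq_zero_or_pos d with h0 | h0
    · subst h0
      rw [zero_add, pow_one]
      obtain ⟨k, hk⟩ := mem_nilradical.mp ha
      exact Ideal.IsPrime.mem_of_pow_mem ‹_› k (by rw [hk]; exact m.zero_mem)
    · have h1 : euler x D a ∈ m ^ (d + 1) := by
        rw [euler_apply]
        refine Ideal.sum_mem _ fun i _ => ?_
        rw [pow_succ']
        exact Ideal.mul_mem_mul (hx i) (ih (mem_nilradical.mpr (isNilpotent_derivation (D i) (mem_nilradical.mp ha))))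
      have h2 := euler_pow_sub m x D hx hgen hD d a (ih ha)
      have h3 : (d : R) * a ∈ m ^ (d + 1) := by
        have := Ideal.sub_mem _ h1 h2
        rwa [sub_sub_cancel] at this
      have h4 : IsUnit ((d : R)) := by
        have : (d : R) = algebraMap ℚ R (d : ℚ) := by simp
        rw [this]
        apply IsUnit.map
        exact (Nat.cast_ne_zero.mpr h0.ne').isUnit
      exact (Ideal.unit_mul_mem_iff_mem _ h4).mp h3

include hx hgen hD in
theorem exists_mul_eq_zero [IsNoetherianRing R] [m.IsPrime] (hm : m ≠ ⊤) (a : R) (ha : IsNilpotent a) :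
    ∃ c, c ∉ m ∧ c * a = 0 := by
  have h1 : a ∈ (⨅ i : ℕ, m ^ i • ⊤ : Submodule R R) := by
    rw [Submodule.mem_iInf]
    intro i
    rw [smul_eq_mul, Ideal.mul_top]
    exact nilradical_le_pow m x D hx hgen hD hm i (mem_nilradical.mpr ha)
  rw [Ideal.mem_iInf_smul_pow_eq_bot_iff] at h1
  obtain ⟨r, hr⟩ := h1
  refine ⟨1 - r, ?_, ?_⟩
  · intro h
    apply hm
    rw [Ideal.eq_top_iff_one]
    have := Ideal.add_mem _ h r.2
    rwa [sub_add_cancel] at this
  · rw [sub_mul, one_mul]
    have : (r : R) * a = a := hr
    rw [this, sub_self]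

end Groth.Agent.Localalg.CartierAlg
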