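import Groth.Agent.Localalg.Matlis

/-!
# Matlis duality, part 2

Over a Noetherian local ring an injective hull of the residue field is power torsion; embedding of power
torsion modules with finite socle into `E^n`.
-/

set_option autoImplicit false
universe u v w

namespace Groth.Agent.Localalg.Matlis

open _root_.InjHull IsLocalRing

section

variable {R : Type u} [CommRing R]

theorem mem_iSup_torsionBySet_iff {M : Type v} [AddCommGroup M] [Module R M] (J : Ideal R) (x : M) :
    x ∈ (⨆ n : ℕ, Submodule.torsionBySet R M ((J ^ n : Ideal R) : Set R)) ↔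
      ∃ n : ℕ, ∀ a ∈ J ^ n, a • x = 0 := by
  rw [Submodule.mem_iSup_of_directed]
  · constructor
    · rintro ⟨n, hn⟩
      exact ⟨n, fun a ha => (Submodule.mem_torsionBySet_iff _ _).mp hn ⟨a, ha⟩⟩
    · rintro ⟨n, hn⟩
      exact ⟨n, (Submodule.mem_torsionBySet_iff _ _).mpr fun a => hn a a.2⟩
  · intro m n
    refine ⟨max m n, ?_, ?_⟩
    · intro x hx
      rw [Submodule.mem_torsionBySet_iff] at *
      exact fun a => hx ⟨a, Ideal.pow_le_pow_right (le_max_left m n) a.2⟩
    · intro x hx
      rw [Submodule.mem_torsionBySet_iff] at *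
      exact fun a => hx ⟨a, Ideal.pow_le_pow_right (le_max_right m n) a.2⟩

/-- Over a Noetherian ring, an essential extension of a power torsion module inside an injective module
is power torsion. -/
theorem isPowerTorsion_of_isInjectiveHull [IsNoetherianRing R] {M E : Type u} [AddCommGroup M]
    [Module R M] [AddCommGroup E] [Module R E] {f : M →ₗ[R] E} (hf : IsInjectiveHull f)
    (J : Ideal R) (hM : LocCoh.IsPowerTorsion J M) : LocCoh.IsPowerTorsion J E := by
  have h1 := Groth.Agent.Localalg.InjDecomp.injective_powerTorsion E hf.isInjective J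
  obtain ⟨C, hC⟩ := Groth.Agent.Localalg.InjHull.exists_isCompl_of_injective h1
  have h2 : LinearMap.range f ≤
      (⨆ n : ℕ, Submodule.torsionBySet R E ((J ^ n : Ideal R) : Set R)) := by
    rintro _ ⟨y, rfl⟩
    rw [mem_iSup_torsionBySet_iff]
    obtain ⟨n, hn⟩ := hM y
    exact ⟨n, fun a ha => by rw [← map_smul, hn a ha, map_zero]⟩
  have h3 : C = ⊥ := Groth.Agent.Localalg.InjHull.subsingleton_of_disjoint_range
    hf.toIsEssentialInj (hC.disjoint.symm.mono_right h2)
  have h4 := hC.sup_eq_top
  rw [h3, sup_bot_eq] at h4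
  intro x
  rw [← mem_iSup_torsionBySet_iff, h4]
  trivial

end

section Local

variable {R : Type u} [CommRing R] [IsLocalRing R] {E : Type u} [AddCommGroup E] [Module R E]
  {f : ResidueField R →ₗ[R] E}

theorem isPowerTorsion_residueField : LocCoh.IsPowerTorsion (maximalIdeal R) (ResidueField R) :=
  fun z => ⟨1, fun a ha => smul_residueField_eq_zero (by simpa using ha) z⟩

theorem isPowerTorsion_hull [IsNoetherianRing R] (hf : IsInjectiveHull f) :
    LocCoh.IsPowerTorsion (maximalIdeal R) E :=
  isPowerTorsion_of_isInjectiveHull hf _ isPowerTorsion_residueField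

omit [IsLocalRing R] in
/-- In a nonzero power torsion module every nonzero element has a nonzero multiple in the socle. -/
theorem exists_smul_mem_socle {M : Type v} [AddCommGroup M] [Module R M] {J : Ideal R}
    (hM : LocCoh.IsPowerTorsion J M) {x : M} (hx : x ≠ 0) :
    ∃ r : R, r • x ≠ 0 ∧ ∀ a ∈ J, a • (r • x) = 0 := by
  obtain ⟨n, hn⟩ := hM x
  induction n generalizing x with
  | zero => exact absurd (by simpa using hn 1 (by simp)) hx
  | succ n ih =>
    by_cases h : ∀ a ∈ J, a • x = 0
    · exact ⟨1, by simpa using hx, by simpa using h⟩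
    · push Not at h
      obtain ⟨b, hb, hbx⟩ := h
      obtain ⟨r, hr0, hr⟩ := ih hbx (fun a ha => by
        rw [smul_smul]
        exact hn _ (by rw [pow_succ]; exact Ideal.mul_mem_mul ha hb))
      exact ⟨r * b, by rwa [mul_smul], fun a ha => by rw [mul_smul]; exact hr a ha⟩

end Local

end Groth.Agent.Localalg.Matlis
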