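import Groth.Agent.Localalg.DDual
import Groth.Agent.Localalg.InjDim
import Groth.Agent.Localalg.Matlis2
import Mathlib.Algebra.Homology.DerivedCategory.TStructure
import Mathlib.Algebra.Homology.DerivedCategory.Ext.Basic

/-!
# Normalized dualizing complexes in dimension zero
-/

set_option autoImplicit false
set_option backward.isDefEq.respectTransparency false
set_option backward.defeqAttrib.useBackward true
set_option linter.unusedSectionVars false

namespace Groth.Agent.Localalg.DDualZero

open CategoryTheory Limits DerivedCategory DHomCDF DLes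

universe u

attribute [local instance] HasDerivedCategory.standard

variable {A : Type u} [CommRing A]

/-- an object of `D(A)` with cohomology only in degree `n`. -/
lemma exists_iso_single (X : Dual.D A) (n : ℤ) (h : ∀ i : ℤ, i ≠ n → Subsingleton (Dual.HD A X i)) :
    ∃ W : ModuleCat.{u} A, Nonempty (X ≅ (singleFunctor (ModuleCat.{u} A) n).obj W) := by
  have h1 : X.IsGE n := by
    rw [isGE_iff]
    intro i hi
    have := h i (by omega)
    exact ModuleCat.isZero_of_subsingleton _
  have h2 : X.IsLE n := by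
    rw [isLE_iff]
    intro i hi
    have := h i (by omega)
    exact ModuleCat.isZero_of_subsingleton _
  exact exists_iso_singleFunctor_obj_of_isGE_of_isLE X n

/-- `Hom_{D(A)}(M, W⟦0⟧) = Hom_A(M, W)`. -/
noncomputable def homZeroEquiv (M W : Type u) [AddCommGroup M] [Module A M] [AddCommGroup W]
    [Module A W] : (Dual.inD A M ⟶ (Dual.inD A W)⟦(0 : ℤ)⟧) ≃ₗ[A] (M →ₗ[A] W) :=
  (postEquiv A _ ((shiftFunctorZero (Dual.D A) ℤ).app (Dual.inD A W))).trans
    ((LinearEquiv.ofBijective
      { toFun := fun f : (ModuleCat.of A M ⟶ ModuleCat.of A W) ↦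
          (singleFunctor (ModuleCat.{u} A) 0).map f
        map_add' := fun f g ↦ Functor.map_add _
        map_smul' := fun r f ↦ Functor.map_smul _ _ _ }
      ⟨(singleFunctor (ModuleCat.{u} A) 0).map_injective,
        (singleFunctor (ModuleCat.{u} A) 0).map_surjective⟩).symm.trans
      (ModuleCat.homLinearEquiv (S := A)))

/-- a module in degree zero with `Hom(A/I, W⟦1⟧) = 0` is injective. -/
lemma injective_of_subsingleton (W : Type u) [AddCommGroup W] [Module A W]
    (h : ∀ I : Ideal A, Subsingleton (Dual.inD A (A ⧸ I) ⟶ (Dual.inD A W)⟦(1 : ℤ)⟧)) :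
    Module.Injective A W := by
  rw [Module.injective_iff_injective_object]
  apply InjDim.injective_of_subsingleton_ext_one
  intro I
  have := h I
  exact (Abelian.Ext.homEquiv (C := ModuleCat.{u} A) (X := ModuleCat.of A (A ⧸ I))
    (Y := ModuleCat.of A W) (n := 1)).subsingleton

/-- a power torsion injective module with one-dimensional socle is an injective hull of the
residue field. -/
lemma exists_hull_of_socle [IsLocalRing A] (W : Type u) [AddCommGroup W] [Module A W]
    (hW : LocCoh.IsPowerTorsion (IsLocalRing.maximalIdeal A) W) (hinj : Module.Injective A W)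
    (e : (IsLocalRing.ResidueField A →ₗ[A] W) ≃ₗ[A] IsLocalRing.ResidueField A) :
    ∃ g : IsLocalRing.ResidueField A →ₗ[A] W, InjHull.IsInjectiveHull g := by
  let g := e.symm 1
  have hg0 : g ≠ 0 := by
    intro h
    have h1 := congr_arg e h
    simp [g] at h1
  have hs : IsSimpleModule A (IsLocalRing.ResidueField A) :=
    (isSimpleModule_iff_quot_maximal).2
      ⟨IsLocalRing.maximalIdeal A, inferInstance, ⟨LinearEquiv.refl _ _⟩⟩
  have hginj : Function.Injective g := (LinearMap.injective_or_eq_zero g).resolve_right hg0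
  refine ⟨g, InjHull.isEssentialInj_iff.2 ⟨hginj, fun x hx ↦ ?_⟩, hinj⟩
  obtain ⟨r, hr0, hr⟩ := Matlis.exists_smul_mem_socle hW hx
  refine ⟨r, hr0, ?_⟩
  let h : IsLocalRing.ResidueField A →ₗ[A] W :=
    Submodule.liftQ (IsLocalRing.maximalIdeal A) (LinearMap.toSpanSingleton A W (r • x))
      (fun a ha ↦ by simpa using hr a ha)
  obtain ⟨a, ha⟩ := IsLocalRing.residue_surjective (e h)
  have h1 : h = a • g := by
    apply e.injective
    rw [map_smul, ← ha]
    simp only [g, LinearEquiv.apply_symm_apply]
    rw [Algebra.smul_def, mul_one]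
    rfl
  refine ⟨a • 1, ?_⟩
  have h2 : h 1 = r • x := by
    change (LinearMap.toSpanSingleton A W (r • x)) 1 = r • x
    simp
  rw [← h2, h1]
  simp

/-- Normalized dualizing complexes in dimension `0`. -/
theorem nonempty_iso [IsLocalRing A] [IsNoetherianRing A] (h0 : ringKrullDim A = 0) (ω : Dual.D A)
    (hω : Dual.IsDualizing A ω) (hn : Dual.IsNormalized A ω)
    (hκ : Nonempty ((Dual.inD A (IsLocalRing.ResidueField A) ⟶ ω⟦(0 : ℤ)⟧) ≃ₗ[A]
      IsLocalRing.ResidueField A))
    (E : Type u) [AddCommGroup E] [Module A E]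
    (f : IsLocalRing.ResidueField A →ₗ[A] E) (hf : InjHull.IsInjectiveHull f) :
    Nonempty (ω ≅ Dual.inD A E) := by
  have hE : ∀ (i : ℤ), i ≠ 0 → ∀ (M : Type u) [AddCommGroup M] [Module A M] [Module.Finite A M],
      Subsingleton (Dual.inD A M ⟶ ω⟦i⟧) := by
    intro i hi M _ _ _
    rcases lt_or_gt_of_ne hi with h | h
    · refine DDual.subsingleton_of_lt hω hn M 0 ?_ i (by simpa using h)
      refine (Module.supportDim_le_ringKrullDim A M).trans ?_
      rw [h0]; rfl
    · exact DDual.subsingleton_of_pos hω hn M i h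
  obtain ⟨W, ⟨e⟩⟩ := exists_iso_single ω 0 (fun i hi ↦ by
    have := hE i hi A
    exact (DRingHom.ringEquiv A ω i).symm.toEquiv.subsingleton)
  have e' : ω ≅ Dual.inD A W := e
  have hinj : Module.Injective A W := by
    apply injective_of_subsingleton
    intro I
    have := hE 1 one_ne_zero (A ⧸ I)
    exact (postEquiv A (Dual.inD A (A ⧸ I)) ((shiftFunctor (Dual.D A) (1 : ℤ)).mapIso
      e')).symm.toEquiv.subsingleton
  have hpt : LocCoh.IsPowerTorsion (IsLocalRing.maximalIdeal A) W := by
    have : IsArtinianRing A := by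
      rw [isArtinianRing_iff_isNoetherianRing_krullDimLE_zero]
      exact ⟨inferInstance, (Order.krullDimLE_iff 0 _).2 h0.le⟩
    obtain ⟨n, hn⟩ := IsArtinianRing.isNilpotent_jacobson_bot (R := A)
    rw [IsLocalRing.jacobson_eq_maximalIdeal ⊥ bot_ne_top] at hn
    intro m
    refine ⟨n, fun a ha ↦ ?_⟩
    rw [hn] at ha
    rw [Ideal.zero_eq_bot, Ideal.mem_bot] at ha
    rw [ha, zero_smul]
  obtain ⟨ek⟩ := hκ
  obtain ⟨g, hg⟩ := exists_hull_of_socle (A := A) W hpt hinj
    (((homZeroEquiv (IsLocalRing.ResidueField A) W).symm.trans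
      (postEquiv A (Dual.inD A (IsLocalRing.ResidueField A)) ((shiftFunctor (Dual.D A)
        (0 : ℤ)).mapIso e')).symm).trans ek)
  obtain ⟨e2, -⟩ := InjHull.hull_unique hg hf
  exact ⟨e' ≪≫ inDIso e2⟩

end Groth.Agent.Localalg.DDualZero
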