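import Mathlib.Algebra.Homology.DerivedCategory.Linear
import Mathlib.Algebra.Homology.DerivedCategory.SingleTriangle
import Mathlib.Algebra.Homology.DerivedCategory.FullyFaithful
import Mathlib.CategoryTheory.Triangulated.Yoneda
import Mathlib.Algebra.Exact.Basic

/-!
# Long exact sequences for `Hom(-, Y⟦i⟧)` and `Hom(X, (-)⟦i⟧)` in a linear pretriangulated category
-/

set_option autoImplicit false
set_option linter.unusedSectionVars false

namespace Groth.Agent.Localalg.DLes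

open CategoryTheory Limits Pretriangulated

universe w v u

section General

variable (R : Type w) [CommRing R] {C : Type u} [Category.{v} C] [Preadditive C] [Linear R C]

/-- precomposition with `f` as an `R`-linear map. -/
def pre {X X' : C} (f : X ⟶ X') (Z : C) : (X' ⟶ Z) →ₗ[R] (X ⟶ Z) := Linear.leftComp R Z f

@[simp] lemma pre_apply {X X' : C} (f : X ⟶ X') (Z : C) (x : X' ⟶ Z) : pre R f Z x = f ≫ x := rfl

/-- postcomposition with `f` as an `R`-linear map. -/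
def post (X : C) {Z Z' : C} (f : Z ⟶ Z') : (X ⟶ Z) →ₗ[R] (X ⟶ Z') := Linear.rightComp R X f

@[simp] lemma post_apply (X : C) {Z Z' : C} (f : Z ⟶ Z') (x : X ⟶ Z) : post R X f x = x ≫ f := rfl

lemma pre_id (X Z : C) : pre R (𝟙 X) Z = LinearMap.id := by ext; simp

lemma pre_comp {X X' X'' : C} (f : X ⟶ X') (g : X' ⟶ X'') (Z : C) :
    pre R (f ≫ g) Z = pre R f Z ∘ₗ pre R g Z := by ext; simp

lemma pre_smul {X X' : C} (r : R) (f : X ⟶ X') (Z : C) : pre R (r • f) Z = r • pre R f Z := by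
  ext; simp

lemma pre_zero {X X' : C} (Z : C) : pre R (0 : X ⟶ X') Z = 0 := by ext; simp

/-- precomposition with an isomorphism. -/
def preEquiv {X X' : C} (e : X ≅ X') (Z : C) : (X' ⟶ Z) ≃ₗ[R] (X ⟶ Z) :=
  LinearEquiv.ofLinearMap (pre R e.hom Z) (pre R e.inv Z) (by ext; simp) (by ext; simp)

@[simp] lemma preEquiv_apply {X X' : C} (e : X ≅ X') (Z : C) (x : X' ⟶ Z) :
    preEquiv R e Z x = e.hom ≫ x := rfl

/-- postcomposition with an isomorphism. -/
def postEquiv (X : C) {Z Z' : C} (e : Z ≅ Z') : (X ⟶ Z) ≃ₗ[R] (X ⟶ Z') :=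
  LinearEquiv.ofLinearMap (post R X e.hom) (post R X e.inv) (by ext; simp) (by ext; simp)

@[simp] lemma postEquiv_apply (X : C) {Z Z' : C} (e : Z ≅ Z') (x : X ⟶ Z) :
    postEquiv R X e x = x ≫ e.hom := rfl

variable [HasShift C ℤ] [∀ n : ℤ, (shiftFunctor C n).Additive]
  [∀ n : ℤ, (shiftFunctor C n).Linear R]

/-- the action of the shift functor as a linear equivalence
`(X ⟶ Y⟦i⟧) ≃ (X⟦n⟧ ⟶ Y⟦i+n⟧)`. -/
noncomputable def shiftEquiv (X Y : C) (n i j : ℤ) (h : i + n = j) :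
    (X ⟶ Y⟦i⟧) ≃ₗ[R] (X⟦n⟧ ⟶ Y⟦j⟧) :=
  { (Functor.FullyFaithful.ofFullyFaithful (shiftFunctor C n)).homEquiv.trans
      ((postEquiv R (X⟦n⟧) ((shiftFunctorAdd' C i n j h).symm.app Y)).toEquiv) with
    map_add' := fun x y => by
      simp [Functor.FullyFaithful.homEquiv, Functor.map_add]
    map_smul' := fun r x => by
      simp [Functor.FullyFaithful.homEquiv, Functor.map_smul] }

@[simp] lemma shiftEquiv_apply (X Y : C) (n i j : ℤ) (h : i + n = j) (x : X ⟶ Y⟦i⟧) :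
    shiftEquiv R X Y n i j h x = x⟦n⟧' ≫ (shiftFunctorAdd' C i n j h).inv.app Y := rfl

/-- the connecting map `Hom(T₁, Y⟦i⟧) → Hom(T₃, Y⟦j⟧)`, `j = i + 1`. -/
noncomputable def delta (T : Triangle C) (Y : C) (i j : ℤ) (h : i + 1 = j) :
    (T.obj₁ ⟶ Y⟦i⟧) →ₗ[R] (T.obj₃ ⟶ Y⟦j⟧) :=
  pre R T.mor₃ _ ∘ₗ (shiftEquiv R T.obj₁ Y 1 i j h).toLinearMap

lemma delta_apply (T : Triangle C) (Y : C) (i j : ℤ) (h : i + 1 = j) (x : T.obj₁ ⟶ Y⟦i⟧) :
    delta R T Y i j h x = T.mor₃ ≫ x⟦(1 : ℤ)⟧' ≫ (shiftFunctorAdd' C i 1 j h).inv.app Y := rfl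

/-- the covariant connecting map `Hom(X, T₃⟦i⟧) → Hom(X, T₁⟦j⟧)`, `j = i + 1`. -/
noncomputable def codelta (X : C) (T : Triangle C) (i j : ℤ) (h : i + 1 = j) :
    (X ⟶ T.obj₃⟦i⟧) →ₗ[R] (X ⟶ T.obj₁⟦j⟧) :=
  post R X (T.mor₃⟦i⟧' ≫ (shiftFunctorAdd' C 1 i j (by lia)).inv.app T.obj₁)

lemma codelta_apply (X : C) (T : Triangle C) (i j : ℤ) (h : i + 1 = j) (x : X ⟶ T.obj₃⟦i⟧) :
    codelta R X T i j h x =
      x ≫ T.mor₃⟦i⟧' ≫ (shiftFunctorAdd' C 1 i j (by lia)).inv.app T.obj₁ := rfl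

lemma delta_naturality {T T' : Triangle C} (φ : T ⟶ T') (Y : C) (i j : ℤ) (h : i + 1 = j)
    (x : T'.obj₁ ⟶ Y⟦i⟧) :
    φ.hom₃ ≫ delta R T' Y i j h x = delta R T Y i j h (φ.hom₁ ≫ x) := by
  rw [delta_apply, delta_apply, Functor.map_comp, Category.assoc, ← reassoc_of% φ.comm₃]

lemma delta_post (T : Triangle C) {Y Y' : C} (f : Y ⟶ Y') (i j : ℤ) (h : i + 1 = j)
    (x : T.obj₁ ⟶ Y⟦i⟧) :
    delta R T Y i j h x ≫ f⟦j⟧' = delta R T Y' i j h (x ≫ f⟦i⟧') := by
  have := (shiftFunctorAdd' C i 1 j h).inv.naturality f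
  rw [delta_apply, delta_apply, Functor.map_comp, Category.assoc, Category.assoc, Category.assoc,
    ← this]
  rfl

lemma codelta_naturality (X : C) {T T' : Triangle C} (φ : T ⟶ T') (i j : ℤ) (h : i + 1 = j)
    (x : X ⟶ T.obj₃⟦i⟧) :
    codelta R X T i j h x ≫ φ.hom₁⟦j⟧' = codelta R X T' i j h (x ≫ φ.hom₃⟦i⟧') := by
  have := (shiftFunctorAdd' C 1 i j (by lia)).inv.naturality φ.hom₁
  rw [codelta_apply, codelta_apply, Category.assoc, Category.assoc, Category.assoc,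
    ← this]
  dsimp
  rw [← Functor.map_comp_assoc, ← Functor.map_comp_assoc, φ.comm₃]

lemma codelta_pre {X X' : C} (g : X ⟶ X') (T : Triangle C) (i j : ℤ) (h : i + 1 = j)
    (x : X' ⟶ T.obj₃⟦i⟧) :
    g ≫ codelta R X' T i j h x = codelta R X T i j h (g ≫ x) := by
  simp [codelta_apply]

variable [HasZeroObject C] [Pretriangulated C]

lemma exact₂ (T : Triangle C) (hT : T ∈ distTriang C) (Z : C) :
    Function.Exact (pre R T.mor₂ Z) (pre R T.mor₁ Z) := by
  intro x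
  constructor
  · intro hx
    obtain ⟨g, hg⟩ := Triangle.yoneda_exact₂ T hT x hx
    exact ⟨g, hg.symm⟩
  · rintro ⟨g, rfl⟩
    simp [comp_distTriang_mor_zero₁₂_assoc _ hT]

lemma exact₃ (T : Triangle C) (hT : T ∈ distTriang C) (Y : C) (i j : ℤ) (h : i + 1 = j) :
    Function.Exact (delta R T Y i j h) (pre R T.mor₂ (Y⟦j⟧)) := by
  intro x
  constructor
  · intro hx
    obtain ⟨g, hg⟩ := Triangle.yoneda_exact₃ T hT x hx
    obtain ⟨g', rfl⟩ := (shiftEquiv R T.obj₁ Y 1 i j h).surjective g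
    exact ⟨g', hg.symm⟩
  · rintro ⟨g, rfl⟩
    simp [delta_apply, comp_distTriang_mor_zero₂₃_assoc _ hT]

lemma exact₁ (T : Triangle C) (hT : T ∈ distTriang C) (Y : C) (i j : ℤ) (h : i + 1 = j) :
    Function.Exact (pre R T.mor₁ (Y⟦i⟧)) (delta R T Y i j h) := by
  intro x
  constructor
  · intro hx
    have hx' : T.rotate.mor₂ ≫ shiftEquiv R T.obj₁ Y 1 i j h x = 0 := hx
    obtain ⟨g, hg⟩ := Triangle.yoneda_exact₃ T.rotate (rot_of_distTriang _ hT) _ hx'
    obtain ⟨g', rfl⟩ := (shiftEquiv R T.obj₂ Y 1 i j h).surjective g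
    refine ⟨-g', ?_⟩
    apply (shiftEquiv R T.obj₁ Y 1 i j h).injective
    rw [hg]
    simp only [map_neg, shiftEquiv_apply, pre_apply, Functor.map_comp, Category.assoc]
    exact (Preadditive.neg_comp _ _).symm
  · rintro ⟨g, rfl⟩
    have : (T.mor₃ ≫ T.mor₁⟦(1 : ℤ)⟧') = 0 := comp_distTriang_mor_zero₃₁ _ hT
    simp [delta_apply, reassoc_of% this]

lemma coexact₂ (X : C) (T : Triangle C) (hT : T ∈ distTriang C) (i : ℤ) :
    Function.Exact (post R X (T.mor₁⟦i⟧')) (post R X (T.mor₂⟦i⟧')) := by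
  have := (preadditiveCoyoneda.obj (Opposite.op X)).homologySequence_exact₂ T hT i
  rw [ShortComplex.ab_exact_iff] at this
  intro x
  constructor
  · intro hx
    exact this x hx
  · rintro ⟨g, rfl⟩
    simp [← Functor.map_comp, comp_distTriang_mor_zero₁₂ _ hT]

lemma coexact₃ (X : C) (T : Triangle C) (hT : T ∈ distTriang C) (i j : ℤ) (h : i + 1 = j) :
    Function.Exact (post R X (T.mor₂⟦i⟧')) (codelta R X T i j h) := by
  have := (preadditiveCoyoneda.obj (Opposite.op X)).homologySequence_exact₃ T hT i j h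
  rw [ShortComplex.ab_exact_iff] at this
  intro x
  constructor
  · intro hx
    obtain ⟨y, hy⟩ := this x ((preadditiveCoyoneda_homologySequenceδ_apply T i j h x).trans hx)
    exact ⟨y, hy⟩
  · rintro ⟨g, rfl⟩
    have := comp_distTriang_mor_zero₂₃ _ hT
    simp [codelta_apply, ← Functor.map_comp_assoc, this]

lemma coexact₁ (X : C) (T : Triangle C) (hT : T ∈ distTriang C) (i j : ℤ) (h : i + 1 = j) :
    Function.Exact (codelta R X T i j h) (post R X (T.mor₁⟦j⟧')) := by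
  have := (preadditiveCoyoneda.obj (Opposite.op X)).homologySequence_exact₁ T hT i j h
  have key := (preadditiveCoyoneda.obj (Opposite.op X)).homologySequenceδ_comp T hT i j h
  rw [ShortComplex.ab_exact_iff] at this
  intro x
  constructor
  · intro hx
    obtain ⟨y, hy⟩ := this x hx
    exact ⟨y, (preadditiveCoyoneda_homologySequenceδ_apply T i j h y).symm.trans hy⟩
  · rintro ⟨g, rfl⟩
    have := ConcreteCategory.congr_hom key g
    have h2 := preadditiveCoyoneda_homologySequenceδ_apply T i j h g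
    change codelta R X T i j h g ≫ T.mor₁⟦j⟧' = 0
    have h3 : ((preadditiveCoyoneda.obj (Opposite.op X)).homologySequenceδ T i j h g) ≫
      T.mor₁⟦j⟧' = 0 := this
    rw [h2] at h3
    exact h3

end General

end Groth.Agent.Localalg.DLes
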