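import Groth.Agent.Localalg.DProj
import Groth.Agent.Localalg.DLes
import Groth.Prelude.Def_Wider
import Mathlib.Algebra.Homology.ShortComplex.Linear
import Mathlib.Algebra.Homology.DerivedCategory.TStructure

/-!
# `Hom_{D(A)}(A, X⟦i⟧) = Hⁱ(X)`, `A`-linearly.
-/

set_option autoImplicit false
set_option backward.isDefEq.respectTransparency false
set_option backward.defeqAttrib.useBackward true
set_option linter.unusedSectionVars false

namespace Groth.Agent.Localalg.DRingHom

open CategoryTheory Limits DerivedCategory

universe t w v u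

section

variable (R : Type t) [CommRing R] (C : Type u) [Category.{v} C] [Abelian C] [Linear R C]
  [HasDerivedCategory.{w} C]

/-- the homology functors of the derived category are linear. -/
lemma homologyFunctor_linear (n : ℤ) : (homologyFunctor C n).Linear R := by
  have : (HomologicalComplex.homologyFunctor C (.up ℤ) n).Linear R := by
    constructor
    intro K L f r
    change ShortComplex.homologyMap _ = r • ShortComplex.homologyMap _
    rw [← ShortComplex.homologyMap_smul]
    rfl
  have : Localization.Lifting Q (HomologicalComplex.quasiIso C (.up ℤ))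
    (HomologicalComplex.homologyFunctor C (.up ℤ) n) (homologyFunctor C n) :=
    ⟨homologyFunctorFactors C n⟩
  rwa [← Localization.functor_linear_iff Q (HomologicalComplex.quasiIso C (.up ℤ)) R
    (HomologicalComplex.homologyFunctor C (.up ℤ) n) (homologyFunctor C n)]

/-- `H⁰(X⟦i⟧) ≅ Hⁱ(X)` -/
noncomputable def homologyShiftIso (X : DerivedCategory C) (i : ℤ) :
    (homologyFunctor C 0).obj (X⟦i⟧) ≅ (homologyFunctor C i).obj X :=
  ((homologyFunctor C 0).isoShift i).app X

variable {C}

lemma homologyShiftIso_naturality {X Y : DerivedCategory C} (f : X ⟶ Y) (i : ℤ) :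
    (homologyFunctor C 0).map (f⟦i⟧') ≫ (homologyShiftIso C Y i).hom =
      (homologyShiftIso C X i).hom ≫ (homologyFunctor C i).map f :=
  ((homologyFunctor C 0).isoShift i).hom.naturality f

/-- For `P` projective, `Hom_D(P, X⟦i⟧) ≃ Hom(P, Hⁱ X)`, `R`-linearly. -/
noncomputable def projEquiv (P : C) [Projective P] (X : DerivedCategory C) (i : ℤ) :
    ((singleFunctor C 0).obj P ⟶ X⟦i⟧) ≃ₗ[R] (P ⟶ (homologyFunctor C i).obj X) :=
  have := homologyFunctor_linear R C 0
  LinearEquiv.ofBijective
    { toFun := fun f ↦ DProj.toHomology P _ f ≫ (homologyShiftIso C X i).hom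
      map_add' := by simp
      map_smul' := by
        intro r f
        dsimp
        rw [← Linear.smul_comp]
        congr 1
        change DProj.unitHom P ≫ (homologyFunctor C 0).map (r • f) =
          r • (DProj.unitHom P ≫ (homologyFunctor C 0).map f)
        rw [Functor.map_smul, Linear.comp_smul] } (by
    have h1 := DProj.toHomology_bijective P (X⟦i⟧)
    have h2 : Function.Bijective (fun f : (P ⟶ (homologyFunctor C 0).obj (X⟦i⟧)) ↦
        f ≫ (homologyShiftIso C X i).hom) := by
      constructor
      · intro f g hfg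
        exact (cancel_mono _).1 hfg
      · intro f
        exact ⟨f ≫ (homologyShiftIso C X i).inv, by simp⟩
    exact h2.comp h1)

lemma projEquiv_apply (P : C) [Projective P] (X : DerivedCategory C) (i : ℤ)
    (f : (singleFunctor C 0).obj P ⟶ X⟦i⟧) :
    projEquiv R P X i f = DProj.toHomology P _ f ≫ (homologyShiftIso C X i).hom := rfl

lemma projEquiv_comp (P : C) [Projective P] {X Y : DerivedCategory C} (i : ℤ)
    (f : (singleFunctor C 0).obj P ⟶ X⟦i⟧) (g : X ⟶ Y) :
    projEquiv R P Y i (f ≫ g⟦i⟧') = projEquiv R P X i f ≫ (homologyFunctor C i).map g := by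
  rw [projEquiv_apply, projEquiv_apply, DProj.toHomology_comp, Category.assoc, Category.assoc,
    homologyShiftIso_naturality]

end

section Ring

attribute [local instance] HasDerivedCategory.standard

variable (A : Type u) [CommRing A]

instance projSelf : Projective (ModuleCat.of A A) :=
  (IsProjective.iff_projective A).1 inferInstance

/-- `Hom_{D(A)}(A, X⟦i⟧) ≃ Hⁱ(X)`, `A`-linearly. -/
noncomputable def ringEquiv (X : Dual.D A) (i : ℤ) :
    (Dual.inD A A ⟶ X⟦i⟧) ≃ₗ[A] Dual.HD A X i :=
  (projEquiv A (ModuleCat.of A A) X i).trans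
    ((ModuleCat.homLinearEquiv (S := A)).trans (LinearMap.ringLmapEquivSelf A A _))

lemma ringEquiv_comp {X Y : Dual.D A} (i : ℤ) (f : Dual.inD A A ⟶ X⟦i⟧) (g : X ⟶ Y) :
    ringEquiv A Y i (f ≫ g⟦i⟧') = (homologyFunctor (ModuleCat.{u} A) i).map g (ringEquiv A X i f) := by
  change (projEquiv A (ModuleCat.of A A) Y i (f ≫ g⟦i⟧')).hom 1 = _
  rw [projEquiv_comp]
  rfl

end Ring

end Groth.Agent.Localalg.DRingHom
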