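import Groth.Agent.Localalg.CDF
import Groth.Agent.Localalg.DRingHom
import Mathlib.Algebra.Homology.ShortComplex.ModuleCat

/-!
# `M ↦ Hom_{D(A)}(M, ω⟦i⟧)` as a contravariant cohomological functor
-/

set_option autoImplicit false
set_option backward.isDefEq.respectTransparency false
set_option backward.defeqAttrib.useBackward true
set_option linter.unusedSectionVars false

namespace Groth.Agent.Localalg.DHomCDF

open CategoryTheory Limits DerivedCategory DLes

universe u w

attribute [local instance] HasDerivedCategory.standard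

variable {A : Type u} [CommRing A]

/-- the morphism in `D(A)` induced by a linear map. -/
noncomputable def inDMap {M N : Type u} [AddCommGroup M] [Module A M] [AddCommGroup N] [Module A N]
    (f : M →ₗ[A] N) : Dual.inD A M ⟶ Dual.inD A N :=
  (singleFunctor (ModuleCat.{u} A) 0).map (ModuleCat.ofHom f)

section

variable {M N P : Type u} [AddCommGroup M] [Module A M] [AddCommGroup N] [Module A N]
  [AddCommGroup P] [Module A P]

lemma inDMap_id : inDMap (LinearMap.id : M →ₗ[A] M) = 𝟙 _ :=
  (singleFunctor (ModuleCat.{u} A) 0).map_id _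

lemma inDMap_comp (f : M →ₗ[A] N) (g : N →ₗ[A] P) :
    inDMap (g ∘ₗ f) = inDMap f ≫ inDMap g :=
  (singleFunctor (ModuleCat.{u} A) 0).map_comp _ _

lemma inDMap_smul (a : A) (f : M →ₗ[A] N) : inDMap (a • f) = a • inDMap f :=
  (singleFunctor (ModuleCat.{u} A) 0).map_smul a (ModuleCat.ofHom f)

lemma inDMap_add (f g : M →ₗ[A] N) : inDMap (f + g) = inDMap f + inDMap g :=
  (singleFunctor (ModuleCat.{u} A) 0).map_add (f := ModuleCat.ofHom f) (g := ModuleCat.ofHom g)

/-- the iso in `D(A)` induced by a linear equivalence. -/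
noncomputable def inDIso (e : M ≃ₗ[A] N) : Dual.inD A M ≅ Dual.inD A N :=
  (singleFunctor (ModuleCat.{u} A) 0).mapIso e.toModuleIso

/-- the short complex attached to linear maps. -/
noncomputable abbrev sc (f : M →ₗ[A] N) (g : N →ₗ[A] P) (h : Function.Exact f g) :
    ShortComplex (ModuleCat.{u} A) :=
  ShortComplex.mk (ModuleCat.ofHom f) (ModuleCat.ofHom g) (by
    rw [← ModuleCat.ofHom_comp, h.linearMap_comp_eq_zero]; rfl)

lemma sc_shortExact (f : M →ₗ[A] N) (g : N →ₗ[A] P) (hf : Function.Injective f)
    (hg : Function.Surjective g) (h : Function.Exact f g) : (sc f g h).ShortExact where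
  exact := by
    rw [ShortComplex.ShortExact.moduleCat_exact_iff_function_exact]
    exact h
  mono_f := by
    rw [ModuleCat.mono_iff_injective]
    exact hf
  epi_g := by
    rw [ModuleCat.epi_iff_surjective]
    exact hg

end

/-- `M ↦ Hom_{D(A)}(M, ω⟦i⟧)`. -/
noncomputable def homCDF (ω : Dual.D A) : CDF.{u, u + 1} A where
  E i M _ _ := (Dual.inD A M ⟶ ω⟦i⟧)
  grp _ _ _ _ := inferInstance
  mod _ _ _ _ := inferInstance
  map i _ _ _ _ _ _ f := pre A (inDMap f) (ω⟦i⟧)
  map_id i M _ _ := by rw [inDMap_id, pre_id]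
  map_comp i _ _ _ _ _ _ _ _ _ f g := by rw [inDMap_comp, pre_comp]
  map_smul i _ _ _ _ _ _ a f := by rw [inDMap_smul, pre_smul]
  map_add i _ _ _ _ _ _ f g := by
    rw [inDMap_add]
    ext x
    simp
  exact f g hf hg h i :=
    exact₂ A _ (ShortComplex.ShortExact.singleTriangle_distinguished (sc_shortExact f g hf hg h)) _
  les f g hf hg h i j hij := by
    have hT := ShortComplex.ShortExact.singleTriangle_distinguished (sc_shortExact f g hf hg h)
    exact ⟨delta A (ShortComplex.ShortExact.singleTriangle (sc_shortExact f g hf hg h)) ω i j hij,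
      exact₁ A _ hT ω i j hij, exact₃ A _ hT ω i j hij⟩

lemma homCDF_E (ω : Dual.D A) (i : ℤ) (M : Type u) [AddCommGroup M] [Module A M] :
    (homCDF ω).E i M = (Dual.inD A M ⟶ ω⟦i⟧) := rfl

end Groth.Agent.Localalg.DHomCDF
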