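import Mathlib.Algebra.Homology.DerivedCategory.KProjective
import Mathlib.Algebra.Homology.DerivedCategory.KInjective
import Mathlib.Algebra.Homology.DerivedCategory.Linear
import Mathlib.Algebra.Homology.DerivedCategory.FullyFaithful
import Mathlib.Algebra.Homology.HomotopyCategory.HomComplexSingle

/-!
# Morphisms in the derived category from a projective object placed in degree 0

`Hom_D(P[0], X) ≃ Hom(P, H⁰ X)` for `P` projective.
-/

set_option autoImplicit false
set_option backward.isDefEq.respectTransparency false
set_option backward.defeqAttrib.useBackward true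
set_option linter.unusedSectionVars false

namespace Groth.Agent.Localalg.DProj

open CategoryTheory Limits DerivedCategory

universe w v u

variable {C : Type u} [Category.{v} C] [Abelian C] [HasDerivedCategory.{w} C]

section Aux

/-- the canonical map `P ⟶ H⁰(P[0])`. -/
noncomputable def unitHom (P : C) :
    P ⟶ (homologyFunctor C 0).obj (Q.obj ((HomologicalComplex.single C (.up ℤ) 0).obj P)) :=
  (HomologicalComplex.singleObjHomologySelfIso (.up ℤ) 0 P).inv ≫
    (homologyFunctorFactors C 0).inv.app ((HomologicalComplex.single C (.up ℤ) 0).obj P)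

/-- The map `Hom_D(P[0], X) → Hom(P, H⁰ X)`. -/
noncomputable def toHomologyAux (P : C) (X : DerivedCategory C) :
    (Q.obj ((HomologicalComplex.single C (.up ℤ) 0).obj P) ⟶ X) →+
      (P ⟶ (homologyFunctor C 0).obj X) where
  toFun f := unitHom P ≫ (homologyFunctor C 0).map f
  map_zero' := by simp
  map_add' := by simp

lemma toHomologyAux_apply (P : C) (X : DerivedCategory C)
    (f : Q.obj ((HomologicalComplex.single C (.up ℤ) 0).obj P) ⟶ X) :
    toHomologyAux P X f = unitHom P ≫ (homologyFunctor C 0).map f := rfl

lemma toHomologyAux_comp (P : C) {X Y : DerivedCategory C}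
    (f : Q.obj ((HomologicalComplex.single C (.up ℤ) 0).obj P) ⟶ X)
    (g : X ⟶ Y) : toHomologyAux P Y (f ≫ g) =
      toHomologyAux P X f ≫ (homologyFunctor C 0).map g := by
  rw [toHomologyAux_apply, toHomologyAux_apply, Functor.map_comp, Category.assoc]

lemma unitHom_naturality {P P' : C} (h : P ⟶ P') :
    unitHom P ≫ (homologyFunctor C 0).map (Q.map ((HomologicalComplex.single C (.up ℤ) 0).map h)) =
      h ≫ unitHom P' := by
  have h1 := (homologyFunctorFactors C 0).inv.naturality
    ((HomologicalComplex.single C (.up ℤ) 0).map h)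
  dsimp at h1
  rw [unitHom, Category.assoc, ← h1, ← Category.assoc]
  erw [HomologicalComplex.singleObjHomologySelfIso_inv_naturality]
  rw [unitHom, Category.assoc]

/-- for a chain map out of a single complex, the effect of `toHomology`. -/
lemma toHomologyAux_Q_map {P : C} {K : CochainComplex C ℤ} (a : P ⟶ K.X 0)
    (ha : a ≫ K.d 0 1 = 0)
    (φ : (HomologicalComplex.single C (.up ℤ) 0).obj P ⟶ K)
    (hφ : φ.f 0 = (HomologicalComplex.singleObjXSelf (.up ℤ) 0 P).hom ≫ a) :
    toHomologyAux P (Q.obj K) (Q.map φ) =
      (K.liftCycles a 1 (by simp) ha ≫ K.homologyπ 0) ≫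
        (homologyFunctorFactors C 0).inv.app K := by
  have h1 := (homologyFunctorFactors C 0).inv.naturality φ
  dsimp at h1
  rw [toHomologyAux_apply, unitHom, Category.assoc, ← h1, ← Category.assoc]
  congr 1
  rw [← HomologicalComplex.singleObjCyclesSelfIso_inv_homologyπ, Category.assoc,
    HomologicalComplex.homologyπ_naturality, ← Category.assoc]
  congr 1
  rw [← cancel_mono (K.iCycles 0)]
  simp [hφ]

end Aux

lemma exists_Q_map {P : C} [Projective P] {K : CochainComplex C ℤ}
    (f : Q.obj ((HomologicalComplex.single C (.up ℤ) 0).obj P) ⟶ Q.obj K) :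
    ∃ φ : (HomologicalComplex.single C (.up ℤ) 0).obj P ⟶ K, Q.map φ = f := by
  have hproj : CochainComplex.IsKProjective ((HomologicalComplex.single C (.up ℤ) 0).obj P) := by
    have : ∀ n : ℤ, Projective (((HomologicalComplex.single C (.up ℤ) 0).obj P).X n) := by
      intro n
      by_cases hn : n = 0
      · subst hn
        exact Projective.of_iso (HomologicalComplex.singleObjXSelf (.up ℤ) 0 P).symm inferInstance
      · exact (HomologicalComplex.isZero_single_obj_X (.up ℤ) 0 P n hn).projective
    exact CochainComplex.isKProjective_of_projective _ 0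
  obtain ⟨φ', hφ'⟩ := (CochainComplex.IsKProjective.Qh_map_bijective
    ((HomologicalComplex.single C (.up ℤ) 0).obj P)
    ((HomotopyCategory.quotient _ _).obj K)).surjective
    ((quotientCompQhIso C).hom.app _ ≫ f ≫ (quotientCompQhIso C).inv.app _)
  obtain ⟨φ, rfl⟩ := (HomotopyCategory.quotient C (.up ℤ)).map_surjective φ'
  refine ⟨φ, ?_⟩
  have := quotientCompQhIso_hom_naturality φ
  rw [hφ'] at this
  simp only [Category.assoc, Iso.inv_hom_id_app, Category.comp_id] at this
  exact ((cancel_epi _).1 this).symm

theorem toHomologyAux_bijective (P : C) [Projective P] (X : DerivedCategory C) :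
    Function.Bijective (toHomologyAux P X) := by
  obtain ⟨K, ⟨e⟩⟩ : ∃ K : CochainComplex C ℤ, Nonempty (Q.obj K ≅ X) :=
    ⟨_, ⟨Q.objObjPreimageIso X⟩⟩
  suffices h : Function.Bijective (toHomologyAux P (Q.obj K)) by
    have h1 : Function.Bijective (fun f : (Q.obj ((HomologicalComplex.single C (.up ℤ) 0).obj P) ⟶
        Q.obj K) ↦ f ≫ e.hom) := by
      constructor
      · intro f g hfg
        exact (cancel_mono _).1 hfg
      · intro f
        exact ⟨f ≫ e.inv, by simp⟩
    have h2 : Function.Bijective (fun f : (P ⟶ (homologyFunctor C 0).obj (Q.obj K)) ↦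
        f ≫ (homologyFunctor C 0).map e.hom) := by
      constructor
      · intro f g hfg
        exact (cancel_mono _).1 hfg
      · intro f
        exact ⟨f ≫ (homologyFunctor C 0).map e.inv, by simp [← Functor.map_comp]⟩
    rw [← Function.Bijective.of_comp_iff _ h1]
    have : (toHomologyAux P X ∘ fun f : (Q.obj ((HomologicalComplex.single C (.up ℤ) 0).obj P) ⟶
        Q.obj K) ↦ f ≫ e.hom) =
      (fun f : (P ⟶ (homologyFunctor C 0).obj (Q.obj K)) ↦
        f ≫ (homologyFunctor C 0).map e.hom) ∘ toHomologyAux P (Q.obj K) := by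
      funext f
      exact toHomologyAux_comp P f e.hom
    rw [this]
    exact h2.comp h
  constructor
  · rw [injective_iff_map_eq_zero]
    intro f hf
    obtain ⟨φ, rfl⟩ := exists_Q_map f
    set a : P ⟶ K.X 0 := (HomologicalComplex.singleObjXSelf (.up ℤ) 0 P).inv ≫ φ.f 0 with ha
    have had : a ≫ K.d 0 1 = 0 := by simp [ha]
    have h1 := toHomologyAux_Q_map a had φ (by simp [ha])
    rw [hf] at h1
    have h1 := ((cancel_mono _).1 (h1.symm.trans zero_comp.symm))
    -- lift
    obtain ⟨b, hb⟩ : ∃ b : P ⟶ K.X (-1), b ≫ K.d (-1) 0 = a := by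
      have hS : (ShortComplex.mk (K.toCycles (-1) 0) (K.homologyπ 0) (by simp)).Exact :=
        ShortComplex.exact_of_g_is_cokernel _ (K.homologyIsCokernel (-1) 0 (by simp))
      refine ⟨hS.liftFromProjective (K.liftCycles a 1 (by simp) had) h1, ?_⟩
      have := hS.liftFromProjective_comp (K.liftCycles a 1 (by simp) had) h1
      have h3 := congr_arg (fun t ↦ t ≫ K.iCycles 0) this
      simpa using h3
    have hhom : Homotopy φ 0 := by
      refine (CochainComplex.HomComplex.Cochain.equivHomotopy _ _).symm
        ⟨CochainComplex.HomComplex.Cochain.fromSingleMk b (by lia), ?_⟩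
      rw [CochainComplex.HomComplex.Cochain.δ_fromSingleMk (n' := 0) (q' := 0) (h' := by lia), hb]
      apply (CochainComplex.HomComplex.Cochain.fromSingleEquiv
        (K := K) (X := P) (p := 0) (q := 0) (n := 0) (add_zero 0)).injective
      simp [CochainComplex.HomComplex.Cochain.fromSingleEquiv, ha]
    have := Q_map_eq_of_homotopy (C := C) hhom
    rw [this, Functor.map_zero]
  · intro g
    let g' : P ⟶ K.homology 0 := g ≫ (homologyFunctorFactors C 0).hom.app K
    let g'' : P ⟶ K.cycles 0 := Projective.factorThru g' (K.homologyπ 0)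
    have hg'' : g'' ≫ K.homologyπ 0 = g' := Projective.factorThru_comp _ _
    let a : P ⟶ K.X 0 := g'' ≫ K.iCycles 0
    have ha : a ≫ K.d 0 1 = 0 := by simp [a]
    let φ : (HomologicalComplex.single C (.up ℤ) 0).obj P ⟶ K :=
      HomologicalComplex.mkHomFromSingle a (by
        rintro i hi
        obtain rfl : 1 = i := by simpa using hi
        exact ha)
    refine ⟨Q.map φ, ?_⟩
    rw [toHomologyAux_Q_map a ha φ (by simp [φ])]
    have : K.liftCycles a 1 (by simp) ha = g'' := by
      rw [← cancel_mono (K.iCycles 0)]
      simp [a]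
    rw [this, hg'']
    simp [g']

/-- The map `Hom_D(P[0], X) → Hom(P, H⁰ X)`. -/
noncomputable def toHomology (P : C) (X : DerivedCategory C) :
    ((singleFunctor C 0).obj P ⟶ X) →+ (P ⟶ (homologyFunctor C 0).obj X) :=
  toHomologyAux P X

/-- for `P` projective, `Hom_D(P[0], X) → Hom(P, H⁰ X)` is bijective -/
theorem toHomology_bijective (P : C) [Projective P] (X : DerivedCategory C) :
    Function.Bijective (toHomology P X) := toHomologyAux_bijective P X

lemma toHomology_comp (P : C) {X Y : DerivedCategory C} (f : (singleFunctor C 0).obj P ⟶ X)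
    (g : X ⟶ Y) : toHomology P Y (f ≫ g) = toHomology P X f ≫ (homologyFunctor C 0).map g :=
  toHomologyAux_comp P f g

end Groth.Agent.Localalg.DProj
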