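import Mathlib.Algebra.Homology.DerivedCategory.Ext.Map
import Mathlib.Algebra.Category.ModuleCat.Ext.Finite
import Mathlib.Algebra.Module.FinitePresentation
import Mathlib.RingTheory.TensorProduct.IsBaseChangeRightExact
import Mathlib.RingTheory.Flat.FaithfullyFlat.Basic
import Groth.Agent.Localalg.InjDim

/-!
# Flat base change for `Ext`

`A → B` flat, `A` Noetherian, `N` finite: `B ⊗_A Ext_A^i(N, M) = Ext_B^i(B ⊗ N, B ⊗ M)`.
-/

set_option autoImplicit false
set_option linter.unusedVariables false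
universe u

open CategoryTheory Abelian Limits TensorProduct

namespace Groth.Agent.Localalg.ExtFlat

variable (A B : Type u) [CommRing A] [CommRing B] [Algebra A B]

/-- The functor `B ⊗_A -` on module categories. -/
noncomputable def bc : ModuleCat.{u} A ⥤ ModuleCat.{u} B where
  obj M := ModuleCat.of B (B ⊗[A] M)
  map f := ModuleCat.ofHom (f.hom.baseChange B)
  map_id M := ModuleCat.hom_ext (LinearMap.baseChange_id)
  map_comp f g := ModuleCat.hom_ext (LinearMap.baseChange_comp _ _)

instance bc_additive : (bc A B).Additive where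
  map_add {M N f g} := ModuleCat.hom_ext (LinearMap.baseChange_add f.hom g.hom)

lemma bc_shortExact [Module.Flat A B] (S : ShortComplex (ModuleCat.{u} A)) (hS : S.ShortExact) :
    (S.map (bc A B)).ShortExact := by
  have h1 : Function.Exact S.f.hom S.g.hom :=
    (ShortComplex.ShortExact.moduleCat_exact_iff_function_exact S).1 hS.exact
  refine ModuleCat.shortComplex_shortExact _ ?_ ?_ ?_
  · exact Module.Flat.lTensor_exact B h1
  · exact Module.Flat.lTensor_preserves_injective_linearMap S.f.hom hS.moduleCat_injective_f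
  · exact LinearMap.lTensor_surjective B hS.moduleCat_surjective_g

lemma bc_preserves [Module.Flat A B] :
    PreservesFiniteLimits (bc A B) ∧ PreservesFiniteColimits (bc A B) :=
  ((bc A B).exact_tfae.out 0 3).1 (bc_shortExact A B)

instance bc_preservesFiniteLimits [Module.Flat A B] : PreservesFiniteLimits (bc A B) :=
  (bc_preserves A B).1

instance bc_preservesFiniteColimits [Module.Flat A B] : PreservesFiniteColimits (bc A B) :=
  (bc_preserves A B).2

variable {A}

/-- `Ext_B^i(B ⊗ N, B ⊗ M)`, as a `B`-module and as an `A`-module. -/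
def EB (N M : ModuleCat.{u} A) (i : ℕ) : Type u := Ext ((bc A B).obj N) ((bc A B).obj M) i

noncomputable instance (N M : ModuleCat.{u} A) (i : ℕ) : AddCommGroup (EB B N M i) :=
  inferInstanceAs (AddCommGroup (Ext ((bc A B).obj N) ((bc A B).obj M) i))

noncomputable instance (N M : ModuleCat.{u} A) (i : ℕ) : Module B (EB B N M i) :=
  inferInstanceAs (Module B (Ext ((bc A B).obj N) ((bc A B).obj M) i))

noncomputable instance moduleEB (N M : ModuleCat.{u} A) (i : ℕ) : Module A (EB B N M i) :=
  Module.compHom _ (algebraMap A B)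

instance (N M : ModuleCat.{u} A) (i : ℕ) : IsScalarTower A B (EB B N M i) where
  smul_assoc a b x := by
    rw [Algebra.smul_def, mul_smul]
    rfl

lemma baseChange_smul_id (a : A) (N : Type u) [AddCommGroup N] [Module A N] :
    LinearMap.baseChange B (a • LinearMap.id : N →ₗ[A] N) =
      algebraMap A B a • (LinearMap.id : B ⊗[A] N →ₗ[B] B ⊗[A] N) := by
  refine LinearMap.ext fun x ↦ ?_
  rw [LinearMap.baseChange_smul, LinearMap.baseChange_id, LinearMap.smul_apply,
    LinearMap.smul_apply, LinearMap.id_apply, algebraMap_smul]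

lemma bc_map_smul_id (a : A) (N : ModuleCat.{u} A) :
    (bc A B).map (a • 𝟙 N) = algebraMap A B a • 𝟙 ((bc A B).obj N) :=
  ModuleCat.hom_ext (baseChange_smul_id B a N)

lemma mapExactFunctor_smul [Module.Flat A B] (N M : ModuleCat.{u} A) (i : ℕ) (a : A)
    (x : Ext N M i) :
    (a • x).mapExactFunctor (bc A B) = algebraMap A B a • (x.mapExactFunctor (bc A B)) := by
  have h1 : a • x = (Ext.mk₀ (a • 𝟙 N)).comp x (zero_add i) := by
    rw [Ext.mk₀_smul, Ext.smul_comp, Ext.mk₀_id_comp]
  rw [h1, Ext.mapExactFunctor_comp, Ext.mapExactFunctor_mk₀, bc_map_smul_id, Ext.mk₀_smul,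
    Ext.smul_comp, Ext.mk₀_id_comp]

/-- The comparison map `Ext_A^i(N, M) → Ext_B^i(B ⊗ N, B ⊗ M)`. -/
noncomputable def extMap [Module.Flat A B] (N M : ModuleCat.{u} A) (i : ℕ) :
    Ext N M i →ₗ[A] EB B N M i where
  toFun x := x.mapExactFunctor (bc A B)
  map_add' x y := Ext.mapExactFunctor_add _ _ _ _ _ _
  map_smul' a x := mapExactFunctor_smul B N M i a x

lemma extMap_apply [Module.Flat A B] (N M : ModuleCat.{u} A) (i : ℕ) (x : Ext N M i) :
    extMap B N M i x = x.mapExactFunctor (bc A B) := rfl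

/-- precomposition on `EB`. -/
noncomputable def precompEB {N N' : ModuleCat.{u} A} {j : ℕ}
    (α : Ext ((bc A B).obj N') ((bc A B).obj N) j) (M : ModuleCat.{u} A) {i k : ℕ}
    (h : j + i = k) : EB B N M i →ₗ[B] EB B N' M k :=
  α.precompOfLinear B ((bc A B).obj M) h

lemma precompEB_apply {N N' : ModuleCat.{u} A} {j : ℕ}
    (α : Ext ((bc A B).obj N') ((bc A B).obj N) j) (M : ModuleCat.{u} A) {i k : ℕ}
    (h : j + i = k) (x : Ext ((bc A B).obj N) ((bc A B).obj M) i) :
    precompEB B α M h x = α.comp x h := rfl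

lemma extMap_comp [Module.Flat A B] {N N' : ModuleCat.{u} A} {j : ℕ} (α : Ext N' N j)
    (M : ModuleCat.{u} A) {i k : ℕ} (h : j + i = k) (x : Ext N M i) :
    extMap B N' M k (α.comp x h) = precompEB B (α.mapExactFunctor (bc A B)) M h (extMap B N M i x) :=
  Ext.mapExactFunctor_comp (bc A B) _ _ _

/-- `Ext^0` over `B` of base changed modules. -/
noncomputable def extZeroEquiv (N M : ModuleCat.{u} A) :
    EB B N M 0 ≃ₗ[B] (B ⊗[A] N →ₗ[B] B ⊗[A] M) where
  toFun x := (Ext.linearEquiv₀ (R := B) (X := (bc A B).obj N) (Y := (bc A B).obj M) x).hom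
  map_add' x y := congrArg ModuleCat.Hom.hom (map_add (Ext.linearEquiv₀ (R := B)) x y)
  map_smul' b x := congrArg ModuleCat.Hom.hom (map_smul (Ext.linearEquiv₀ (R := B)) b x)
  invFun f := (Ext.linearEquiv₀ (R := B)).symm
    (ModuleCat.ofHom (X := B ⊗[A] N) (Y := B ⊗[A] M) f : (bc A B).obj N ⟶ (bc A B).obj M)
  left_inv x := (Ext.linearEquiv₀ (R := B)).symm_apply_apply x
  right_inv f := congrArg ModuleCat.Hom.hom ((Ext.linearEquiv₀ (R := B)).apply_symm_apply
    (ModuleCat.ofHom (X := B ⊗[A] N) (Y := B ⊗[A] M) f : (bc A B).obj N ⟶ (bc A B).obj M))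

lemma extZeroEquiv_mk₀ {N M : ModuleCat.{u} A} (f : (bc A B).obj N ⟶ (bc A B).obj M) :
    extZeroEquiv B N M (Ext.mk₀ f) = f.hom := by
  have h : Ext.linearEquiv₀ (R := B) (Ext.mk₀ f) = f := Ext.homEquiv₀.apply_symm_apply f
  exact congrArg ModuleCat.Hom.hom h

lemma extMap_mk₀ [Module.Flat A B] {N M : ModuleCat.{u} A} (f : N ⟶ M) :
    extMap B N M 0 (Ext.mk₀ f) = (Ext.mk₀ ((bc A B).map f) : Ext _ _ 0) :=
  Ext.mapExactFunctor_mk₀ (bc A B) f

lemma extZeroEquiv_extMap [Module.Flat A B] (N M : ModuleCat.{u} A) (x : Ext N M 0) :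
    extZeroEquiv B N M (extMap B N M 0 x) =
      LinearMap.baseChange B (Ext.linearEquiv₀ (R := A) x).hom := by
  obtain ⟨y, rfl⟩ := (Ext.mk₀_bijective _ _).2 x
  have hy : Ext.linearEquiv₀ (R := A) (Ext.mk₀ y) = y := Ext.homEquiv₀.apply_symm_apply y
  rw [hy, extMap_mk₀, extZeroEquiv_mk₀]
  rfl

/-- The comparison map in degree `0` is base change. -/
lemma isBaseChange_extMap_zero [IsNoetherianRing A] [Module.Flat A B] (N M : ModuleCat.{u} A)
    [Module.Finite A N] : IsBaseChange B (extMap B N M 0) := by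
  have : Module.FinitePresentation A N := Module.finitePresentation_of_finite A N
  have h := Module.FinitePresentation.isBaseChange_map A N M B
  refine (IsBaseChange.iff_of_equiv_comm (Ext.linearEquiv₀.trans ModuleCat.homLinearEquiv)
    (extZeroEquiv B N M) ?_).2 h
  exact LinearMap.ext fun x ↦ (extZeroEquiv_extMap B N M x).symm

/-- The inductive step in flat base change for `Ext`. -/
lemma isBaseChange_extMap_succ [Module.Flat A B] (M : ModuleCat.{u} A) (i : ℕ)
    {S : ShortComplex (ModuleCat.{u} A)} (hS : S.ShortExact) (hP : Projective S.X₂)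
    (hBP : Projective ((bc A B).obj S.X₂)) (h₁ : IsBaseChange B (extMap B S.X₁ M i))
    (h₂ : IsBaseChange B (extMap B S.X₂ M i)) : IsBaseChange B (extMap B S.X₃ M (i + 1)) := by
  have hBS := hS.map_of_exact (bc A B)
  let f : Ext S.X₂ M i →ₗ[A] Ext S.X₁ M i := (Ext.mk₀ S.f).precompOfLinear A M (zero_add i)
  let g : Ext S.X₁ M i →ₗ[A] Ext S.X₃ M (i + 1) :=
    hS.extClass.precompOfLinear A M (add_comm 1 i)
  let f' : EB B S.X₂ M i →ₗ[B] EB B S.X₁ M i :=
    precompEB B (Ext.mk₀ ((bc A B).map S.f)) M (zero_add i)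
  let g' : EB B S.X₁ M i →ₗ[B] EB B S.X₃ M (i + 1) :=
    precompEB B hBS.extClass M (add_comm 1 i)
  have comm₁ : (extMap B S.X₁ M i).comp f = (f'.restrictScalars A).comp (extMap B S.X₂ M i) :=
    LinearMap.ext fun x ↦ (extMap_comp B (Ext.mk₀ S.f) M (zero_add i) x).trans
      (by rw [Ext.mapExactFunctor_mk₀]; rfl)
  have comm₂ : (extMap B S.X₃ M (i + 1)).comp g =
      (g'.restrictScalars A).comp (extMap B S.X₁ M i) :=
    LinearMap.ext fun x ↦ (extMap_comp B hS.extClass M (add_comm 1 i) x).trans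
      (by rw [Ext.mapExactFunctor_extClass]; rfl)
  have ex₁ : Function.Exact f g := (ShortComplex.ab_exact_iff_function_exact _).1
        (Ext.contravariant_sequence_exact₁' hS M i (i + 1) (add_comm 1 i))
  have ex₂ : Function.Exact f' g' := (ShortComplex.ab_exact_iff_function_exact _).1
        (Ext.contravariant_sequence_exact₁' hBS ((bc A B).obj M) i (i + 1) (add_comm 1 i))
  have s₁ : Function.Surjective g := precomp_extClass_surjective_of_projective_X₂ M hS i
  have s₂ : Function.Surjective g' := fun x ↦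
    Ext.contravariant_sequence_exact₃ hBS _ x
      (@Ext.eq_zero_of_projective _ _ _ _ ((bc A B).obj S.X₂) _ _ hBP _) (add_comm 1 i)
  exact IsBaseChange.of_right_exact B (extMap B S.X₂ M i) (extMap B S.X₁ M i)
    (extMap B S.X₃ M (i + 1)) comm₁ comm₂ h₂ h₁ ex₁ s₁ ex₂ s₂

instance projective_bc {P : Type u} [AddCommGroup P] [Module A P] [Module.Projective A P] :
    Projective ((bc A B).obj (ModuleCat.of A P)) := by
  have h : Module.Projective B (B ⊗[A] P) := inferInstance
  exact (IsProjective.iff_projective (R := B) (P := B ⊗[A] P)).1 h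

/-- **Flat base change for `Ext`**: for `A` Noetherian, `N` finite, `B` flat over `A`, the map
`Ext_A^i(N, M) → Ext_B^i(B ⊗ N, B ⊗ M)` exhibits the target as `B ⊗_A Ext_A^i(N, M)`. -/
theorem isBaseChange_extMap [IsNoetherianRing A] [Module.Flat A B] (M : ModuleCat.{u} A) (i : ℕ) :
    ∀ (N : ModuleCat.{u} A) [Module.Finite A N], IsBaseChange B (extMap B N M i) := by
  induction i with
  | zero => exact fun N _ ↦ isBaseChange_extMap_zero B N M
  | succ i ih =>
    intro N _
    obtain ⟨P, _, _, _, _, f, surjf⟩ := Module.exists_finite_presentation A N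
    have hS : f.shortComplexKer.ShortExact := LinearMap.shortExact_shortComplexKer surjf
    have h₁ : IsBaseChange B (extMap B (ModuleCat.of A (LinearMap.ker f)) M i) := ih _
    have h₂ : IsBaseChange B (extMap B (ModuleCat.of A P) M i) := ih _
    have hP : Projective (ModuleCat.of A P) :=
      (IsProjective.iff_projective (R := A) (P := P)).1 inferInstance
    have hBP : Projective ((bc A B).obj (ModuleCat.of A P)) := projective_bc B
    exact isBaseChange_extMap_succ (S := f.shortComplexKer) B M i hS hP hBP h₁ h₂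

/-- Flat base change for `Ext` as an isomorphism. -/
noncomputable def extEquiv [IsNoetherianRing A] [Module.Flat A B] (N : Type u) [AddCommGroup N]
    [Module A N] [Module.Finite A N] (M : Type u) [AddCommGroup M] [Module A M] (i : ℕ) :
    B ⊗[A] (Ext (ModuleCat.of A N) (ModuleCat.of A M) i) ≃ₗ[B]
      Ext (ModuleCat.of B (B ⊗[A] N)) (ModuleCat.of B (B ⊗[A] M)) i :=
  (isBaseChange_extMap B (ModuleCat.of A M) i (ModuleCat.of A N)).equiv

theorem subsingleton_ext_baseChange [IsNoetherianRing A] [Module.Flat A B] (N : Type u)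
    [AddCommGroup N] [Module A N] [Module.Finite A N] (M : Type u) [AddCommGroup M] [Module A M]
    (i : ℕ) (h : Subsingleton (Ext (ModuleCat.of A N) (ModuleCat.of A M) i)) :
    Subsingleton (Ext (ModuleCat.of B (B ⊗[A] N)) (ModuleCat.of B (B ⊗[A] M)) i) := by
  have h1 : Subsingleton (B ⊗[A] (Ext (ModuleCat.of A N) (ModuleCat.of A M) i)) :=
    inferInstance
  exact (extEquiv B N M i).symm.toEquiv.subsingleton

theorem subsingleton_ext_baseChange_iff [IsNoetherianRing A] [Module.FaithfullyFlat A B]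
    (N : Type u) [AddCommGroup N] [Module A N] [Module.Finite A N] (M : Type u) [AddCommGroup M]
    [Module A M] (i : ℕ) :
    Subsingleton (Ext (ModuleCat.of B (B ⊗[A] N)) (ModuleCat.of B (B ⊗[A] M)) i) ↔
      Subsingleton (Ext (ModuleCat.of A N) (ModuleCat.of A M) i) := by
  rw [← (extEquiv B N M i).toEquiv.subsingleton_congr]
  exact Module.FaithfullyFlat.subsingleton_tensorProduct_iff_right A B

end Groth.Agent.Localalg.ExtFlat
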