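import Groth.Agent.Localalg.GorExt
import Groth.Agent.S0342
import Groth.Agent.LoccohB.GorBasic

set_option autoImplicit false
universe u

namespace Groth.Agent.Localalg.ExtLift

open CategoryTheory Abelian Pointwise RingTheory.Sequence

/-- A Gorenstein local ring of dimension `d` has injective dimension `≤ d`. -/
theorem hasInjectiveDimensionLT_of_gorenstein (d : ℕ) (A : Type u) [CommRing A]
    [LocCoh.IsGorensteinLocalRing A] (hd : ringKrullDim A = d) :
    HasInjectiveDimensionLT (ModuleCat.of A A) (d + 1) := by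
  apply InjDim.hasInjectiveDimensionLT_of_ext_quotient_maximalIdeal
  intro i hi
  exact (GorExt.ext_residueField d A hd).1 i (by omega)

section

variable {A : Type u} [CommRing A] [IsLocalRing A] [IsNoetherianRing A]

/-- One step down: `x` regular on `M` finite, `Ext^(i+1)(M/xM, N) = 0` implies `Ext^i(M, N) = 0`. -/
theorem subsingleton_ext_of_quotSMulTop (M N : Type u) [AddCommGroup M] [Module A M]
    [Module.Finite A M] [AddCommGroup N] [Module A N] [Module.Finite A N]
    (x : A) (hx : x ∈ IsLocalRing.maximalIdeal A) (hreg : IsSMulRegular M x) (i : ℕ)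
    (h : Subsingleton (Ext (ModuleCat.of A (QuotSMulTop x M)) (ModuleCat.of A N) (i + 1))) :
    Subsingleton (Ext (ModuleCat.of A M) (ModuleCat.of A N) i) := by
  have hreg' : IsSMulRegular (ModuleCat.of A M) x := hreg
  have hS := hreg'.smulShortComplex_shortExact
  refine InjDim.subsingleton_of_smul_surjective _ x hx fun e ↦ ?_
  have h3 : Subsingleton (Ext ((ModuleCat.of A M).smulShortComplex x).X₃ (ModuleCat.of A N)
      (i + 1)) := h
  obtain ⟨y, hy⟩ := Ext.contravariant_sequence_exact₁ hS (ModuleCat.of A N) e (add_comm 1 i)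
    (h3.elim _ _)
  change Ext (ModuleCat.of A M) (ModuleCat.of A N) i at y
  refine ⟨y, ?_⟩
  rw [← hy]
  change _ = (Ext.mk₀ (x • 𝟙 (ModuleCat.of A M))).comp y (zero_add i)
  rw [Ext.mk₀_smul, Ext.smul_comp, Ext.mk₀_id_comp]

/-- Injective dimension `≤ 2` and depth two: `Ext^1(M, N) = 0`. -/
theorem subsingleton_ext_one (M N : Type u) [AddCommGroup M] [Module A M]
    [Module.Finite A M] [AddCommGroup N] [Module A N] [Module.Finite A N]
    (hN : HasInjectiveDimensionLT (ModuleCat.of A N) 3)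
    (t u : A) (ht : t ∈ IsLocalRing.maximalIdeal A) (hu : u ∈ IsLocalRing.maximalIdeal A)
    (htM : IsSMulRegular M t) (huM : IsSMulRegular (QuotSMulTop t M) u) :
    Subsingleton (Ext (ModuleCat.of A M) (ModuleCat.of A N) 1) := by
  apply subsingleton_ext_of_quotSMulTop M N t ht htM 1
  apply subsingleton_ext_of_quotSMulTop (QuotSMulTop t M) N u hu huM 2
  exact HasInjectiveDimensionLT.subsingleton _ 3 _ le_rfl _

omit [IsLocalRing A] [IsNoetherianRing A] in
/-- Lifting along `N → N/tN` from `Ext^1(M, N) = 0`. -/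
theorem exists_lift (M N : Type u) [AddCommGroup M] [Module A M]
    [AddCommGroup N] [Module A N] (t : A) (htN : IsSMulRegular N t)
    (h : Subsingleton (Ext (ModuleCat.of A M) (ModuleCat.of A N) 1))
    (g : M →ₗ[A] QuotSMulTop t N) :
    ∃ g' : M →ₗ[A] N, (Submodule.mkQ (t • (⊤ : Submodule A N))) ∘ₗ g' = g := by
  have htN' : IsSMulRegular (ModuleCat.of A N) t := htN
  have hS := htN'.smulShortComplex_shortExact
  obtain ⟨y, hy⟩ := Ext.covariant_sequence_exact₃ (ModuleCat.of A M) hS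
    (Ext.mk₀ (ModuleCat.ofHom g : ModuleCat.of A M ⟶ ((ModuleCat.of A N).smulShortComplex t).X₃))
    (n₁ := 1) (by norm_num) (h.elim _ _)
  obtain ⟨z, rfl⟩ := (Ext.mk₀_bijective _ _).2 y
  refine ⟨z.hom, ?_⟩
  have h2 : z ≫ ((ModuleCat.of A N).smulShortComplex t).g = ModuleCat.ofHom g := by
    apply (Ext.mk₀_bijective _ _).1
    rw [← hy, Ext.mk₀_comp_mk₀]
  exact congrArg ModuleCat.Hom.hom h2

/-- Ideal form, in a ring of injective dimension `≤ 2`: `(t) : K = (0 : K) + (t)`. -/
theorem exists_colon_lift (hA : HasInjectiveDimensionLT (ModuleCat.of A A) 3) (K : Ideal A)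
    (t u : A) (ht : t ∈ IsLocalRing.maximalIdeal A) (hu : u ∈ IsLocalRing.maximalIdeal A)
    (htA : IsSMulRegular A t)
    (htK : ∀ a, t * a ∈ K → a ∈ K)
    (huK : ∀ a, u * a ∈ K ⊔ Ideal.span {t} → a ∈ K ⊔ Ideal.span {t})
    (x : A) (hx : ∀ a ∈ K, x * a ∈ Ideal.span {t}) :
    ∃ y : A, (∀ a ∈ K, y * a = 0) ∧ x - y ∈ Ideal.span {t} := by
  have htM : IsSMulRegular (A ⧸ K) t := by
    rw [isSMulRegular_iff_right_eq_zero_of_smul]
    intro m hm
    obtain ⟨a, rfl⟩ := Ideal.Quotient.mk_surjective m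
    rw [Algebra.smul_def, Ideal.Quotient.algebraMap_eq, ← map_mul,
      Ideal.Quotient.eq_zero_iff_mem] at hm
    rw [Ideal.Quotient.eq_zero_iff_mem]
    exact htK a hm
  have hmem : ∀ a : A, (Ideal.Quotient.mk K a) ∈ t • (⊤ : Submodule A (A ⧸ K)) ↔
      a ∈ K ⊔ Ideal.span {t} := by
    intro a
    rw [Submodule.mem_smul_pointwise_iff_exists]
    constructor
    · rintro ⟨m, -, hm⟩
      obtain ⟨b, rfl⟩ := Ideal.Quotient.mk_surjective m
      rw [Algebra.smul_def, Ideal.Quotient.algebraMap_eq, ← map_mul, Ideal.Quotient.eq] at hm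
      have : a = -(t * b - a) + t * b := by ring
      rw [this]
      exact Submodule.add_mem_sup (neg_mem hm)
        (Ideal.mul_mem_right _ _ (Ideal.mem_span_singleton_self t))
    · intro ha
      obtain ⟨c, hc, d, hd, rfl⟩ := Submodule.mem_sup.1 ha
      obtain ⟨b, rfl⟩ := Ideal.mem_span_singleton'.1 hd
      refine ⟨Ideal.Quotient.mk K b, trivial, ?_⟩
      rw [Algebra.smul_def, Ideal.Quotient.algebraMap_eq, ← map_mul, Ideal.Quotient.eq]
      have : t * b - (c + b * t) = - c := by ring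
      rw [this]
      exact neg_mem hc
  have huM : IsSMulRegular (QuotSMulTop t (A ⧸ K)) u := by
    rw [isSMulRegular_iff_right_eq_zero_of_smul]
    intro m hm
    obtain ⟨m', rfl⟩ := Submodule.mkQ_surjective _ m
    obtain ⟨a, rfl⟩ := Ideal.Quotient.mk_surjective m'
    rw [← map_smul] at hm
    have h1 : u • (Ideal.Quotient.mk K a) ∈ t • (⊤ : Submodule A (A ⧸ K)) :=
      (Submodule.Quotient.mk_eq_zero _).1 hm
    rw [Algebra.smul_def, Ideal.Quotient.algebraMap_eq, ← map_mul, hmem] at h1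
    exact (Submodule.Quotient.mk_eq_zero _).2 ((hmem a).2 (huK a h1))
  have hext := subsingleton_ext_one (A ⧸ K) A hA t u ht hu htM huM
  have hxK : K ≤ LinearMap.ker ((Submodule.mkQ (t • (⊤ : Submodule A A))) ∘ₗ
      (LinearMap.toSpanSingleton A A x)) := by
    intro a ha
    rw [LinearMap.mem_ker, LinearMap.comp_apply, LinearMap.toSpanSingleton_apply, smul_eq_mul,
      mul_comm]
    obtain ⟨b, hb⟩ := Ideal.mem_span_singleton'.1 (hx a ha)
    rw [← hb]
    have : b * t ∈ t • (⊤ : Submodule A A) := by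
      rw [Submodule.mem_smul_pointwise_iff_exists]
      exact ⟨b, trivial, by rw [smul_eq_mul, mul_comm]⟩
    exact (Submodule.Quotient.mk_eq_zero _).2 this
  obtain ⟨g', hg'⟩ := exists_lift (A ⧸ K) A t htA hext (Submodule.liftQ K _ hxK)
  refine ⟨g' (Ideal.Quotient.mk K 1), ?_, ?_⟩
  · intro a ha
    rw [mul_comm, ← smul_eq_mul, ← map_smul, Algebra.smul_def, Ideal.Quotient.algebraMap_eq,
      ← map_mul, mul_one, Ideal.Quotient.eq_zero_iff_mem.2 ha, map_zero]
  · have h1 := LinearMap.congr_fun hg' (Ideal.Quotient.mk K 1)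
    rw [LinearMap.comp_apply] at h1
    have h2 : (Submodule.liftQ K ((Submodule.mkQ (t • (⊤ : Submodule A A))) ∘ₗ
      (LinearMap.toSpanSingleton A A x)) hxK) (Ideal.Quotient.mk K 1) =
        (Submodule.mkQ (t • (⊤ : Submodule A A))) x := by
      change (Submodule.liftQ K ((Submodule.mkQ (t • (⊤ : Submodule A A))) ∘ₗ
        (LinearMap.toSpanSingleton A A x)) hxK) (Submodule.Quotient.mk 1) = _
      rw [Submodule.liftQ_apply]
      simp
    rw [h2] at h1
    have h3 : x - g' (Ideal.Quotient.mk K 1) ∈ t • (⊤ : Submodule A A) := by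
      rw [← Submodule.Quotient.mk_eq_zero (p := t • (⊤ : Submodule A A)),
        Submodule.Quotient.mk_sub, sub_eq_zero]
      exact h1.symm
    obtain ⟨b, -, hb⟩ := (Submodule.mem_smul_pointwise_iff_exists _ _ _).1 h3
    rw [← hb, smul_eq_mul]
    exact Ideal.mul_mem_right _ _ (Ideal.mem_span_singleton_self t)

end

theorem span_range_eq_ofList {A : Type u} [CommRing A] {n : ℕ} (f : Fin n → A) :
    Ideal.span (Set.range f) = Ideal.ofList (List.ofFn f) := by
  rw [Ideal.ofList]
  congr 1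
  ext r
  exact (List.mem_ofFn (f := f) (a := r)).symm

/-- A Gorenstein local ring modulo a weakly regular sequence is Gorenstein, of the right dimension. -/
theorem gorenstein_quotient {A : Type u} [CommRing A] [h : LocCoh.IsGorensteinLocalRing A] {n : ℕ}
    (f : Fin n → A) (hf : IsWeaklyRegular A (List.ofFn f))
    (hfm : ∀ i, f i ∈ IsLocalRing.maximalIdeal A) :
    LocCoh.IsGorensteinLocalRing (A ⧸ Ideal.span (Set.range f)) ∧
      ringKrullDim (A ⧸ Ideal.span (Set.range f)) + n = ringKrullDim A := by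
  rw [span_range_eq_ofList]
  have hm : ∀ r ∈ List.ofFn f, r ∈ IsLocalRing.maximalIdeal A := by
    intro r hr
    obtain ⟨i, rfl⟩ := List.mem_ofFn.1 hr
    exact hfm i
  have hreg : IsRegular A (List.ofFn f) :=
    (IsLocalRing.isRegular_iff_isWeaklyRegular_of_subset_maximalIdeal hm).2 hf
  have hle : Ideal.ofList (List.ofFn f) ≤ IsLocalRing.maximalIdeal A := by
    rw [Ideal.ofList, Ideal.span_le]
    exact hm
  have hne : Ideal.ofList (List.ofFn f) ≠ ⊤ := fun h =>
    (IsLocalRing.maximalIdeal.isMaximal A).ne_top (top_le_iff.1 (h ▸ hle))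
  have hnt : Nontrivial (A ⧸ Ideal.ofList (List.ofFn f)) := Ideal.Quotient.nontrivial_iff.2 hne
  have hloc : IsLocalRing (A ⧸ Ideal.ofList (List.ofFn f)) :=
    IsLocalRing.of_surjective' (Ideal.Quotient.mk _) Ideal.Quotient.mk_surjective
  refine ⟨?_, ?_⟩
  · rw [LoccohB.GorBasic.isGorensteinLocalRing_iff]
    exact ⟨inferInstance, hloc, LoccohB.GorBasic.FID.quotient_ofList _
      h.exists_hasInjectiveDimensionLT hf⟩
  · have := ringKrullDim_add_length_eq_ringKrullDim_of_isRegular (List.ofFn f) hreg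
    rw [List.length_ofFn] at this
    exact this

/-- **Ext lifting, ideal form over a Gorenstein local ring of dimension `n + 2`.**
`f_1, …, f_n` weakly regular in the maximal ideal, contained in `I`; `t` regular modulo `(f)`;
`t, u` regular modulo `I`.  Then `((f) + (t)) : I = ((f) : I) + (t) + (f)`. -/
theorem exists_colon_lift_span {A : Type u} [CommRing A] [LocCoh.IsGorensteinLocalRing A] {n : ℕ}
    (hdim : ringKrullDim A = (n + 2 : ℕ)) (f : Fin n → A) (hf : IsWeaklyRegular A (List.ofFn f))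
    (hfm : ∀ i, f i ∈ IsLocalRing.maximalIdeal A) (I : Ideal A) (hfI : ∀ i, f i ∈ I)
    (t u : A) (ht : t ∈ IsLocalRing.maximalIdeal A) (hu : u ∈ IsLocalRing.maximalIdeal A)
    (htf : ∀ a, t * a ∈ Ideal.span (Set.range f) → a ∈ Ideal.span (Set.range f))
    (htI : ∀ a, t * a ∈ I → a ∈ I)
    (huI : ∀ a, u * a ∈ I ⊔ Ideal.span {t} → a ∈ I ⊔ Ideal.span {t})
    (x : A) (hx : ∀ a ∈ I, x * a ∈ Ideal.span (Set.range f) ⊔ Ideal.span {t}) :
    ∃ y : A, (∀ a ∈ I, y * a ∈ Ideal.span (Set.range f)) ∧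
      x - y ∈ Ideal.span (Set.range f) ⊔ Ideal.span {t} := by
  obtain ⟨hgor, hd⟩ := gorenstein_quotient f hf hfm
  set J := Ideal.span (Set.range f) with hJ
  have hJI : J ≤ I := by
    rw [hJ, Ideal.span_le]
    rintro _ ⟨i, rfl⟩
    exact hfI i
  have key : ∀ D : WithBot ℕ∞, D + (n : WithBot ℕ∞) = ((n + 2 : ℕ) : WithBot ℕ∞) → D = (2 : ℕ) := by
    intro D hD
    induction D using WithBot.recBotCoe with
    | bot =>
      rw [WithBot.bot_add] at hD
      have h1 : (⊥ : WithBot ℕ∞) = (((n + 2 : ℕ) : ℕ∞) : WithBot ℕ∞) := hD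
      exact absurd h1.symm WithBot.coe_ne_bot
    | coe D =>
      induction D using ENat.recTopCoe with
      | top =>
        exfalso
        have h1 : ((⊤ : ℕ∞) : WithBot ℕ∞) + (n : WithBot ℕ∞) = ((⊤ : ℕ∞) : WithBot ℕ∞) := rfl
        rw [h1] at hD
        have h2 : (⊤ : ℕ∞) = ((n + 2 : ℕ) : ℕ∞) := WithBot.coe_injective hD
        exact absurd h2 (ENat.top_ne_natCast _)
      | coe d =>
        have h0 : (((d : ℕ∞) + (n : ℕ∞) : ℕ∞) : WithBot ℕ∞) = (((n + 2 : ℕ) : ℕ∞) : WithBot ℕ∞) := hD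
        have h1 : d + n = n + 2 := by exact_mod_cast WithBot.coe_injective h0
        have h2 : d = 2 := by omega
        rw [h2]
        rfl
  have hd2 : ringKrullDim (A ⧸ J) = (2 : ℕ) := key _ (by rw [hd, hdim])
  have hA := hasInjectiveDimensionLT_of_gorenstein 2 (A ⧸ J) hd2
  let π : A →+* A ⧸ J := Ideal.Quotient.mk J
  have hπ : Function.Surjective π := Ideal.Quotient.mk_surjective
  have hL : ∀ (L : Ideal A), J ≤ L → ∀ a : A, π a ∈ L.map π ↔ a ∈ L := by
    intro L hL a
    rw [← Ideal.mem_comap, Ideal.comap_map_of_surjective π hπ]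
    have : Ideal.comap π ⊥ = J := by
      ext z
      rw [Ideal.mem_comap, Ideal.mem_bot]
      exact Ideal.Quotient.eq_zero_iff_mem
    rw [this, sup_eq_left.2 hL]
  have hmt : ∀ L : Ideal A, (L ⊔ Ideal.span {t}).map π = L.map π ⊔ Ideal.span {π t} := by
    intro L
    rw [Ideal.map_sup, Ideal.map_span, Set.image_singleton]
  have hmem : ∀ a : A, π a ∈ Ideal.span {π t} ↔ a ∈ J ⊔ Ideal.span {t} := by
    intro a
    rw [← hL (J ⊔ Ideal.span {t}) le_sup_left a, hmt]
    have : Ideal.map π J = ⊥ := by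
      rw [Ideal.map_eq_bot_iff_le_ker, Ideal.mk_ker]
    rw [this, bot_sup_eq]
  have hmax : ∀ a ∈ IsLocalRing.maximalIdeal A, π a ∈ IsLocalRing.maximalIdeal (A ⧸ J) := by
    intro a ha
    rw [IsLocalRing.mem_maximalIdeal, mem_nonunits_iff]
    intro hunit
    obtain ⟨b, hb⟩ := hunit.exists_right_inv
    obtain ⟨b, rfl⟩ := hπ b
    have h1 : a * b - 1 ∈ J := by
      rw [← Ideal.Quotient.eq_zero_iff_mem, map_sub, map_mul, map_one, sub_eq_zero]
      exact hb
    have h2 : a * b - 1 ∈ IsLocalRing.maximalIdeal A := by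
      refine (show J ≤ IsLocalRing.maximalIdeal A from ?_) h1
      rw [hJ, Ideal.span_le]
      rintro _ ⟨i, rfl⟩
      exact hfm i
    have h3 : (1 : A) ∈ IsLocalRing.maximalIdeal A := by
      have := sub_mem (Ideal.mul_mem_right b _ ha) h2
      rwa [sub_sub_cancel] at this
    exact (Ideal.ne_top_iff_one _).1 (IsLocalRing.maximalIdeal.isMaximal A).ne_top h3
  obtain ⟨y, hy1, hy2⟩ := exists_colon_lift hA (I.map π) (π t) (π u) (hmax t ht) (hmax u hu)
    (by
      rw [isSMulRegular_iff_right_eq_zero_of_smul]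
      intro m hm
      obtain ⟨a, rfl⟩ := hπ m
      rw [smul_eq_mul, ← map_mul] at hm
      exact Ideal.Quotient.eq_zero_iff_mem.2 (htf a (Ideal.Quotient.eq_zero_iff_mem.1 hm)))
    (by
      intro m hm
      obtain ⟨a, rfl⟩ := hπ m
      rw [← map_mul, hL I hJI] at hm
      rw [hL I hJI]
      exact htI a hm)
    (by
      intro m hm
      obtain ⟨a, rfl⟩ := hπ m
      rw [← map_mul, ← hmt, hL _ (hJI.trans le_sup_left)] at hm
      rw [← hmt, hL _ (hJI.trans le_sup_left)]
      exact huI a hm)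
    (π x) (by
      intro m hm
      obtain ⟨a, rfl⟩ := hπ m
      rw [hL I hJI] at hm
      rw [← map_mul, hmem]
      exact hx a hm)
  obtain ⟨y, rfl⟩ := hπ y
  refine ⟨y, fun a ha => ?_, ?_⟩
  · have := hy1 (π a) ((hL I hJI a).2 ha)
    rw [← map_mul] at this
    exact Ideal.Quotient.eq_zero_iff_mem.1 this
  · rw [← hmem, map_sub]
    exact hy2

end Groth.Agent.Localalg.ExtLift
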