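import Groth.Agent.Localalg.ReesLemma

/-!
# Comparison of `Ext` along restriction of scalars

`φ : C → D`, `Q` a `D`-module, `e : Ext_C^s(Q, M)`: the maps
`Ext_D^i(N, Q) → Ext_C^{i+s}(N, M)` are bijective (for finite `N`, `D` Noetherian) as soon as they are in
degree `0` and `Ext_C^{i+s}(P, M) = 0` for `i > 0` and `P` finite free over `D`.
-/

set_option autoImplicit false
universe u

open CategoryTheory Abelian Limits

namespace Groth.Agent.Localalg.ExtRestrict

variable {C D : Type u} [CommRing C] [CommRing D] (φ : C →+* D)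

/-- The comparison map. -/
noncomputable def cmp {Q : ModuleCat.{u} D} {M : ModuleCat.{u} C} {s : ℕ}
    (e : Ext ((ModuleCat.restrictScalars φ).obj Q) M s) (N : ModuleCat.{u} D) (i : ℕ) :
    Ext N Q i →+ Ext ((ModuleCat.restrictScalars φ).obj N) M (i + s) where
  toFun x := (x.mapExactFunctor (ModuleCat.restrictScalars φ)).comp e rfl
  map_zero' := by simp
  map_add' x y := by simp

variable {φ}

lemma cmp_apply {Q : ModuleCat.{u} D} {M : ModuleCat.{u} C} {s : ℕ}
    (e : Ext ((ModuleCat.restrictScalars φ).obj Q) M s) (N : ModuleCat.{u} D) (i : ℕ)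
    (x : Ext N Q i) :
    cmp φ e N i x = (x.mapExactFunctor (ModuleCat.restrictScalars φ)).comp e rfl := rfl

lemma cmp_comp {Q : ModuleCat.{u} D} {M : ModuleCat.{u} C} {s : ℕ}
    (e : Ext ((ModuleCat.restrictScalars φ).obj Q) M s) {N N' : ModuleCat.{u} D} {i j k : ℕ}
    (y : Ext N' N j) (x : Ext N Q i) (h : j + i = k) :
    cmp φ e N' k (y.comp x h) =
      (y.mapExactFunctor (ModuleCat.restrictScalars φ)).comp (cmp φ e N i x) (by omega) := by
  simp only [cmp_apply, Ext.mapExactFunctor_comp]
  rw [Ext.comp_assoc]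
  omega

/-- The comparison theorem. -/
theorem cmp_bijective [IsNoetherianRing D] {Q : ModuleCat.{u} D} {M : ModuleCat.{u} C} {s : ℕ}
    (e : Ext ((ModuleCat.restrictScalars φ).obj Q) M s)
    (h0 : ∀ (N : ModuleCat.{u} D) [Module.Finite D N], Function.Bijective (cmp φ e N 0))
    (hP : ∀ (P : Type u) [AddCommGroup P] [Module D P] [Module.Finite D P] [Module.Free D P] (i : ℕ),
      Subsingleton (Ext ((ModuleCat.restrictScalars φ).obj (ModuleCat.of D P)) M (i + 1 + s)))
    (i : ℕ) : ∀ (N : ModuleCat.{u} D) [Module.Finite D N], Function.Bijective (cmp φ e N i) := by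
  induction i with
  | zero => exact h0
  | succ i ih =>
    intro N _
    obtain ⟨P, _, _, _, _, f, surjf⟩ := Module.exists_finite_presentation D N
    have hT : f.shortComplexKer.ShortExact := LinearMap.shortExact_shortComplexKer surjf
    have hFT := hT.map_of_exact (ModuleCat.restrictScalars.{u} φ)
    have hproj : Projective (ModuleCat.of D P) :=
      (IsProjective.iff_projective (R := D) (P := P)).1 inferInstance
    have ih₁ : Function.Bijective (cmp φ e (ModuleCat.of D (LinearMap.ker f)) i) := ih _
    have ih₂ : Function.Bijective (cmp φ e (ModuleCat.of D P) i) := ih _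
    constructor
    · rw [injective_iff_map_eq_zero]
      intro x hx
      obtain ⟨z, rfl⟩ := Ext.contravariant_sequence_exact₃ hT Q x (Ext.eq_zero_of_projective _)
        (add_comm 1 i)
      rw [cmp_comp, Ext.mapExactFunctor_extClass] at hx
      obtain ⟨w, hw⟩ := Ext.contravariant_sequence_exact₁ hFT M _ (by omega) hx
      obtain ⟨w, rfl⟩ := ih₂.2 w
      have h1 : cmp φ e (ModuleCat.of D (LinearMap.ker f)) i z =
          cmp φ e (ModuleCat.of D (LinearMap.ker f)) i
          ((Ext.mk₀ f.shortComplexKer.f).comp w (zero_add i)) := by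
        rw [cmp_comp, Ext.mapExactFunctor_mk₀]
        exact hw.symm
      rw [ih₁.1 h1, hT.extClass_comp_assoc]
    · intro y
      have hPs := hP P i
      obtain ⟨z, hz⟩ := Ext.contravariant_sequence_exact₃ hFT M y
        (hPs.elim _ _) (show 1 + (i + s) = i + 1 + s by omega)
      obtain ⟨w, rfl⟩ := ih₁.2 z
      refine ⟨hT.extClass.comp w (add_comm 1 i), ?_⟩
      rw [cmp_comp, Ext.mapExactFunctor_extClass]
      exact hz

/-- `Ext_C^n(P, M) = 0` for `P` finite free over `D` if it is so for `P = D`. -/
lemma subsingleton_ext_free (M : ModuleCat.{u} C) (n : ℕ)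
    (h : Subsingleton (Ext ((ModuleCat.restrictScalars φ).obj (ModuleCat.of D D)) M n))
    (P : Type u) [AddCommGroup P] [Module D P] [Module.Finite D P] [Module.Free D P] :
    Subsingleton (Ext ((ModuleCat.restrictScalars φ).obj (ModuleCat.of D P)) M n) := by
  have key : ∀ m : ℕ, Subsingleton (Ext ((ModuleCat.restrictScalars φ).obj
      (ModuleCat.of D (ULift.{u} (Fin m) → D))) M n) := by
    intro m
    induction m with
    | zero =>
      have h1 : IsZero ((ModuleCat.restrictScalars φ).obj
        (ModuleCat.of D (ULift.{u} (Fin 0) → D))) :=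
        @ModuleCat.isZero_of_subsingleton _ _ _
          (inferInstanceAs (Subsingleton (ULift.{u} (Fin 0) → D)))
      refine subsingleton_of_forall_eq 0 fun x ↦ ?_
      rw [← x.mk₀_id_comp, h1.eq_zero_of_src (𝟙 _), Ext.mk₀_zero, Ext.zero_comp]
    | succ m ihm =>
      let f : D →ₗ[D] (D × (ULift.{u} (Fin m) → D)) := LinearMap.inl D D _
      let g : (D × (ULift.{u} (Fin m) → D)) →ₗ[D] (ULift.{u} (Fin m) → D) := LinearMap.snd D D _
      have hfg : Function.Exact f g := Function.Exact.inl_snd
      have hS : (ModuleCat.shortComplexOfCompEqZero f g hfg.linearMap_comp_eq_zero).ShortExact :=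
        ModuleCat.shortComplex_shortExact _ hfg LinearMap.inl_injective LinearMap.snd_surjective
      have hFS := hS.map_of_exact (ModuleCat.restrictScalars.{u} φ)
      have h2 := InjDim.subsingleton_ext_X₂ hFS M n h ihm
      let e : (D × (ULift.{u} (Fin m) → D)) ≃ₗ[D] (ULift.{u} (Fin (m + 1)) → D) :=
        ((LinearEquiv.prodCongr (LinearEquiv.refl D D)
          (LinearEquiv.funCongrLeft D D Equiv.ulift.symm)).trans
          (Fin.consLinearEquiv D (fun _ ↦ D))).trans
          (LinearEquiv.funCongrLeft D D Equiv.ulift)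
      exact ReesLemma.subsingleton_ext_of_iso ((ModuleCat.restrictScalars φ).mapIso
        (e.toModuleIso : ModuleCat.of D (D × (ULift.{u} (Fin m) → D)) ≅
          ModuleCat.of D (ULift.{u} (Fin (m + 1)) → D))) h2
  rcases subsingleton_or_nontrivial D with hD | hD
  · have : Subsingleton P := Module.subsingleton D P
    have h1 : IsZero ((ModuleCat.restrictScalars φ).obj (ModuleCat.of D P)) :=
      @ModuleCat.isZero_of_subsingleton _ _ _ (inferInstanceAs (Subsingleton P))
    refine subsingleton_of_forall_eq 0 fun x ↦ ?_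
    rw [← x.mk₀_id_comp, h1.eq_zero_of_src (𝟙 _), Ext.mk₀_zero, Ext.zero_comp]
  · let b := Module.Free.chooseBasis D P
    let e : (ULift.{u} (Fin (Fintype.card (Module.Free.ChooseBasisIndex D P))) → D) ≃ₗ[D] P :=
      (LinearEquiv.funCongrLeft D D
        ((Fintype.equivFin _).trans Equiv.ulift.symm)).trans b.equivFun.symm
    exact ReesLemma.subsingleton_ext_of_iso ((ModuleCat.restrictScalars φ).mapIso
        (e.toModuleIso : ModuleCat.of D (ULift.{u} (Fin _) → D) ≅ ModuleCat.of D P)) (key _)

end Groth.Agent.Localalg.ExtRestrict
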