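import Mathlib.RingTheory.Spectrum.Prime.Topology
import Mathlib.RingTheory.Ideal.AssociatedPrime.Finiteness
import Mathlib.RingTheory.Ideal.Operations
import Mathlib.RingTheory.Regular.Category
import Mathlib.RingTheory.Regular.IsSMulRegular
import Mathlib.Algebra.Module.Torsion.Basic
import Mathlib.Algebra.Category.ModuleCat.Abelian
import Mathlib.RingTheory.Noetherian.Basic
import Mathlib.RingTheory.Support
import Mathlib.Algebra.Module.FinitePresentation
import Mathlib.RingTheory.Localization.AtPrime.Basic
import Mathlib.RingTheory.Localization.Finiteness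

/-!
Abstract form of Faltings' finiteness lemma (Stacks 0AW8): a "local cohomology like" family of
functors on modules over a Noetherian ring, with supports in a set T of primes.
-/

set_option autoImplicit false
universe u

open CategoryTheory

namespace Groth.Agent.Localalg.FaltAbs

variable {R : Type u} [CommRing R]

/-- T-torsion modules. -/
def TTors (T : Set (PrimeSpectrum R)) (N : Type u) [AddCommGroup N] [Module R N] : Prop :=
  ∀ x : N, PrimeSpectrum.zeroLocus (Ideal.torsionOf R N x : Set R) ⊆ T

/-- The T-torsion submodule. -/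
def gammaT (T : Set (PrimeSpectrum R)) (M : Type u) [AddCommGroup M] [Module R M] :
    Submodule R M where
  carrier := {x | PrimeSpectrum.zeroLocus (Ideal.torsionOf R M x : Set R) ⊆ T}
  zero_mem' := by
    intro p hp
    exfalso
    have : (1 : R) ∈ p.asIdeal := hp (by simp)
    exact p.isPrime.one_notMem this
  add_mem' := by
    intro x y hx hy p hp
    by_cases h : ∀ a ∈ Ideal.torsionOf R M x, a ∈ p.asIdeal
    · exact hx h
    · by_cases h' : ∀ a ∈ Ideal.torsionOf R M y, a ∈ p.asIdeal
      · exact hy h'
      · exfalso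
        push Not at h h'
        obtain ⟨a, ha, hap⟩ := h
        obtain ⟨b, hb, hbp⟩ := h'
        have hab : a * b ∈ Ideal.torsionOf R M (x + y) := by
          rw [Ideal.mem_torsionOf_iff] at ha hb ⊢
          rw [smul_add, mul_comm a b, mul_smul, ha, mul_comm b a, mul_smul, hb]
          simp
        exact (p.isPrime.mem_or_mem (hp hab)).elim hap hbp
  smul_mem' := by
    intro c x hx p hp
    refine hx (fun a ha => hp ?_)
    have ha' : a • x = 0 := ha
    change a • c • x = 0
    rw [smul_comm, ha', smul_zero]

theorem mem_gammaT {T : Set (PrimeSpectrum R)} {M : Type u} [AddCommGroup M] [Module R M]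
    {x : M} : x ∈ gammaT T M ↔ PrimeSpectrum.zeroLocus (Ideal.torsionOf R M x : Set R) ⊆ T :=
  Iff.rfl

theorem gammaT_ttors (T : Set (PrimeSpectrum R)) (M : Type u) [AddCommGroup M] [Module R M] :
    TTors T (gammaT T M) := by
  rintro ⟨x, hx⟩ p hp
  refine hx (fun a ha => hp ?_)
  have ha' : a • x = 0 := ha
  change a • (⟨x, hx⟩ : gammaT T M) = 0
  exact Subtype.ext ha'

/-- Axioms of local cohomology with supports in T. -/
structure LCAx (T : Set (PrimeSpectrum R)) (H : ℕ → ModuleCat.{u} R ⥤ ModuleCat.{u} R) :
    Prop where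
  exact₂ : ∀ (S : ShortComplex (ModuleCat.{u} R)), S.ShortExact → ∀ i : ℕ,
    Function.Exact ((H i).map S.f).hom ((H i).map S.g).hom
  conn : ∀ (S : ShortComplex (ModuleCat.{u} R)), S.ShortExact → ∀ i : ℕ,
    ∃ δ : (H i).obj S.X₃ →ₗ[R] (H (i + 1)).obj S.X₁,
      Function.Exact ((H i).map S.g).hom δ ∧ Function.Exact δ ((H (i + 1)).map S.f).hom
  map_smul' : ∀ (i : ℕ) (M : ModuleCat.{u} R) (a : R) (x : (H i).obj M),
    ((H i).map (a • 𝟙 M)).hom x = a • x
  h0 : ∀ M : ModuleCat.{u} R, Nonempty ((H 0).obj M ≃ₗ[R] gammaT T M)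
  vanish : ∀ M : ModuleCat.{u} R, TTors T M → ∀ p : ℕ, 0 < p → Subsingleton ((H p).obj M)

variable {T : Set (PrimeSpectrum R)} {H : ℕ → ModuleCat.{u} R ⥤ ModuleCat.{u} R}

theorem LCAx.finite_zero [IsNoetherianRing R] (h : LCAx T H) (M : ModuleCat.{u} R)
    [Module.Finite R M] : Module.Finite R ((H 0).obj M) := by
  obtain ⟨e⟩ := h.h0 M
  exact Module.Finite.equiv e.symm

/-- The quotient by the T-torsion, as a short exact sequence. -/
def gammaSeq (T : Set (PrimeSpectrum R)) (M : ModuleCat.{u} R) : ShortComplex (ModuleCat.{u} R) :=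
  ModuleCat.shortComplexOfCompEqZero (gammaT T M).subtype (gammaT T M).mkQ (by ext x; simp)

theorem gammaSeq_shortExact (T : Set (PrimeSpectrum R)) (M : ModuleCat.{u} R) :
    (gammaSeq T M).ShortExact where
  exact := ModuleCat.shortComplex_exact _ (LinearMap.exact_subtype_mkQ _)
  mono_f := by
    rw [ModuleCat.mono_iff_injective]
    exact (gammaT T M).subtype_injective
  epi_g := by
    rw [ModuleCat.epi_iff_surjective]
    exact (gammaT T M).mkQ_surjective

/-- M/Γ_T(M) has the same higher cohomology. -/
theorem LCAx.quot_equiv (h : LCAx T H) (M : ModuleCat.{u} R) (i : ℕ) :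
    Nonempty ((H (i + 1)).obj M ≃ₗ[R] (H (i + 1)).obj (ModuleCat.of R (M ⧸ gammaT T M))) := by
  have hS := gammaSeq_shortExact T M
  have h1 : Subsingleton ((H (i + 1)).obj (gammaSeq T M).X₁) :=
    h.vanish _ (gammaT_ttors T M) _ (Nat.succ_pos _)
  have h2 : Subsingleton ((H (i + 1 + 1)).obj (gammaSeq T M).X₁) :=
    h.vanish _ (gammaT_ttors T M) _ (Nat.succ_pos _)
  have hinj : Function.Injective ((H (i + 1)).map (gammaSeq T M).g).hom := by
    rw [injective_iff_map_eq_zero]
    intro x hx
    obtain ⟨y, rfl⟩ := (h.exact₂ _ hS (i + 1) x).1 hx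
    rw [Subsingleton.elim y 0, map_zero]
  have hsurj : Function.Surjective ((H (i + 1)).map (gammaSeq T M).g).hom := by
    intro x
    obtain ⟨δ, hδ, -⟩ := h.conn _ hS (i + 1)
    exact (hδ x).1 (Subsingleton.elim _ _)
  exact ⟨LinearEquiv.ofBijective ((H (i + 1)).map (gammaSeq T M).g).hom ⟨hinj, hsurj⟩⟩

/-- the quotient M/Γ_T(M) has no T-torsion. -/
theorem gammaT_quot (T : Set (PrimeSpectrum R)) (M : Type u) [AddCommGroup M] [Module R M]
    : gammaT T (M ⧸ gammaT T M) = ⊥ := by
  rw [eq_bot_iff]
  intro x hx
  obtain ⟨x, rfl⟩ := Submodule.Quotient.mk_surjective _ x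
  rw [Submodule.mem_bot, Submodule.Quotient.mk_eq_zero]
  intro p hp
  set J := Ideal.torsionOf R (M ⧸ gammaT T M) (Submodule.Quotient.mk x) with hJ
  by_cases hJp : J ≤ p.asIdeal
  · exact hx hJp
  · obtain ⟨a, haJ, hap⟩ := SetLike.not_le_iff_exists.mp hJp
    have hax : a • x ∈ gammaT T M := by
      have : a • (Submodule.Quotient.mk x : M ⧸ gammaT T M) = 0 := haJ
      rwa [← Submodule.Quotient.mk_smul, Submodule.Quotient.mk_eq_zero] at this
    refine hax (fun b hb => ?_)
    have hb' : b • a • x = 0 := hb
    have : b * a ∈ p.asIdeal := hp (by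
      change (b * a) • x = 0
      rw [mul_smul, hb'])
    exact (p.isPrime.mem_or_mem this).resolve_right hap

/-- If M is finite without T-torsion then any ideal with zero locus in T contains an M-regular
element. -/
theorem exists_regular [IsNoetherianRing R] (M : Type u) [AddCommGroup M] [Module R M]
    [Module.Finite R M] (hM : gammaT T M = ⊥) (J : Ideal R)
    (hJ : PrimeSpectrum.zeroLocus (J : Set R) ⊆ T) : ∃ x ∈ J, IsSMulRegular M x := by
  by_contra hcon
  push Not at hcon
  have hsub : (J : Set R) ⊆ ⋃ p ∈ associatedPrimes R M, (p : Set R) := by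
    intro x hx
    rw [biUnion_associatedPrimes_eq_zero_divisors]
    have h1 := hcon x hx
    by_contra h2
    apply h1
    intro y z hyz
    have hyz' : x • y = x • z := hyz
    by_contra hne
    exact h2 ⟨y - z, sub_ne_zero.mpr hne, by rw [smul_sub, hyz', sub_self]⟩
  rw [Ideal.subset_union_prime_finite (associatedPrimes.finite R M) ⊥ ⊥
    (fun p hp _ _ => hp.isPrime)] at hsub
  obtain ⟨p, hp, hJp⟩ := hsub
  have hpp := hp.isPrime
  obtain ⟨-, x, hx⟩ := isAssociatedPrime_iff.mp hp
  have hx0 : x ≠ 0 := by
    rintro rfl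
    apply hpp.ne_top
    rw [hx]
    simp
  apply hx0
  rw [← Submodule.mem_bot (R := R), ← hM]
  intro q hq
  apply hJ
  refine Set.Subset.trans ?_ hq
  intro a ha
  have : a ∈ p := hJp ha
  rw [hx, Submodule.mem_colon_singleton, Submodule.mem_bot] at this
  exact this

/-- The long exact sequence for multiplication by a regular element, in concrete form. -/
theorem LCAx.reg_seq (h : LCAx T H) (N : ModuleCat.{u} R) (x : R) (hx : IsSMulRegular N x)
    (i : ℕ) : ∃ (g : (H i).obj N →ₗ[R] (H i).obj (ModuleCat.of R (QuotSMulTop x N)))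
      (δ : (H i).obj (ModuleCat.of R (QuotSMulTop x N)) →ₗ[R] (H (i + 1)).obj N),
      (∀ y, g y = 0 ↔ ∃ z, x • z = y) ∧ (∀ y, δ y = 0 ↔ ∃ z, g z = y) ∧
        (∀ y, x • y = 0 ↔ ∃ z, δ z = y) := by
  have hS := hx.smulShortComplex_shortExact
  obtain ⟨δ, hδ1, hδ2⟩ := h.conn _ hS i
  refine ⟨((H i).map (ModuleCat.smulShortComplex N x).g).hom, δ, ?_, ?_, ?_⟩
  · intro y
    refine (h.exact₂ _ hS i y).trans ⟨?_, ?_⟩
    · rintro ⟨z, hz⟩
      exact ⟨z, (h.map_smul' i N x z).symm.trans hz⟩
    · rintro ⟨z, hz⟩
      exact ⟨z, (h.map_smul' i N x z).trans hz⟩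
  · intro y
    exact hδ1 y
  · intro y
    refine Iff.trans ?_ (hδ2 y)
    exact ⟨fun hy => (h.map_smul' (i + 1) N x y).trans hy,
      fun hy => (h.map_smul' (i + 1) N x y).symm.trans hy⟩

/-- Faltings finiteness, hard direction: if one ideal J with V(J) ⊆ T kills H^i(M) for i ≤ n then
these modules are finite. -/
theorem LCAx.finite_of_annihilated [IsNoetherianRing R] (h : LCAx T H) (n : ℕ) :
    ∀ (M : ModuleCat.{u} R) [Module.Finite R M] (J : Ideal R),
      PrimeSpectrum.zeroLocus (J : Set R) ⊆ T →
      (∀ i : ℕ, i ≤ n → ∀ a ∈ J, ∀ x : (H i).obj M, a • x = 0) →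
      ∀ i : ℕ, i ≤ n → Module.Finite R ((H i).obj M) := by
  induction n with
  | zero =>
    intro M _ J hJ hann i hi
    obtain rfl : i = 0 := by omega
    exact h.finite_zero M
  | succ n ih =>
    intro M _ J hJ hann i hi
    obtain _ | i := i
    · exact h.finite_zero M
    -- replace M by N = M / Γ_T M
    obtain ⟨e⟩ := h.quot_equiv M i
    suffices hfin : Module.Finite R ((H (i + 1)).obj (ModuleCat.of R (M ⧸ gammaT T M))) from
      Module.Finite.equiv e.symm
    have hN0 : gammaT T (M ⧸ gammaT T M) = ⊥ := gammaT_quot T M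
    set N : ModuleCat.{u} R := ModuleCat.of R (M ⧸ gammaT T M) with hN
    have hNann : ∀ i : ℕ, i ≤ n + 1 → ∀ a ∈ J, ∀ x : (H i).obj N, a • x = 0 := by
      intro i hi a ha x
      obtain _ | i := i
      · obtain ⟨e0⟩ := h.h0 N
        apply e0.injective
        have : gammaT T N = ⊥ := hN0
        obtain ⟨y, hy⟩ := e0 (a • x)
        rw [this] at hy
        rw [map_zero]
        exact Subtype.ext hy
      · obtain ⟨e'⟩ := h.quot_equiv M i
        apply e'.symm.injective
        rw [map_smul, map_zero]
        exact hann _ hi a ha _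
    have : Module.Finite R N := inferInstanceAs (Module.Finite R (M ⧸ gammaT T M))
    obtain ⟨x, hxJ, hxreg⟩ := exists_regular (T := T) N hN0 J hJ
    -- H^i(N/xN) is killed by J^2 for i ≤ n
    have hq : ∀ i : ℕ, i ≤ n → ∀ a ∈ J ^ 2,
        ∀ y : (H i).obj (ModuleCat.of R (QuotSMulTop x N)), a • y = 0 := by
      intro i hi a ha y
      obtain ⟨g, δ, -, hδ1, hδ2⟩ := h.reg_seq N x hxreg i
      rw [pow_two] at ha
      refine Submodule.mul_induction_on ha ?_ ?_
      · intro b hb c hc
        have h1 : δ (c • y) = 0 := by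
          rw [_root_.map_smul]
          exact hNann (i + 1) (by omega) c hc _
        obtain ⟨z, hz⟩ := (hδ1 _).1 h1
        rw [mul_smul, ← hz, ← _root_.map_smul, hNann i (by omega) b hb z, map_zero]
      · intro b c hb hc
        rw [add_smul, hb, hc, add_zero]
    have hfinq : Module.Finite R (QuotSMulTop x N) := inferInstance
    have hJ2 : PrimeSpectrum.zeroLocus ((J ^ 2 : Ideal R) : Set R) ⊆ T := by
      rw [PrimeSpectrum.zeroLocus_pow _ two_ne_zero]
      exact hJ
    have hfq := ih (ModuleCat.of R (QuotSMulTop x N)) (J ^ 2) hJ2 hq i (by omega)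
    obtain ⟨g, δ, -, hδ1, hδ2⟩ := h.reg_seq N x hxreg i
    have hsurj : Function.Surjective δ := by
      intro y
      exact (hδ2 y).1 (hNann (i + 1) hi x hxJ y)
    exact Module.Finite.of_surjective δ hsurj

/-- If F ⊆ G is a finite submodule, G[J] is finite, then the submodule of elements g with J g ⊆ F is
finite. -/
theorem fg_colon [IsNoetherianRing R] {G : Type u} [AddCommGroup G] [Module R G] (J : Ideal R)
    (F : Submodule R G) (hF : F.FG) (hG : (Submodule.torsionBySet R G (J : Set R)).FG)
    (P : Submodule R G) (hP : ∀ g ∈ P, ∀ a ∈ J, a • g ∈ F) : P.FG := by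
  obtain ⟨s, hs⟩ := (isNoetherianRing_iff_ideal_fg R).1 inferInstance J
  -- P → (s → F)
  have : Module.Finite R F := Module.Finite.iff_fg.2 hF
  have : Module.Finite R (Submodule.torsionBySet R G (J : Set R)) := Module.Finite.iff_fg.2 hG
  let φ : P →ₗ[R] (s → F) := LinearMap.pi fun a =>
    { toFun := fun g => ⟨a.1 • g.1, hP g.1 g.2 a.1 (hs ▸ Submodule.subset_span a.2)⟩
      map_add' := fun x y => Subtype.ext (smul_add _ _ _)
      map_smul' := fun c x => Subtype.ext (smul_comm _ _ _) }
  have hker : ∀ g ∈ LinearMap.ker φ, (g : G) ∈ Submodule.torsionBySet R G (J : Set R) := by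
    intro g hg
    rw [Submodule.mem_torsionBySet_iff]
    rintro ⟨a, ha⟩
    have hJle : J ≤ Ideal.torsionOf R G g.1 := by
      rw [← hs]
      refine Submodule.span_le.2 (fun b hb => ?_)
      have := congrFun (LinearMap.mem_ker.1 hg) ⟨b, hb⟩
      exact congrArg Subtype.val this
    exact hJle ha
  have h1 : (LinearMap.ker φ).FG := by
    let ψ : LinearMap.ker φ →ₗ[R] Submodule.torsionBySet R G (J : Set R) :=
      { toFun := fun g => ⟨g.1.1, hker g.1 g.2⟩
        map_add' := fun x y => rfl
        map_smul' := fun c x => rfl }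
    have hψ : Function.Injective ψ := by
      intro x y hxy
      exact Subtype.ext (Subtype.ext (congrArg (fun z => z.1) hxy))
    exact Module.Finite.iff_fg.1 (Module.Finite.of_injective ψ hψ)
  have h2 : (LinearMap.range φ).FG := Module.Finite.iff_fg.1
    (Module.Finite.of_injective (LinearMap.range φ).subtype (LinearMap.range φ).subtype_injective)
  have h3 : (⊤ : Submodule R P).FG := by
    refine Submodule.fg_of_fg_map_of_fg_inf_ker φ ?_ ?_
    · rwa [Submodule.map_top]
    · rwa [top_inf_eq]
  exact Module.Finite.iff_fg.1 ⟨h3⟩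

/-- If H^i(M) is finite for i < m and V(J) ⊆ T then the J-torsion of H^m(M) is finite. -/
theorem LCAx.torsion_finite [IsNoetherianRing R] (h : LCAx T H) (m : ℕ) :
    ∀ (M : ModuleCat.{u} R) [Module.Finite R M] (J : Ideal R),
      PrimeSpectrum.zeroLocus (J : Set R) ⊆ T →
      (∀ i : ℕ, i < m → Module.Finite R ((H i).obj M)) →
      (Submodule.torsionBySet R ((H m).obj M) (J : Set R)).FG := by
  induction m with
  | zero =>
    intro M _ J hJ hfin
    have := h.finite_zero M
    exact IsNoetherian.noetherian _
  | succ m ih =>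
    intro M _ J hJ hfin
    obtain ⟨e⟩ := h.quot_equiv M m
    have hN0 : gammaT T (M ⧸ gammaT T M) = ⊥ := gammaT_quot T M
    set N : ModuleCat.{u} R := ModuleCat.of R (M ⧸ gammaT T M) with hN
    have : Module.Finite R N := inferInstanceAs (Module.Finite R (M ⧸ gammaT T M))
    have hNfin : ∀ i : ℕ, i < m + 1 → Module.Finite R ((H i).obj N) := by
      intro i hi
      obtain _ | i := i
      · exact h.finite_zero N
      · obtain ⟨e'⟩ := h.quot_equiv M i
        have := hfin _ hi
        exact Module.Finite.equiv e'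
    suffices hfg : (Submodule.torsionBySet R ((H (m + 1)).obj N) (J : Set R)).FG by
      have hmap := hfg.map e.symm.toLinearMap
      have heq : Submodule.map e.symm.toLinearMap
          (Submodule.torsionBySet R ((H (m + 1)).obj N) (J : Set R)) =
          Submodule.torsionBySet R ((H (m + 1)).obj M) (J : Set R) := by
        ext y
        constructor
        · rintro ⟨z, hz, rfl⟩
          rw [SetLike.mem_coe, Submodule.mem_torsionBySet_iff] at hz
          rw [Submodule.mem_torsionBySet_iff]
          intro a
          rw [← _root_.map_smul, hz a, map_zero]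
        · intro hy
          rw [Submodule.mem_torsionBySet_iff] at hy
          refine ⟨e y, ?_, e.symm_apply_apply y⟩
          rw [SetLike.mem_coe, Submodule.mem_torsionBySet_iff]
          intro a
          rw [← _root_.map_smul, hy a, map_zero]
      rwa [heq] at hmap
    obtain ⟨x, hxJ, hxreg⟩ := exists_regular (T := T) N hN0 J hJ
    obtain ⟨g, δ, hg, hδ1, hδ2⟩ := h.reg_seq N x hxreg m
    have hfinq : Module.Finite R (QuotSMulTop x N) := inferInstance
    -- finiteness of lower cohomology of N/xN
    have hqfin : ∀ i : ℕ, i < m →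
        Module.Finite R ((H i).obj (ModuleCat.of R (QuotSMulTop x N))) := by
      intro i hi
      obtain ⟨g', δ', -, hδ1', -⟩ := h.reg_seq N x hxreg i
      have h1 := hNfin i (by omega)
      have h2 := hNfin (i + 1) (by omega)
      have hk : (LinearMap.ker δ').FG := by
        have : LinearMap.ker δ' = LinearMap.range g' := by
          ext y
          rw [LinearMap.mem_ker, hδ1', LinearMap.mem_range]
        rw [this, LinearMap.range_eq_map]
        exact h1.1.map g'
      have hr : (LinearMap.range δ').FG := IsNoetherian.noetherian _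
      refine ⟨Submodule.fg_of_fg_map_of_fg_inf_ker δ' ?_ ?_⟩
      · rwa [Submodule.map_top]
      · rwa [top_inf_eq]
    have hG := ih (ModuleCat.of R (QuotSMulTop x N)) J hJ hqfin
    have hF : (LinearMap.ker δ).FG := by
      have : LinearMap.ker δ = LinearMap.range g := by
        ext y
        rw [LinearMap.mem_ker, hδ1, LinearMap.mem_range]
      rw [this, LinearMap.range_eq_map]
      exact (hNfin m (by omega)).1.map g
    -- the preimage under δ of the J-torsion
    have hP := fg_colon J (LinearMap.ker δ) hF hG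
      ((Submodule.torsionBySet R ((H (m + 1)).obj N) (J : Set R)).comap δ) (by
        intro y hy a ha
        rw [Submodule.mem_comap, Submodule.mem_torsionBySet_iff] at hy
        rw [LinearMap.mem_ker, _root_.map_smul]
        exact hy ⟨a, ha⟩)
    have hmap := hP.map δ
    rw [Submodule.map_comap_eq] at hmap
    have hle : Submodule.torsionBySet R ((H (m + 1)).obj N) (J : Set R) ≤ LinearMap.range δ := by
      intro y hy
      rw [Submodule.mem_torsionBySet_iff] at hy
      exact (hδ2 y).1 (hy ⟨x, hxJ⟩)
    rwa [inf_eq_right.2 hle] at hmap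

/-- A finite T-torsion module is killed by an ideal with zero locus in T. -/
theorem zeroLocus_annihilator (K : Type u) [AddCommGroup K] [Module R K] [Module.Finite R K]
    (hK : TTors T K) : PrimeSpectrum.zeroLocus (Module.annihilator R K : Set R) ⊆ T := by
  rw [← Module.support_eq_zeroLocus]
  intro p hp
  obtain ⟨m, hm⟩ := Module.mem_support_iff_exists_annihilator.1 hp
  refine hK m (fun a ha => hm ?_)
  rw [Submodule.mem_annihilator_span_singleton]
  exact ha

/-- Faltings finiteness, easy direction. -/
theorem LCAx.annihilated_of_finite (htors : ∀ (M : ModuleCat.{u} R) (i : ℕ), TTors T ((H i).obj M))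
    (n : ℕ) (M : ModuleCat.{u} R) (hfin : ∀ i : ℕ, i ≤ n → Module.Finite R ((H i).obj M)) :
    ∃ J : Ideal R, PrimeSpectrum.zeroLocus (J : Set R) ⊆ T ∧
      ∀ i : ℕ, i ≤ n → ∀ a ∈ J, ∀ x : (H i).obj M, a • x = 0 := by
  refine ⟨(Finset.range (n + 1)).inf (fun i => Module.annihilator R ((H i).obj M)), ?_, ?_⟩
  · intro p hp
    obtain ⟨i, hi, hip⟩ := (Ideal.IsPrime.inf_le' p.isPrime).1 hp
    rw [Finset.mem_range] at hi
    have := hfin i (by omega)
    exact zeroLocus_annihilator _ (htors M i) hip
  · intro i hi a ha x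
    have h1 : (Finset.range (n + 1)).inf (fun i => Module.annihilator R ((H i).obj M)) ≤
        Module.annihilator R ((H i).obj M) := Finset.inf_le (Finset.mem_range.2 (by omega))
    exact Module.mem_annihilator.1 (h1 ha) x

/-- The equivalence in Faltings' finiteness lemma. -/
theorem LCAx.finite_iff_annihilated [IsNoetherianRing R] (h : LCAx T H)
    (htors : ∀ (M : ModuleCat.{u} R) (i : ℕ), TTors T ((H i).obj M))
    (n : ℕ) (M : ModuleCat.{u} R) [Module.Finite R M] :
    (∀ i : ℕ, i ≤ n → Module.Finite R ((H i).obj M)) ↔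
    ∃ J : Ideal R, PrimeSpectrum.zeroLocus (J : Set R) ⊆ T ∧
      ∀ i : ℕ, i ≤ n → ∀ a ∈ J, ∀ x : (H i).obj M, a • x = 0 :=
  ⟨LCAx.annihilated_of_finite htors n M, fun ⟨J, hJ, hann⟩ =>
    h.finite_of_annihilated n M J hJ hann⟩

/-- Over a Noetherian ring, a module which is I-power torsion, with finite I-torsion, and locally
finite, is killed by a power of I. -/
theorem exists_pow_annihilates [IsNoetherianRing R] (I : Ideal R) (K : Type u) [AddCommGroup K]
    [Module R K] (hK : ∀ x : K, ∃ n : ℕ, ∀ a ∈ I ^ n, a • x = 0)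
    (hI : (Submodule.torsionBySet R K (I : Set R)).FG)
    (hloc : ∀ (p : Ideal R) [p.IsPrime],
      Module.Finite (Localization.AtPrime p) (LocalizedModule p.primeCompl K)) :
    ∃ k : ℕ, ∀ a ∈ I ^ k, ∀ x : K, a • x = 0 := by
  classical
  have hfinT : Module.Finite R (Submodule.torsionBySet R K (I : Set R)) := Module.Finite.iff_fg.2 hI
  have hAss : (associatedPrimes R K).Finite := by
    refine (associatedPrimes.finite R (Submodule.torsionBySet R K (I : Set R))).subset ?_
    intro P hP
    obtain ⟨hPp, x, hx⟩ := isAssociatedPrime_iff.1 hP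
    have hxI : x ∈ Submodule.torsionBySet R K (I : Set R) := by
      rw [Submodule.mem_torsionBySet_iff]
      obtain ⟨n, hn⟩ := hK x
      have hIP : I ≤ P := by
        refine hPp.le_of_pow_le (n := n) (fun a ha => ?_)
        rw [hx, Submodule.mem_colon_singleton, Submodule.mem_bot]
        exact hn a ha
      rintro ⟨a, ha⟩
      have := hIP ha
      rwa [hx, Submodule.mem_colon_singleton, Submodule.mem_bot] at this
    rw [AssociatedPrimes.mem_iff, isAssociatedPrime_iff]
    refine ⟨hPp, ⟨x, hxI⟩, ?_⟩
    rw [hx]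
    ext a
    rw [Submodule.mem_colon_singleton, Submodule.mem_bot, Submodule.mem_colon_singleton,
      Submodule.mem_bot]
    exact ⟨fun h => Subtype.ext h, fun h => congrArg Subtype.val h⟩
  -- local annihilation
  have hlocann : ∀ P ∈ associatedPrimes R K, ∃ k : ℕ, ∀ a ∈ I ^ k, ∀ x : K, ∃ s ∉ P,
      s • a • x = 0 := by
    intro P hP
    have hPp : P.IsPrime := hP.isPrime
    obtain ⟨s, hs⟩ := (hloc P).1
    -- a finite set of elements of K whose images generate
    choose num den hnd using fun y : LocalizedModule P.primeCompl K =>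
      LocalizedModule.induction_on (β := fun y => ∃ (m : K) (d : P.primeCompl),
        y = LocalizedModule.mk m d) (fun m d => ⟨m, d, rfl⟩) y
    choose ex hex using hK
    let k := s.sup (fun y => ex (num y))
    refine ⟨k, fun a ha x => ?_⟩
    have hkill : ∀ y : LocalizedModule P.primeCompl K, a • y = 0 := by
      intro y
      have hy : y ∈ Submodule.span (Localization.AtPrime P) (s : Set _) := by rw [hs]; trivial
      induction hy using Submodule.span_induction with
      | mem y hy =>
        rw [hnd y, LocalizedModule.smul'_mk]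
        rw [hex (num y) a (Ideal.pow_le_pow_right (Finset.le_sup (f := fun y => ex (num y)) hy) ha)]
        exact LocalizedModule.zero_mk _
      | zero => rw [smul_zero]
      | add y z _ _ hy hz => rw [smul_add, hy, hz, add_zero]
      | smul c y _ hy => rw [smul_comm, hy, smul_zero]
    have h1 := hkill (LocalizedModule.mk x 1)
    rw [LocalizedModule.smul'_mk, ← LocalizedModule.zero_mk 1, LocalizedModule.mk_eq] at h1
    obtain ⟨c, hc⟩ := h1
    rw [one_smul, one_smul, smul_zero] at hc
    exact ⟨c.1, c.2, hc⟩
  choose! kk hkk using hlocann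
  refine ⟨hAss.toFinset.sup kk, fun a ha x => ?_⟩
  by_contra hne
  obtain ⟨P, hP, hle⟩ := exists_le_isAssociatedPrime_of_isNoetherianRing R (a • x) hne
  have hPA : P ∈ associatedPrimes R K := hP
  obtain ⟨s, hsP, hs⟩ := hkk P hPA a
    (Ideal.pow_le_pow_right (Finset.le_sup (f := kk) (hAss.mem_toFinset.2 hPA)) ha) x
  apply hsP
  apply hle
  rw [Submodule.mem_colon_singleton, Submodule.mem_bot]
  exact hs

/-- zero locus version of power torsion. -/
theorem TTors.exists_pow [IsNoetherianRing R] {I : Ideal R} {K : Type u} [AddCommGroup K]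
    [Module R K] (hK : TTors (PrimeSpectrum.zeroLocus (I : Set R)) K) (x : K) :
    ∃ n : ℕ, ∀ a ∈ I ^ n, a • x = 0 := by
  have h1 := hK x
  rw [PrimeSpectrum.zeroLocus_subset_zeroLocus_iff] at h1
  obtain ⟨n, hn⟩ := Ideal.exists_pow_le_of_le_radical_of_fg h1
    ((isNoetherianRing_iff_ideal_fg R).1 inferInstance I)
  exact ⟨n, fun a ha => hn ha⟩

theorem ttors_of_pow {I : Ideal R} {K : Type u} [AddCommGroup K]
    [Module R K] (hK : ∀ x : K, ∃ n : ℕ, ∀ a ∈ I ^ n, a • x = 0) :
    TTors (PrimeSpectrum.zeroLocus (I : Set R)) K := by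
  intro x p hp
  obtain ⟨n, hn⟩ := hK x
  exact p.isPrime.le_of_pow_le (n := n) (fun a ha => hp (hn a ha))

/-- Faltings' local-global principle for finiteness. -/
theorem LCAx.finite_iff_locally [IsNoetherianRing R] {I : Ideal R}
    (h : LCAx (PrimeSpectrum.zeroLocus (I : Set R)) H)
    (htors : ∀ (M : ModuleCat.{u} R) (i : ℕ),
      TTors (PrimeSpectrum.zeroLocus (I : Set R)) ((H i).obj M))
    (n : ℕ) (M : ModuleCat.{u} R) [Module.Finite R M] :
    (∀ i : ℕ, i ≤ n → Module.Finite R ((H i).obj M)) ↔
    ∀ (p : Ideal R) [p.IsPrime], ∀ i : ℕ, i ≤ n →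
      Module.Finite (Localization.AtPrime p) (LocalizedModule p.primeCompl ((H i).obj M)) := by
  constructor
  · intro hfin p _ i hi
    have := hfin i hi
    exact Module.Finite.of_isLocalizedModule p.primeCompl
      (LocalizedModule.mkLinearMap p.primeCompl ((H i).obj M))
  · intro hloc i
    induction i using Nat.strong_induction_on with
    | _ i ih =>
      intro hi
      have hlow : ∀ j : ℕ, j < i → Module.Finite R ((H j).obj M) := fun j hj => ih j hj (by omega)
      have hJ := h.torsion_finite i M I (by rfl) hlow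
      obtain ⟨k, hk⟩ := exists_pow_annihilates I ((H i).obj M)
        (fun x => (htors M i).exists_pow x) hJ (fun p _ => hloc p i hi)
      -- annihilate also lower ones
      have hlowann : ∃ J : Ideal R, PrimeSpectrum.zeroLocus (J : Set R) ⊆
          PrimeSpectrum.zeroLocus (I : Set R) ∧
          ∀ j : ℕ, j < i → ∀ a ∈ J, ∀ x : (H j).obj M, a • x = 0 := by
        obtain _ | i := i
        · exact ⟨⊤, by simp, fun j hj => absurd hj (Nat.not_lt_zero j)⟩
        · obtain ⟨J, hJ, hJ'⟩ := LCAx.annihilated_of_finite htors i M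
            (fun j hj => hlow j (by omega))
          exact ⟨J, hJ, fun j hj => hJ' j (by omega)⟩
      obtain ⟨J, hJ0, hJ1⟩ := hlowann
      refine h.finite_of_annihilated i M (J * I ^ k) ?_ ?_ i le_rfl
      · intro p hp
        rcases (Ideal.IsPrime.mul_le p.isPrime).1 hp with h1 | h1
        · exact hJ0 h1
        · exact p.isPrime.le_of_pow_le h1
      · intro j hj a ha x
        rcases hj.lt_or_eq with h1 | rfl
        · exact hJ1 j h1 a ((Ideal.mul_le_left : J * I ^ k ≤ J) ha) x
        · exact hk a ((Ideal.mul_le_right : J * I ^ k ≤ I ^ k) ha) x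

/-- finiteness for R^r from finiteness for R. -/
theorem LCAx.finite_pi (h : LCAx T H) [IsNoetherianRing R] (i : ℕ)
    (hR : Module.Finite R ((H i).obj (ModuleCat.of R R))) (r : ℕ) :
    Module.Finite R ((H i).obj (ModuleCat.of R (Fin r → R))) := by
  induction r with
  | zero =>
    have ht : TTors T (Fin 0 → R) := by
      intro x p hp
      exfalso
      have : (1 : R) ∈ p.asIdeal := hp (by
        change (1 : R) • x = 0
        exact Subsingleton.elim _ _)
      exact p.isPrime.one_notMem this
    obtain _ | i := i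
    · exact h.finite_zero _
    · have := h.vanish (ModuleCat.of R (Fin 0 → R)) ht (i + 1) (Nat.succ_pos _)
      infer_instance
  | succ r ih =>
    -- 0 → R → R^{r+1} → R^r → 0
    let f : R →ₗ[R] (Fin (r + 1) → R) := LinearMap.single R (fun _ => R) 0
    let g : (Fin (r + 1) → R) →ₗ[R] (Fin r → R) := LinearMap.funLeft R R Fin.succ
    have hfg : Function.Exact f g := by
      intro x
      constructor
      · intro hx
        refine ⟨x 0, ?_⟩
        ext j
        refine Fin.cases ?_ (fun j => ?_) j
        · simp [f]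
        · have := congrFun hx j
          simp only [g, LinearMap.funLeft_apply, Pi.zero_apply] at this
          simp [f, this]
      · rintro ⟨y, rfl⟩
        ext j
        simp [f, g, LinearMap.funLeft_apply]
    have hS : (ModuleCat.shortComplexOfCompEqZero f g hfg.linearMap_comp_eq_zero).ShortExact :=
      { exact := ModuleCat.shortComplex_exact _ hfg
        mono_f := by
          rw [ModuleCat.mono_iff_injective]
          change Function.Injective (f : R → (Fin (r + 1) → R))
          exact Pi.single_injective (M := fun _ : Fin (r + 1) => R) 0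
        epi_g := by
          rw [ModuleCat.epi_iff_surjective]
          exact LinearMap.funLeft_surjective_of_injective R R _ (Fin.succ_injective r) }
    have hex := h.exact₂ _ hS i
    set α : (H i).obj (ModuleCat.of R R) →ₗ[R] (H i).obj (ModuleCat.of R (Fin (r + 1) → R)) :=
      ((H i).map (ModuleCat.shortComplexOfCompEqZero f g hfg.linearMap_comp_eq_zero).f).hom
    set β : (H i).obj (ModuleCat.of R (Fin (r + 1) → R)) →ₗ[R]
      (H i).obj (ModuleCat.of R (Fin r → R)) :=
      ((H i).map (ModuleCat.shortComplexOfCompEqZero f g hfg.linearMap_comp_eq_zero).g).hom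
    have hk : (LinearMap.ker β).FG := by
      have : LinearMap.ker β = LinearMap.range α := by
        ext y
        exact hex y
      rw [this, LinearMap.range_eq_map]
      exact hR.1.map α
    have hr : (LinearMap.range β).FG := IsNoetherian.noetherian _
    refine ⟨Submodule.fg_of_fg_map_of_fg_inf_ker β ?_ ?_⟩
    · rwa [Submodule.map_top]
    · rwa [top_inf_eq]

/-- If M_f is projective, then some power of f factors through a free module. -/
theorem exists_factor [IsNoetherianRing R] (M : Type u) [AddCommGroup M] [Module R M]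
    [Module.Finite R M] (f : R)
    (hM : Module.Projective (Localization.Away f) (LocalizedModule (Submonoid.powers f) M)) :
    ∃ (r k : ℕ) (a : M →ₗ[R] (Fin r → R)) (b : (Fin r → R) →ₗ[R] M),
      ∀ x : M, b (a x) = f ^ k • x := by
  obtain ⟨r, b, hb⟩ := Module.Finite.exists_fin' R M
  -- section over the localization
  let S := Submonoid.powers f
  let bf : LocalizedModule S (Fin r → R) →ₗ[Localization S] LocalizedModule S M :=
    IsLocalizedModule.mapExtendScalars S (LocalizedModule.mkLinearMap S (Fin r → R))
      (LocalizedModule.mkLinearMap S M) (Localization S) b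
  have hbf : Function.Surjective bf := by
    have := IsLocalizedModule.map_surjective S (LocalizedModule.mkLinearMap S (Fin r → R))
      (LocalizedModule.mkLinearMap S M) b hb
    exact this
  have hM' : Module.Projective (Localization S) (LocalizedModule S M) := hM
  obtain ⟨σ, hσ⟩ := Module.projective_lifting_property bf LinearMap.id hbf
  have hfp : Module.FinitePresentation R M := Module.finitePresentation_of_finite R M
  obtain ⟨a, s, has⟩ := Module.FinitePresentation.exists_lift_of_isLocalizedModule S
    (LocalizedModule.mkLinearMap S (Fin r → R))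
    ((σ.restrictScalars R) ∘ₗ LocalizedModule.mkLinearMap S M)
  have hcomp : (LocalizedModule.mkLinearMap S M).comp (b ∘ₗ a) =
      (LocalizedModule.mkLinearMap S M).comp ((s : R) • (LinearMap.id : M →ₗ[R] M)) := by
    ext x
    have h1 : (LocalizedModule.mkLinearMap S M) (b (a x)) =
        bf (LocalizedModule.mkLinearMap S (Fin r → R) (a x)) := by
      exact (IsLocalizedModule.map_apply S (LocalizedModule.mkLinearMap S (Fin r → R))
        (LocalizedModule.mkLinearMap S M) b (a x)).symm
    have h2 : LocalizedModule.mkLinearMap S (Fin r → R) (a x) =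
        (s : R) • σ (LocalizedModule.mkLinearMap S M x) := LinearMap.congr_fun has x
    have h3 : bf (σ (LocalizedModule.mkLinearMap S M x)) = LocalizedModule.mkLinearMap S M x :=
      LinearMap.congr_fun hσ _
    have h4 : bf ((s : R) • σ (LocalizedModule.mkLinearMap S M x)) =
        (s : R) • bf (σ (LocalizedModule.mkLinearMap S M x)) :=
      (bf.restrictScalars R).map_smul (s : R) _
    rw [LinearMap.comp_apply, LinearMap.comp_apply, LinearMap.comp_apply, h1, h2, h4, h3,
      LinearMap.smul_apply, LinearMap.id_apply, _root_.map_smul]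
  obtain ⟨s', hs'⟩ := Module.Finite.exists_smul_of_comp_eq_of_isLocalizedModule S
    (LocalizedModule.mkLinearMap S M) _ _ hcomp
  obtain ⟨j, hj⟩ := s.2
  obtain ⟨l, hl⟩ := s'.2
  refine ⟨r, l + j, (s' : R) • a, b, fun x => ?_⟩
  have h5 := LinearMap.congr_fun hs' x
  have h6 : (s' : R) • b (a x) = (s' : R) • (s : R) • x := h5
  rw [LinearMap.smul_apply, _root_.map_smul, h6, ← hj, ← hl, pow_add, mul_smul]

/-- Finiteness of H^i(M) for M locally projective off V(I). -/
theorem LCAx.finite_of_locally_projective [IsNoetherianRing R] (h : LCAx T H)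
    (htors : ∀ (M : ModuleCat.{u} R) (i : ℕ), TTors T ((H i).obj M)) (n : ℕ)
    (hR : ∀ i : ℕ, i ≤ n → Module.Finite R ((H i).obj (ModuleCat.of R R)))
    (M : ModuleCat.{u} R) [Module.Finite R M] (I : Ideal R)
    (hI : PrimeSpectrum.zeroLocus (I : Set R) ⊆ T)
    (hM : ∀ f ∈ I, Module.Projective (Localization.Away f)
      (LocalizedModule (Submonoid.powers f) M)) (i : ℕ) (hi : i ≤ n) :
    Module.Finite R ((H i).obj M) := by
  refine h.finite_of_annihilated n M
    ((Finset.range (n + 1)).inf (fun i => Module.annihilator R ((H i).obj M))) ?_ ?_ i hi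
  · intro p hp
    obtain ⟨i, hi, hip⟩ := (Ideal.IsPrime.inf_le' p.isPrime).1 hp
    rw [Finset.mem_range] at hi
    by_cases hIp : I ≤ p.asIdeal
    · exact hI hIp
    · obtain ⟨f, hf, hfp⟩ := SetLike.not_le_iff_exists.mp hIp
      obtain ⟨r, k, a, b, hab⟩ := exists_factor M f (hM f hf)
      have hfin := h.finite_pi i (hR i (by omega)) r
      refine zeroLocus_annihilator _ (htors (ModuleCat.of R (Fin r → R)) i) ?_
      intro c hc
      rw [SetLike.mem_coe, Module.mem_annihilator] at hc
      have hmem : f ^ k * c ∈ Module.annihilator R ((H i).obj M) := by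
        rw [Module.mem_annihilator]
        intro x
        have hcomp : (ModuleCat.ofHom a : M ⟶ ModuleCat.of R (Fin r → R)) ≫ ModuleCat.ofHom b =
            (f ^ k) • 𝟙 M := by
          ext x
          exact hab x
        have h1 : ((H i).map (ModuleCat.ofHom b)).hom
            (((H i).map (ModuleCat.ofHom a : M ⟶ ModuleCat.of R (Fin r → R))).hom (c • x)) =
            f ^ k • c • x := by
          rw [← h.map_smul' i M (f ^ k), ← hcomp, Functor.map_comp]
          rfl
        rw [mul_smul, ← h1, _root_.map_smul, hc, map_zero]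
      exact (p.isPrime.mem_or_mem (hip hmem)).resolve_left (fun h' => hfp
        (p.isPrime.mem_of_pow_mem k h'))
  · intro i hi a ha x
    have h1 : (Finset.range (n + 1)).inf (fun i => Module.annihilator R ((H i).obj M)) ≤
        Module.annihilator R ((H i).obj M) := Finset.inf_le (Finset.mem_range.2 (by omega))
    exact Module.mem_annihilator.1 (h1 ha) x

end Groth.Agent.Localalg.FaltAbs
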