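import Mathlib.Algebra.Category.ModuleCat.ChangeOfRings
import Mathlib.RingTheory.LocalRing.Module

/-!
Elementary interface to `ModuleCat.extendScalars f` (with values in terms of elements).
-/

set_option autoImplicit false
universe u v

open CategoryTheory ModuleCat TensorProduct
open scoped ChangeOfRings

namespace Groth.Agent.Localalg.Frob

variable {R S : Type u} [CommRing R] [CommRing S] (f : R →+* S)

/-- The semilinear map `M → S ⊗ M`. -/
noncomputable def unit (M : ModuleCat.{u} R) : M →+ ((extendScalars.{u, u, u} f).obj M) where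
  toFun m := ((1 : S) ⊗ₜ[R,f] m)
  map_zero' := by
    exact TensorProduct.tmul_zero _ _
  map_add' a b := by
    exact TensorProduct.tmul_add _ _ _

theorem unit_smul (M : ModuleCat.{u} R) (r : R) (m : M) :
    unit f M (r • m) = f r • unit f M m := by
  have := (ModuleCat.ExtendRestrictScalarsAdj.HomEquiv.toRestrictScalars f
    (𝟙 ((extendScalars.{u, u, u} f).obj M))).hom.map_smul r m
  exact this

/-- pure tensors -/
noncomputable def tm (M : ModuleCat.{u} R) (s : S) (m : M) : (extendScalars.{u, u, u} f).obj M :=
  (s ⊗ₜ[R,f] m)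

theorem tm_eq (M : ModuleCat.{u} R) (s : S) (m : M) : tm f M s m = s • unit f M m := by
  have : s • unit f M m = tm f M (s * 1) m := rfl
  rw [this, mul_one]

theorem span_range_unit (M : ModuleCat.{u} R) :
    Submodule.span S (Set.range (unit f M)) = ⊤ := by
  rw [eq_top_iff]
  rintro x -
  induction x using TensorProduct.induction_on with
  | zero => exact Submodule.zero_mem _
  | tmul s m =>
    have h : ∀ s : S, tm f M s m ∈ Submodule.span S (Set.range (unit f M)) := by
      intro s
      rw [tm_eq]
      exact Submodule.smul_mem _ _ (Submodule.subset_span ⟨m, rfl⟩)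
    exact h s
  | add x y hx hy => exact Submodule.add_mem _ hx hy

/-- Universal property of `extendScalars`. -/
theorem exists_lift (M : ModuleCat.{u} R) (N : Type u) [AddCommGroup N] [Module S N] (g : M →+ N)
    (hg : ∀ (r : R) (m : M), g (r • m) = f r • g m) :
    ∃ G : ((extendScalars.{u, u, u} f).obj M) →ₗ[S] N, ∀ m : M, G (unit f M m) = g m := by
  let g' : M ⟶ (restrictScalars f).obj (ModuleCat.of S N) :=
    ofHom (Y := (restrictScalars f).obj (ModuleCat.of S N))
      { toFun := g, map_add' := map_add g, map_smul' := fun r m => hg r m }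
  refine ⟨(ModuleCat.ExtendRestrictScalarsAdj.HomEquiv.fromExtendScalars f g').hom, ?_⟩
  intro m
  have h2 : (ModuleCat.ExtendRestrictScalarsAdj.HomEquiv.fromExtendScalars f g').hom
      (unit f M m) = (1 : S) • g m := by
    change (ModuleCat.ExtendRestrictScalarsAdj.HomEquiv.fromExtendScalars f g').hom
      ((1 : S) ⊗ₜ[R,f] m) = _
    rfl
  rw [h2, one_smul]

end Groth.Agent.Localalg.Frob
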