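import Groth.Agent.Localalg.Frob
import Mathlib.RingTheory.Flat.Basic
import Mathlib.RingTheory.RingHom.Flat
import Mathlib.Algebra.Module.Torsion.Basic
import Mathlib.LinearAlgebra.TensorProduct.Pi

/-!
Flat base change and `I`-torsion.
-/

set_option autoImplicit false
universe u v

open TensorProduct CategoryTheory

namespace Groth.Agent.Localalg.Frob

section Algebra

variable {R : Type*} {S : Type*} [CommRing R] [CommRing S] [Algebra R S]
  {M : Type*} [AddCommGroup M] [Module R M]

/-- Flat base change: elements of `S ⊗ M` killed by `I` come from `S ⊗ M[I]`. -/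
theorem mem_range_lTensor_torsion [Module.Flat R S] (I : Ideal R) (hI : I.FG) (y : S ⊗[R] M)
    (h : ∀ a ∈ I, a • y = 0) :
    y ∈ LinearMap.range ((Submodule.torsionBySet R M (I : Set R)).subtype.lTensor S) := by
  classical
  obtain ⟨s, hs⟩ := hI
  let g : M →ₗ[R] (s → M) := LinearMap.pi (fun a => LinearMap.lsmul R M a.1)
  have hex : Function.Exact (Submodule.torsionBySet R M (I : Set R)).subtype g := by
    intro m
    constructor
    · intro hm
      refine ⟨⟨m, ?_⟩, rfl⟩
      rw [← hs]
      rw [← Submodule.torsionBySet_eq_torsionBySet_span]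
      rw [Submodule.mem_torsionBySet_iff]
      intro a
      exact congrFun hm a
    · rintro ⟨⟨m, hm⟩, rfl⟩
      funext a
      rw [Submodule.mem_torsionBySet_iff] at hm
      exact hm ⟨a.1, by rw [← hs]; exact Submodule.subset_span a.2⟩
  have hex' := Module.Flat.lTensor_exact S hex
  refine (hex' y).mp ?_
  apply (TensorProduct.piRight R R S (fun _ : s => M)).injective
  rw [map_zero]
  funext a
  have key : ∀ z : S ⊗[R] M, TensorProduct.piRight R R S (fun _ : s => M) (g.lTensor S z) a =
      (a : R) • z := by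
    intro z
    induction z using TensorProduct.induction_on with
    | zero => simp
    | tmul x m =>
      rw [LinearMap.lTensor_tmul, TensorProduct.piRight_apply, TensorProduct.piRightHom_tmul]
      change x ⊗ₜ[R] ((a : R) • m) = _
      rw [TensorProduct.tmul_smul]
    | add x y hx hy => rw [map_add, map_add, Pi.add_apply, hx, hy, smul_add]
  rw [key]
  exact h _ (by rw [← hs]; exact Submodule.subset_span a.2)

theorem mem_span_of_torsion [Module.Flat R S] (I : Ideal R) (hI : I.FG) {ι : Type*} (c : ι → M)
    (hc : ∀ y : M, (∀ a ∈ I, a • y = 0) → y ∈ Submodule.span R (Set.range c))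
    (y : S ⊗[R] M) (h : ∀ a ∈ I, a • y = 0) :
    y ∈ Submodule.span S (Set.range (fun i => (1 : S) ⊗ₜ[R] c i)) := by
  obtain ⟨z, rfl⟩ := mem_range_lTensor_torsion I hI y h
  clear h
  induction z using TensorProduct.induction_on with
  | zero => rw [map_zero]; exact zero_mem _
  | add x y hx hy => rw [map_add]; exact add_mem hx hy
  | tmul x m =>
    obtain ⟨m, hm⟩ := m
    rw [LinearMap.lTensor_tmul]
    change x ⊗ₜ[R] m ∈ _
    have h1 := hc m (fun a ha => (Submodule.mem_torsionBySet_iff _ _).mp hm ⟨a, ha⟩)
    clear hm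
    induction h1 using Submodule.span_induction with
    | mem m hm =>
      obtain ⟨i, rfl⟩ := hm
      have : x ⊗ₜ[R] c i = x • ((1 : S) ⊗ₜ[R] c i) := by
        rw [TensorProduct.smul_tmul', smul_eq_mul, mul_one]
      rw [this]
      exact Submodule.smul_mem _ _ (Submodule.subset_span ⟨i, rfl⟩)
    | zero => rw [TensorProduct.tmul_zero]; exact zero_mem _
    | add a b _ _ ha hb => rw [TensorProduct.tmul_add]; exact add_mem ha hb
    | smul r a _ ha =>
      rw [TensorProduct.tmul_smul, ← algebraMap_smul S r]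
      exact Submodule.smul_mem _ _ ha

theorem mem_map_of_sum_eq_zero [Module.Flat R S] (I : Ideal R) {ι : Type*} (c : ι → M)
    (hc : ∀ r : ι →₀ R, r.sum (fun i a => a • c i) = 0 → ∀ i, r i ∈ I)
    (r : ι →₀ S) (h : r.sum (fun i a => a ⊗ₜ[R] c i) = 0) (i : ι) :
    r i ∈ I.map (algebraMap R S) := by
  classical
  let L : (ι →₀ R) →ₗ[R] M := Finsupp.linearCombination R c
  have hex : Function.Exact (LinearMap.ker L).subtype L := LinearMap.exact_subtype_ker_map L
  have hex' := Module.Flat.lTensor_exact (R := R) S (N := LinearMap.ker L) (N' := ι →₀ R) (N'' := M)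
    (f := (LinearMap.ker L).subtype) (g := L) hex
  let z : S ⊗[R] (ι →₀ R) := r.sum (fun i a => a ⊗ₜ[R] Finsupp.single i (1 : R))
  have hz : L.lTensor S z = 0 := by
    rw [← h]
    change L.lTensor S (r.sum _) = _
    rw [Finsupp.sum, map_sum, Finsupp.sum]
    refine Finset.sum_congr rfl fun j _ => ?_
    rw [LinearMap.lTensor_tmul]
    simp [L]
  obtain ⟨w, hw⟩ := (hex' z).mp hz
  let π : S ⊗[R] (ι →₀ R) →ₗ[R] S :=
    (TensorProduct.rid R S).toLinearMap ∘ₗ ((Finsupp.lapply i).lTensor S)
  have hπz : π z = r i := by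
    change π (r.sum _) = _
    rw [Finsupp.sum, map_sum]
    have : ∀ j, π (r j ⊗ₜ[R] Finsupp.single j (1 : R)) = if j = i then r j else 0 := by
      intro j
      by_cases hij : j = i
      · subst hij; simp [π]
      · simp [π, hij]
    rw [Finset.sum_congr rfl (fun j _ => this j), Finset.sum_ite_eq']
    by_cases hi : i ∈ r.support
    · rw [if_pos hi]
    · rw [if_neg hi, Finsupp.notMem_support_iff.mp hi]
  rw [← hπz, ← hw]
  clear hw
  induction w using TensorProduct.induction_on with
  | zero => rw [map_zero, map_zero]; exact zero_mem _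
  | add x y hx hy => rw [map_add, map_add]; exact add_mem hx hy
  | tmul s k =>
    obtain ⟨k, hk⟩ := k
    have h1 : k i ∈ I := hc k (by
      rw [LinearMap.mem_ker] at hk
      rw [← hk]; rfl) i
    have h2 : π ((LinearMap.ker L).subtype.lTensor S (s ⊗ₜ ⟨k, hk⟩)) =
        algebraMap R S (k i) * s := by
      simp [π, Algebra.smul_def]
    rw [h2]
    exact Ideal.mul_mem_right _ _ (Ideal.mem_map_of_mem _ h1)

end Algebra

section Bridge

variable {R S : Type u} [CommRing R] [CommRing S] (f : R →+* S)

/-- `extendScalars` versus tensor product. -/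
theorem exists_equiv_tensor (M : Type u) [AddCommGroup M] [Module R M] :
    letI := f.toAlgebra
    ∃ e : (ModuleCat.extendScalars.{u, u, u} f).obj (ModuleCat.of R M) ≃ₗ[S] S ⊗[R] M,
      ∀ m : M, e (unit f (ModuleCat.of R M) m) = (1 : S) ⊗ₜ[R] m := by
  let := f.toAlgebra
  exact ⟨LinearEquiv.refl _ _, fun m => rfl⟩

variable {M N : Type u} [AddCommGroup M] [Module R M] [AddCommGroup N] [Module S N]
  (e : (ModuleCat.extendScalars.{u, u, u} f).obj (ModuleCat.of R M) ≃ₗ[S] N)

/-- The semilinear map associated with an isomorphism `f^* M ≅ N`. -/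
noncomputable def semi : M →+ N where
  toFun m := e (unit f (ModuleCat.of R M) m)
  map_zero' := by rw [map_zero, map_zero]
  map_add' a b := by
    have : unit f (ModuleCat.of R M) (a + b) = unit f (ModuleCat.of R M) a +
      unit f (ModuleCat.of R M) b := map_add _ _ _
    rw [this, map_add]

theorem semi_smul (r : R) (m : M) : semi f e (r • m) = f r • semi f e m := by
  change e (unit f (ModuleCat.of R M) (r • m)) = _
  have : unit f (ModuleCat.of R M) (r • m) = f r • unit f (ModuleCat.of R M) m :=
    unit_smul f (ModuleCat.of R M) r m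
  rw [this, map_smul]
  rfl

/-- Flat pullback: generators of the `I`-torsion give generators of the `f(I)`-torsion. -/
theorem mem_span_semi (hf : f.Flat) (I : Ideal R) (hI : I.FG) {ι : Type*} (c : ι → M)
    (hc : ∀ y : M, (∀ a ∈ I, a • y = 0) → y ∈ Submodule.span R (Set.range c))
    (y : N) (h : ∀ a ∈ I.map f, a • y = 0) :
    y ∈ Submodule.span S (Set.range (fun i => semi f e (c i))) := by
  obtain ⟨e', he'⟩ := exists_equiv_tensor f M
  let := f.toAlgebra
  have : Module.Flat R S := hf
  have h1 := mem_span_of_torsion (S := S) I hI c hc (e' (e.symm y)) (by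
    intro a ha
    rw [← algebraMap_smul S a, ← map_smul, ← map_smul]
    have : (algebraMap R S a) • y = 0 := h _ (Ideal.mem_map_of_mem f ha)
    rw [this, map_zero, map_zero])
  let E : S ⊗[R] M ≃ₗ[S] N := e'.symm.trans e
  have h2 : E.toLinearMap (e' (e.symm y)) ∈ Submodule.map E.toLinearMap
    (Submodule.span S (Set.range (fun i => (1 : S) ⊗ₜ[R] c i))) := Submodule.mem_map_of_mem h1
  rw [Submodule.map_span, ← Set.range_comp] at h2
  have h3 : E.toLinearMap (e' (e.symm y)) = y := by simp [E]
  have h4 : (E.toLinearMap ∘ fun i => (1 : S) ⊗ₜ[R] c i) = fun i => semi f e (c i) := by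
    funext i
    change e (e'.symm ((1 : S) ⊗ₜ[R] c i)) = e (unit f (ModuleCat.of R M) (c i))
    rw [← he', LinearEquiv.symm_apply_apply]
  rw [h3, h4] at h2
  exact h2

/-- Flat pullback: relations among `semi (c i)`. -/
theorem mem_map_of_sum_semi (hf : f.Flat) (I : Ideal R) {ι : Type*} (c : ι → M)
    (hc : ∀ r : ι →₀ R, r.sum (fun i a => a • c i) = 0 → ∀ i, r i ∈ I)
    (r : ι →₀ S) (h : r.sum (fun i a => a • semi f e (c i)) = 0) (i : ι) :
    r i ∈ I.map f := by
  obtain ⟨e', he'⟩ := exists_equiv_tensor f M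
  let := f.toAlgebra
  have : Module.Flat R S := hf
  refine mem_map_of_sum_eq_zero (S := S) I c hc r ?_ i
  have h1 := congrArg (fun x => e' (e.symm x)) h
  simp only [map_zero] at h1
  rw [← h1, Finsupp.sum, Finsupp.sum, map_sum, map_sum]
  refine Finset.sum_congr rfl fun j _ => ?_
  rw [map_smul, map_smul]
  change _ = r j • e' (e.symm (e (unit f (ModuleCat.of R M) (c j))))
  rw [LinearEquiv.symm_apply_apply, he', TensorProduct.smul_tmul', smul_eq_mul, mul_one]

end Bridge

end Groth.Agent.Localalg.Frob
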