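import Groth.Agent.Localalg.ExtRestrict
import Groth.Agent.Localalg.ExtFlat
import Groth.Agent.Localalg.GorSocle
import Mathlib.RingTheory.TensorProduct.Quotient
import Mathlib.RingTheory.Flat.Localization

/-!
# Flat local homomorphisms over a self-injective base
-/

set_option autoImplicit false
set_option linter.unusedVariables false
set_option linter.unusedSectionVars false
universe u

open CategoryTheory Abelian Limits TensorProduct

namespace Groth.Agent.Localalg.GorFlat

section Torsion

variable {B : Type u} [CommRing B] (J : Ideal B) (M : Type u) [AddCommGroup M] [Module B M]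

/-- `Hom_B(B/J, M) = M[J]`. -/
noncomputable def homEquivTorsion :
    ((B ⧸ J) →ₗ[B] M) ≃ₗ[B] Submodule.torsionBySet B M (J : Set B) where
  toFun f := ⟨f 1, by
    rw [Submodule.mem_torsionBySet_iff]
    rintro ⟨a, ha⟩
    change a • f 1 = 0
    rw [← map_smul]
    have : a • (1 : B ⧸ J) = 0 := by
      rw [Algebra.smul_def, mul_one]
      exact Ideal.Quotient.eq_zero_iff_mem.2 ha
    rw [this, map_zero]⟩
  map_add' f g := rfl
  map_smul' a f := rfl
  invFun t := Submodule.liftQ J (LinearMap.toSpanSingleton B M t.1) (fun a ha ↦ by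
    rw [LinearMap.mem_ker, LinearMap.toSpanSingleton_apply]
    exact (Submodule.mem_torsionBySet_iff _ _).1 t.2 ⟨a, ha⟩)
  left_inv f := by
    refine LinearMap.ext fun x ↦ ?_
    obtain ⟨x, rfl⟩ := Submodule.Quotient.mk_surjective _ x
    rw [Submodule.liftQ_apply, LinearMap.toSpanSingleton_apply]
    change x • f 1 = _
    rw [← map_smul]
    congr 1
    rw [Algebra.smul_def, mul_one]
    rfl
  right_inv t := by
    apply Subtype.ext
    change Submodule.liftQ J (LinearMap.toSpanSingleton B M t.1) _ (Submodule.Quotient.mk 1) = t.1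
    rw [Submodule.liftQ_apply, LinearMap.toSpanSingleton_apply, one_smul]

/-- The inclusion of the torsion. -/
noncomputable def torsionHom :
    (ModuleCat.restrictScalars (Ideal.Quotient.mk J)).obj
      (ModuleCat.of (B ⧸ J) (Submodule.torsionBySet B M (J : Set B))) ⟶ ModuleCat.of B M :=
  ModuleCat.ofHom (X := (ModuleCat.restrictScalars (Ideal.Quotient.mk J)).obj
      (ModuleCat.of (B ⧸ J) (Submodule.torsionBySet B M (J : Set B)))) (Y := M)
    { toFun := fun x ↦ (show Submodule.torsionBySet B M (J : Set B) from x).1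
      map_add' := fun x y ↦ rfl
      map_smul' := fun a x ↦ rfl }

lemma cmp_torsionHom_bijective (N : ModuleCat.{u} (B ⧸ J)) :
    Function.Bijective (ExtRestrict.cmp (Ideal.Quotient.mk J) (Ext.mk₀ (torsionHom J M)) N 0) := by
  constructor
  · rw [injective_iff_map_eq_zero]
    intro x hx
    obtain ⟨x, rfl⟩ := (Ext.mk₀_bijective _ _).2 x
    rw [ExtRestrict.cmp_apply, Ext.mapExactFunctor_mk₀, Ext.mk₀_comp_mk₀, Ext.mk₀_eq_zero_iff] at hx
    rw [Ext.mk₀_eq_zero_iff]
    ext z
    exact congr_arg (fun g ↦ g.hom z) hx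
  · intro y
    obtain ⟨y, rfl⟩ := (Ext.mk₀_bijective _ _).2 y
    let g : N ⟶ ModuleCat.of (B ⧸ J) (Submodule.torsionBySet B M (J : Set B)) :=
      ModuleCat.ofHom
        { toFun := fun x ↦ ⟨y.hom x, by
            rw [Submodule.mem_torsionBySet_iff]
            rintro ⟨a, ha⟩
            change a • y.hom x = 0
            rw [← map_smul]
            have : a • (show ((ModuleCat.restrictScalars (Ideal.Quotient.mk J)).obj N) from x) = 0 := by
              change (Ideal.Quotient.mk J a) • x = 0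
              rw [Ideal.Quotient.eq_zero_iff_mem.2 ha, zero_smul]
            exact (congr_arg y.hom this).trans (map_zero _)⟩
          map_add' := fun x x' ↦ Subtype.ext (map_add y.hom x x')
          map_smul' := fun a x ↦ by
            obtain ⟨a, rfl⟩ := Ideal.Quotient.mk_surjective a
            exact Subtype.ext (y.hom.map_smul a
              (show ((ModuleCat.restrictScalars (Ideal.Quotient.mk J)).obj N) from x)) }
    refine ⟨Ext.mk₀ g, ?_⟩
    rw [ExtRestrict.cmp_apply, Ext.mapExactFunctor_mk₀, Ext.mk₀_comp_mk₀]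
    rfl

/-- If `Ext_B^j(B/J, M) = 0` for `j > 0` then `Ext_{B/J}^i(N, M[J]) = Ext_B^i(N, M)` for finite `N`. -/
theorem cmp_torsion_bijective [IsNoetherianRing B]
    (h : ∀ j : ℕ, Subsingleton (Ext (ModuleCat.of B (B ⧸ J)) (ModuleCat.of B M) (j + 1)))
    (i : ℕ) (N : ModuleCat.{u} (B ⧸ J)) [Module.Finite (B ⧸ J) N] :
    Function.Bijective (ExtRestrict.cmp (Ideal.Quotient.mk J) (Ext.mk₀ (torsionHom J M)) N i) := by
  refine ExtRestrict.cmp_bijective _ (fun N _ ↦ cmp_torsionHom_bijective J M N) ?_ i N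
  intro P _ _ _ _ i
  refine ExtRestrict.subsingleton_ext_free _ _ ?_ P
  exact h i

end Torsion

section Base

variable (A B : Type u) [CommRing A] [IsLocalRing A] [IsNoetherianRing A]
  [CommRing B] [IsLocalRing B] [IsNoetherianRing B] [Algebra A B]

/-- `B ⊗ A/m = B/mB`. -/
noncomputable def fibreEquiv : B ⊗[A] (A ⧸ IsLocalRing.maximalIdeal A) ≃ₗ[B]
    (B ⧸ (IsLocalRing.maximalIdeal A).map (algebraMap A B)) :=
  (Algebra.TensorProduct.quotIdealMapEquivTensorQuot B (IsLocalRing.maximalIdeal A)).symm.toLinearEquiv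

variable [Module.Flat A B]

lemma subsingleton_ext_fibre (i : ℕ)
    (h : Subsingleton (Ext (ModuleCat.of A (A ⧸ IsLocalRing.maximalIdeal A)) (ModuleCat.of A A) i)) :
    Subsingleton (Ext (ModuleCat.of B (B ⧸ (IsLocalRing.maximalIdeal A).map (algebraMap A B)))
      (ModuleCat.of B B) i) :=
  InjDim.subsingleton_ext_congr (fibreEquiv A B) (AlgebraTensorModule.rid A B B) i
    (ExtFlat.subsingleton_ext_baseChange B _ _ i h)

lemma exists_homEquiv_fibre
    (h : Nonempty ((A ⧸ IsLocalRing.maximalIdeal A) ≃ₗ[A]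
      ((A ⧸ IsLocalRing.maximalIdeal A) →ₗ[A] A))) :
    Nonempty ((B ⧸ (IsLocalRing.maximalIdeal A).map (algebraMap A B)) ≃ₗ[B]
      ((B ⧸ (IsLocalRing.maximalIdeal A).map (algebraMap A B)) →ₗ[B] B)) := by
  obtain ⟨e⟩ := h
  have : Module.FinitePresentation A (A ⧸ IsLocalRing.maximalIdeal A) :=
    Module.finitePresentation_of_finite A _
  let e1 := (fibreEquiv A B).symm
  let e2 : B ⊗[A] (A ⧸ IsLocalRing.maximalIdeal A) ≃ₗ[B]
    B ⊗[A] ((A ⧸ IsLocalRing.maximalIdeal A) →ₗ[A] A) := e.baseChange A B _ _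
  let e3 := (Module.FinitePresentation.isBaseChange_map A (A ⧸ IsLocalRing.maximalIdeal A) A
    B).equiv
  let e4 : (B ⊗[A] (A ⧸ IsLocalRing.maximalIdeal A) →ₗ[B] B ⊗[A] A) ≃ₗ[B]
    ((B ⧸ (IsLocalRing.maximalIdeal A).map (algebraMap A B)) →ₗ[B] B) :=
    LinearEquiv.arrowCongr (fibreEquiv A B) (AlgebraTensorModule.rid A B B)
  exact ⟨((e1.trans e2).trans e3).trans e4⟩

/-- Over a self-injective base, `Ext_F^i(κ, F) = 0 ↔ Ext_B^i(κ, B) = 0`, where `F` is the fibre. -/
theorem subsingleton_ext_residueField_fibre_iff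
    [IsLocalRing (B ⧸ (IsLocalRing.maximalIdeal A).map (algebraMap A B))]
    (hA : HasInjectiveDimensionLT (ModuleCat.of A A) 1) (i : ℕ) :
    Subsingleton (Ext
      (ModuleCat.of (B ⧸ (IsLocalRing.maximalIdeal A).map (algebraMap A B))
        (IsLocalRing.ResidueField (B ⧸ (IsLocalRing.maximalIdeal A).map (algebraMap A B))))
      (ModuleCat.of (B ⧸ (IsLocalRing.maximalIdeal A).map (algebraMap A B))
        (B ⧸ (IsLocalRing.maximalIdeal A).map (algebraMap A B))) i) ↔
      Subsingleton (Ext (ModuleCat.of B (IsLocalRing.ResidueField B)) (ModuleCat.of B B) i) := by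
  set J := (IsLocalRing.maximalIdeal A).map (algebraMap A B) with hJ
  obtain ⟨e⟩ := exists_homEquiv_fibre A B (GorSocle.exists_linearEquiv_residueField hA)
  let e' : (B ⧸ J) ≃ₗ[B] Submodule.torsionBySet B B (J : Set B) := e.trans (homEquivTorsion J B)
  let e'' : (B ⧸ J) ≃ₗ[B ⧸ J] Submodule.torsionBySet B B (J : Set B) :=
    { e' with
      map_smul' := fun a x ↦ by
        obtain ⟨a, rfl⟩ := Ideal.Quotient.mk_surjective a
        exact e'.map_smul a x }
  have hb := cmp_torsion_bijective J B (fun j ↦ subsingleton_ext_fibre A B (j + 1)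
    (HasInjectiveDimensionLT.subsingleton _ 1 _ (by omega) _)) i
    (ModuleCat.of (B ⧸ J) (IsLocalRing.ResidueField (B ⧸ J)))
  constructor
  · intro h1
    have h2 := InjDim.subsingleton_ext_congr
      (LinearEquiv.refl (B ⧸ J) (IsLocalRing.ResidueField (B ⧸ J))) e'' i h1
    have h3 : Subsingleton (Ext ((ModuleCat.restrictScalars (Ideal.Quotient.mk J)).obj
      (ModuleCat.of (B ⧸ J) (IsLocalRing.ResidueField (B ⧸ J)))) (ModuleCat.of B B) i) :=
      hb.2.subsingleton
    exact ReesLemma.subsingleton_ext_of_iso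
      (ReesLemma.residueFieldIso (φ := Ideal.Quotient.mk J) Ideal.Quotient.mk_surjective).symm h3
  · intro h1
    have h3 : Subsingleton (Ext ((ModuleCat.restrictScalars (Ideal.Quotient.mk J)).obj
      (ModuleCat.of (B ⧸ J) (IsLocalRing.ResidueField (B ⧸ J)))) (ModuleCat.of B B) i) :=
      ReesLemma.subsingleton_ext_of_iso
      (ReesLemma.residueFieldIso (φ := Ideal.Quotient.mk J) Ideal.Quotient.mk_surjective) h1
    have h2 : Subsingleton (Ext (ModuleCat.of (B ⧸ J) (IsLocalRing.ResidueField (B ⧸ J)))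
      (ModuleCat.of (B ⧸ J) (Submodule.torsionBySet B B (J : Set B))) i) :=
      ⟨fun a b ↦ hb.1 (h3.elim _ _)⟩
    exact InjDim.subsingleton_ext_congr
      (LinearEquiv.refl (B ⧸ J) (IsLocalRing.ResidueField (B ⧸ J))) e''.symm i h2

end Base

end Groth.Agent.Localalg.GorFlat
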