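import Mathlib.RingTheory.AdicCompletion.Algebra
import Mathlib.RingTheory.AdicCompletion.Noetherian
import Mathlib.RingTheory.MvPolynomial.Ideal
import Mathlib.RingTheory.MvPolynomial.Homogeneous
import Mathlib.RingTheory.Localization.AtPrime.Basic
import Mathlib.RingTheory.LocalRing.MaximalIdeal.Basic

/-!
# Completion of a ring whose associated graded ring is a domain

`GrDomain I` says that `⨁ I ^ n / I ^ (n + 1)` has no zero divisors, in elementary terms. Then the
`I`-adic completion is a domain. For the quotient of a polynomial ring over a field by a homogeneous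
prime this applies to the vertex of the cone.
-/

set_option autoImplicit false
universe u v

namespace Groth.Agent.Localalg.GrCompl

/-- the associated graded ring of `I` has no zero divisors (on homogeneous elements). -/
def GrDomain {R : Type u} [CommRing R] (I : Ideal R) : Prop :=
  ∀ (n k : ℕ) (a b : R), a ∈ I ^ n → a ∉ I ^ (n + 1) → b ∈ I ^ k → b ∉ I ^ (k + 1) →
    a * b ∉ I ^ (n + k + 1)

section Completion

variable {R : Type u} [CommRing R] {I : Ideal R}

lemma sub_mem_of_cauchy (a : AdicCompletion.AdicCauchySequence I R) {m n : ℕ} (h : m ≤ n) :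
    a.val n - a.val m ∈ I ^ m := by
  have := a.2 h
  rw [SModEq.sub_mem] at this
  have h2 : a.val m - a.val n ∈ I ^ m := by
    simpa using this
  rw [← neg_mem_iff, neg_sub]
  exact h2

lemma exists_order (a : AdicCompletion.AdicCauchySequence I R)
    (h : AdicCompletion.mk I R a ≠ 0) :
    ∃ p : ℕ, ∀ l : ℕ, p + 1 ≤ l → a.val l ∈ I ^ p ∧ a.val l ∉ I ^ (p + 1) := by
  classical
  have hex : ∃ n, a.val n ∉ I ^ n := by
    by_contra hcon
    push Not at hcon
    apply h
    apply AdicCompletion.ext_evalₐ
    intro n
    rw [AdicCompletion.evalₐ_mk, map_zero, Ideal.Quotient.eq_zero_iff_mem]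
    exact hcon n
  let N := Nat.find hex
  have hN : a.val N ∉ I ^ N := Nat.find_spec hex
  have hN0 : N ≠ 0 := by
    intro h0
    rw [h0, pow_zero, Ideal.one_eq_top] at hN
    exact hN trivial
  obtain ⟨p, hp⟩ : ∃ p, N = p + 1 := ⟨N - 1, by omega⟩
  have hp' : a.val p ∈ I ^ p := by
    by_contra hcon
    have : N ≤ p := Nat.find_min' hex hcon
    omega
  refine ⟨p, fun l hl => ⟨?_, ?_⟩⟩
  · have h1 := sub_mem_of_cauchy a (show p ≤ l by omega)
    have := Ideal.add_mem _ h1 hp'
    simpa using this
  · intro hmem
    have h1 := sub_mem_of_cauchy a hl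
    have h2 := Ideal.sub_mem _ hmem h1
    rw [sub_sub_cancel] at h2
    rw [hp] at hN
    exact hN h2

/-- The completion of a ring with domain associated graded ring has no zero divisors. -/
theorem isDomain_adicCompletion (hI : I ≠ ⊤) (h : GrDomain I) :
    IsDomain (AdicCompletion I R) := by
  have hnt : Nontrivial (AdicCompletion I R) := by
    refine ⟨⟨1, 0, fun h0 => hI ?_⟩⟩
    have := congrArg (AdicCompletion.evalₐ I 1) h0
    rw [map_one, map_zero] at this
    rw [Ideal.eq_top_iff_one]
    have h1 : (Ideal.Quotient.mk (I ^ 1)) 1 = 0 := by simpa using this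
    rw [Ideal.Quotient.eq_zero_iff_mem, pow_one] at h1
    exact h1
  have hnz : NoZeroDivisors (AdicCompletion I R) := by
    refine ⟨fun {x y} hxy => ?_⟩
    by_contra hcon
    push Not at hcon
    obtain ⟨hx, hy⟩ := hcon
    obtain ⟨a, rfl⟩ := AdicCompletion.mk_surjective I R x
    obtain ⟨b, rfl⟩ := AdicCompletion.mk_surjective I R y
    obtain ⟨p, hp⟩ := exists_order a hx
    obtain ⟨q, hq⟩ := exists_order b hy
    have h1 := congrArg (AdicCompletion.evalₐ I (p + q + 1)) hxy
    rw [map_mul, AdicCompletion.evalₐ_mk, AdicCompletion.evalₐ_mk, map_zero, ← map_mul,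
      Ideal.Quotient.eq_zero_iff_mem] at h1
    exact h p q _ _ (hp _ (by omega)).1 (hp _ (by omega)).2 (hq _ (by omega)).1
      (hq _ (by omega)).2 h1
  exact NoZeroDivisors.to_isDomain _

end Completion

section Localization

variable {S : Type u} [CommRing S] (m : Ideal S) [hm : m.IsMaximal]

open IsLocalRing

lemma exists_mul_sub_one_mem {s : S} (hs : s ∉ m) (n : ℕ) : ∃ t : S, t * s - 1 ∈ m ^ n := by
  induction n with
  | zero => exact ⟨0, by simp⟩
  | succ n ih =>
    obtain ⟨t, ht⟩ := ih
    obtain ⟨t', y, hy, hty⟩ := hm.exists_inv hs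
    -- t' s + y = 1, t s = 1 + z
    refine ⟨t' + t * y, ?_⟩
    have : (t' + t * y) * s - 1 = y * (t * s - 1) := by
      have : t' * s = 1 - y := by rw [← hty]; ring
      linear_combination this
    rw [this, pow_succ']
    exact Ideal.mul_mem_mul hy ht

lemma mem_pow_of_mul_mem_pow {s a : S} (hs : s ∉ m) {n : ℕ} (h : s * a ∈ m ^ n) : a ∈ m ^ n := by
  obtain ⟨t, ht⟩ := exists_mul_sub_one_mem m hs n
  have h1 : t * (s * a) ∈ m ^ n := Ideal.mul_mem_left _ _ h
  have h2 : (t * s - 1) * a ∈ m ^ n := Ideal.mul_mem_right _ _ ht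
  have := Ideal.sub_mem _ h1 h2
  have e : t * (s * a) - (t * s - 1) * a = a := by ring
  rwa [e] at this

variable (R : Type v) [CommRing R] [Algebra S R] [IsLocalization.AtPrime R m] [IsLocalRing R]

lemma algebraMap_mem_pow_iff {a : S} {n : ℕ} :
    algebraMap S R a ∈ maximalIdeal R ^ n ↔ a ∈ m ^ n := by
  rw [← IsLocalization.AtPrime.map_eq_maximalIdeal m R, ← Ideal.map_pow]
  constructor
  · intro h
    rw [IsLocalization.algebraMap_mem_map_algebraMap_iff m.primeCompl] at h
    obtain ⟨s, hs, hsa⟩ := h
    exact mem_pow_of_mul_mem_pow m hs hsa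
  · intro h
    exact Ideal.mem_map_of_mem _ h

lemma mk'_mem_pow_iff {a : S} {s : m.primeCompl} {n : ℕ} :
    IsLocalization.mk' R a s ∈ maximalIdeal R ^ n ↔ a ∈ m ^ n := by
  rw [← algebraMap_mem_pow_iff m R, ← IsLocalization.mk'_spec' R a s]
  have hu : IsUnit (algebraMap S R s) := IsLocalization.map_units R s
  rw [Ideal.unit_mul_mem_iff_mem _ hu]

theorem grDomain_localization (h : GrDomain m) : GrDomain (maximalIdeal R) := by
  intro n k a b ha ha' hb hb'
  obtain ⟨a, s, rfl⟩ := IsLocalization.exists_mk'_eq m.primeCompl a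
  obtain ⟨b, t, rfl⟩ := IsLocalization.exists_mk'_eq m.primeCompl b
  rw [← IsLocalization.mk'_mul]
  rw [mk'_mem_pow_iff] at *
  exact h n k a b ha ha' hb hb'

end Localization

section Cone

open MvPolynomial

variable {σ : Type v} {k : Type u} [CommRing k]

/-- the ideal generated by the variables in a quotient of a polynomial ring -/
noncomputable def vertex (P : Ideal (MvPolynomial σ k)) : Ideal (MvPolynomial σ k ⧸ P) :=
  (idealOfVars σ k).map (Ideal.Quotient.mk P)

lemma mk_mem_vertex_pow (P : Ideal (MvPolynomial σ k)) {f : MvPolynomial σ k} {n : ℕ} :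
    Ideal.Quotient.mk P f ∈ vertex P ^ n ↔ ∃ g ∈ idealOfVars σ k ^ n, f - g ∈ P := by
  rw [vertex, ← Ideal.map_pow, Ideal.mem_map_iff_of_surjective _ Ideal.Quotient.mk_surjective]
  constructor
  · rintro ⟨g, hg, hgf⟩
    exact ⟨g, hg, by rw [← Ideal.Quotient.eq, hgf]⟩
  · rintro ⟨g, hg, hgf⟩
    exact ⟨g, hg, by rw [eq_comm, Ideal.Quotient.eq]; exact hgf⟩

lemma homogeneousComponent_eq_zero_of_mem {f : MvPolynomial σ k} {n i : ℕ}
    (hf : f ∈ idealOfVars σ k ^ n) (hi : i < n) : homogeneousComponent i f = 0 := by
  classical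
  rw [mem_pow_idealOfVars_iff'] at hf
  ext d
  rw [coeff_homogeneousComponent, coeff_zero]
  split_ifs with h
  · exact hf d (by rw [h]; exact hi)
  · rfl

lemma mem_pow_of_homogeneousComponent_eq_zero {f : MvPolynomial σ k} {n : ℕ}
    (hf : ∀ i < n, homogeneousComponent i f = 0) : f ∈ idealOfVars σ k ^ n := by
  classical
  rw [mem_pow_idealOfVars_iff']
  intro d hd
  have := congrArg (coeff d) (hf _ hd)
  rw [coeff_homogeneousComponent, coeff_zero, if_pos rfl] at this
  exact this

lemma isHomogeneous_mem_pow {f : MvPolynomial σ k} {n : ℕ} (hf : f.IsHomogeneous n) :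
    f ∈ idealOfVars σ k ^ n := by
  apply mem_pow_of_homogeneousComponent_eq_zero
  intro i hi
  rw [homogeneousComponent_of_mem ((mem_homogeneousSubmodule n f).mpr hf), if_neg (by omega)]

/-- The coordinate ring of a cone over a homogeneous prime: its associated graded ring at the
vertex is a domain. -/
theorem grDomain_vertex (P : Ideal (MvPolynomial σ k)) [hP : P.IsPrime]
    (hhom : ∀ f ∈ P, ∀ i, homogeneousComponent i f ∈ P) : GrDomain (vertex P) := by
  classical
  -- the leading form of an element of order exactly `n`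
  have key : ∀ (n : ℕ) (a : MvPolynomial σ k ⧸ P), a ∈ vertex P ^ n → a ∉ vertex P ^ (n + 1) →
      ∃ f ∈ idealOfVars σ k ^ n, Ideal.Quotient.mk P f = a ∧ homogeneousComponent n f ∉ P := by
    intro n a ha ha'
    obtain ⟨a, rfl⟩ := Ideal.Quotient.mk_surjective a
    rw [mk_mem_vertex_pow] at ha
    obtain ⟨f, hf, hfa⟩ := ha
    have hfa' : Ideal.Quotient.mk P f = Ideal.Quotient.mk P a := by
      rw [eq_comm, Ideal.Quotient.eq]; exact hfa
    refine ⟨f, hf, hfa', fun hcon => ha' ?_⟩
    rw [← hfa', mk_mem_vertex_pow]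
    refine ⟨f - homogeneousComponent n f, ?_, by simpa using hcon⟩
    apply mem_pow_of_homogeneousComponent_eq_zero
    intro i hi
    rw [map_sub]
    rcases Nat.lt_succ_iff_lt_or_eq.mp hi with hi' | rfl
    · rw [homogeneousComponent_eq_zero_of_mem hf hi',
        homogeneousComponent_of_mem (homogeneousComponent_mem n f), if_neg (by omega), sub_zero]
    · rw [homogeneousComponent_of_mem (homogeneousComponent_mem i f), if_pos rfl, sub_self]
  intro n l a b ha ha' hb hb' hab
  obtain ⟨f, hf, rfl, hf'⟩ := key n a ha ha'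
  obtain ⟨g, hg, rfl, hg'⟩ := key l b hb hb'
  rw [← map_mul, mk_mem_vertex_pow] at hab
  obtain ⟨u, hu, huf⟩ := hab
  have h1 := hhom _ huf (n + l)
  rw [map_sub, homogeneousComponent_eq_zero_of_mem hu (by omega), sub_zero] at h1
  -- the component of degree `n + l` of `f * g` is the product of the leading forms
  have h2 : homogeneousComponent (n + l) (f * g) =
      homogeneousComponent n f * homogeneousComponent l g := by
    have e : f * g = homogeneousComponent n f * homogeneousComponent l g +
        ((f - homogeneousComponent n f) * g +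
          homogeneousComponent n f * (g - homogeneousComponent l g)) := by ring
    have hf2 : f - homogeneousComponent n f ∈ idealOfVars σ k ^ (n + 1) := by
      apply mem_pow_of_homogeneousComponent_eq_zero
      intro i hi
      rw [map_sub]
      rcases Nat.lt_succ_iff_lt_or_eq.mp hi with hi' | rfl
      · rw [homogeneousComponent_eq_zero_of_mem hf hi',
          homogeneousComponent_of_mem (homogeneousComponent_mem n f), if_neg (by omega), sub_zero]
      · rw [homogeneousComponent_of_mem (homogeneousComponent_mem i f), if_pos rfl, sub_self]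
    have hg2 : g - homogeneousComponent l g ∈ idealOfVars σ k ^ (l + 1) := by
      apply mem_pow_of_homogeneousComponent_eq_zero
      intro i hi
      rw [map_sub]
      rcases Nat.lt_succ_iff_lt_or_eq.mp hi with hi' | rfl
      · rw [homogeneousComponent_eq_zero_of_mem hg hi',
          homogeneousComponent_of_mem (homogeneousComponent_mem l g), if_neg (by omega), sub_zero]
      · rw [homogeneousComponent_of_mem (homogeneousComponent_mem i g), if_pos rfl, sub_self]
    have h3 : (f - homogeneousComponent n f) * g ∈ idealOfVars σ k ^ (n + l + 1) := by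
      have := Ideal.mul_mem_mul hf2 hg
      rw [← pow_add] at this
      rwa [show n + l + 1 = n + 1 + l by omega]
    have h4 : homogeneousComponent n f * (g - homogeneousComponent l g) ∈
        idealOfVars σ k ^ (n + l + 1) := by
      have := Ideal.mul_mem_mul
        (isHomogeneous_mem_pow (homogeneousComponent_isHomogeneous n f)) hg2
      rw [← pow_add] at this
      rwa [show n + l + 1 = n + (l + 1) by omega]
    conv_lhs => rw [e]
    rw [map_add, homogeneousComponent_eq_zero_of_mem (Ideal.add_mem _ h3 h4) (by omega), add_zero,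
      homogeneousComponent_of_mem, if_pos rfl]
    exact (mem_homogeneousSubmodule _ _).mpr
      ((homogeneousComponent_isHomogeneous n f).mul (homogeneousComponent_isHomogeneous l g))
  rw [h2] at h1
  rcases hP.mem_or_mem h1 with h | h
  · exact hf' h
  · exact hg' h

end Cone

end Groth.Agent.Localalg.GrCompl
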