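import Mathlib.AlgebraicGeometry.Group.Smooth
import Mathlib.CategoryTheory.Monoidal.Cartesian.Grp
import Mathlib.AlgebraicGeometry.Morphisms.Integral
import Mathlib.AlgebraicGeometry.Morphisms.UniversallyOpen
import Mathlib.Topology.KrullDimension

set_option autoImplicit false
universe u
set_option linter.style.haveILetI false
open CategoryTheory MonoidalCategory CartesianMonoidalCategory MonObj GrpObj AlgebraicGeometry

namespace Groth.Agent.Localalg.GrpDim

lemma spec_incomp {R S : CommRingCat.{u}} (φ : R ⟶ S) (hφ : φ.hom.IsIntegral) (x y : Spec S) (hxy : x ⤳ y)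
    (h : Spec.map φ x = Spec.map φ y) : x = y := by
  letI := φ.hom.toAlgebra
  haveI : Algebra.IsIntegral R S := ⟨hφ⟩
  have h1 : x.asIdeal ≤ y.asIdeal := (PrimeSpectrum.le_iff_specializes x y).mpr hxy
  rcases h1.lt_or_eq with h2 | h2
  · exfalso
    have h3 := Ideal.IsIntegral.comap_lt_comap (R := R) h2
    have h4 := congrArg PrimeSpectrum.asIdeal h
    exact h3.ne h4
  · exact PrimeSpectrum.ext h2

lemma incomp_affine {X Y : Scheme.{u}} (f : X ⟶ Y) [IsIntegralHom f] [IsAffine X] [IsAffine Y] (x y : X) (hxy : x ⤳ y)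
    (h : f x = f y) : x = y := by
  have h1 : IsIntegralHom (Spec.map f.appTop) := by
    rw [IsIntegralHom.SpecMap_iff]
    exact (HasAffineProperty.iff_of_isAffine (P := @IsIntegralHom)).mp ‹_› |>.2
  have h2 := Scheme.isoSpec_hom_naturality f
  have h3 : X.isoSpec.hom x = X.isoSpec.hom y := by
    apply spec_incomp f.appTop (IsIntegralHom.SpecMap_iff.mp h1)
    · exact hxy.map X.isoSpec.hom.continuous
    · rw [← Scheme.Hom.comp_apply, ← Scheme.Hom.comp_apply, h2, Scheme.Hom.comp_apply, Scheme.Hom.comp_apply, h]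
  exact X.isoSpec.hom.homeomorph.injective h3

lemma incomp {X Y : Scheme.{u}} (f : X ⟶ Y) [IsIntegralHom f] (x y : X) (hxy : x ⤳ y)
    (h : f x = f y) : x = y := by
  obtain ⟨V, hV, hyV⟩ : ∃ V : Y.Opens, IsAffineOpen V ∧ f y ∈ V := by
    obtain ⟨V, hV, hyV, -⟩ := TopologicalSpace.Opens.isBasis_iff_nbhd.mp Y.isBasis_affineOpens (show f y ∈ (⊤ : Y.Opens) from trivial)
    exact ⟨V, hV, hyV⟩
  have hU : IsAffineOpen (f ⁻¹ᵁ V) := hV.preimage f
  haveI : IsAffine V := hV
  haveI : IsAffine (f ⁻¹ᵁ V) := hU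
  have hy : y ∈ f ⁻¹ᵁ V := hyV
  have hx : x ∈ f ⁻¹ᵁ V := by rw [Scheme.Hom.mem_preimage, h]; exact hyV
  have := incomp_affine (f ∣_ V) ⟨x, hx⟩ ⟨y, hy⟩ 
    (by rw [← (f ⁻¹ᵁ V).ι.isOpenEmbedding.isInducing.specializes_iff]; exact hxy) (by
      apply V.ι.isOpenEmbedding.injective
      rw [← Scheme.Hom.comp_apply, ← Scheme.Hom.comp_apply, morphismRestrict_ι, Scheme.Hom.comp_apply, Scheme.Hom.comp_apply]
      exact h)
  exact congrArg Subtype.val this

lemma coheight_eq {X Y : Scheme.{u}} (f : X ⟶ Y) [IsIntegralHom f] [Flat f] (x : X) : 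
    Order.coheight x = Order.coheight (f x) := by
  apply Order.coheight_eq_of_strictMono
  · intro a b hab
    have h1 : f a ≤ f b := (show b ⤳ a from hab.le).map f.continuous
    refine lt_of_le_not_ge h1 ?_
    intro h2
    have h3 : f a = f b := by
      have : (f a) ⤳ (f b) := h2
      exact (this.antisymm h1).eq
    have h4 : b ⤳ a := hab.le
    have := incomp f b a h4 h3.symm
    subst this
    exact lt_irrefl _ hab
  · intro a b hab
    obtain ⟨a', h1, h2⟩ := Flat.generalizingMap f (show b ⤳ f a from hab.le)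
    refine ⟨a', ?_, h2⟩
    refine lt_of_le_not_ge h1 ?_
    intro h3
    have : a = a' := ((show a ⤳ a' from h3).antisymm h1).eq
    subst this
    rw [h2] at hab
    exact lt_irrefl _ hab


attribute [local instance] specializationOrder in
lemma topologicalKrullDim_eq (X : Scheme.{u}) : topologicalKrullDim X = Order.krullDim X := 
  Order.krullDim_eq_of_orderIso (irreducibleSetEquivPoints (α := X))

lemma topologicalKrullDim_eq_of_coheight (X : Scheme.{u}) [JacobsonSpace X] [Nonempty X] (d : ℕ∞)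
    (h : ∀ x : X, IsClosed {x} → Order.coheight x = d) : topologicalKrullDim X = d := by
  rw [topologicalKrullDim_eq, Order.krullDim_eq_iSup_coheight]
  apply le_antisymm
  · apply iSup_le
    intro x
    obtain ⟨y, hy, hyc⟩ := nonempty_inter_closedPoints (Z := closure ({x} : Set X))
      ⟨x, subset_closure rfl⟩ isClosed_closure.isLocallyClosed
    have h1 : y ≤ x := specializes_iff_mem_closure.mpr hy
    have h2 := Order.coheight_anti h1
    rw [h y hyc] at h2
    exact WithBot.coe_le_coe.mpr h2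
  · obtain ⟨y, hy, hyc⟩ := nonempty_inter_closedPoints (Z := (Set.univ : Set X))
      Set.univ_nonempty isClosed_univ.isLocallyClosed
    rw [← h y hyc]
    exact le_iSup (fun a : X => ((Order.coheight a : ℕ∞) : WithBot ℕ∞)) y

/-- homogeneity -/
lemma exists_homeo {K : Type u} [Field K] [IsAlgClosed K] {G : Scheme.{u}} (f : G ⟶ Spec (CommRingCat.of K))
    [LocallyOfFiniteType f] [GrpObj (Over.mk f)] (x y : G) (hx : IsClosed {x}) (hy : IsClosed {y}) : 
    ∃ α : G ≅ G, α.hom x = y := by
  let x' : 𝟙_ _ ⟶ Over.mk f := Over.homMk _ ((pointEquivClosedPoint f).symm ⟨x, hx⟩).2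
  let y' : 𝟙_ _ ⟶ Over.mk f := Over.homMk _ ((pointEquivClosedPoint f).symm ⟨y, hy⟩).2
  let α := (GrpObj.mulRight (A := Over.mk f) x').symm ≪≫
    (GrpObj.mulRight (A := Over.mk f) y')
  have hα : x' ≫ α.hom = y' := by
    dsimp only [Iso.trans_hom, Iso.symm_hom, α]
    rw [← Category.assoc, ← Iso.eq_comp_inv]
    simp [comp_lift_assoc]
  have hα' : α.hom.left x = y := by
    simpa [x', y', pointEquivClosedPoint] using congr(($hα).left (IsLocalRing.closedPoint K))
  exact ⟨(Over.forget _).mapIso α, hα'⟩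

lemma coheight_eq_of_closed {K : Type u} [Field K] [IsAlgClosed K] {G : Scheme.{u}} (f : G ⟶ Spec (CommRingCat.of K))
    [LocallyOfFiniteType f] [GrpObj (Over.mk f)] (x y : G) (hx : IsClosed {x}) (hy : IsClosed {y}) :
    Order.coheight x = Order.coheight y := by
  obtain ⟨α, rfl⟩ := exists_homeo f x y hx hy
  exact (coheight_eq_of_isOpenImmersion α.hom).symm


lemma coheight_eq_of_closed' {K : Type u} [Field K] {G : Scheme.{u}} (f : G ⟶ Spec (CommRingCat.of K))
    [LocallyOfFiniteType f] [GrpObj (Over.mk f)] (x y : G) (hx : IsClosed {x}) (hy : IsClosed {y}) :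
    Order.coheight x = Order.coheight y := by
  let Ω : Type u := AlgebraicClosure K
  let g : Spec (.of Ω) ⟶ Spec (.of K) := Spec.map (CommRingCat.ofHom <| algebraMap K Ω)
  haveI : IsIntegralHom g := by
    rw [IsIntegralHom.SpecMap_iff]
    exact algebraMap_isIntegral_iff.mpr inferInstance
  let : GrpObj (Over.mk (Limits.pullback.snd f g)) := Over.grpObjMkPullbackSnd
  let π : Limits.pullback f g ⟶ G := Limits.pullback.fst f g
  haveI : IsIntegralHom π := inferInstance
  haveI : Flat π := inferInstance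
  haveI : Surjective π := inferInstance
  haveI : JacobsonSpace (Limits.pullback f g : Scheme) :=
    LocallyOfFiniteType.jacobsonSpace (Limits.pullback.snd f g)
  have key : ∀ x : G, IsClosed {x} → ∃ x' : (Limits.pullback f g : Scheme), IsClosed {x'} ∧ π x' = x := by
    intro x hx
    obtain ⟨z, hz⟩ := π.surjective x
    obtain ⟨x', hx', hxc'⟩ := nonempty_inter_closedPoints (Z := π ⁻¹' {x}) ⟨z, hz⟩
      (hx.preimage π.continuous).isLocallyClosed
    exact ⟨x', hxc', hx'⟩
  obtain ⟨x', hx', rfl⟩ := key x hx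
  obtain ⟨y', hy', rfl⟩ := key y hy
  rw [← coheight_eq π x', ← coheight_eq π y']
  exact coheight_eq_of_closed (Limits.pullback.snd f g) x' y' hx' hy'

theorem ringKrullDim_stalk {K : Type u} [Field K] {G : Scheme.{u}} (f : G ⟶ Spec (CommRingCat.of K))
    [LocallyOfFiniteType f] [GrpObj (Over.mk f)] (x : G) (hx : IsClosed {x}) :
    ringKrullDim (G.presheaf.stalk x) = topologicalKrullDim G := by
  haveI : JacobsonSpace G := LocallyOfFiniteType.jacobsonSpace f
  haveI : Nonempty G := ⟨x⟩
  rw [ringKrullDim_stalk_eq_coheight]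
  symm
  exact topologicalKrullDim_eq_of_coheight G _ (fun y hy => coheight_eq_of_closed' f y x hy hx)

end Groth.Agent.Localalg.GrpDim
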