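import Groth.Agent.Localalg.GrpSchShear
import Mathlib.AlgebraicGeometry.PullbackCarrier
import Mathlib.AlgebraicGeometry.Morphisms.UniversallyOpen

/-! Point-set topology of fibre products over a field and of group schemes over a field. -/

set_option autoImplicit false
universe u v
open CategoryTheory MonoidalCategory CartesianMonoidalCategory MonObj GrpObj AlgebraicGeometry

namespace Groth.Agent.Localalg.GrpSchPts

open GrpSchShear

section pullback

variable {S X Y P : Scheme.{u}} {p : P ⟶ X} {q : P ⟶ Y}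
  {f : X ⟶ S} {g : Y ⟶ S}

/-- The fibre of `p` over `x`, mapped to `Y`, is the base change of `Spec κ(x) ⟶ S`. -/
lemma isPullback_fibre (h : IsPullback p q f g) (x : X) :
    IsPullback (Limits.pullback.snd p (X.fromSpecResidueField x))
      (Limits.pullback.fst p (X.fromSpecResidueField x) ≫ q) (X.fromSpecResidueField x ≫ f) g :=
  ((IsPullback.of_hasPullback p (X.fromSpecResidueField x)).paste_horiz h.flip).flip

variable [IsIntegral S] [Subsingleton S]

/-- The second projection of `X ×_S Y` restricted to a fibre of the first one is open. -/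
lemma exists_isOpen_of_fst_eq (h : IsPullback p q f g) (w : P) (W : Set P) (hW : IsOpen W)
    (hw : w ∈ W) :
    ∃ V : Set Y, IsOpen V ∧ q w ∈ V ∧ ∀ v ∈ V, ∃ w' ∈ W, p w' = p w ∧ q w' = v := by
  let i := X.fromSpecResidueField (p w)
  have h1 := isPullback_fibre h (p w)
  have h2 : UniversallyOpen (Limits.pullback.fst p i ≫ q) :=
    MorphismProperty.of_isPullback h1 (inferInstance : UniversallyOpen (i ≫ f))
  refine ⟨(Limits.pullback.fst p i ≫ q) '' ((Limits.pullback.fst p i) ⁻¹' W),
    (Limits.pullback.fst p i ≫ q).isOpenMap _ (hW.preimage (Limits.pullback.fst p i).continuous),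
    ?_, ?_⟩
  · have hr : w ∈ Set.range (Limits.pullback.fst p i) := by
      rw [Scheme.Pullback.range_fst, Set.mem_preimage, Scheme.range_fromSpecResidueField]
      rfl
    obtain ⟨w', hw'⟩ := hr
    refine ⟨w', ?_, ?_⟩
    · rw [Set.mem_preimage, hw']; exact hw
    · rw [Scheme.Hom.comp_apply, hw']
  · rintro _ ⟨w', hw', rfl⟩
    refine ⟨Limits.pullback.fst p i w', hw', ?_, by simp⟩
    have hr : Limits.pullback.fst p i w' ∈ Set.range (Limits.pullback.fst p i) := ⟨w', rfl⟩
    rw [Scheme.Pullback.range_fst, Set.mem_preimage, Scheme.range_fromSpecResidueField] at hr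
    exact hr

/-- Generizations lift along the second projection within a fibre of the first projection. -/
lemma exists_specializes_of_fst_eq (h : IsPullback p q f g) (w : P) (y : Y) (hy : y ⤳ q w) :
    ∃ w' : P, w' ⤳ w ∧ p w' = p w ∧ q w' = y := by
  let i := X.fromSpecResidueField (p w)
  have h1 := isPullback_fibre h (p w)
  have h2 : Flat (Limits.pullback.fst p i ≫ q) :=
    MorphismProperty.of_isPullback h1 (inferInstance : Flat (i ≫ f))
  have hr : w ∈ Set.range (Limits.pullback.fst p i) := by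
    rw [Scheme.Pullback.range_fst, Set.mem_preimage, Scheme.range_fromSpecResidueField]
    rfl
  obtain ⟨z, hz⟩ := hr
  have hy' : y ⤳ (Limits.pullback.fst p i ≫ q) z := by
    rw [Scheme.Hom.comp_apply, hz]; exact hy
  obtain ⟨z', hz', hz''⟩ := Flat.generalizingMap (Limits.pullback.fst p i ≫ q) hy'
  refine ⟨Limits.pullback.fst p i z', ?_, ?_, by simpa using hz''⟩
  · have := hz'.map (Limits.pullback.fst p i).continuous
    rwa [hz] at this
  · have hr : Limits.pullback.fst p i z' ∈ Set.range (Limits.pullback.fst p i) := ⟨z', rfl⟩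
    rw [Scheme.Pullback.range_fst, Set.mem_preimage, Scheme.range_fromSpecResidueField] at hr
    exact hr

/-- `closure A × closure B` lies in the closure of `A × B`. -/
lemma mem_closure_of_mem_closure (h : IsPullback p q f g) (A : Set X) (B : Set Y) (w : P)
    (hA : p w ∈ closure A) (hB : q w ∈ closure B) : w ∈ closure (p ⁻¹' A ∩ q ⁻¹' B) := by
  rw [mem_closure_iff]
  intro W hW hw
  obtain ⟨V, hV, hwV, hV'⟩ := exists_isOpen_of_fst_eq h w W hW hw
  obtain ⟨b, hbV, hbB⟩ := mem_closure_iff.mp hB V hV hwV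
  obtain ⟨w', hw'W, hw'1, hw'2⟩ := hV' b hbV
  obtain ⟨V', hV', hwV', hV''⟩ := exists_isOpen_of_fst_eq h.flip w' W hW hw'W
  obtain ⟨a, haV, haA⟩ := mem_closure_iff.mp hA V' hV' (by rwa [← hw'1])
  obtain ⟨w'', hw''W, hw''1, hw''2⟩ := hV'' a haV
  refine ⟨w'', hw''W, ?_, ?_⟩
  · rw [Set.mem_preimage, hw''2]; exact haA
  · rw [Set.mem_preimage, hw''1, hw'2]; exact hbB

end pullback

section over

variable {K : Type u} [Field K]

instance : Subsingleton (Spec (CommRingCat.of K)) :=
  inferInstanceAs (Subsingleton (PrimeSpectrum K))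

lemma isPullback_tensor {S : Scheme.{u}} (X Y : Over S) :
    IsPullback (fst X Y).left (snd X Y).left X.hom Y.hom :=
  IsPullback.of_hasPullback X.hom Y.hom

/-- A subset of the points of a group scheme over a field which is closed under the group
operations, in the sense of points of fibre products. -/
structure IsSubgroupSet {S : Scheme.{u}} (G : Over S) [GrpObj G] (A : Set G.left) : Prop where
  one_mem : ∀ s : S, η[G].left s ∈ A
  mul_mem : ∀ w : (G ⊗ G).left, (fst G G).left w ∈ A → (snd G G).left w ∈ A → μ[G].left w ∈ A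
  inv_mem : ∀ x : G.left, x ∈ A → ι[G].left x ∈ A

lemma comp_left_apply {S : Scheme.{u}} {X Y Z : Over S} (f : X ⟶ Y) (g : Y ⟶ Z) (x : X.left) :
    (f ≫ g).left x = g.left (f.left x) := by
  rw [Over.comp_left, Scheme.Hom.comp_apply]

section

variable {S : Scheme.{u}} (G : Over S) [GrpObj G] (w : (G ⊗ G).left)

lemma IsSubgroupSet.snd_mem {A : Set G.left} (hA : IsSubgroupSet G A) (w : (G ⊗ G).left)
    (h1 : (fst G G).left w ∈ A) (h2 : μ[G].left w ∈ A) : (snd G G).left w ∈ A := by
  let φ : G ⊗ G ⟶ G ⊗ G := lift (fst G G)⁻¹ μ[G]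
  have hφ1 : φ ≫ fst G G = fst G G ≫ ι[G] := by simp [φ, Hom.inv_def]
  have hφ2 : φ ≫ snd G G = μ[G] := by simp [φ]
  have hφ3 : φ ≫ μ[G] = snd G G := by
    have : φ ≫ μ[G] = (fst G G)⁻¹ * (fst G G * snd G G) := by
      simp [φ, Hom.mul_def]
    rw [this, inv_mul_cancel_left]
  have h := hA.mul_mem (φ.left w) ?_ ?_
  · rwa [← comp_left_apply, hφ3] at h
  · rw [← comp_left_apply, hφ1, comp_left_apply]
    exact hA.inv_mem _ h1
  · rwa [← comp_left_apply, hφ2]

lemma IsSubgroupSet.fst_mem {A : Set G.left} (hA : IsSubgroupSet G A) (w : (G ⊗ G).left)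
    (h1 : (snd G G).left w ∈ A) (h2 : μ[G].left w ∈ A) : (fst G G).left w ∈ A := by
  let φ : G ⊗ G ⟶ G ⊗ G := lift μ[G] (snd G G)⁻¹
  have hφ1 : φ ≫ fst G G = μ[G] := by simp [φ]
  have hφ2 : φ ≫ snd G G = snd G G ≫ ι[G] := by simp [φ, Hom.inv_def]
  have hφ3 : φ ≫ μ[G] = fst G G := by
    have : φ ≫ μ[G] = (fst G G * snd G G) * (snd G G)⁻¹ := by
      simp [φ, Hom.mul_def]
    rw [this, mul_inv_cancel_right]
  have h := hA.mul_mem (φ.left w) ?_ ?_
  · rwa [← comp_left_apply, hφ3] at h
  · rwa [← comp_left_apply, hφ1]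
  · rw [← comp_left_apply, hφ2, comp_left_apply]
    exact hA.inv_mem _ h1

lemma isSubgroupSet_univ : IsSubgroupSet G Set.univ := ⟨fun _ => trivial, fun _ _ _ => trivial,
  fun _ _ => trivial⟩

lemma isSubgroupSet_range {H : Over S} [GrpObj H] (ψ : H ⟶ G) [IsMonHom ψ] :
    IsSubgroupSet G (Set.range ψ.left) where
  one_mem s := ⟨η[H].left s, by rw [← comp_left_apply, IsMonHom.one_hom]⟩
  mul_mem w h1 h2 := by
    have h3 : w ∈ Set.range (ψ ⊗ₘ ψ).left := by
      rw [Over.tensorHom_left, Scheme.Pullback.range_map]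
      exact ⟨h1, h2⟩
    obtain ⟨v, rfl⟩ := h3
    exact ⟨μ[H].left v, by rw [← comp_left_apply, ← comp_left_apply, IsMonHom.mul_hom]⟩
  inv_mem x hx := by
    obtain ⟨y, rfl⟩ := hx
    exact ⟨ι[H].left y, by rw [← comp_left_apply, ← comp_left_apply, inv_hom]⟩

end

lemma IsSubgroupSet.closure {G : Over (Spec (CommRingCat.of K))} [GrpObj G] {A : Set G.left}
    (hA : IsSubgroupSet G A) : IsSubgroupSet G (closure A) where
  one_mem s := subset_closure (hA.one_mem s)
  mul_mem w h1 h2 := by
    have h3 := mem_closure_of_mem_closure (isPullback_tensor G G) A A w h1 h2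
    have h4 : μ[G].left w ∈ _root_.closure (μ[G].left ''
        ((fst G G).left ⁻¹' A ∩ (snd G G).left ⁻¹' A)) :=
      image_closure_subset_closure_image μ[G].left.continuous ⟨w, h3, rfl⟩
    refine closure_mono ?_ h4
    rintro _ ⟨v, ⟨h5, h6⟩, rfl⟩
    exact hA.mul_mem v h5 h6
  inv_mem x hx := by
    have h4 : ι[G].left x ∈ _root_.closure (ι[G].left '' A) :=
      image_closure_subset_closure_image ι[G].left.continuous ⟨x, hx, rfl⟩
    refine closure_mono ?_ h4
    rintro _ ⟨v, hv, rfl⟩
    exact hA.inv_mem v hv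

/-- An open "subgroup" of a "subgroup" is closed in it. -/
lemma IsSubgroupSet.mem_of_mem_closure {G : Over (Spec (CommRingCat.of K))} [GrpObj G]
    {A Z : Set G.left} (hA : IsSubgroupSet G A) (hZ : IsSubgroupSet G Z) (hAZ : A ⊆ Z)
    {O : Set G.left} (hO : IsOpen O) (hOA : A = Z ∩ O) (z : G.left) (hz : z ∈ Z)
    (hzA : z ∈ _root_.closure A) : z ∈ A := by
  let φ : G ⟶ G ⊗ G := lift (𝟙 G) (toUnit G ≫ η[G])
  let w₀ : (G ⊗ G).left := φ.left z
  have h01 : (fst G G).left w₀ = z := by
    rw [← comp_left_apply]; simp [φ]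
  have h02 : (snd G G).left w₀ ∈ A := by
    rw [← comp_left_apply]
    have : φ ≫ snd G G = toUnit G ≫ η[G] := by simp [φ]
    rw [this, comp_left_apply]
    exact hA.one_mem _
  have h03 : μ[G].left w₀ = z := by
    rw [← comp_left_apply]
    have : φ ≫ μ[G] = 𝟙 G := by simp [φ]
    rw [this]; simp
  let w₁ : (G ⊗ G).left := (shear G).hom.left w₀
  have h10 : (shear G).inv.left w₁ = w₀ := by
    rw [← comp_left_apply, Iso.hom_inv_id]; simp
  have h11 : (fst G G).left w₁ = z := by
    rw [← comp_left_apply, shear_hom_fst, h01]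
  have h12 : (snd G G).left w₁ = z := by
    rw [← comp_left_apply, shear_hom_snd, h03]
  let W : Set (G ⊗ G).left := ((shear G).inv.left) ⁻¹' ((snd G G).left ⁻¹' O)
  have hW : IsOpen W := (hO.preimage (snd G G).left.continuous).preimage
    (shear G).inv.left.continuous
  have hw₁ : w₁ ∈ W := by
    change (snd G G).left ((shear G).inv.left w₁) ∈ O
    rw [h10]
    rw [hOA] at h02
    exact h02.2
  obtain ⟨V, hV, hwV, hV'⟩ := exists_isOpen_of_fst_eq (isPullback_tensor G G) w₁ W hW hw₁
  rw [h12] at hwV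
  obtain ⟨a, haV, haA⟩ := mem_closure_iff.mp hzA V hV hwV
  obtain ⟨w', hw'W, hw'1, hw'2⟩ := hV' a haV
  rw [h11] at hw'1
  let w'' : (G ⊗ G).left := (shear G).inv.left w'
  have h20 : (shear G).hom.left w'' = w' := by
    rw [← comp_left_apply, Iso.inv_hom_id]; simp
  have h21 : (fst G G).left w'' = z := by
    rw [← hw'1, ← h20, ← comp_left_apply (shear G).hom, shear_hom_fst]
  have h22 : μ[G].left w'' = a := by
    rw [← hw'2, ← h20, ← comp_left_apply (shear G).hom, shear_hom_snd]
  have h23 : (snd G G).left w'' ∈ Z :=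
    hZ.snd_mem G w'' (by rwa [h21]) (by rw [h22]; exact hAZ haA)
  have h24 : (snd G G).left w'' ∈ A := by
    rw [hOA]; exact ⟨h23, hw'W⟩
  have h25 := hA.fst_mem G w'' h24 (by rwa [h22])
  rwa [h21] at h25

/-- An open subgroup set is closed. -/
lemma IsSubgroupSet.isClosed_of_isOpen {G : Over (Spec (CommRingCat.of K))} [GrpObj G]
    {A : Set G.left} (hA : IsSubgroupSet G A) (hO : IsOpen A) : IsClosed A :=
  isClosed_of_closure_subset fun z hz =>
    hA.mem_of_mem_closure (isSubgroupSet_univ G) (Set.subset_univ _) hO (by simp) z trivial hz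

/-- A locally closed subgroup set is closed. -/
lemma IsSubgroupSet.isClosed_of_isLocallyClosed {G : Over (Spec (CommRingCat.of K))} [GrpObj G]
    {A : Set G.left} (hA : IsSubgroupSet G A) (hO : IsLocallyClosed A) : IsClosed A := by
  obtain ⟨O, hO, h⟩ := hO.isOpen_preimage_val_closure
  have hOA : A = _root_.closure A ∩ O := by
    ext x
    refine ⟨fun hx => ⟨subset_closure hx, ?_⟩, fun hx => ?_⟩
    · have : (⟨x, subset_closure hx⟩ : _root_.closure A) ∈ (Subtype.val ⁻¹' A : Set _) := hx
      rw [← h] at this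
      exact this
    · have : (⟨x, hx.1⟩ : _root_.closure A) ∈ (Subtype.val ⁻¹' O : Set _) := hx.2
      rw [h] at this
      exact this
  exact isClosed_of_closure_subset fun z hz =>
    hA.mem_of_mem_closure hA.closure subset_closure hO hOA z hz hz

end over

end Groth.Agent.Localalg.GrpSchPts
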