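import Mathlib.AlgebraicGeometry.Group.Smooth
import Mathlib.AlgebraicGeometry.Morphisms.Separated
import Mathlib.AlgebraicGeometry.Morphisms.Immersion
import Mathlib.AlgebraicGeometry.Morphisms.UniversallyOpen
import Mathlib.CategoryTheory.Monoidal.Cartesian.Over
import Mathlib.CategoryTheory.Monoidal.Cartesian.Grp

/-! Shear isomorphism of a group object and openness of the multiplication. -/

set_option autoImplicit false
universe u v
open CategoryTheory MonoidalCategory CartesianMonoidalCategory MonObj GrpObj AlgebraicGeometry

namespace Groth.Agent.Localalg.GrpSchShear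

section cat

variable {C : Type u} [Category.{v} C] [CartesianMonoidalCategory C] (G : C) [GrpObj G]

/-- The shear isomorphism `(x, y) ↦ (x, x * y)`. -/
noncomputable def shear : G ⊗ G ≅ G ⊗ G where
  hom := lift (fst G G) (fst G G * snd G G)
  inv := lift (fst G G) ((fst G G)⁻¹ * snd G G)
  hom_inv_id := by
    ext <;> simp [comp_mul, comp_inv]
  inv_hom_id := by
    ext <;> simp [comp_mul]

lemma shear_hom_snd : (shear G).hom ≫ snd G G = μ[G] := by
  simp [shear, Hom.mul_def]

lemma shear_hom_fst : (shear G).hom ≫ fst G G = fst G G := by
  simp [shear]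

end cat

section field

variable (K : Type u) [Field K]

instance universallyOpen_fst_left (X Y : Over (Spec (CommRingCat.of K))) :
    UniversallyOpen (fst X Y).left := by
  have : Subsingleton (Spec (CommRingCat.of K)) :=
    inferInstanceAs (Subsingleton (PrimeSpectrum K))
  rw [Over.fst_left]
  infer_instance

instance universallyOpen_snd_left (X Y : Over (Spec (CommRingCat.of K))) :
    UniversallyOpen (snd X Y).left := by
  have : Subsingleton (Spec (CommRingCat.of K)) :=
    inferInstanceAs (Subsingleton (PrimeSpectrum K))
  rw [Over.snd_left]
  infer_instance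

instance universallyOpen_mul (G : Over (Spec (CommRingCat.of K))) [GrpObj G] :
    UniversallyOpen (μ[G].left) := by
  rw [← shear_hom_snd, Over.comp_left]
  have h1 : IsIso (shear G).hom.left :=
    inferInstanceAs (IsIso ((Over.forget _).map (shear G).hom))
  have h2 : UniversallyOpen (shear G).hom.left := inferInstance
  have h3 : UniversallyOpen (snd G G).left := universallyOpen_snd_left K G G
  exact MorphismProperty.comp_mem _ _ _ h2 h3

lemma isOpenMap_mul (G : Over (Spec (CommRingCat.of K))) [GrpObj G] :
    IsOpenMap (μ[G].left : (G ⊗ G).left ⟶ G.left) :=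
  (μ[G].left).isOpenMap

end field

end Groth.Agent.Localalg.GrpSchShear
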