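import Groth.Agent.S0299
import Groth.Agent.S0317

set_option autoImplicit false
universe u

/-!
# The Matlis duality step of Hartshorne-Lichtenbaum vanishing
-/

namespace Groth.Agent.Localalg.HLVTAlg

/-- The polynomial form of the determinant trick: if `s • K ⊆ a • K` with `K` finite, then some element
congruent to a power of `s` modulo `a` kills `K`. -/
theorem exists_kill {R : Type u} [CommRing R] {K : Type u} [AddCommGroup K] [Module R K]
    [Module.Finite R K] (p : Ideal R) [p.IsPrime] (a s : R) (ha : a ∈ p) (hs : s ∉ p)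
    (h : ∀ x : K, ∃ y : K, a • y = s • x) : ∃ s' : R, s' ∉ p ∧ ∀ x : K, s' • x = 0 := by
  obtain ⟨P, hmonic, -, hcoeff, hP⟩ :=
    LinearMap.exists_monic_and_natDegree_eq_and_coeff_mem_pow_and_aeval_eq_zero R
      (LinearMap.lsmul R K s) (Ideal.span {a}) (by
        rintro _ ⟨x, rfl⟩
        obtain ⟨y, hy⟩ := h x
        rw [LinearMap.lsmul_apply, ← hy]
        exact Submodule.smul_mem_smul (Ideal.mem_span_singleton_self a) trivial)
  refine ⟨P.eval s, ?_, fun x => ?_⟩
  · rw [Polynomial.eval_eq_sum_range, Finset.sum_range_succ, hmonic.coeff_natDegree, one_mul]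
    intro hmem
    apply hs
    have h1 : ∑ i ∈ Finset.range P.natDegree, P.coeff i * s ^ i ∈ p := by
      refine Ideal.sum_mem _ fun i hi => Ideal.mul_mem_right _ _ ?_
      have h2 := hcoeff i
      have h3 : P.natDegree - i ≠ 0 := by
        have := Finset.mem_range.mp hi
        omega
      have h4 : Ideal.span {a} ^ (P.natDegree - i) ≤ p :=
        (Ideal.pow_le_self h3).trans ((Ideal.span_singleton_le_iff_mem _).mpr ha)
      exact h4 h2
    have h5 : s ^ P.natDegree ∈ p := (Ideal.add_mem_iff_right _ h1).mp hmem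
    exact Ideal.IsPrime.mem_of_pow_mem ‹_› _ h5
  · have h1 : ∀ Q : Polynomial R, Polynomial.aeval (LinearMap.lsmul R K s) Q x = Q.eval s • x := by
      intro Q
      induction Q using Polynomial.induction_on' with
      | add p q hp hq => simp [hp, hq, add_smul]
      | monomial n c =>
        rw [Polynomial.aeval_monomial, Polynomial.eval_monomial]
        have h2 : ∀ n : ℕ, ((LinearMap.lsmul R K s) ^ n) x = s ^ n • x := by
          intro n
          induction n with
          | zero => simp
          | succ n ih => rw [pow_succ', Module.End.mul_apply, ih, LinearMap.lsmul_apply, ← mul_smul,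
              ← pow_succ']
        rw [Module.End.mul_apply, h2, Module.algebraMap_end_apply, mul_smul]
    rw [← h1, hP]
    rfl

/-- The Matlis duality step of Hartshorne-Lichtenbaum vanishing (Cohen-free version): over a complete
Noetherian local ring let `T` be Artinian, `q ≤ p` primes, `a ∈ p`, `s ∉ p`; suppose every element outside
`q` acts surjectively on `T` and that `s` kills the `a`-torsion of `T`. Then `T = 0`. -/
theorem subsingleton_of_artinian {R : Type u} [CommRing R] [IsLocalRing R] [IsNoetherianRing R]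
    [IsAdicComplete (IsLocalRing.maximalIdeal R) R] (T : Type u) [AddCommGroup T] [Module R T]
    [IsArtinian R T] (q p : Ideal R) [p.IsPrime] (hqp : q ≤ p) (a s : R)
    (ha : a ∈ p) (hs : s ∉ p) (hdiv : ∀ b : R, b ∉ q → Function.Surjective (fun t : T => b • t))
    (hker : ∀ t : T, a • t = 0 → s • t = 0) : Subsingleton T := by
  obtain ⟨E, _, _, f, hf⟩ := Groth.Agent.S0299.result R (IsLocalRing.ResidueField R)
  obtain ⟨hfin, hbij⟩ := Groth.Agent.S0317.result R E f hf T
  have hE : Module.Injective R E := hf.isInjective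
  obtain ⟨s', hs', hkill⟩ := exists_kill (K := T →ₗ[R] E) p a s ha hs (by
    intro φ
    -- `s φ` kills the kernel of `a`, so factors through `a : T → a T ⊆ T`
    let g : T →ₗ[R] T := LinearMap.lsmul R T a
    have hk : LinearMap.ker g ≤ LinearMap.ker (s • φ) := by
      intro t ht
      have h1 : a • t = 0 := ht
      have h2 := hker t h1
      show s • φ t = 0
      rw [← map_smul, h2, map_zero]
    let e := g.quotKerEquivRange
    let ψ₀ : LinearMap.range g →ₗ[R] E := (LinearMap.ker g).liftQ (s • φ) hk ∘ₗ e.symm.toLinearMap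
    obtain ⟨ψ, hψ⟩ := hE.out (LinearMap.range g).subtype (LinearMap.range g).injective_subtype ψ₀
    refine ⟨ψ, ?_⟩
    ext t
    have h3 : ψ (a • t) = s • φ t := by
      have h4 := hψ ⟨g t, LinearMap.mem_range_self g t⟩
      have h5 : ψ (g t) = ψ₀ ⟨g t, LinearMap.mem_range_self g t⟩ := h4
      have h6 : e.symm ⟨g t, LinearMap.mem_range_self g t⟩ = (LinearMap.ker g).mkQ t := by
        rw [LinearEquiv.symm_apply_eq]
        rfl
      have h7 : ψ₀ ⟨g t, LinearMap.mem_range_self g t⟩ = s • φ t := by
        show (LinearMap.ker g).liftQ (s • φ) hk (e.symm ⟨g t, LinearMap.mem_range_self g t⟩) = _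
        rw [h6]
        rfl
      rw [← h7, ← h5]
      rfl
    show a • ψ t = s • φ t
    rw [← h3, map_smul])
  have hs'q : s' ∉ q := fun h => hs' (hqp h)
  have hK : ∀ φ : T →ₗ[R] E, φ = 0 := by
    intro φ
    ext t
    obtain ⟨t', rfl⟩ := hdiv s' hs'q t
    show φ (s' • t') = 0
    rw [map_smul]
    exact congrArg (fun ψ : T →ₗ[R] E => ψ t') (hkill φ)
  refine ⟨fun x y => hbij.1 ?_⟩
  ext φ
  rw [hK φ]
  simp

end Groth.Agent.Localalg.HLVTAlg
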