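import Groth.Agent.Localalg.DeltaFun
import Groth.Agent.FormalA.HUBasic
import Groth.Agent.CohtopA.FreeAb


/-!
# Cohomology with supports on a topological space

* `extDF P G hG`: the delta functor `M ↦ Ext^n(P, G M)` for an exact functor `G`.
* `EZ F n U = Ext^n(Z_X / Z_U, F)`: cohomology of `F` with supports in `X ∖ U`, with the long exact
  sequence `EZ F n U → H^n(X, F) → H^n(U, F) → EZ F (n + 1) U` (`forg`, `E.res`, `bdry`).
-/

set_option autoImplicit false
universe u

open CategoryTheory TopologicalSpace Opposite CategoryTheory.Limits Abelian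
open Groth.Agent.Localalg.DeltaFun Groth.Agent.FormalA.HUBasic

namespace Groth.Agent.Localalg.HSupp

section General

variable {C : Type (u + 1)} [Category.{u} C] [Abelian C] [HasExt.{u} C]

theorem comp_g_extClass {P : C} {S : ShortComplex C} (hS : S.ShortExact) {n : ℕ}
    (x : Ext P S.X₂ n) :
    (x.comp (Ext.mk₀ S.g) (add_zero n)).comp hS.extClass rfl = 0 := by
  rw [Ext.comp_assoc_of_second_deg_zero, hS.comp_extClass]
  exact Ext.comp_zero x _ _ _ _

theorem comp_extClass_f {P : C} {S : ShortComplex C} (hS : S.ShortExact) {n : ℕ}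
    (x : Ext P S.X₃ n) :
    (x.comp hS.extClass rfl).comp (Ext.mk₀ S.f) (add_zero (n + 1)) = 0 := by
  rw [Ext.comp_assoc_of_third_deg_zero, hS.extClass_comp]
  exact Ext.comp_zero x _ _ _ _

theorem comp_naturality {P : C} {S S' : ShortComplex C} (hS : S.ShortExact)
    (hS' : S'.ShortExact) (φ : S ⟶ S') {n : ℕ} (x : Ext P S.X₃ n) :
    (x.comp (Ext.mk₀ φ.τ₃) (add_zero n)).comp hS'.extClass rfl =
      (x.comp hS.extClass rfl).comp (Ext.mk₀ φ.τ₁) (add_zero (n + 1)) := by
  rw [Ext.comp_assoc_of_third_deg_zero, Ext.comp_assoc_of_second_deg_zero,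
    ShortComplex.ShortExact.extClass_naturality hS hS' φ]

variable (P : C) {C' : Type (u + 1)} [Category.{u} C'] [Abelian C'] (G : C' ⥤ C) [G.Additive]
  (hG : ∀ {S : ShortComplex C'}, S.ShortExact → (S.map G).ShortExact)

theorem extObj_additive (n : ℕ) : (G ⋙ extFunctorObj P n).Additive where
  map_add {X Y f g} := by
    ext x
    change Ext.comp x (Ext.mk₀ (G.map (f + g))) (add_zero n) =
      Ext.comp x (Ext.mk₀ (G.map f)) (add_zero n) + Ext.comp x (Ext.mk₀ (G.map g)) (add_zero n)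
    rw [G.map_add, Ext.mk₀_add]
    exact Ext.comp_add _ _ _ _

/-- The delta functor `M ↦ Ext^n(P, G M)` for an exact functor `G`. -/
noncomputable def extDF : DeltaFunctor C' AddCommGrpCat.{u} where
  T n := G ⋙ extFunctorObj P n
  additive n := extObj_additive P G n
  δ hS n := AddCommGrpCat.ofHom ((hG hS).extClass.postcomp P rfl)
  naturality {S S'} hS hS' φ n := by
    ext x
    exact comp_naturality (hG hS) (hG hS') (G.mapShortComplex.map φ) x
  zero₃ {S} hS n := by
    ext x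
    exact comp_g_extClass (hG hS) x
  zero₁ {S} hS n := by
    ext x
    exact comp_extClass_f (hG hS) x
  exact₂ {S} hS n := by
    rw [ShortComplex.ab_exact_iff]
    intro x hx
    exact Ext.covariant_sequence_exact₂ P (hG hS) x hx
  exact₃ {S} hS n := by
    rw [ShortComplex.ab_exact_iff]
    intro x hx
    exact Ext.covariant_sequence_exact₃ P (hG hS) x rfl hx
  exact₁ {S} hS n := by
    rw [ShortComplex.ab_exact_iff]
    intro x hx
    exact Ext.covariant_sequence_exact₁ P (hG hS) x hx rfl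

/-- The value of `extDF`. -/
theorem extDF_T (n : ℕ) : (extDF P G hG).T n = G ⋙ extFunctorObj P n := rfl

end General

/-! ### Sheaves on a space -/

section Space

variable {X : TopCat.{u}}

attribute [local instance 3000] hasSheafify hasExt

theorem mono_zMap {U V : Opens X} (h : V ≤ U) : Mono (zMap h) :=
  CohtopA.FreeAb.freeAbMap_mono (Opens.grothendieckTopology X) (homOfLE h)

/-- The sequence `0 → Z_U → Z_X → Z_Z → 0` for `Z = X ∖ U`. -/
noncomputable def zSeq (U : Opens X) : ShortComplex (CohTop.Ab X) :=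
  ShortComplex.mk (zMap (le_top : U ≤ ⊤)) (cokernel.π (zMap (le_top : U ≤ ⊤)))
    (cokernel.condition _)

theorem zSeq_shortExact (U : Opens X) : (zSeq U).ShortExact :=
  haveI := mono_zMap (le_top : U ≤ ⊤)
  shortExact_cokernel (zMap (le_top : U ≤ ⊤))

/-- The sheaf `Z_Z`, `Z = X ∖ U`. -/
noncomputable abbrev zZ (U : Opens X) : CohTop.Ab X := (zSeq U).X₃

/-- Cohomology with supports in `X ∖ U`. -/
def EZ (F : CohTop.Ab X) (n : ℕ) (U : Opens X) : Type u := Ext.{u} (zZ U) F n

noncomputable instance (F : CohTop.Ab X) (n : ℕ) (U : Opens X) : AddCommGroup (EZ F n U) :=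
  inferInstanceAs (AddCommGroup (Ext.{u} (zZ U) F n))

/-- Functoriality in the sheaf. -/
noncomputable def EZ.map {F G : CohTop.Ab X} (φ : F ⟶ G) (n : ℕ) (U : Opens X) :
    EZ F n U →+ EZ G n U :=
  (Ext.mk₀ φ).postcomp (zZ U) (add_zero n)

theorem EZ.map_def {F G : CohTop.Ab X} (φ : F ⟶ G) (n : ℕ) (U : Opens X) (x : EZ F n U) :
    EZ.map φ n U x = Ext.comp x (Ext.mk₀ φ) (add_zero n) := rfl

/-- Forget supports. -/
noncomputable def forg (F : CohTop.Ab X) (n : ℕ) (U : Opens X) : EZ F n U →+ E F n ⊤ :=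
  (Ext.mk₀ (zSeq U).g).precomp F (zero_add n)

theorem forg_def (F : CohTop.Ab X) (n : ℕ) (U : Opens X) (x : EZ F n U) :
    forg F n U x = Ext.comp (Ext.mk₀ (zSeq U).g) x (zero_add n) := rfl

/-- The boundary. -/
noncomputable def bdry (F : CohTop.Ab X) (n : ℕ) (U : Opens X) : E F n U →+ EZ F (n + 1) U :=
  (zSeq_shortExact U).extClass.precomp F (add_comm 1 n)

theorem bdry_def (F : CohTop.Ab X) (n : ℕ) (U : Opens X) (x : E F n U) :
    bdry F n U x = Ext.comp (zSeq_shortExact U).extClass x (add_comm 1 n) := rfl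

theorem bdry_map {F G : CohTop.Ab X} (φ : F ⟶ G) (n : ℕ) (U : Opens X) (x : E F n U) :
    bdry G n U (E.map φ n U x) = EZ.map φ (n + 1) U (bdry F n U x) := by
  rw [bdry_def, bdry_def, EZ.map_def, E.map_def]
  exact (Ext.comp_assoc_of_third_deg_zero (zSeq_shortExact U).extClass x (Ext.mk₀ φ)
    (add_comm 1 n)).symm

theorem forg_map {F G : CohTop.Ab X} (φ : F ⟶ G) (n : ℕ) (U : Opens X) (x : EZ F n U) :
    forg G n U (EZ.map φ n U x) = E.map φ n ⊤ (forg F n U x) := by
  rw [forg_def, forg_def, EZ.map_def, E.map_def]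
  exact (Ext.comp_assoc_of_third_deg_zero (Ext.mk₀ (zSeq U).g) x (Ext.mk₀ φ)
    (zero_add n)).symm

theorem exact_bdry (F : CohTop.Ab X) (n : ℕ) (U : Opens X) (x : E F n U)
    (hx : bdry F n U x = 0) : ∃ y, E.res F n le_top y = x :=
  Ext.contravariant_sequence_exact₁ (zSeq_shortExact U) F x (add_comm 1 n) hx

theorem exact_res (F : CohTop.Ab X) (n : ℕ) (U : Opens X) (x : E F n ⊤)
    (hx : E.res F n (le_top : U ≤ ⊤) x = 0) : ∃ y, forg F n U y = x :=
  Ext.contravariant_sequence_exact₂ (zSeq_shortExact U) F x hx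

theorem exact_forg (F : CohTop.Ab X) (n : ℕ) (U : Opens X) (x : EZ F (n + 1) U)
    (hx : forg F (n + 1) U x = 0) : ∃ y, bdry F n U y = x :=
  Ext.contravariant_sequence_exact₃ (zSeq_shortExact U) F x hx (add_comm 1 n)

theorem bdry_res (F : CohTop.Ab X) (n : ℕ) (U : Opens X) (x : E F n ⊤) :
    bdry F n U (E.res F n le_top x) = 0 := by
  rw [bdry_def, E.res_def]
  exact (zSeq_shortExact U).extClass_comp_assoc x

theorem forg_injective_zero (F : CohTop.Ab X) (U : Opens X) (x : EZ F 0 U)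
    (hx : forg F 0 U x = 0) : x = 0 := by
  have := (zSeq_shortExact U).epi_g
  obtain ⟨f, rfl⟩ : ∃ f : zZ U ⟶ F, Ext.mk₀ f = x :=
    ⟨Ext.addEquiv₀ x, Ext.addEquiv₀.symm_apply_apply x⟩
  rw [forg_def, Ext.mk₀_comp_mk₀] at hx
  have h1 : (zSeq U).g ≫ f = 0 := (Ext.mk₀_eq_zero_iff _).1 hx
  have h2 : f = 0 := (cancel_epi (zSeq U).g).1 (by rw [h1, comp_zero])
  subst h2
  exact Ext.mk₀_zero _ _

theorem res_forg (F : CohTop.Ab X) (n : ℕ) (U : Opens X) (x : EZ F n U) :
    E.res F n (le_top : U ≤ ⊤) (forg F n U x) = 0 := by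
  rw [forg_def, E.res_def]
  change (Ext.mk₀ (zSeq U).f).comp ((Ext.mk₀ (zSeq U).g).comp x (zero_add n)) (zero_add n) = 0
  rw [Ext.mk₀_comp_mk₀_assoc, (zSeq U).zero, Ext.mk₀_zero]
  exact Ext.zero_comp _ _ _ _ _

end Space

end Groth.Agent.Localalg.HSupp
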