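import Groth.Agent.Localalg.HSupp
import Groth.Agent.Localalg.LCInst
import Groth.Agent.Localalg.FaltLC
import Groth.Agent.FormalA.TildeAb
import Groth.Agent.CohtopA.Flasque
import Groth.Agent.PerfC.QCohInj

/-!
# Local cohomology and cohomology of the punctured spectrum

For a Noetherian ring `A`, an ideal `I` and `U = Spec A ∖ V(I)`:

* `hvIso I n : H^{n+1}(U, M~) ≅ H^{n+2}_I(M)`, natural in `M`;
* `bd I : Γ(U, M~) → H^1_I(M)`, natural in `M`, with the exact sequence
  `0 → Γ_I(M) → M → Γ(U, M~) → H^1_I(M) → 0`.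
-/

set_option autoImplicit false
universe u

open CategoryTheory TopologicalSpace Opposite CategoryTheory.Limits AlgebraicGeometry Abelian
open Groth.Agent.Localalg.DeltaFun Groth.Agent.Localalg.Gam Groth.Agent.Localalg.LCAbs
open Groth.Agent.FormalA.HUBasic Groth.Agent.FormalA.TildeAb Groth.Agent.Localalg.HSupp

namespace Groth.Agent.Localalg.HVLC

/-! ### Spectra of Noetherian rings -/

section Affine

attribute [local instance 3000] hasSheafify hasExt

variable {A : Type u} [CommRing A]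

theorem isFlasque_tAb [IsNoetherianRing A] (J : ModuleCat.{u} A) [Injective J] :
    TopCat.Sheaf.IsFlasque ((tAb A).obj J) := by
  constructor
  intro U V i
  rw [AddCommGrpCat.epi_iff_surjective]
  exact PerfC.QCohInj.tilde_map_surjective (R := CommRingCat.of A) J (leOfHom i.unop)

theorem subsingleton_E_injective [IsNoetherianRing A] (J : ModuleCat.{u} A) [Injective J]
    (n : ℕ) (U : Opens (SpT A)) (x : E ((tAb A).obj J) (n + 1) U) : x = 0 := by
  have := isFlasque_tAb J
  exact CohtopA.Flasque.ext_succ_eq_zero_of_isFlasque ((tAb A).obj J) U n x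

theorem equiv₀_symm_toSec (M : ModuleCat.{u} A) (U V : Opens (SpT A)) (h : V ≤ U) (s : sec M U) :
    E.res ((tAb A).obj M) 0 h ((equiv₀ ((tAb A).obj M) U).symm s) =
      (equiv₀ ((tAb A).obj M) V).symm (secRes M h s) := by
  apply (equiv₀ ((tAb A).obj M) V).injective
  rw [equiv₀_res, AddEquiv.apply_symm_apply, AddEquiv.apply_symm_apply]
  rfl

theorem toSec_top_bijective (M : ModuleCat.{u} A) : Function.Bijective (toSec M ⊤) := by
  have h := (tilde.isoTop (R := CommRingCat.of A) M)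
  exact (ConcreteCategory.bijective_of_isIso (tilde.isoTop (R := CommRingCat.of A) M).hom)

theorem surjective_top {S : ShortComplex (ModuleCat.{u} A)} (hS : S.ShortExact)
    (x : E ((tAb A).obj S.X₃) 0 ⊤) :
    ∃ y : E ((tAb A).obj S.X₂) 0 ⊤, E.map ((tAb A).map S.g) 0 ⊤ y = x := by
  obtain ⟨m, hm⟩ := (toSec_top_bijective S.X₃).2 (equiv₀ _ _ x)
  obtain ⟨m', rfl⟩ := (ModuleCat.epi_iff_surjective _).1 hS.epi_g m
  refine ⟨(equiv₀ _ _).symm (toSec S.X₂ ⊤ m'), ?_⟩
  apply (equiv₀ _ _).injective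
  rw [equiv₀_map, AddEquiv.apply_symm_apply, ← hm]
  exact toSec_map_apply S.g ⊤ m'

/-- Serre vanishing on `Spec A`, `A` Noetherian. -/
theorem eq_zero_top [IsNoetherianRing A] (n : ℕ) (M : ModuleCat.{u} A)
    (x : E ((tAb A).obj M) (n + 1) ⊤) : x = 0 := by
  induction n generalizing M with
  | zero =>
    obtain ⟨y, rfl⟩ := exact₁ (tAb_shortExact (injSES_shortExact M)) 0 ⊤ x
      (subsingleton_E_injective (Injective.under M) 0 ⊤ _)
    obtain ⟨z, rfl⟩ := surjective_top (injSES_shortExact M) y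
    exact g_δ (tAb_shortExact (injSES_shortExact M)) 0 ⊤ z
  | succ n ih =>
    obtain ⟨y, rfl⟩ := exact₁ (tAb_shortExact (injSES_shortExact M)) (n + 1) ⊤ x
      (subsingleton_E_injective (Injective.under M) (n + 1) ⊤ _)
    have hy : y = 0 := ih _ y
    exact (congrArg _ hy).trans (map_zero _)

variable (A) in
/-- The delta functor of cohomology of `M~` with supports in `Spec A ∖ U`. -/
noncomputable def dz (U : Opens (SpT A)) : DeltaFunctor (ModuleCat.{u} A) AddCommGrpCat.{u} :=
  extDF (zZ U) (tAb A) tAb_shortExact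

theorem dz_effaceable [IsNoetherianRing A] (U : Opens (SpT A)) : (dz A U).Effaceable := by
  intro J hJ n
  have key : ∀ x : EZ ((tAb A).obj J) (n + 1) U, x = 0 := by
    intro x
    obtain ⟨y, rfl⟩ := exact_forg _ n U x (eq_zero_top n J _)
    cases n with
    | zero =>
      have := isFlasque_tAb J
      have hs : Function.Surjective (((tAb A).obj J).obj.map (homOfLE (le_top : U ≤ ⊤)).op) :=
        PerfC.QCohInj.tilde_map_surjective (R := CommRingCat.of A) J le_top
      obtain ⟨s, hs⟩ := hs (equiv₀ _ _ y)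
      have : y = E.res _ 0 le_top ((equiv₀ ((tAb A).obj J) ⊤).symm s) := by
        apply (equiv₀ _ _).injective
        rw [equiv₀_res, AddEquiv.apply_symm_apply, hs]
      rw [this, bdry_res]
    | succ n =>
      rw [subsingleton_E_injective J n U y, map_zero]
  have : Subsingleton ((dz A U).T (n + 1) |>.obj J) := ⟨fun x y => (key x).trans (key y).symm⟩
  exact AddCommGrpCat.isZero_of_subsingleton _

/-! ### Degree zero -/

/-- Evaluation of classes with supports in degree `0`, as sections over the whole space. -/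
noncomputable def evZ (F : CohTop.Ab (SpT A)) (U : Opens (SpT A)) :
    EZ F 0 U →+ F.obj.obj (op ⊤) :=
  (equiv₀ F ⊤).toAddMonoidHom.comp (forg F 0 U)

theorem evZ_injective (F : CohTop.Ab (SpT A)) (U : Opens (SpT A)) :
    Function.Injective (evZ F U) := by
  rw [injective_iff_map_eq_zero]
  intro x hx
  exact forg_injective_zero F U x ((AddEquiv.map_eq_zero_iff (equiv₀ F ⊤)).1 hx)

theorem evZ_map {F G : CohTop.Ab (SpT A)} (φ : F ⟶ G) (U : Opens (SpT A)) (x : EZ F 0 U) :
    evZ G U (EZ.map φ 0 U x) = φ.hom.app (op ⊤) (evZ F U x) := by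
  change equiv₀ G ⊤ (forg G 0 U (EZ.map φ 0 U x)) = _
  rw [forg_map, equiv₀_map]
  rfl

theorem res_evZ (F : CohTop.Ab (SpT A)) (U : Opens (SpT A)) (x : EZ F 0 U) :
    F.obj.map (homOfLE (le_top : U ≤ ⊤)).op (evZ F U x) = 0 := by
  change F.obj.map (homOfLE (le_top : U ≤ ⊤)).op (equiv₀ F ⊤ (forg F 0 U x)) = 0
  rw [← equiv₀_res, res_forg, map_zero]

theorem exists_evZ (F : CohTop.Ab (SpT A)) (U : Opens (SpT A)) (s : F.obj.obj (op ⊤))
    (hs : F.obj.map (homOfLE (le_top : U ≤ ⊤)).op s = 0) : ∃ x : EZ F 0 U, evZ F U x = s := by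
  obtain ⟨x, hx⟩ := exact_res F 0 U ((equiv₀ F ⊤).symm s) (by
    apply (equiv₀ F U).injective
    rw [equiv₀_res, AddEquiv.apply_symm_apply, hs, map_zero])
  exact ⟨x, by
    change equiv₀ F ⊤ (forg F 0 U x) = s
    rw [hx, AddEquiv.apply_symm_apply]⟩

theorem basicOpen_le_iff (I : Ideal A) (f : A) :
    (PrimeSpectrum.basicOpen f : (Spec (CommRingCat.of A)).Opens) ≤ LocCoh.puncturedOpen A I ↔
      f ∈ I.radical := by
  have : (PrimeSpectrum.basicOpen f : (Spec (CommRingCat.of A)).Opens) ≤ LocCoh.puncturedOpen A I ↔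
      PrimeSpectrum.zeroLocus (I : Set A) ⊆ PrimeSpectrum.zeroLocus {f} := by
    rw [← Set.compl_subset_compl, ← PrimeSpectrum.basicOpen_eq_zeroLocus_compl]
    rfl
  rw [this, ← PrimeSpectrum.zeroLocus_span {f}, PrimeSpectrum.zeroLocus_subset_zeroLocus_iff,
    Ideal.span_singleton_le_iff_mem]

theorem toSec_eq_zero_iff {I : Ideal A} (hI : I.FG) (M : ModuleCat.{u} A) (m : M) :
    toSec M (LocCoh.puncturedOpen A I) m = 0 ↔ m ∈ gam I M := by
  constructor
  · intro h
    have h1 : I ≤ (Ideal.torsionOf A M m).radical := by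
      intro f hf
      have hle := (basicOpen_le_iff I f).2 (Ideal.le_radical hf)
      have h2 : toSec M (PrimeSpectrum.basicOpen f) m = 0 := by
        rw [← toSec_res_apply M hle, h, map_zero]
      obtain ⟨⟨_, n, rfl⟩, hn⟩ := (IsLocalizedModule.eq_zero_iff (Submonoid.powers f)
        (toSec M (PrimeSpectrum.basicOpen f)).hom).1 h2
      exact ⟨n, (Ideal.mem_torsionOf_iff m (f ^ n)).2 hn⟩
    obtain ⟨n, hn⟩ := Ideal.exists_pow_le_of_le_radical_of_fg h1 hI
    exact ⟨n, fun a ha => (Ideal.mem_torsionOf_iff m a).1 (hn ha)⟩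
  · rintro ⟨n, hn⟩
    apply sec_ext
    intro f hf
    obtain ⟨k, hk⟩ := (basicOpen_le_iff I f).1 hf
    rw [toSec_res_apply, map_zero]
    refine (IsLocalizedModule.eq_zero_iff (Submonoid.powers f)
        (toSec M (PrimeSpectrum.basicOpen f)).hom).2 ⟨⟨f ^ (k * n), _, rfl⟩, ?_⟩
    have h3 : f ^ (k * n) ∈ I ^ n := by
      rw [pow_mul]
      exact Ideal.pow_mem_pow hk n
    exact hn _ h3

/-- `M ≃ Γ(Spec A, M~)` -/
noncomputable def topEquiv (M : ModuleCat.{u} A) : M ≃+ sec M ⊤ :=
  AddEquiv.ofBijective (toSec M ⊤).hom.toAddMonoidHom (toSec_top_bijective M)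

theorem topEquiv_apply (M : ModuleCat.{u} A) (m : M) : topEquiv M m = toSec M ⊤ m := rfl

theorem topEquiv_symm_mem {I : Ideal A} (hI : I.FG) (M : ModuleCat.{u} A)
    (x : EZ ((tAb A).obj M) 0 (LocCoh.puncturedOpen A I)) :
    (topEquiv M).symm (evZ _ _ x) ∈ gam I M := by
  rw [← toSec_eq_zero_iff hI, ← toSec_res_apply M le_top, ← topEquiv_apply,
    AddEquiv.apply_symm_apply]
  exact res_evZ _ _ x

/-- Evaluation, with values in the module of sections. -/
noncomputable def evM (M : ModuleCat.{u} A) (U : Opens (SpT A)) :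
    EZ ((tAb A).obj M) 0 U →+ sec M ⊤ := evZ ((tAb A).obj M) U

/-- The comparison in degree `0`. -/
noncomputable def zeroHom {I : Ideal A} (hI : I.FG) (M : ModuleCat.{u} A) :
    EZ ((tAb A).obj M) 0 (LocCoh.puncturedOpen A I) →+ gam I M where
  toFun x := ⟨(topEquiv M).symm (evM M _ x), topEquiv_symm_mem hI M x⟩
  map_zero' := Subtype.ext (map_zero ((topEquiv M).symm.toAddMonoidHom.comp (evM M _)))
  map_add' x y := Subtype.ext (map_add ((topEquiv M).symm.toAddMonoidHom.comp (evM M _)) x y)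

theorem zeroHom_spec {I : Ideal A} (hI : I.FG) (M : ModuleCat.{u} A)
    (x : EZ ((tAb A).obj M) 0 (LocCoh.puncturedOpen A I)) :
    toSec M ⊤ (zeroHom hI M x : M) = evZ _ _ x :=
  (topEquiv M).apply_symm_apply (evZ _ _ x)

theorem zeroHom_bijective {I : Ideal A} (hI : I.FG) (M : ModuleCat.{u} A) :
    Function.Bijective (zeroHom hI M) := by
  constructor
  · intro x y h
    apply evZ_injective
    rw [← zeroHom_spec hI M x, ← zeroHom_spec hI M y, h]
  · rintro ⟨m, hm⟩
    obtain ⟨x, hx⟩ := exists_evZ ((tAb A).obj M) (LocCoh.puncturedOpen A I) (toSec M ⊤ m) (by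
      exact (toSec_res_apply M le_top m).trans ((toSec_eq_zero_iff hI M m).2 hm))
    refine ⟨x, Subtype.ext ((topEquiv M).injective ?_)⟩
    exact (zeroHom_spec hI M x).trans hx

theorem zeroHom_map {I : Ideal A} (hI : I.FG) {M N : ModuleCat.{u} A} (φ : M ⟶ N)
    (x : EZ ((tAb A).obj M) 0 (LocCoh.puncturedOpen A I)) :
    zeroHom hI N (EZ.map ((tAb A).map φ) 0 _ x) = gamMap I φ.hom (zeroHom hI M x) := by
  apply Subtype.ext
  apply (topEquiv N).injective
  refine (zeroHom_spec hI N _).trans ?_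
  rw [evZ_map, ← zeroHom_spec hI M]
  exact toSec_map_apply φ ⊤ _

/-- The comparison in degree `0` as an isomorphism of functors. -/
noncomputable def dzZero {I : Ideal A} (hI : I.FG) :
    (dz A (LocCoh.puncturedOpen A I)).T 0 ≅
      gamFunctor I ⋙ forget₂ (ModuleCat.{u} A) AddCommGrpCat.{u} :=
  NatIso.ofComponents
    (fun M => (AddEquiv.ofBijective (zeroHom hI M) (zeroHom_bijective hI M)).toAddCommGrpIso)
    (fun {M N} φ => by
      ext x
      exact zeroHom_map hI φ x)

/-- `H^n` with supports in `V(I)` of `M~` is the local cohomology of `M`. -/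
theorem exists_dzIso [IsNoetherianRing A] (I : Ideal A) :
    ∃ E : ∀ n, (dz A (LocCoh.puncturedOpen A I)).T n ≅
        localCohomology.{u} I n ⋙ forget₂ (ModuleCat.{u} A) AddCommGrpCat.{u},
      E 0 = dzZero (IsNoetherian.noetherian I) ≪≫
        Functor.isoWhiskerRight (lc I).zero.symm (forget₂ (ModuleCat.{u} A) AddCommGrpCat.{u}) ∧
      ∀ {S : ShortComplex (ModuleCat.{u} A)} (hS : S.ShortExact) (n : ℕ),
        (E n).hom.app S.X₃ ≫ (forget₂ (ModuleCat.{u} A) AddCommGrpCat.{u}).map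
            ((lc I).D.δ hS n) =
          (dz A (LocCoh.puncturedOpen A I)).δ hS n ≫ (E (n + 1)).hom.app S.X₁ := by
  obtain ⟨E, h1, h2⟩ := exists_iso (T := dz A (LocCoh.puncturedOpen A I))
    (T' := (lc I).D.postcomp (forget₂ (ModuleCat.{u} A) AddCommGrpCat.{u}))
    (dz_effaceable _) (fun J hJ n => (forget₂ (ModuleCat.{u} A) AddCommGrpCat.{u}).map_isZero
      ((lc I).eff J n))
    (dzZero (IsNoetherian.noetherian I) ≪≫
      Functor.isoWhiskerRight (lc I).zero.symm (forget₂ (ModuleCat.{u} A) AddCommGrpCat.{u}))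
  exact ⟨E, h1, h2⟩

/-! ### Comparison with the punctured spectrum -/

theorem bdry_bijective [IsNoetherianRing A] (M : ModuleCat.{u} A) (n : ℕ) (U : Opens (SpT A)) :
    Function.Bijective (bdry ((tAb A).obj M) (n + 1) U) := by
  constructor
  · rw [injective_iff_map_eq_zero]
    intro x hx
    obtain ⟨y, rfl⟩ := exact_bdry _ _ _ x hx
    rw [eq_zero_top n M y, map_zero]
  · intro x
    exact exact_forg _ _ _ x (eq_zero_top (n + 1) M _)

/-- The restriction map in degree zero as a map of sections. -/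
theorem exact_toSec_bdry (M : ModuleCat.{u} A) (U : Opens (SpT A)) (s : sec M U) :
    bdry ((tAb A).obj M) 0 U ((equiv₀ ((tAb A).obj M) U).symm s) = 0 ↔
      ∃ m : M, toSec M U m = s := by
  constructor
  · intro h
    obtain ⟨y, hy⟩ := exact_bdry _ _ _ _ h
    obtain ⟨m, hm⟩ := (toSec_top_bijective M).2 (equiv₀ _ _ y)
    refine ⟨m, ?_⟩
    have h1 := congrArg (equiv₀ ((tAb A).obj M) U) hy
    rw [equiv₀_res, AddEquiv.apply_symm_apply, ← hm] at h1
    exact (toSec_res_apply M le_top m).symm.trans h1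
  · rintro ⟨m, rfl⟩
    rw [← toSec_res_apply M le_top, ← equiv₀_symm_toSec, bdry_res]

theorem bdry_zero_surjective [IsNoetherianRing A] (M : ModuleCat.{u} A) (U : Opens (SpT A))
    (x : EZ ((tAb A).obj M) 1 U) :
    ∃ s : sec M U, bdry ((tAb A).obj M) 0 U ((equiv₀ ((tAb A).obj M) U).symm s) = x := by
  obtain ⟨y, hy⟩ := exact_forg _ _ _ x (eq_zero_top 0 M _)
  exact ⟨equiv₀ _ _ y, by rw [AddEquiv.symm_apply_apply, hy]⟩

/-- The values of `dz`. -/
noncomputable def toDz (U : Opens (SpT A)) (n : ℕ) (M : ModuleCat.{u} A) :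
    EZ ((tAb A).obj M) n U ≃+ ((dz A U).T n).obj M := AddEquiv.refl _

theorem toDz_map (U : Opens (SpT A)) (n : ℕ) {M N : ModuleCat.{u} A} (φ : M ⟶ N)
    (x : EZ ((tAb A).obj M) n U) :
    toDz U n N (EZ.map ((tAb A).map φ) n U x) = ((dz A U).T n).map φ (toDz U n M x) := rfl

/-- Isomorphisms of functors to abelian groups, elementwise. -/
theorem natIso_elem {C : Type (u + 1)} [Category.{u} C] {F G : C ⥤ AddCommGrpCat.{u}} (E : F ≅ G)
    {M N : C} (φ : M ⟶ N) (x : F.obj M) :
    (E.app N).addCommGroupIsoToAddEquiv (F.map φ x) =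
      G.map φ ((E.app M).addCommGroupIsoToAddEquiv x) :=
  ConcreteCategory.congr_hom (E.hom.naturality φ) x

/-- Cohomology of `M~` with supports in `V(I)` is the local cohomology `H^n_I(M)`, naturally. -/
theorem exists_ezEquiv [IsNoetherianRing A] (I : Ideal A) (n : ℕ) :
    ∃ e : ∀ M : ModuleCat.{u} A, EZ ((tAb A).obj M) n (LocCoh.puncturedOpen A I) ≃+
        (localCohomology.{u} I n).obj M,
      ∀ {M N : ModuleCat.{u} A} (φ : M ⟶ N) (x : EZ ((tAb A).obj M) n (LocCoh.puncturedOpen A I)),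
        e N (EZ.map ((tAb A).map φ) n _ x) = (localCohomology.{u} I n).map φ (e M x) := by
  obtain ⟨F, -, -⟩ := exists_dzIso I
  refine ⟨fun M => (toDz _ n M).trans ((F n).app M).addCommGroupIsoToAddEquiv, ?_⟩
  intro M N φ x
  rw [AddEquiv.trans_apply, toDz_map]
  exact natIso_elem (F n) φ _

/-- The boundary as an isomorphism in positive degrees. -/
noncomputable def bdryEquiv [IsNoetherianRing A] (M : ModuleCat.{u} A) (n : ℕ)
    (U : Opens (SpT A)) : E ((tAb A).obj M) (n + 1) U ≃+ EZ ((tAb A).obj M) (n + 2) U :=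
  AddEquiv.ofBijective (bdry ((tAb A).obj M) (n + 1) U) (bdry_bijective M n U)

theorem bdryEquiv_apply [IsNoetherianRing A] (M : ModuleCat.{u} A) (n : ℕ)
    (U : Opens (SpT A)) (x : E ((tAb A).obj M) (n + 1) U) :
    bdryEquiv M n U x = bdry ((tAb A).obj M) (n + 1) U x := rfl

theorem localCohomology_smul (I : Ideal A) (n : ℕ) (M : ModuleCat.{u} A) (a : A)
    (x : (localCohomology.{u} I n).obj M) :
    (localCohomology.{u} I n).map (a • 𝟙 M) x = a • x :=
  ConcreteCategory.congr_hom (FaltLC.smul_id (lc I) a n M) x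

/-- `H^{n+1}(U, M~) ≃ H^{n+2}_I(M)` for `U = Spec A ∖ V(I)`, compatible with maps and scalars. -/
theorem exists_hvEquiv [IsNoetherianRing A] (I : Ideal A) (n : ℕ) :
    ∃ e : ∀ M : ModuleCat.{u} A, E ((tAb A).obj M) (n + 1) (LocCoh.puncturedOpen A I) ≃+
        (localCohomology.{u} I (n + 2)).obj M,
      (∀ {M N : ModuleCat.{u} A} (φ : M ⟶ N)
        (x : E ((tAb A).obj M) (n + 1) (LocCoh.puncturedOpen A I)),
        e N (E.map ((tAb A).map φ) (n + 1) _ x) = (localCohomology.{u} I (n + 2)).map φ (e M x)) ∧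
      ∀ (M : ModuleCat.{u} A) (a : A) (x : E ((tAb A).obj M) (n + 1) (LocCoh.puncturedOpen A I)),
        e M (E.map ((tAb A).map (a • 𝟙 M)) (n + 1) _ x) = a • e M x := by
  obtain ⟨F, hF⟩ := exists_ezEquiv I (n + 2)
  have he : ∀ {M N : ModuleCat.{u} A} (φ : M ⟶ N)
      (x : E ((tAb A).obj M) (n + 1) (LocCoh.puncturedOpen A I)),
      ((bdryEquiv N n _).trans (F N)) (E.map ((tAb A).map φ) (n + 1) _ x) =
        (localCohomology.{u} I (n + 2)).map φ (((bdryEquiv M n _).trans (F M)) x) := by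
    intro M N φ x
    rw [AddEquiv.trans_apply, AddEquiv.trans_apply, bdryEquiv_apply, bdryEquiv_apply, bdry_map,
      hF]
  exact ⟨fun M => (bdryEquiv M n _).trans (F M), he, fun M a x => by
    rw [he, localCohomology_smul]⟩

theorem secMap_smul (M : ModuleCat.{u} A) (U : (Spec (CommRingCat.of A)).Opens) (a : A)
    (s : sec M U) : secMap (a • 𝟙 M) U s = a • s := by
  apply sec_ext
  intro f hf
  rw [← secRes_map, map_smul]
  have h := secMap_basicOpen (a • 𝟙 M) f
  have h2 : IsLocalizedModule.map (Submonoid.powers f) (toSec M (PrimeSpectrum.basicOpen f)).hom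
      (toSec M (PrimeSpectrum.basicOpen f)).hom (a • 𝟙 M : M ⟶ M).hom = a • LinearMap.id := by
    apply IsLocalizedModule.ext (Submonoid.powers f) (toSec M (PrimeSpectrum.basicOpen f)).hom
      (IsLocalizedModule.map_units (toSec M (PrimeSpectrum.basicOpen f)).hom)
    rw [IsLocalizedModule.map_comp]
    ext m
    simp
  exact LinearMap.congr_fun (h.trans h2) _

/-- The exact sequence `0 → Γ_I(M) → M → Γ(U, M~) → H^1_I(M) → 0` for `U = Spec A ∖ V(I)`,
naturally in `M` (the kernel of `M → Γ(U, M~)` is `Γ_I(M)` by `toSec_eq_zero_iff`). -/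
theorem exists_bd [IsNoetherianRing A] (I : Ideal A) :
    ∃ d : ∀ M : ModuleCat.{u} A, sec M (LocCoh.puncturedOpen A I) →ₗ[A]
        (localCohomology.{u} I 1).obj M,
      (∀ {M N : ModuleCat.{u} A} (φ : M ⟶ N) (s : sec M (LocCoh.puncturedOpen A I)),
        d N (secMap φ _ s) = (localCohomology.{u} I 1).map φ (d M s)) ∧
      (∀ (M : ModuleCat.{u} A) (s : sec M (LocCoh.puncturedOpen A I)),
        d M s = 0 ↔ ∃ m : M, toSec M _ m = s) ∧
      ∀ M : ModuleCat.{u} A, Function.Surjective (d M) := by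
  obtain ⟨F, hF⟩ := exists_ezEquiv I 1
  let d : ∀ M : ModuleCat.{u} A, sec M (LocCoh.puncturedOpen A I) →+
      (localCohomology.{u} I 1).obj M := fun M =>
    (F M).toAddMonoidHom.comp ((bdry ((tAb A).obj M) 0 _).comp
      (equiv₀ ((tAb A).obj M) (LocCoh.puncturedOpen A I)).symm.toAddMonoidHom)
  have hd : ∀ (M : ModuleCat.{u} A) (s : sec M (LocCoh.puncturedOpen A I)), d M s =
      F M (bdry ((tAb A).obj M) 0 _ ((equiv₀ ((tAb A).obj M) _).symm s)) := fun _ _ => rfl
  have hnat : ∀ {M N : ModuleCat.{u} A} (φ : M ⟶ N) (s : sec M (LocCoh.puncturedOpen A I)),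
        d N (secMap φ _ s) = (localCohomology.{u} I 1).map φ (d M s) := by
    intro M N φ s
    rw [hd, hd, ← hF, ← bdry_map]
    congr 2
    apply (equiv₀ ((tAb A).obj N) _).injective
    rw [AddEquiv.apply_symm_apply, equiv₀_map, AddEquiv.apply_symm_apply]
    rfl
  refine ⟨fun M => { d M with map_smul' := fun a s => ?_ }, ?_, ?_, ?_⟩
  · have := hnat (a • 𝟙 M) s
    rw [secMap_smul, localCohomology_smul] at this
    exact this
  · exact hnat
  · intro M s
    refine Iff.trans ?_ (exact_toSec_bdry M (LocCoh.puncturedOpen A I) s)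
    exact (F M).map_eq_zero_iff
  · intro M x
    obtain ⟨s, hs⟩ := bdry_zero_surjective M (LocCoh.puncturedOpen A I) ((F M).symm x)
    refine ⟨s, ?_⟩
    refine (congrArg (F M) hs).trans ?_
    exact (F M).apply_symm_apply x

end Affine

end Groth.Agent.Localalg.HVLC
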