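import Groth.Agent.Localalg.Wiebe
import Groth.Agent.Localalg.Depth
import Groth.Agent.Sga2.RegExt
import Groth.Agent.Sga2.LefRegExt
import Groth.Agent.S0604
import Groth.Agent.S0563

/-!
# Lifting elements of `Hom(R/I, R/(f, t))` to `Hom(R/I, R/(f))`
-/

set_option autoImplicit false
universe u

namespace Groth.Agent.Localalg.HomLift

open CategoryTheory Abelian Limits RingTheory.Sequence Pointwise
open Groth.Agent.Localalg.Wiebe

section General

variable {A : Type u} [CommRing A]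

/-- `t` acts injectively on `Ext^i(N, M)`. -/
def TI (t : A) (N M : ModuleCat.{u} A) (i : ℕ) : Prop := ∀ y : Ext N M i, t • y = 0 → y = 0

lemma TI.iso {t : A} {N M M' : ModuleCat.{u} A} (e : M ≅ M') {i : ℕ} (h : TI t N M i) : TI t N M' i := by
  intro y hy
  have h1 := h ((Groth.Agent.Sga2.RegExt.extEquivRight N e i).symm y) (by rw [← map_smul, hy, map_zero])
  exact (LinearEquiv.map_eq_zero_iff _).1 h1

lemma TI.of_subsingleton {t : A} {N M : ModuleCat.{u} A} {i : ℕ} (h : Subsingleton (Ext N M i)) : TI t N M i :=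
  fun y _ => h.elim y 0

lemma TI.ses {t : A} {N : ModuleCat.{u} A} {S : ShortComplex (ModuleCat.{u} A)} (hS : S.ShortExact) {i : ℕ}
    (hf : ∀ w : Ext N S.X₁ i, w.comp (Ext.mk₀ S.f) (add_zero i) = 0)
    (h1 : TI t N S.X₂ i) (h2 : TI t N S.X₁ (i + 1)) : TI t N S.X₃ i := by
  intro y hy
  have h3 : y.comp hS.extClass rfl = 0 := h2 _ (by rw [← Ext.smul_comp, hy, Ext.zero_comp])
  obtain ⟨z, hz⟩ := Ext.covariant_sequence_exact₃ N hS y rfl h3
  have h4 : (t • z).comp (Ext.mk₀ S.g) (add_zero i) = 0 := by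
    rw [Ext.smul_comp, hz]; exact hy
  obtain ⟨w, hw⟩ := Ext.covariant_sequence_exact₂ N hS (t • z) h4
  rw [← hz, h1 z (by rw [← hw, hf]), Ext.zero_comp]

lemma comp_smul_id_eq_zero {x : A} {N M : ModuleCat.{u} A} (hN : x ∈ Module.annihilator A N) {i : ℕ}
    (w : Ext N M i) : w.comp (Ext.mk₀ (x • 𝟙 M)) (add_zero i) = 0 := by
  rw [← Ext.smul_eq_comp_mk₀]
  exact Groth.Agent.Localalg.Depth.ext_smul_eq_zero_of_mem_annihilator_left hN _ w

lemma TI.quot {t x : A} {N M : ModuleCat.{u} A} (hx : IsSMulRegular M x)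
    (hN : x ∈ Module.annihilator A N) {i : ℕ} (h1 : TI t N M i) (h2 : TI t N M (i + 1)) :
    TI t N (ModuleCat.of A (QuotSMulTop x M)) i :=
  TI.ses hx.smulShortComplex_shortExact (fun w => comp_smul_id_eq_zero (M := M) hN w) h1 h2

lemma TI.list {t : A} {N : ModuleCat.{u} A} (l : List A) : ∀ (J : Ideal A) (k : ℕ), WR J l →
    (∀ a ∈ l, a ∈ Module.annihilator A N) →
    (∀ i ≤ k + l.length, TI t N (ModuleCat.of A (A ⧸ J)) i) →
    ∀ i ≤ k, TI t N (ModuleCat.of A (A ⧸ (J ⊔ Ideal.ofList l))) i := by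
  induction l with
  | nil =>
    intro J k _ _ h i hi
    have e : (A ⧸ J) ≃ₗ[A] (A ⧸ (J ⊔ Ideal.ofList ([] : List A))) :=
      Submodule.quotEquivOfEq _ _ (by simp)
    exact (h i (by simpa using hi)).iso e.toModuleIso
  | cons x l ih =>
    intro J k hl hN h i hi
    have h1 := ih (J ⊔ Ideal.span {x}) k hl.2 (fun a ha => hN a (List.mem_cons_of_mem _ ha)) (by
      intro j hj
      have hx : IsSMulRegular (ModuleCat.of A (A ⧸ J)) x := (isSMulRegular_iff J x).2 hl.1
      have := TI.quot hx (hN x List.mem_cons_self) (h j (by simp only [List.length_cons]; omega))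
        (h (j + 1) (by simp only [List.length_cons]; omega))
      exact this.iso (quotEquiv J x).toModuleIso) i hi
    have e : (A ⧸ (J ⊔ Ideal.span {x} ⊔ Ideal.ofList l)) ≃ₗ[A] (A ⧸ (J ⊔ Ideal.ofList (x :: l))) :=
      Submodule.quotEquivOfEq _ _ (by rw [Ideal.ofList_cons, sup_assoc])
    exact h1.iso e.toModuleIso

lemma TI.of_ses {t : A} {M : ModuleCat.{u} A} {S : ShortComplex (ModuleCat.{u} A)} (hS : S.ShortExact) {i : ℕ}
    (hf : ∀ w : Ext S.X₂ M i, t • w = 0 → (Ext.mk₀ S.f).comp w (zero_add i) = 0)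
    (h : Subsingleton (Ext S.X₃ M i)) : TI t S.X₂ M i := by
  intro y hy
  obtain ⟨z, hz⟩ := Ext.contravariant_sequence_exact₂ hS M y (hf y hy)
  have : z = 0 := h.elim z 0
  rw [← hz, this, Ext.comp_zero]

lemma mk₀_smul_id_comp {t : A} {N M : ModuleCat.{u} A} {i : ℕ}
    (w : Ext N M i) : (Ext.mk₀ (t • 𝟙 N)).comp w (zero_add i) = t • w := by
  rw [Ext.mk₀_smul, Ext.smul_comp, Ext.mk₀_id_comp]

lemma TI.of_quot_subsingleton {t : A} {N M : ModuleCat.{u} A} (ht : IsSMulRegular N t) {i : ℕ}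
    (h : Subsingleton (Ext (ModuleCat.of A (QuotSMulTop t N)) M i)) : TI t N M i :=
  TI.of_ses ht.smulShortComplex_shortExact
    (fun (w : Ext N M i) hw => (mk₀_smul_id_comp (N := N) w).trans hw) h

lemma hom_lift_ses {t : A} {N : ModuleCat.{u} A} {S : ShortComplex (ModuleCat.{u} A)} (hS : S.ShortExact)
    (hf : ∀ w : Ext N S.X₁ 1, w.comp (Ext.mk₀ S.f) (add_zero 1) = 0 → t • w = 0)
    (h : TI t N S.X₁ 1) (φ : N ⟶ S.X₃) : ∃ ψ : N ⟶ S.X₂, ψ ≫ S.g = φ := by
  have h1 : (Ext.mk₀ φ).comp hS.extClass (zero_add 1) = 0 := by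
    refine h _ (hf _ ?_)
    rw [Ext.comp_assoc_of_third_deg_zero, hS.extClass_comp, Ext.comp_zero]
  obtain ⟨z, hz⟩ := Ext.covariant_sequence_exact₃ N hS (Ext.mk₀ φ) (zero_add 1) h1
  obtain ⟨ψ, rfl⟩ := Ext.homEquiv₀.symm.surjective z
  refine ⟨ψ, ?_⟩
  change (Ext.mk₀ ψ).comp (Ext.mk₀ S.g) (add_zero 0) = Ext.mk₀ φ at hz
  rw [Ext.mk₀_comp_mk₀] at hz
  exact Ext.homEquiv₀.symm.injective hz

/-- surjectivity on `Hom` when `t` is injective on `Ext¹`. -/
lemma exists_hom_lift {t : A} {N M : ModuleCat.{u} A} (hM : IsSMulRegular M t) (h : TI t N M 1)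
    (φ : N ⟶ ModuleCat.of A (QuotSMulTop t M)) : ∃ ψ : N ⟶ M, ψ ≫ (M.smulShortComplex t).g = φ :=
  hom_lift_ses (t := t) hM.smulShortComplex_shortExact
    (fun (w : Ext N M 1) hw => (Ext.smul_eq_comp_mk₀ w t).trans hw) h φ

lemma quotEquiv_mk (J : Ideal A) (t b : A) :
    quotEquiv J t (Submodule.Quotient.mk (Ideal.Quotient.mk J b)) = Ideal.Quotient.mk _ b := rfl

theorem exists_lift [IsNoetherianRing A] [IsLocalRing A] (I : Ideal A) (f : List A) (t : A)
    (hf : IsWeaklyRegular A (f ++ [t])) (hfm : ∀ a ∈ f, a ∈ IsLocalRing.maximalIdeal A)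
    (htm : t ∈ IsLocalRing.maximalIdeal A) (hfI : ∀ a ∈ f, a ∈ I) (htI : IsSMulRegular (A ⧸ I) t)
    (hE : Subsingleton (Ext (ModuleCat.of A (A ⧸ I)) (ModuleCat.of A A) (f.length + 1)))
    (a : A) (ha : ∀ x ∈ I, a * x ∈ Ideal.ofList f ⊔ Ideal.span {t}) :
    ∃ b, (∀ x ∈ I, b * x ∈ Ideal.ofList f) ∧ a - b ∈ Ideal.ofList f ⊔ Ideal.span {t} := by
  have hwr : WR ⊥ (f ++ [t]) := (wr_iff _ _).1
    (((Submodule.quotEquivOfEqBot (⊥ : Ideal A) rfl).isWeaklyRegular_congr _).2 hf)
  have hreg : IsRegular A (f ++ [t]) := by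
    refine (IsLocalRing.isRegular_iff_isWeaklyRegular_of_subset_maximalIdeal ?_).2 hf
    intro r hr
    rcases List.mem_append.1 hr with hr | hr
    · exact hfm r hr
    · rw [List.mem_singleton] at hr; rw [hr]; exact htm
  obtain ⟨hwf, hwt⟩ := (wr_append f [t] ⊥).1 hwr
  have h0 : ∀ i ≤ 1 + f.length, TI t (ModuleCat.of A (A ⧸ I)) (ModuleCat.of A (A ⧸ (⊥ : Ideal A))) i := by
    intro i hi
    refine TI.iso (M := ModuleCat.of A A) (Submodule.quotEquivOfEqBot (⊥ : Ideal A) rfl).symm.toModuleIso ?_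
    rcases Nat.lt_or_ge i (f.length + 1) with h | h
    · refine TI.of_quot_subsingleton (N := ModuleCat.of A (A ⧸ I)) htI ?_
      have : Module.Finite A (ModuleCat.of A (QuotSMulTop t (ModuleCat.of A (A ⧸ I)))) :=
        inferInstanceAs (Module.Finite A ((A ⧸ I) ⧸ _))
      refine Groth.Agent.Sga2.RegExt.subsingleton_ext_of_regular (A := A) _ (ModuleCat.of A A) (f ++ [t]) ?_ hreg i
        (by simpa using h)
      intro x hx
      rw [Module.mem_annihilator]
      intro m
      obtain ⟨m, rfl⟩ := Submodule.Quotient.mk_surjective _ m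
      obtain ⟨m, rfl⟩ := Ideal.Quotient.mk_surjective m
      rcases List.mem_append.1 hx with hx | hx
      · rw [← Submodule.Quotient.mk_smul]
        have : x • (Ideal.Quotient.mk I m) = 0 := by
          rw [Algebra.smul_def, Ideal.Quotient.algebraMap_eq, ← map_mul]
          exact Ideal.Quotient.eq_zero_iff_mem.2 (I.mul_mem_right _ (hfI x hx))
        exact (congrArg _ this).trans (Submodule.Quotient.mk_zero _)
      · rw [List.mem_singleton] at hx
        rw [hx, ← Submodule.Quotient.mk_smul, Submodule.Quotient.mk_eq_zero]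
        exact Submodule.smul_mem_pointwise_smul _ _ _ trivial
    · have : i = f.length + 1 := by omega
      rw [this]
      exact TI.of_subsingleton hE
  have h1 := TI.list f ⊥ 1 hwf (by
    intro x hx
    rw [Module.mem_annihilator]
    intro m
    obtain ⟨m, rfl⟩ := Ideal.Quotient.mk_surjective m
    rw [Algebra.smul_def, Ideal.Quotient.algebraMap_eq, ← map_mul]
    exact Ideal.Quotient.eq_zero_iff_mem.2 (I.mul_mem_right _ (hfI x hx))) h0 1 le_rfl
  set J : Ideal A := ⊥ ⊔ Ideal.ofList f with hJ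
  have hJ' : J = Ideal.ofList f := bot_sup_eq _
  let v : QuotSMulTop t (A ⧸ J) := (quotEquiv J t).symm (Ideal.Quotient.mk _ a)
  have hv : ∀ x ∈ I, x • v = 0 := by
    intro x hx
    change x • (quotEquiv J t).symm (Ideal.Quotient.mk _ a) = 0
    rw [← map_smul, Algebra.smul_def, Ideal.Quotient.algebraMap_eq, ← map_mul]
    have : Ideal.Quotient.mk (J ⊔ Ideal.span {t}) (x * a) = 0 := by
      refine Ideal.Quotient.eq_zero_iff_mem.2 ?_
      rw [hJ', mul_comm]
      exact ha x hx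
    rw [this, map_zero]
  let φ : (A ⧸ I) →ₗ[A] QuotSMulTop t (A ⧸ J) :=
    Submodule.liftQ I (LinearMap.toSpanSingleton A _ v) (fun x hx => by
      rw [LinearMap.mem_ker, LinearMap.toSpanSingleton_apply]
      exact hv x hx)
  have ht : IsSMulRegular (A ⧸ J) t := (isSMulRegular_iff J t).2 hwt.1
  obtain ⟨ψ, hψ⟩ := exists_hom_lift (N := ModuleCat.of A (A ⧸ I)) (M := ModuleCat.of A (A ⧸ J)) ht h1
    (ModuleCat.ofHom φ)
  obtain ⟨b, hb⟩ := Ideal.Quotient.mk_surjective (ψ.hom (Ideal.Quotient.mk I 1))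
  refine ⟨b, fun x hx => ?_, ?_⟩
  · rw [← hJ', ← Ideal.Quotient.eq_zero_iff_mem, mul_comm, map_mul, ← Ideal.Quotient.algebraMap_eq,
      ← Algebra.smul_def, Ideal.Quotient.algebraMap_eq, hb, ← map_smul]
    have : x • (Ideal.Quotient.mk I 1) = 0 := by
      rw [Algebra.smul_def, Ideal.Quotient.algebraMap_eq, ← map_mul]
      exact Ideal.Quotient.eq_zero_iff_mem.2 (I.mul_mem_right _ hx)
    rw [this, map_zero]
  · have h2 : (Submodule.Quotient.mk (ψ.hom (Ideal.Quotient.mk I 1)) : QuotSMulTop t (A ⧸ J)) = v := by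
      have := congrArg (fun g => g.hom (Ideal.Quotient.mk I (1 : A))) hψ
      refine this.trans ?_
      change (LinearMap.toSpanSingleton A _ v) 1 = v
      rw [LinearMap.toSpanSingleton_apply, one_smul]
    rw [← hb] at h2
    have h3 := congrArg (quotEquiv J t) h2
    rw [quotEquiv_mk] at h3
    change _ = quotEquiv J t ((quotEquiv J t).symm _) at h3
    rw [LinearEquiv.apply_symm_apply] at h3
    rw [← hJ']
    exact Ideal.Quotient.eq.1 h3.symm

end General

section Regular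

variable {A : Type u} [CommRing A]

open IsLocalRing in
/-- `pd (A/I) ≤ n` if `dim A = n + 2` and `A/I` has depth at least two. -/
lemma hasProjectiveDimensionLT_quotient [IsRegularLocalRing A] (n : ℕ) (hdim : ringKrullDim A = ((n + 2 : ℕ) : WithBot ℕ∞))
    (I : Ideal A) (t u : A) (ht : t ∈ maximalIdeal A) (hu : u ∈ maximalIdeal A)
    (htu : IsWeaklyRegular (A ⧸ I) [t, u]) :
    HasProjectiveDimensionLT (ModuleCat.of A (A ⧸ I)) (n + 1) := by
  rcases subsingleton_or_nontrivial (A ⧸ I) with hI | hI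
  · have h0 : IsZero (ModuleCat.of A (A ⧸ I)) := by
      have : Subsingleton (ModuleCat.of A (A ⧸ I)) := hI
      exact ModuleCat.isZero_of_subsingleton _
    have := (hasProjectiveDimensionLT_zero_iff_isZero _).2 h0
    exact hasProjectiveDimensionLT_of_ge _ 0 _ (by omega)
  have h1 := Groth.Agent.S0563.result A (n + 2) hdim (A ⧸ I)
  have h2 := projectiveDimension_lt_iff.2 h1
  have h3 : projectiveDimension (ModuleCat.of A (A ⧸ I)) ≠ ⊥ := by
    rw [Ne, projectiveDimension_eq_bot_iff]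
    intro h
    exact not_subsingleton _ (ModuleCat.subsingleton_of_isZero h)
  obtain ⟨e, he⟩ : ∃ e : ℕ, projectiveDimension (ModuleCat.of A (A ⧸ I)) = e := by
    generalize projectiveDimension (ModuleCat.of A (A ⧸ I)) = d at h2 h3
    induction d with
    | bot => exact absurd rfl h3
    | coe d =>
      induction d with
      | top => exact absurd h2 (by simp)
      | coe d => exact ⟨d, rfl⟩
  have h4 := Groth.Agent.S0604.result A (A ⧸ I) e he
  rw [Groth.Agent.Sga2.LefRegExt.depth_self (n + 2) hdim] at h4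
  have h5 : ((2 : ℕ) : ℕ∞) ≤ LocCoh.depth A (A ⧸ I) := by
    refine (Groth.Agent.Localalg.Depth.natCast_le_idealDepth_iff ?_ 2).2 ⟨[t, u], rfl, ?_, ?_⟩
    · intro h
      have hle : I ≤ maximalIdeal A := IsLocalRing.le_maximalIdeal (Ideal.Quotient.nontrivial_iff.1 hI)
      have h5 := Groth.Agent.Localalg.Depth.smul_top_eq_top_iff.1 h
      rw [Ideal.annihilator_quotient, sup_eq_left.2 hle] at h5
      exact (IsLocalRing.maximalIdeal.isMaximal A).ne_top h5
    · intro r hr
      simp only [List.mem_cons, List.not_mem_nil, or_false] at hr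
      rcases hr with rfl | rfl
      · exact ht
      · exact hu
    · refine (IsLocalRing.isRegular_iff_isWeaklyRegular_of_subset_maximalIdeal ?_).2 htu
      intro r hr
      simp only [List.mem_cons, List.not_mem_nil, or_false] at hr
      rcases hr with rfl | rfl
      · exact ht
      · exact hu
  have h6 : e ≤ n := by
    have h7 : ((e + 2 : ℕ) : ℕ∞) ≤ ((n + 2 : ℕ) : ℕ∞) := by
      rw [h4]; push_cast
      exact add_le_add le_rfl (by simpa using h5)
    have : e + 2 ≤ n + 2 := by exact_mod_cast h7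
    omega
  rw [← projectiveDimension_lt_iff, he]
  exact_mod_cast (by omega : e < n + 1)

open IsLocalRing in
/-- Let `A` be regular local of dimension `n + 2`, `f₁,…,fₙ ∈ I`, `t` with `(f, t)` a regular sequence, and
`(t, u)` a regular sequence on `A/I`.  Then `Hom(A/I, A/(f)) → Hom(A/I, A/(f, t))` is surjective. -/
theorem exists_lift_of_isRegularLocalRing [IsRegularLocalRing A] (n : ℕ)
    (hdim : ringKrullDim A = ((n + 2 : ℕ) : WithBot ℕ∞)) (I : Ideal A) (f : List A) (hlen : f.length = n)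
    (t u : A) (ht : t ∈ maximalIdeal A) (hu : u ∈ maximalIdeal A)
    (hf : IsWeaklyRegular A (f ++ [t])) (hfI : ∀ a ∈ f, a ∈ I) (htu : IsWeaklyRegular (A ⧸ I) [t, u])
    (a : A) (ha : ∀ x ∈ I, a * x ∈ Ideal.ofList f ⊔ Ideal.span {t}) :
    ∃ b, (∀ x ∈ I, b * x ∈ Ideal.ofList f) ∧ a - b ∈ Ideal.ofList f ⊔ Ideal.span {t} := by
  by_cases hI : I = ⊤
  · refine ⟨0, fun x _ => by rw [zero_mul]; exact Ideal.zero_mem _, ?_⟩
    rw [sub_zero]
    have := ha 1 (by rw [hI]; trivial)
    rwa [mul_one] at this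
  have hle : I ≤ maximalIdeal A := IsLocalRing.le_maximalIdeal hI
  refine exists_lift I f t hf (fun a ha => hle (hfI a ha)) ht hfI ?_ ?_ a ha
  · exact ((isWeaklyRegular_cons_iff _ _ _).1 htu).1
  · rw [hlen]
    have := hasProjectiveDimensionLT_quotient n hdim I t u ht hu htu
    exact HasProjectiveDimensionLT.subsingleton (ModuleCat.of A (A ⧸ I)) (n + 1) (n + 1) le_rfl _

end Regular

end Groth.Agent.Localalg.HomLift
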