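import Groth.Agent.Localalg.InjDecomp
import Mathlib.RingTheory.LocalRing.ResidueField.Ideal

/-!
# Indecomposable injective modules over Noetherian rings: prime ideals and decomposition
-/

set_option autoImplicit false
universe u v

namespace Groth.Agent.Localalg.InjDecomp2

open Groth.Agent.Localalg.InjDecomp

/-- An injective hull of `R ⧸ p` is also an injective hull of `κ(p)`. -/
theorem exists_hull_residueField {R : Type u} [CommRing R] (p : Ideal R) [p.IsPrime] {E : Type u}
    [AddCommGroup E] [Module R E] (f : (R ⧸ p) →ₗ[R] E) (hf : InjHull.IsInjectiveHull f) :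
    ∃ g : p.ResidueField →ₗ[R] E, InjHull.IsInjectiveHull g := by
  let i : (R ⧸ p) →ₗ[R] p.ResidueField := (IsScalarTower.toAlgHom R (R ⧸ p) p.ResidueField).toLinearMap
  have hi : Function.Injective i := IsFractionRing.injective (R ⧸ p) p.ResidueField
  obtain ⟨g, hg⟩ := hf.isInjective.out i hi f
  refine ⟨g, ⟨⟨?_, ?_⟩, hf.isInjective⟩⟩
  · rw [injective_iff_map_eq_zero]
    intro x hx
    obtain ⟨a, b, hb, rfl⟩ := IsFractionRing.div_surjective (A := R ⧸ p) x
    obtain ⟨c, rfl⟩ := Ideal.Quotient.mk_surjective b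
    have hb0 : algebraMap (R ⧸ p) p.ResidueField (Ideal.Quotient.mk p c) ≠ 0 := by
      rw [Ne, IsFractionRing.to_map_eq_zero_iff]
      exact nonZeroDivisors.ne_zero hb
    have h1 : i a = c • (algebraMap (R ⧸ p) p.ResidueField a /
        algebraMap (R ⧸ p) p.ResidueField (Ideal.Quotient.mk p c)) := by
      rw [Algebra.smul_def, IsScalarTower.algebraMap_apply R (R ⧸ p) p.ResidueField]
      change algebraMap (R ⧸ p) p.ResidueField a = _
      rw [Ideal.Quotient.algebraMap_eq, mul_div_cancel₀ _ hb0]
    have h2 : f a = 0 := by rw [← hg, h1, map_smul, hx, smul_zero]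
    have h3 : a = 0 := hf.injective (h2.trans (map_zero f).symm)
    rw [h3, map_zero, zero_div]
  · intro N hN h
    apply hf.essential N hN
    rw [eq_bot_iff, ← h]
    refine inf_le_inf_left N ?_
    rintro _ ⟨x, rfl⟩
    exact ⟨i x, hg x⟩

/-- A nonzero module over a Noetherian ring contains a copy of `R ⧸ p` with `p` prime. -/
theorem exists_prime_injective (R : Type u) [CommRing R] [IsNoetherianRing R] (E : Type v)
    [AddCommGroup E] [Module R E] [Nontrivial E] :
    ∃ (p : Ideal R) (_ : p.IsPrime) (f : (R ⧸ p) →ₗ[R] E), Function.Injective f := by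
  obtain ⟨p, hp⟩ := associatedPrimes.nonempty R E
  obtain ⟨h1, f, hf⟩ := (isAssociatedPrime_iff_exists_injective_linearMap p E).1 hp
  exact ⟨p, h1, f, hf⟩

/-- The sum of an independent set of injective submodules over a Noetherian ring is injective. -/
theorem injective_sSup {R : Type u} [CommRing R] [IsNoetherianRing R] {I : Type u}
    [AddCommGroup I] [Module R I] (S : Set (Submodule R I)) (hS : sSupIndep S)
    (hinj : ∀ N ∈ S, Module.Injective R N) : Module.Injective R ↥(sSup S) := by
  classical
  have hS' : iSupIndep ((↑) : S → Submodule R I) := (sSupIndep_iff S).1 hS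
  have h1 : Module.Injective R (DirectSum S fun N => (N : Submodule R I)) :=
    injective_directSum (fun N : S => (N : Submodule R I)) (fun N => hinj N.1 N.2)
  have h2 := hS'.dfinsupp_lsum_injective
  have h3 : sSup S = LinearMap.range (DFinsupp.lsum ℕ fun i : S => (i : Submodule R I).subtype) := by
    rw [sSup_eq_iSup', Submodule.iSup_eq_range_dfinsupp_lsum]
  rw [h3]
  exact Module.Baer.injective (Module.Baer.of_equiv (LinearEquiv.ofInjective _ h2)
    (Module.Baer.of_injective h1))

/-- Over a Noetherian ring every injective module is the sum of an independent set of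
indecomposable injective submodules. -/
theorem exists_decomposition {R : Type u} [CommRing R] [IsNoetherianRing R] {I : Type u}
    [AddCommGroup I] [Module R I] (hI : Module.Injective R I) :
    ∃ S : Set (Submodule R I), sSupIndep S ∧ sSup S = ⊤ ∧
      ∀ N ∈ S, InjHull.IsIndecomposable R N ∧ Module.Injective R N := by
  classical
  have zorn := zorn_subset
    (S := {S : Set (Submodule R I) | sSupIndep S ∧
      ∀ N ∈ S, InjHull.IsIndecomposable R N ∧ Module.Injective R N})
    fun c hc1 hc2 =>
      ⟨⋃₀ c, ⟨iSupIndep_sUnion_of_directed hc2.directedOn fun s hs => (hc1 hs).1,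
          fun a ⟨s, sc, as⟩ => (hc1 sc).2 a as⟩,
        fun _ => Set.subset_sUnion_of_mem⟩
  simp_rw [maximal_subset_iff] at zorn
  obtain ⟨S, ⟨hS1, hS2⟩, hmax⟩ := zorn
  refine ⟨S, hS1, ?_, hS2⟩
  have hN : Module.Injective R ↥(sSup S) := injective_sSup S hS1 fun N hN => (hS2 N hN).2
  obtain ⟨e, he⟩ := hN.out (sSup S).subtype Subtype.val_injective LinearMap.id
  have hc : IsCompl (sSup S) (LinearMap.ker e) := LinearMap.isCompl_of_proj he
  by_contra hne
  have hker : Nontrivial ↥(LinearMap.ker e) := by
    rw [Submodule.nontrivial_iff_ne_bot]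
    intro h
    rw [h] at hc
    exact hne (by simpa using hc.sup_eq_top)
  obtain ⟨p, hp, f, hf⟩ := exists_prime_injective R ↥(LinearMap.ker e)
  have hf' : Function.Injective ((LinearMap.ker e).subtype ∘ₗ f) :=
    Subtype.val_injective.comp hf
  have hd : Disjoint (LinearMap.range ((LinearMap.ker e).subtype ∘ₗ f)) (sSup S) := by
    refine hc.disjoint.symm.mono_left ?_
    rintro _ ⟨x, rfl⟩
    exact (f x).2
  obtain ⟨N₁, N₂, h1, h2, h12, hess⟩ := exists_isCompl_essential hI _ _ hd
  let f' : (R ⧸ p) →ₗ[R] N₁ := ((LinearMap.ker e).subtype ∘ₗ f).codRestrict N₁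
    fun x => h1 ⟨x, rfl⟩
  have hf'ess : InjHull.IsEssentialInj f' := by
    refine ⟨fun x y hxy => hf' (congrArg (fun z : N₁ => (z : I)) hxy), fun X hX h => ?_⟩
    refine hess (X.map N₁.subtype) (Submodule.map_subtype_le N₁ X) ?_ ?_
    · intro h0
      refine hX (Submodule.map_injective_of_injective (f := N₁.subtype) Subtype.val_injective ?_)
      rw [h0, Submodule.map_bot]
    · rw [eq_bot_iff]
      rintro _ ⟨⟨x, hx, rfl⟩, ⟨y, hy⟩⟩
      have hx' : x ∈ X ⊓ LinearMap.range f' := ⟨hx, ⟨y, Subtype.ext hy⟩⟩
      rw [h] at hx'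
      have : x = 0 := hx'
      rw [this]; simp
  have hN1ind : InjHull.IsIndecomposable R N₁ := indecomposable_hull_quotient_prime p f' hf'ess
  have hN1inj : Module.Injective R N₁ := injective_of_isCompl hI h12
  have hdN : Disjoint N₁ (sSup S) := h12.disjoint.mono_right h2
  have hN1S : N₁ ∉ S := by
    intro h
    have h3 : N₁ = ⊥ := by
      rw [← disjoint_self]
      exact hdN.mono_right (le_sSup h)
    have := hN1ind.1
    rw [Submodule.nontrivial_iff_ne_bot] at this
    exact this h3
  apply hN1S
  have h4 : sSupIndep (insert N₁ S) := by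
    intro X hX
    rcases eq_or_ne X N₁ with rfl | hXN
    · refine hdN.mono_right (sSup_le_sSup ?_)
      simp
    · have hXS : X ∈ S := (Set.mem_insert_iff.1 hX).resolve_left hXN
      have h5 : insert N₁ S \ {X} = insert N₁ (S \ {X}) := by
        ext Y
        simp only [Set.mem_sdiff, Set.mem_insert_iff, Set.mem_singleton_iff]
        constructor
        · rintro ⟨rfl | h, h'⟩
          · exact Or.inl rfl
          · exact Or.inr ⟨h, h'⟩
        · rintro (rfl | ⟨h, h'⟩)
          · exact ⟨Or.inl rfl, hXN.symm⟩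
          · exact ⟨Or.inr h, h'⟩
      rw [h5, sSup_insert, sup_comm]
      refine (hS1 hXS).disjoint_sup_right_of_disjoint_sup_left ?_
      refine Disjoint.mono_left ?_ hdN.symm
      exact sup_le (le_sSup hXS) (sSup_le_sSup Set.sdiff_subset)
  have h6 := hmax ⟨h4, ?_⟩ (Set.subset_insert N₁ S)
  · rw [h6]; exact Set.mem_insert N₁ S
  · intro X hX
    rcases Set.mem_insert_iff.1 hX with rfl | hX
    · exact ⟨hN1ind, hN1inj⟩
    · exact hS2 X hX

end Groth.Agent.Localalg.InjDecomp2
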