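import Groth.Agent.Localalg.Lech
import Groth.Agent.Localalg.RegTensor
import Groth.Agent.Flat2E.LocalCrit
import Groth.Agent.CalgA.RegBasic
import Groth.Agent.Smoothlim.PowRegular
import Mathlib.RingTheory.RingHom.Flat
import Mathlib.Algebra.CharP.Frobenius
import Mathlib.RingTheory.RegularLocalRing.Defs

/-!
Kunz's theorem: local statements.
-/

set_option autoImplicit false

open TensorProduct IsLocalRing

namespace Groth.Agent.Localalg.Kunz

open Groth.Agent.Localalg.Lech

/-- `R` regular local, `S` Noetherian local, `R → S` local, a system of `dim R` generators of the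
maximal ideal of `R` is weakly regular on `S`; then `S` is flat over `R`. -/
theorem flat_of_weaklyRegular {R S : Type*} [CommRing R] [IsLocalRing R] [IsNoetherianRing R]
    [CommRing S] [IsLocalRing S] [IsNoetherianRing S] [Algebra R S] [IsLocalHom (algebraMap R S)]
    (rs : List R) (hrs : Ideal.ofList rs = maximalIdeal R)
    (h : RingTheory.Sequence.IsWeaklyRegular S rs) : Module.Flat R S := by
  have hfield : IsField (R ⧸ maximalIdeal R) :=
    (Ideal.Quotient.maximal_ideal_iff_isField_quotient _).mp inferInstance
  refine Groth.Agent.Flat2E.LocalCrit.flat_of_rTensor_injective (S := S) (maximalIdeal R) ?_ ?_ ?_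
  · refine le_trans ?_ (IsLocalRing.maximalIdeal_le_jacobson _)
    exact ((local_hom_TFAE (algebraMap R S)).out 0 2).mp ‹_›
  · rw [← hrs]
    exact RegTensor.rTensor_ofList_injective rs h
  · let := hfield.toField
    infer_instance

theorem exists_minimal_generators (R : Type*) [CommRing R] [IsLocalRing R]
    (M : Type*) [AddCommGroup M] [Module R M] [Module.Finite R M] :
    ∃ (n : ℕ) (m : Fin n → M), Submodule.span R (Set.range m) = ⊤ ∧
      ∀ a : Fin n → R, ∑ i, a i • m i = 0 → ∀ i, a i ∈ maximalIdeal R := by
  classical
  let b := Module.finBasis (ResidueField R) (TensorProduct R (ResidueField R) M)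
  have hs : Function.Surjective (TensorProduct.mk R (ResidueField R) M 1) :=
    TensorProduct.mk_surjective R M (ResidueField R) Ideal.Quotient.mk_surjective
  choose m hm using fun i => hs (b i)
  refine ⟨_, m, IsLocalRing.span_eq_top_of_tmul_eq_basis m b hm, ?_⟩
  intro a ha i
  have h1 : ∑ i, (residue R (a i)) • b i = 0 := by
    have := congrArg (TensorProduct.mk R (ResidueField R) M 1) ha
    rw [map_sum, map_zero] at this
    rw [← this]
    refine Finset.sum_congr rfl fun i _ => ?_
    rw [map_smul, hm]
    exact (algebraMap_smul (ResidueField R) (a i) (b i))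
  have h2 := (Fintype.linearIndependent_iff.mp b.linearIndependent) _ h1 i
  exact (residue_eq_zero_iff _).mp h2

/-- Minimal generators of the maximal ideal of a local ring. -/
theorem exists_minimal_generators_maximalIdeal (R : Type*) [CommRing R] [IsLocalRing R]
    [IsNoetherianRing R] :
    ∃ (n : ℕ) (x : Fin n → R), Ideal.span (Set.range x) = maximalIdeal R ∧
      ∀ a : Fin n → R, ∑ i, a i * x i = 0 → ∀ i, a i ∈ maximalIdeal R := by
  obtain ⟨n, m, hm, h⟩ := exists_minimal_generators R (maximalIdeal R)
  refine ⟨n, fun i => (m i : R), ?_, ?_⟩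
  · have := congrArg (Submodule.map (maximalIdeal R).subtype) hm
    rw [Submodule.map_span, Submodule.map_top, Submodule.range_subtype, ← Set.range_comp] at this
    exact this
  · intro a ha
    apply h
    apply Subtype.ext
    rw [AddSubmonoidClass.coe_finsetSum]
    simpa using ha

/-- Images of minimal generators under a flat map are Lech-independent. -/
theorem indep_of_flat {R S : Type*} [CommRing R] [IsLocalRing R] [CommRing S] (φ : R →+* S)
    (hφ : φ.Flat) {ι : Type*} [Fintype ι] (x : ι → R)
    (hx : Ideal.span (Set.range x) = maximalIdeal R)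
    (hmin : ∀ a : ι → R, ∑ i, a i * x i = 0 → ∀ i, a i ∈ maximalIdeal R) :
    Indep (fun i => φ (x i)) := by
  algebraize [φ]
  intro a ha i
  have h1 : ∑ i, x i • a i = 0 := by
    rw [← ha]
    refine Finset.sum_congr rfl fun i _ => ?_
    rw [Algebra.smul_def, mul_comm]
    rfl
  obtain ⟨k, b, y, hb, hb'⟩ := Module.Flat.isTrivialRelation_of_sum_smul_eq_zero h1
  rw [hb i]
  refine Ideal.sum_mem _ fun j _ => ?_
  have h2 : b i j ∈ maximalIdeal R := hmin (fun i => b i j) (by
    rw [← hb' j]
    exact Finset.sum_congr rfl fun i _ => mul_comm _ _) i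
  rw [Algebra.smul_def]
  refine Ideal.mul_mem_right _ _ ?_
  rw [← hx] at h2
  have h3 := Ideal.mem_map_of_mem φ h2
  rw [Ideal.map_span, ← Set.range_comp] at h3
  exact h3

theorem flat_iterateFrobenius (p : ℕ) [Fact p.Prime] (R : Type*) [CommRing R] [CharP R p]
    (h : (frobenius R p).Flat) (e : ℕ) : (iterateFrobenius R p e).Flat := by
  induction e with
  | zero => 
    rw [iterateFrobenius_zero]
    exact RingHom.Flat.id R
  | succ e ih =>
    have : iterateFrobenius R p (e + 1) = (frobenius R p).comp (iterateFrobenius R p e) := by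
      ext x
      simp [iterateFrobenius_def, frobenius_def, pow_succ, pow_mul]
    rw [this]
    exact RingHom.Flat.comp ih h

/-- Kunz: a Noetherian local ring with flat Frobenius is regular. -/
theorem isRegularLocalRing_of_frobenius_flat (p : ℕ) [Fact p.Prime] (R : Type*) [CommRing R]
    [IsLocalRing R] [IsNoetherianRing R] [CharP R p] (h : (frobenius R p).Flat) :
    IsRegularLocalRing R := by
  classical
  obtain ⟨r, x, hx, hmin⟩ := exists_minimal_generators_maximalIdeal R
  obtain ⟨s, hs, hcard⟩ := Ideal.exists_finset_card_eq_height_of_isNoetherianRing (maximalIdeal R)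
  have hart := IsLocalRing.quotient_artinian_of_mem_minimalPrimes_of_isLocalRing _ hs
  -- it suffices to compare `r` and `s.card`
  have hle : r ≤ s.card := by
    let y : s → R := fun a => a.1
    have hyspan : Ideal.span (Set.range y) = Ideal.span (s : Set R) := by
      congr 1
      ext a
      simp [y]
    have hym : ∀ i, y i ∈ maximalIdeal R := fun i =>
      hs.1.2 (Ideal.subset_span i.2)
    -- the constant
    obtain ⟨C, hC⟩ : ∃ C : ℕ, len (Ideal.span (Set.range y)) = C := by
      rw [hyspan]
      have hfin : Module.length R (R ⧸ Ideal.span (s : Set R)) ≠ ⊤ := by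
        rw [Module.length_eq_of_surjective (R := R ⧸ Ideal.span (s : Set R)) (S := R)
          (M := R ⧸ Ideal.span (s : Set R)) Ideal.Quotient.mk_surjective]
        exact Module.length_ne_top
      exact ⟨_, (ENat.natCast_toNat hfin).symm⟩
    have hkey : ∀ e : ℕ, (p ^ e) ^ r ≤ (p ^ e) ^ s.card * C := by
      intro e
      have hp : 0 < p ^ e := pow_pos (Fact.out : p.Prime).pos e
      obtain ⟨q, hq⟩ : ∃ q, p ^ e = q + 1 := ⟨p ^ e - 1, by omega⟩
      have h1 : Indep (fun i => x i ^ (q + 1)) := by
        have := indep_of_flat _ (flat_iterateFrobenius p R h e) x hx hmin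
        simpa [iterateFrobenius_def, hq] using this
      have h2 := h1.length_pow
      have h3 := length_pow_le' y (q + 1)
      have h4 : len (Ideal.span (Set.range (fun i => x i ^ (q + 1)))) ≤
          len (Ideal.span (Set.range (fun i => y i ^ (q + 1)))) := by
        have hle : Ideal.span (Set.range (fun i => y i ^ (q + 1))) ≤
            Ideal.span (Set.range (fun i => x i ^ (q + 1))) := by
          rw [Ideal.span_le]
          rintro _ ⟨i, rfl⟩
          have h5 := hym i
          rw [← hx] at h5
          have h6 := Ideal.mem_map_of_mem (iterateFrobenius R p e) h5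
          rw [Ideal.map_span, ← Set.range_comp] at h6
          have e1 : (⇑(iterateFrobenius R p e) ∘ x) = fun i => x i ^ (q + 1) := by
            funext i
            simp [iterateFrobenius_def, hq]
          rw [e1, iterateFrobenius_def, hq] at h6
          exact h6
        exact Module.length_le_of_surjective (Submodule.factor hle)
          (Submodule.factor_surjective hle)
      rw [h2] at h4
      have h5 := h4.trans h3
      have h6 : len (Ideal.span (Set.range x)) = 1 := by
        rw [hx]
        exact Module.length_eq_one_iff.mpr (isSimpleModule_iff_isCoatom.mpr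
          (maximalIdeal.isMaximal R).out)
      rw [hC, h6, mul_one, Fintype.card_fin, Fintype.card_coe] at h5
      rw [hq]
      exact_mod_cast h5
    by_contra hcon
    push Not at hcon
    obtain ⟨k, hk⟩ := Nat.exists_eq_add_of_lt hcon
    have h7 := hkey C
    have hp2 := (Fact.out : p.Prime).two_le
    have h8 : (p ^ C) ^ r = (p ^ C) ^ s.card * (p ^ C) ^ (k + 1) := by
      rw [hk, ← pow_add]; congr 1
    rw [h8] at h7
    have h9 : (p ^ C) ^ (k + 1) ≤ C := by
      refine Nat.le_of_mul_le_mul_left h7 ?_
      exact pow_pos (pow_pos (by omega) _) _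
    have h10 : C < p ^ C := Nat.lt_pow_self (by omega)
    have h11 : p ^ C ≤ (p ^ C) ^ (k + 1) := by
      rw [pow_succ]
      exact Nat.le_mul_of_pos_left _ (pow_pos (pow_pos (by omega) _) _)
    omega
  refine IsRegularLocalRing.of_spanFinrank_maximalIdeal_le R ?_
  rw [← IsLocalRing.maximalIdeal_height_eq_ringKrullDim, ← hcard]
  have h1 : (maximalIdeal R).spanFinrank ≤ r := by
    rw [← hx]
    refine (Submodule.spanFinrank_span_le_ncard_of_finite (Set.finite_range x)).trans ?_
    rw [← Set.image_univ]
    refine (Set.ncard_image_le Set.finite_univ).trans ?_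
    simp
  exact_mod_cast h1.trans hle

theorem ringHom_flat_of_weaklyRegular {R S : Type*} [CommRing R] [IsLocalRing R]
    [IsNoetherianRing R] [CommRing S] [IsLocalRing S] [IsNoetherianRing S] (φ : R →+* S)
    [hφ : IsLocalHom φ] (rs : List R) (hrs : Ideal.ofList rs = maximalIdeal R)
    (h : RingTheory.Sequence.IsWeaklyRegular S (rs.map φ)) : φ.Flat := by
  algebraize [φ]
  have : IsLocalHom (algebraMap R S) := hφ
  exact flat_of_weaklyRegular (R := R) (S := S) rs hrs
    ((RingTheory.Sequence.isWeaklyRegular_map_algebraMap_iff S S rs).mp h)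

/-- Kunz: the Frobenius of a regular local ring is flat. -/
theorem frobenius_flat_of_isRegularLocalRing (p : ℕ) [Fact p.Prime] (R : Type*) [CommRing R]
    [IsRegularLocalRing R] [CharP R p] : (frobenius R p).Flat := by
  have hloc : IsLocalHom (frobenius R p) := by
    constructor
    intro a ha
    rw [frobenius_def] at ha
    exact (isUnit_pow_iff (Fact.out : p.Prime).ne_zero).mp ha
  -- a regular system of parameters
  have hreg := IsRegularLocalRing.spanFinrank_maximalIdeal (R := R)
  have hfg := (maximalIdeal R).fg_of_isNoetherianRing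
  have hfin : (maximalIdeal R).generators.Finite := Submodule.FG.finite_generators hfg
  have hcard : (maximalIdeal R).generators.ncard = (maximalIdeal R).spanFinrank :=
    Submodule.FG.generators_ncard hfg
  let rs : List R := hfin.toFinset.toList
  have hlen : rs.length = (maximalIdeal R).spanFinrank := by
    rw [Finset.length_toList, ← hcard, Set.ncard_eq_toFinset_card _ hfin]
  have hspan : Ideal.ofList rs = maximalIdeal R := by
    have : {x | x ∈ rs} = (maximalIdeal R).generators := by
      ext x; simp [rs]
    change Ideal.span {x | x ∈ rs} = _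
    rw [this]
    exact (maximalIdeal R).span_generators
  have h1 : RingTheory.Sequence.IsRegular R rs :=
    Groth.Agent.CalgA.RegBasic.isRegular_of_ofList_eq _ R rs hlen hreg.symm hspan
  refine ringHom_flat_of_weaklyRegular (frobenius R p) rs hspan ?_
  obtain ⟨q, hq⟩ : ∃ q, p = q + 1 := ⟨p - 1, by have := (Fact.out : p.Prime).pos; omega⟩
  have h2 := Groth.Agent.Smoothlim.PowRegular.isWeaklyRegular_map_pow_append rs [] q (M := R)
    (by rw [List.append_nil]; exact h1.toIsWeaklyRegular)
  rw [List.append_nil] at h2
  have h3 : rs.map (frobenius R p) = rs.map (fun r => r ^ (q + 1)) := by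
    refine List.map_congr_left fun r _ => ?_
    rw [frobenius_def, ← hq]
  rw [h3]
  exact h2

end Groth.Agent.Localalg.Kunz
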