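import Groth.Agent.Localalg.LCFam

set_option autoImplicit false
universe u v

open CategoryTheory Limits Opposite

namespace Groth.Agent.Localalg.LCBasic

open Groth.Agent.Localalg.LCData Groth.Agent.Localalg

/-! ### Degree zero, general diagrams of ideals -/

section Zero

variable {R : Type u} [CommRing R] {D : Type v} [SmallCategory D] (I : D ⥤ Ideal R)
  {F : ModuleCat.{u} R ⥤ ModuleCat.{u} R}
  (c : LCData (localCohomology.ringModIdeals I) 0 F)

/-- Evaluation at `1` of a class in `Ext^0(R/I_t, M)`. -/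
noncomputable def ev₁ (t : D) (M : ModuleCat.{u} R) :
    Abelian.Ext.{u} ((localCohomology.ringModIdeals I).obj t) M 0 →ₗ[R] M where
  toFun x := (Abelian.Ext.linearEquiv₀ (R := R) x).hom (Ideal.Quotient.mk (I.obj t) 1)
  map_add' x y := by rw [map_add]; rfl
  map_smul' r x := by rw [map_smul]; rfl

lemma ev₁_mk₀ (t : D) (M : ModuleCat.{u} R)
    (f : (localCohomology.ringModIdeals I).obj t ⟶ M) :
    ev₁ I t M (Abelian.Ext.mk₀ f) = f.hom (Ideal.Quotient.mk (I.obj t) 1) := by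
  have : Abelian.Ext.linearEquiv₀ (R := R) (Abelian.Ext.mk₀ f) = f := by
    rw [← Abelian.Ext.linearEquiv₀_symm_apply (R := R), LinearEquiv.apply_symm_apply]
  change (Abelian.Ext.linearEquiv₀ (R := R) (Abelian.Ext.mk₀ f)).hom _ = _
  rw [this]

lemma hom_eq_zero_of_one (t : D) (M : ModuleCat.{u} R)
    (f : (localCohomology.ringModIdeals I).obj t ⟶ M)
    (h : f.hom (Ideal.Quotient.mk (I.obj t) 1) = 0) : f = 0 := by
  ext y
  obtain ⟨r, rfl⟩ := Ideal.Quotient.mk_surjective (I := I.obj t) y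
  have h1 : (Ideal.Quotient.mk (I.obj t) r) = r • (Ideal.Quotient.mk (I.obj t) 1) := by
    rw [Algebra.smul_def, Ideal.Quotient.algebraMap_eq, map_one, mul_one]
  let g : (R ⧸ I.obj t) →ₗ[R] M := f.hom
  have h2 : g (Ideal.Quotient.mk (I.obj t) r) = 0 := by
    rw [h1, map_smul, show g (Ideal.Quotient.mk (I.obj t) 1) = 0 from h, smul_zero]
  exact h2

lemma ev₁_injective (t : D) (M : ModuleCat.{u} R) : Function.Injective (ev₁ I t M) := by
  rw [injective_iff_map_eq_zero]
  intro x hx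
  obtain ⟨f, rfl⟩ := (Abelian.Ext.mk₀_bijective _ _).2 x
  rw [ev₁_mk₀] at hx
  rw [hom_eq_zero_of_one I t M f hx, Abelian.Ext.mk₀_zero]

/-- Evaluation at `1`: the map `H^0_I(M) → M`. -/
noncomputable def ev (M : ModuleCat.{u} R) : F.obj M →ₗ[R] M :=
  c.desc M M (fun t => ev₁ I t M) (by
    intro s t w x
    obtain ⟨f, rfl⟩ := (Abelian.Ext.mk₀_bijective _ _).2 x
    rw [Abelian.Ext.mk₀_comp_mk₀, ev₁_mk₀, ev₁_mk₀]
    rfl)

lemma ev_toH (t : D) (M : ModuleCat.{u} R)
    (x : Abelian.Ext.{u} ((localCohomology.ringModIdeals I).obj t) M 0) :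
    ev I c M (c.toH t M x) = ev₁ I t M x :=
  c.desc_toH _ _ _ _ t x

variable [IsCofiltered D]

lemma ev_injective (M : ModuleCat.{u} R) : Function.Injective (ev I c M) := by
  rw [injective_iff_map_eq_zero]
  intro y hy
  obtain ⟨t, x, rfl⟩ := c.exists_rep inferInstance M y
  rw [ev_toH] at hy
  rw [ev₁_injective I t M (hy.trans (map_zero _).symm), map_zero]

lemma ev_natural {M N : ModuleCat.{u} R} (g : M ⟶ N) (y : F.obj M) :
    ev I c N ((F.map g).hom y) = g.hom (ev I c M y) := by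
  obtain ⟨t, x, rfl⟩ := c.exists_rep inferInstance M y
  obtain ⟨f, rfl⟩ := (Abelian.Ext.mk₀_bijective _ _).2 x
  rw [c.natural, ev_toH, ev_toH, Abelian.Ext.mk₀_comp_mk₀, ev₁_mk₀, ev₁_mk₀]
  rfl

lemma mem_range_ev (M : ModuleCat.{u} R) (m : M) :
    m ∈ LinearMap.range (ev I c M) ↔ ∃ t : D, ∀ a ∈ I.obj t, a • m = 0 := by
  constructor
  · rintro ⟨y, rfl⟩
    obtain ⟨t, x, rfl⟩ := c.exists_rep inferInstance M y
    obtain ⟨f, rfl⟩ := (Abelian.Ext.mk₀_bijective _ _).2 x
    refine ⟨t, fun a ha => ?_⟩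
    rw [ev_toH, ev₁_mk₀]
    have h1 : a • (Ideal.Quotient.mk (I.obj t) 1) = 0 := by
      rw [Algebra.smul_def, Ideal.Quotient.algebraMap_eq, map_one, mul_one,
        Ideal.Quotient.eq_zero_iff_mem]
      exact ha
    let g : (R ⧸ I.obj t) →ₗ[R] M := f.hom
    have h2 : a • g (Ideal.Quotient.mk (I.obj t) 1) = 0 := by
      rw [← map_smul, h1, map_zero]
    exact h2
  · rintro ⟨t, ht⟩
    let f : (localCohomology.ringModIdeals I).obj t ⟶ M :=
      ModuleCat.ofHom ((I.obj t).liftQ (LinearMap.toSpanSingleton R M m) (by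
        intro a ha
        rw [LinearMap.mem_ker, LinearMap.toSpanSingleton_apply]
        exact ht a ha))
    refine ⟨c.toH t M (Abelian.Ext.mk₀ f), ?_⟩
    rw [ev_toH, ev₁_mk₀]
    change LinearMap.toSpanSingleton R M m 1 = m
    rw [LinearMap.toSpanSingleton_apply, one_smul]

end Zero

/-! ### Concrete statements for `LocCoh.H` -/

section Concrete

variable {R : Type u} [CommRing R] (I : Ideal R)

/-- The diagram `n ↦ R/I^n`. -/
noncomputable abbrev XI : ℕᵒᵖ ⥤ ModuleCat.{u} R :=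
  localCohomology.ringModIdeals (localCohomology.idealPowersDiagram I)

/-- The comparison data for `localCohomology I i`. -/
noncomputable def cH (i : ℕ) : LCData (XI I) i (localCohomology I i) :=
  lcData₀ (localCohomology.idealPowersDiagram I) i

/-- `R/I^n` in `ModuleCat R`. -/
abbrev stage (n : ℕ) : ModuleCat.{u} R := ModuleCat.of R (R ⧸ I ^ n)

/-- The transition map `R/I^m → R/I^n` for `n ≤ m`. -/
abbrev stageMap {n m : ℕ} (h : n ≤ m) : stage I m ⟶ stage I n :=
  ModuleCat.ofHom (Submodule.mapQ (I ^ m) (I ^ n) LinearMap.id (Ideal.pow_le_pow_right h))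

variable {M N P : Type u} [AddCommGroup M] [Module R M] [AddCommGroup N] [Module R N]
  [AddCommGroup P] [Module R P]

variable (M) in
/-- The canonical map `Ext^i(R/I^n, M) → H^i_I(M)`. -/
noncomputable def toH (n i : ℕ) :
    Abelian.Ext.{u} (stage I n) (ModuleCat.of R M) i →ₗ[R] LocCoh.H I i M :=
  (cH I i).toH (op n) (ModuleCat.of R M)

/-- Functoriality of `H^i_I`. -/
noncomputable def Hmap (i : ℕ) (f : M →ₗ[R] N) : LocCoh.H I i M →ₗ[R] LocCoh.H I i N :=
  ((localCohomology I i).map (ModuleCat.ofHom f)).hom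

lemma toH_natural (n i : ℕ) (f : M →ₗ[R] N)
    (x : Abelian.Ext.{u} (stage I n) (ModuleCat.of R M) i) :
    Hmap I i f (toH I M n i x) =
      toH I N n i (x.comp (Abelian.Ext.mk₀ (ModuleCat.ofHom f)) (add_zero i)) :=
  (cH I i).natural (op n) _ _ _ x

lemma toH_transition {n m : ℕ} (h : n ≤ m) (i : ℕ)
    (x : Abelian.Ext.{u} (stage I n) (ModuleCat.of R M) i) :
    toH I M m i ((Abelian.Ext.mk₀ (stageMap I h)).comp x (zero_add i)) = toH I M n i x :=
  (cH I i).transition (op m) (op n) (homOfLE h).op _ x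

lemma toH_exists (i : ℕ) (y : LocCoh.H I i M) :
    ∃ (n : ℕ) (x : Abelian.Ext.{u} (stage I n) (ModuleCat.of R M) i), toH I M n i x = y := by
  obtain ⟨t, x, hx⟩ := (cH I i).exists_rep inferInstance (ModuleCat.of R M) y
  exact ⟨t.unop, x, hx⟩

lemma toH_eq_zero_iff (n i : ℕ) (x : Abelian.Ext.{u} (stage I n) (ModuleCat.of R M) i) :
    toH I M n i x = 0 ↔ ∃ (m : ℕ) (h : n ≤ m),
      (Abelian.Ext.mk₀ (stageMap I h)).comp x (zero_add i) = 0 := by
  constructor
  · intro h
    obtain ⟨s, w, hw⟩ := (cH I i).eq_zero inferInstance (op n) (ModuleCat.of R M) x h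
    exact ⟨s.unop, leOfHom w.unop, hw⟩
  · rintro ⟨m, h, hm⟩
    rw [← toH_transition I h, hm, map_zero]

lemma Hmap_id (i : ℕ) (x : LocCoh.H I i M) : Hmap I i (LinearMap.id : M →ₗ[R] M) x = x := by
  obtain ⟨n, x, rfl⟩ := toH_exists I i x
  rw [toH_natural, ModuleCat.ofHom_id, Abelian.Ext.comp_mk₀_id]

lemma Hmap_comp (i : ℕ) (f : M →ₗ[R] N) (g : N →ₗ[R] P) (x : LocCoh.H I i M) :
    Hmap I i (g ∘ₗ f) x = Hmap I i g (Hmap I i f x) := by
  obtain ⟨n, x, rfl⟩ := toH_exists I i x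
  rw [toH_natural, toH_natural, toH_natural, Abelian.Ext.comp_assoc_of_second_deg_zero,
    Abelian.Ext.mk₀_comp_mk₀, ModuleCat.ofHom_comp]

lemma Hmap_add (i : ℕ) (f g : M →ₗ[R] N) (x : LocCoh.H I i M) :
    Hmap I i (f + g) x = Hmap I i f x + Hmap I i g x := by
  obtain ⟨n, x, rfl⟩ := toH_exists I i x
  rw [toH_natural, toH_natural, toH_natural, ← map_add, ModuleCat.ofHom_add,
    Abelian.Ext.mk₀_add, Abelian.Ext.comp_add]

lemma Hmap_smul (i : ℕ) (r : R) (f : M →ₗ[R] N) (x : LocCoh.H I i M) :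
    Hmap I i (r • f) x = r • Hmap I i f x := by
  obtain ⟨n, x, rfl⟩ := toH_exists I i x
  have : ModuleCat.ofHom (r • f) = r • ModuleCat.ofHom f := rfl
  rw [toH_natural, toH_natural, ← map_smul, this, Abelian.Ext.mk₀_smul, Abelian.Ext.comp_smul]

lemma Hmap_zero (i : ℕ) (x : LocCoh.H I i M) : Hmap I i (0 : M →ₗ[R] N) x = 0 := by
  have := Hmap_smul I i (0 : R) (0 : M →ₗ[R] N) x
  rwa [zero_smul, zero_smul] at this

/-- Multiplication by `r` on `M` induces multiplication by `r` on `H^i_I(M)`. -/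
lemma Hmap_lsmul (i : ℕ) (r : R) (x : LocCoh.H I i M) :
    Hmap I i (LinearMap.lsmul R M r) x = r • x := by
  have : LinearMap.lsmul R M r = r • (LinearMap.id : M →ₗ[R] M) := by ext; rfl
  rw [this, Hmap_smul, Hmap_id]

/-- `H^i_I` of a linear equivalence. -/
noncomputable def Hequiv (i : ℕ) (e : M ≃ₗ[R] N) : LocCoh.H I i M ≃ₗ[R] LocCoh.H I i N :=
  LinearEquiv.ofLinearMap (Hmap I i e.toLinearMap) (Hmap I i e.symm.toLinearMap)
    (by ext x; rw [LinearMap.comp_apply, ← Hmap_comp]; simp [Hmap_id])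
    (by ext x; rw [LinearMap.comp_apply, ← Hmap_comp]; simp [Hmap_id])

lemma Hequiv_apply (i : ℕ) (e : M ≃ₗ[R] N) (x : LocCoh.H I i M) :
    Hequiv I i e x = Hmap I i e.toLinearMap x := rfl

/-- If `r` kills `M` then `r` kills `H^i_I(M)`. -/
lemma smul_eq_zero_of_smul_eq_zero (i : ℕ) (r : R) (h : ∀ m : M, r • m = 0)
    (x : LocCoh.H I i M) : r • x = 0 := by
  rw [← Hmap_lsmul]
  have : LinearMap.lsmul R M r = 0 := by ext m; exact h m
  rw [this, Hmap_zero]

/-- `H^i_I(M)` is `I`-power torsion. -/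
lemma isPowerTorsion_H (i : ℕ) : LocCoh.IsPowerTorsion I (LocCoh.H I i M) := by
  intro y
  obtain ⟨n, x, rfl⟩ := toH_exists I i y
  refine ⟨n, fun a ha => ?_⟩
  refine LCFam.smul_toH_eq_zero (cH I) i (op n) (ModuleCat.of R M) x a ?_
  intro y
  obtain ⟨r, rfl⟩ := Ideal.Quotient.mk_surjective (I := I ^ n) y
  change a • (Ideal.Quotient.mk (I ^ n) r) = 0
  rw [Algebra.smul_def, Ideal.Quotient.algebraMap_eq, ← map_mul, Ideal.Quotient.eq_zero_iff_mem]
  exact Ideal.mul_mem_right _ _ ha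

/-- Injective modules have no higher local cohomology. -/
lemma subsingleton_of_injective (i : ℕ) [Module.Injective R M] :
    Subsingleton (LocCoh.H I (i + 1) M) := by
  have : Injective (ModuleCat.of R M) := Module.injective_object_of_injective_module R M
  exact LCFam.subsingleton_of_injective (cH I) i (ModuleCat.of R M)

/-- `H^i_I(M)` vanishes if all the `Ext^i(R/I^n, M)` do (for arbitrarily large `n`). -/
lemma subsingleton_of_ext (i : ℕ) (h : ∀ n : ℕ, ∃ m, n ≤ m ∧
    Subsingleton (Abelian.Ext.{u} (stage I m) (ModuleCat.of R M) i)) :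
    Subsingleton (LocCoh.H I i M) := by
  have : ∀ y : LocCoh.H I i M, y = 0 := by
    intro y
    obtain ⟨n, x, rfl⟩ := toH_exists I i y
    obtain ⟨m, hm, hs⟩ := h n
    rw [← toH_transition I hm, Subsingleton.elim ((Abelian.Ext.mk₀ (stageMap I hm)).comp x _) 0,
      map_zero]
  exact ⟨fun a b => (this a).trans (this b).symm⟩

/-! ### The long exact sequence -/

section LES

variable (f : M →ₗ[R] N) (g : N →ₗ[R] P) (hf : Function.Injective f)
  (hg : Function.Surjective g) (hfg : Function.Exact f g)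

/-- The short complex attached to `f` and `g`. -/
noncomputable abbrev sc : ShortComplex (ModuleCat.{u} R) :=
  ShortComplex.mk (ModuleCat.ofHom f) (ModuleCat.ofHom g)
    (by ext x; exact (hfg (f x)).2 ⟨x, rfl⟩)

include hf hg in
lemma sc_shortExact : (sc f g hfg).ShortExact :=
  { exact := (ShortComplex.ShortExact.moduleCat_exact_iff_function_exact _).2 hfg
    mono_f := (ModuleCat.mono_iff_injective _).2 hf
    epi_g := (ModuleCat.epi_iff_surjective _).2 hg }

/-- The connecting homomorphism `H^i_I(P) → H^{i+1}_I(M)`. -/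
noncomputable def δ (i : ℕ) : LocCoh.H I i P →ₗ[R] LocCoh.H I (i + 1) M :=
  LCFam.δ (cH I) (sc_shortExact f g hf hg hfg) i (i + 1) rfl

lemma δ_toH (n i : ℕ) (x : Abelian.Ext.{u} (stage I n) (ModuleCat.of R P) i) :
    δ I f g hf hg hfg i (toH I P n i x) =
      toH I M n (i + 1) (x.comp (sc_shortExact f g hf hg hfg).extClass rfl) :=
  LCFam.δ_toH (cH I) (sc_shortExact f g hf hg hfg) i (i + 1) rfl (op n) x

include hf hg hfg in
lemma exact₂ (i : ℕ) : Function.Exact (Hmap I i f) (Hmap I i g) :=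
  LCFam.exact₂ (cH I) (sc_shortExact f g hf hg hfg) i

lemma exact₃ (i : ℕ) : Function.Exact (Hmap I i g) (δ I f g hf hg hfg i) :=
  LCFam.exact₃ (cH I) (sc_shortExact f g hf hg hfg) i (i + 1) rfl

lemma exact₁ (i : ℕ) : Function.Exact (δ I f g hf hg hfg i) (Hmap I (i + 1) f) :=
  LCFam.exact₁ (cH I) (sc_shortExact f g hf hg hfg) i (i + 1) rfl

/-- Naturality of the connecting homomorphism. -/
lemma δ_naturality {M' N' P' : Type u} [AddCommGroup M'] [Module R M'] [AddCommGroup N']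
    [Module R N'] [AddCommGroup P'] [Module R P'] (f' : M' →ₗ[R] N') (g' : N' →ₗ[R] P')
    (hf' : Function.Injective f') (hg' : Function.Surjective g') (hfg' : Function.Exact f' g')
    (a : M →ₗ[R] M') (b : N →ₗ[R] N') (c : P →ₗ[R] P') (h₁ : b ∘ₗ f = f' ∘ₗ a)
    (h₂ : c ∘ₗ g = g' ∘ₗ b) (i : ℕ) (x : LocCoh.H I i P) :
    Hmap I (i + 1) a (δ I f g hf hg hfg i x) = δ I f' g' hf' hg' hfg' i (Hmap I i c x) :=
  LCFam.δ_naturality (cH I) (sc_shortExact f g hf hg hfg) (sc_shortExact f' g' hf' hg' hfg')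
    { τ₁ := ModuleCat.ofHom a
      τ₂ := ModuleCat.ofHom b
      τ₃ := ModuleCat.ofHom c
      comm₁₂ := by ext x; exact (LinearMap.congr_fun h₁ x).symm
      comm₂₃ := by ext x; exact (LinearMap.congr_fun h₂ x).symm } i (i + 1) rfl x

end LES

/-! ### Degree zero -/

variable (M) in
/-- The submodule of `I`-power torsion elements. -/
def powTors : Submodule R M where
  carrier := {m | ∃ n : ℕ, ∀ a ∈ I ^ n, a • m = 0}
  add_mem' := by
    rintro x y ⟨n, hn⟩ ⟨m, hm⟩
    refine ⟨max n m, fun a ha => ?_⟩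
    rw [smul_add, hn a (Ideal.pow_le_pow_right (le_max_left _ _) ha),
      hm a (Ideal.pow_le_pow_right (le_max_right _ _) ha), add_zero]
  zero_mem' := ⟨0, fun a _ => smul_zero a⟩
  smul_mem' := by
    rintro c x ⟨n, hn⟩
    exact ⟨n, fun a ha => by rw [smul_comm, hn a ha, smul_zero]⟩

lemma mem_powTors (m : M) : m ∈ powTors I M ↔ ∃ n : ℕ, ∀ a ∈ I ^ n, a • m = 0 := Iff.rfl

variable (M) in
lemma powTors_eq_iSup :
    powTors I M = ⨆ n : ℕ, Submodule.torsionBySet R M ((I ^ n : Ideal R) : Set R) := by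
  have hdir : Directed (· ≤ ·)
      (fun n : ℕ => Submodule.torsionBySet R M ((I ^ n : Ideal R) : Set R)) := by
    apply directed_of_isDirected_le
    intro n m h x hx
    rw [Submodule.mem_torsionBySet_iff] at hx ⊢
    exact fun a => hx ⟨a.1, Ideal.pow_le_pow_right h a.2⟩
  ext x
  rw [Submodule.mem_iSup_of_directed _ hdir, mem_powTors]
  refine exists_congr fun n => ?_
  rw [Submodule.mem_torsionBySet_iff]
  exact ⟨fun h a => h a.1 a.2, fun h a ha => h ⟨a, ha⟩⟩

lemma isPowerTorsion_powTors : LocCoh.IsPowerTorsion I (powTors I M) := by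
  rintro ⟨m, n, hn⟩
  exact ⟨n, fun a ha => Subtype.ext (hn a ha)⟩

lemma powTors_eq_top_iff : powTors I M = ⊤ ↔ LocCoh.IsPowerTorsion I M := by
  rw [Submodule.eq_top_iff']
  rfl

variable (M) in
/-- The natural map `H^0_I(M) → M`. -/
noncomputable def H0toM : LocCoh.H I 0 M →ₗ[R] M :=
  ev (localCohomology.idealPowersDiagram I) (cH I 0) (ModuleCat.of R M)

variable (M) in
lemma H0toM_injective : Function.Injective (H0toM I M) :=
  ev_injective (localCohomology.idealPowersDiagram I) (cH I 0) (ModuleCat.of R M)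

lemma H0toM_natural (f : M →ₗ[R] N) (x : LocCoh.H I 0 M) :
    H0toM I N (Hmap I 0 f x) = f (H0toM I M x) :=
  ev_natural (localCohomology.idealPowersDiagram I) (cH I 0) (ModuleCat.ofHom f) x

variable (M) in
lemma range_H0toM : LinearMap.range (H0toM I M) = powTors I M := by
  ext m
  refine (mem_range_ev (localCohomology.idealPowersDiagram I) (cH I 0)
    (ModuleCat.of R M) m).trans ?_
  exact ⟨fun ⟨t, ht⟩ => ⟨t.unop, ht⟩, fun ⟨n, hn⟩ => ⟨op n, hn⟩⟩

variable (M) in
/-- `H^0_I(M)` is the submodule of `I`-power torsion elements. -/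
noncomputable def H0equiv : LocCoh.H I 0 M ≃ₗ[R] powTors I M :=
  (LinearEquiv.ofInjective (H0toM I M) (H0toM_injective I M)).trans
    (LinearEquiv.ofEq _ _ (range_H0toM I M))

lemma coe_H0equiv (x : LocCoh.H I 0 M) : (H0equiv I M x : M) = H0toM I M x := rfl

/-- Naturality of `H^0_I(M) ≃ Γ_I(M)`. -/
lemma H0equiv_natural (f : M →ₗ[R] N) (x : LocCoh.H I 0 M) :
    (H0equiv I N (Hmap I 0 f x) : N) = f (H0equiv I M x) :=
  H0toM_natural I f x

end Concrete

end Groth.Agent.Localalg.LCBasic
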