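import Groth.Agent.Localalg.OldExt
import Groth.Prelude.Def_Wider
import Mathlib.Algebra.Category.ModuleCat.FilteredColimits
import Mathlib.Algebra.Category.ModuleCat.EnoughInjectives
import Mathlib.CategoryTheory.Limits.ConcreteCategory.Filtered
import Mathlib.Algebra.Homology.DerivedCategory.Ext.EnoughInjectives

set_option autoImplicit false
universe u v w

open CategoryTheory Limits Opposite

namespace Groth.Agent.Localalg.LCData

open Groth.Agent.Localalg.OldExt

lemma preservesColimit_forget₀ (R : Type u) [CommRing R] (D : Type) [SmallCategory D]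
    [IsFiltered D] : PreservesColimitsOfShape D (forget (ModuleCat.{u} R)) := by
  have : PreservesFilteredColimitsOfSize.{0, 0} (forget (ModuleCat.{u} R)) :=
    preservesFilteredColimitsOfSize_of_univLE.{u, u, 0, 0} _
  infer_instance

/-! ### Abstract colimits of bifunctors -/

section Abstract

variable {R : Type u} [CommRing R] {D : Type v} [SmallCategory D]
  (X : D ⥤ ModuleCat.{u} R)
  (E : (ModuleCat.{u} R)ᵒᵖ ⥤ ModuleCat.{u} R ⥤ ModuleCat.{u} R)

section

variable [HasColimitsOfShape Dᵒᵖ (ModuleCat.{u} R)]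

/-- The colimit cocone. -/
noncomputable def aCoc (M : ModuleCat.{u} R) :
    Cocone ((X.op ⋙ E) ⋙ (evaluation _ _).obj M) :=
  ((evaluation _ _).obj M).mapCocone (colimit.cocone (X.op ⋙ E))

/-- The cocone `aCoc` is a colimit. -/
noncomputable def isColimitACoc (M : ModuleCat.{u} R) : IsColimit (aCoc X E M) :=
  isColimitOfPreserves _ (colimit.isColimit (X.op ⋙ E))

end

/-- Data exhibiting `F` as the colimit of the `E(X_t, -)`. -/
structure ColimData (F : ModuleCat.{u} R ⥤ ModuleCat.{u} R) where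
  ι : ∀ (t : D) (M : ModuleCat.{u} R), (E.obj (op (X.obj t))).obj M →ₗ[R] F.obj M
  natural : ∀ (t : D) (M N : ModuleCat.{u} R) (g : M ⟶ N)
    (y : (E.obj (op (X.obj t))).obj M),
    (F.map g).hom (ι t M y) = ι t N (((E.obj (op (X.obj t))).map g).hom y)
  transition : ∀ (s t : D) (w : s ⟶ t) (M : ModuleCat.{u} R)
    (y : (E.obj (op (X.obj t))).obj M),
    ι s M (((E.map (X.map w).op).app M).hom y) = ι t M y
  exists_rep : IsCofiltered D → ∀ (M : ModuleCat.{u} R) (y : F.obj M),
    ∃ (t : D) (x : (E.obj (op (X.obj t))).obj M), ι t M x = y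
  eq_zero : IsCofiltered D → ∀ (t : D) (M : ModuleCat.{u} R)
    (y : (E.obj (op (X.obj t))).obj M), ι t M y = 0 →
    ∃ (s : D) (w : s ⟶ t), ((E.map (X.map w).op).app M).hom y = 0
  desc : ∀ (M N : ModuleCat.{u} R) (f : ∀ t : D, (E.obj (op (X.obj t))).obj M ⟶ N)
    (_ : ∀ (s t : D) (w : s ⟶ t), (E.map (X.map w).op).app M ≫ f s = f t), F.obj M ⟶ N
  desc_ι : ∀ (M N : ModuleCat.{u} R) (f : ∀ t : D, (E.obj (op (X.obj t))).obj M ⟶ N)
    (hf : ∀ (s t : D) (w : s ⟶ t), (E.map (X.map w).op).app M ≫ f s = f t) (t : D)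
    (x : (E.obj (op (X.obj t))).obj M), (desc M N f hf).hom (ι t M x) = (f t).hom x

/-- The colimit has a `ColimData`. -/
noncomputable def colimData [HasColimitsOfShape Dᵒᵖ (ModuleCat.{u} R)]
    (hp : IsCofiltered D → PreservesColimitsOfShape Dᵒᵖ (forget (ModuleCat.{u} R))) :
    ColimData X E (colimit (X.op ⋙ E)) where
  ι t M := ((colimit.ι (X.op ⋙ E) (op t)).app M).hom
  natural t M N g y :=
    (ConcreteCategory.congr_hom ((colimit.ι (X.op ⋙ E) (op t)).naturality g) y).symm
  transition s t w M y := ConcreteCategory.congr_hom ((aCoc X E M).w w.op) y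
  exists_rep hD M y := by
    have := hp hD
    obtain ⟨t, x, hx⟩ := Concrete.isColimit_exists_rep _ (isColimitACoc X E M) y
    exact ⟨t.unop, x, hx⟩
  eq_zero hD t M y h := by
    have := hp hD
    obtain ⟨k, f, g, hfg⟩ := Concrete.isColimit_exists_of_rep_eq _
      (isColimitACoc X E M) (i := op t) (j := op t) y (0 : (E.obj (op (X.obj t))).obj M)
      (h.trans (map_zero (((colimit.ι (X.op ⋙ E) (op t)).app M).hom)).symm)
    exact ⟨k.unop, f.unop, hfg.trans (map_zero (((E.map (X.map g.unop).op).app M).hom))⟩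
  desc M N f hf := (isColimitACoc X E M).desc
    { pt := N
      ι :=
        { app := fun t => f t.unop
          naturality := by
            intro s t w
            refine (hf _ _ w.unop).trans ?_
            exact (Category.comp_id _).symm } }
  desc_ι M N f hf t x := ConcreteCategory.congr_hom ((isColimitACoc X E M).fac _ (op t)) x

/-- Transport of `colimData` along an equality of functors. -/
noncomputable def ColimData.ofEq [HasColimitsOfShape Dᵒᵖ (ModuleCat.{u} R)]
    (hp : IsCofiltered D → PreservesColimitsOfShape Dᵒᵖ (forget (ModuleCat.{u} R)))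
    {F : ModuleCat.{u} R ⥤ ModuleCat.{u} R}
    (h : F = colimit (X.op ⋙ E)) : ColimData X E F := by
  subst h; exact colimData X E hp

end Abstract

/-! ### `H^i_I(M)` as colimit of `Abelian.Ext (R/I_t) M i` -/

section General

variable {R : Type u} [CommRing R] {D : Type v} [SmallCategory D] (X : D ⥤ ModuleCat.{u} R)

/-- Data exhibiting `F` as the colimit of the `Ext^i(X_t, -)`. -/
structure LCData (i : ℕ) (F : ModuleCat.{u} R ⥤ ModuleCat.{u} R) where
  toH : ∀ (t : D) (M : ModuleCat.{u} R),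
    Abelian.Ext.{u} (X.obj t) M i →ₗ[R] F.obj M
  natural : ∀ (t : D) (M N : ModuleCat.{u} R) (g : M ⟶ N)
    (x : Abelian.Ext.{u} (X.obj t) M i),
    (F.map g).hom (toH t M x) = toH t N (x.comp (Abelian.Ext.mk₀ g) (add_zero i))
  transition : ∀ (s t : D) (w : s ⟶ t) (M : ModuleCat.{u} R)
    (x : Abelian.Ext.{u} (X.obj t) M i),
    toH s M ((Abelian.Ext.mk₀ (X.map w)).comp x (zero_add i)) = toH t M x
  exists_rep : IsCofiltered D → ∀ (M : ModuleCat.{u} R) (y : F.obj M),
    ∃ (t : D) (x : Abelian.Ext.{u} (X.obj t) M i), toH t M x = y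
  eq_zero : IsCofiltered D → ∀ (t : D) (M : ModuleCat.{u} R)
    (x : Abelian.Ext.{u} (X.obj t) M i), toH t M x = 0 →
    ∃ (s : D) (w : s ⟶ t), (Abelian.Ext.mk₀ (X.map w)).comp x (zero_add i) = 0
  desc : ∀ (M N : ModuleCat.{u} R)
    (f : ∀ t : D, Abelian.Ext.{u} (X.obj t) M i →ₗ[R] N)
    (_ : ∀ (s t : D) (w : s ⟶ t) (x : Abelian.Ext.{u} (X.obj t) M i),
      f s ((Abelian.Ext.mk₀ (X.map w)).comp x (zero_add i)) = f t x), F.obj M →ₗ[R] N
  desc_toH : ∀ (M N : ModuleCat.{u} R)
    (f : ∀ t : D, Abelian.Ext.{u} (X.obj t) M i →ₗ[R] N)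
    (hf : ∀ (s t : D) (w : s ⟶ t) (x : Abelian.Ext.{u} (X.obj t) M i),
      f s ((Abelian.Ext.mk₀ (X.map w)).comp x (zero_add i)) = f t x)
    (t : D) (x : Abelian.Ext.{u} (X.obj t) M i), desc M N f hf (toH t M x) = f t x

/-- From a bifunctor `E` naturally equivalent to `Abelian.Ext`. -/
noncomputable def LCData.ofColimData (i : ℕ)
    (E : (ModuleCat.{u} R)ᵒᵖ ⥤ ModuleCat.{u} R ⥤ ModuleCat.{u} R)
    (e : ∀ (Z M : ModuleCat.{u} R),
      ((E.obj (op Z)).obj M) ≃ₗ[R] Abelian.Ext.{u} Z M i)
    (hr : ∀ (Z M N : ModuleCat.{u} R) (g : M ⟶ N) (a : ((E.obj (op Z)).obj M)),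
      e Z N (((E.obj (op Z)).map g).hom a) = (e Z M a).comp (Abelian.Ext.mk₀ g) (add_zero i))
    (hl : ∀ (Z Z' M : ModuleCat.{u} R) (f : Z ⟶ Z') (a : ((E.obj (op Z')).obj M)),
      e Z M (((E.map f.op).app M).hom a) = (Abelian.Ext.mk₀ f).comp (e Z' M a) (zero_add i))
    {F : ModuleCat.{u} R ⥤ ModuleCat.{u} R}
    (c : ColimData X E F) : LCData X i F where
  toH t M := c.ι t M ∘ₗ (e (X.obj t) M).symm.toLinearMap
  natural t M N g x := by
    obtain ⟨y, rfl⟩ := (e (X.obj t) M).surjective x
    rw [← hr]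
    simpa using c.natural t M N g y
  transition s t w M x := by
    obtain ⟨y, rfl⟩ := (e (X.obj t) M).surjective x
    rw [← hl]
    simpa using c.transition s t w M y
  exists_rep hD M y := by
    obtain ⟨t, x, hx⟩ := c.exists_rep hD M y
    exact ⟨t, e (X.obj t) M x, by simpa using hx⟩
  eq_zero hD t M x h := by
    obtain ⟨y, rfl⟩ := (e (X.obj t) M).surjective x
    obtain ⟨s, w, hw⟩ := c.eq_zero hD t M y (by simpa using h)
    refine ⟨s, w, ?_⟩
    rw [← hl, hw, map_zero]
  desc M N f hf := (c.desc M N (fun t => ModuleCat.ofHom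
    (f t ∘ₗ (e (X.obj t) M).toLinearMap)) (by
      intro s t w
      ext y
      refine Eq.trans ?_ (hf _ _ w (e (X.obj t) M y))
      rw [← hl]
      rfl)).hom
  desc_toH M N f hf t x := by
    obtain ⟨y, rfl⟩ := (e (X.obj t) M).surjective x
    rw [LinearMap.comp_apply, LinearEquiv.coe_toLinearMap, LinearEquiv.symm_apply_apply]
    exact c.desc_ι M N _ _ t y

end General

section Concrete

/-- The comparison data for `localCohomology.ofDiagram`, small diagram. -/
noncomputable def lcData₀ {R : Type u} [CommRing R] {D : Type} [SmallCategory D] (I : D ⥤ Ideal R)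
    (i : ℕ) :
    LCData (localCohomology.ringModIdeals I) i (localCohomology.ofDiagram.{u, 0} I i) :=
  LCData.ofColimData (localCohomology.ringModIdeals I) i
    (Ext R (ModuleCat.{u} R) i) (fun Z M => extEquiv (R := R) Z M i)
    (fun Z _ _ g a => extEquiv_naturality_right (R := R) Z g i a)
    (fun _ _ M f a => extEquiv_naturality_left (R := R) f M i a)
    (ColimData.ofEq (localCohomology.ringModIdeals I) _
      (fun _ => preservesColimit_forget₀ R Dᵒᵖ) rfl)

/-- The comparison data for `localCohomology.ofDiagram`, diagram in the same universe. -/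
noncomputable def lcData₁ {R : Type u} [CommRing R] {D : Type u} [SmallCategory D]
    (I : D ⥤ Ideal R) (i : ℕ) :
    LCData (localCohomology.ringModIdeals I) i (localCohomology.ofDiagram.{u, u} I i) :=
  LCData.ofColimData (localCohomology.ringModIdeals I) i
    (Ext R (ModuleCat.{u} R) i) (fun Z M => extEquiv (R := R) Z M i)
    (fun Z _ _ g a => extEquiv_naturality_right (R := R) Z g i a)
    (fun _ _ M f a => extEquiv_naturality_left (R := R) f M i a)
    (ColimData.ofEq (localCohomology.ringModIdeals I) _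
      (fun _ => inferInstance) rfl)

end Concrete

end Groth.Agent.Localalg.LCData
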