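import Groth.Agent.Localalg.LCData

set_option autoImplicit false
universe u v

open CategoryTheory Limits Opposite

namespace Groth.Agent.Localalg.LCFam

open Groth.Agent.Localalg.LCData

variable {R : Type u} [CommRing R] {D : Type v} [SmallCategory D]
  {X : D ⥤ ModuleCat.{u} R} {F : ℕ → ModuleCat.{u} R ⥤ ModuleCat.{u} R}
  (c : ∀ i, LCData X i (F i))

/-- Uniqueness: linear maps out of `(F i).obj M` are determined on the stages. -/
lemma hom_ext [IsCofiltered D] {i : ℕ} {M : ModuleCat.{u} R} {N : Type*} [AddCommGroup N]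
    [Module R N] (f g : (F i).obj M →ₗ[R] N)
    (h : ∀ (t : D) (x : Abelian.Ext.{u} (X.obj t) M i),
      f ((c i).toH t M x) = g ((c i).toH t M x)) : f = g := by
  ext y
  obtain ⟨t, x, rfl⟩ := (c i).exists_rep inferInstance M y
  exact h t x

lemma exists_rep₂ [IsCofiltered D] (i j : ℕ) (M N : ModuleCat.{u} R) (y : (F i).obj M)
    (y' : (F j).obj N) :
    ∃ (t : D) (x : Abelian.Ext.{u} (X.obj t) M i) (x' : Abelian.Ext.{u} (X.obj t) N j),
      (c i).toH t M x = y ∧ (c j).toH t N x' = y' := by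
  obtain ⟨s, x, rfl⟩ := (c i).exists_rep inferInstance M y
  obtain ⟨s', x', rfl⟩ := (c j).exists_rep inferInstance N y'
  exact ⟨IsCofiltered.min s s',
    (Abelian.Ext.mk₀ (X.map (IsCofiltered.minToLeft s s'))).comp x (zero_add i),
    (Abelian.Ext.mk₀ (X.map (IsCofiltered.minToRight s s'))).comp x' (zero_add j),
    (c i).transition _ _ _ _ _, (c j).transition _ _ _ _ _⟩

section Delta

variable {S : ShortComplex (ModuleCat.{u} R)} (hS : S.ShortExact)

/-- The connecting homomorphism. -/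
noncomputable def δ (i j : ℕ) (h : i + 1 = j) : (F i).obj S.X₃ →ₗ[R] (F j).obj S.X₁ :=
  (c i).desc S.X₃ ((F j).obj S.X₁)
    (fun t => (c j).toH t S.X₁ ∘ₗ (hS.extClass.postcompOfLinear R (X.obj t) h)) (by
      intro s t w x
      refine Eq.trans ?_ ((c j).transition s t w S.X₁ (x.comp hS.extClass h))
      refine congrArg ((c j).toH s S.X₁) ?_
      exact Abelian.Ext.comp_assoc _ _ _ _ _ (by omega))

lemma δ_toH (i j : ℕ) (h : i + 1 = j) (t : D) (x : Abelian.Ext.{u} (X.obj t) S.X₃ i) :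
    δ c hS i j h ((c i).toH t S.X₃ x) = (c j).toH t S.X₁ (x.comp hS.extClass h) :=
  (c i).desc_toH _ _ _ _ t x

variable [IsCofiltered D]

include c in
lemma map_comp_zero (i : ℕ) (x : (F i).obj S.X₁) :
    ((F i).map S.g).hom (((F i).map S.f).hom x) = 0 := by
  obtain ⟨t, x, rfl⟩ := (c i).exists_rep inferInstance _ x
  rw [(c i).natural, (c i).natural]
  have : (x.comp (Abelian.Ext.mk₀ S.f) (add_zero i)).comp (Abelian.Ext.mk₀ S.g) (add_zero i) = 0 := by
    rw [Abelian.Ext.comp_assoc_of_second_deg_zero, Abelian.Ext.mk₀_comp_mk₀, S.zero,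
      Abelian.Ext.mk₀_zero, Abelian.Ext.comp_zero]
  rw [this, map_zero]

lemma map_δ_zero (i j : ℕ) (h : i + 1 = j) (x : (F i).obj S.X₃) :
    ((F j).map S.f).hom (δ c hS i j h x) = 0 := by
  obtain ⟨t, x, rfl⟩ := (c i).exists_rep inferInstance _ x
  rw [δ_toH, (c j).natural]
  have : (x.comp hS.extClass h).comp (Abelian.Ext.mk₀ S.f) (add_zero j) = 0 := by
    rw [Abelian.Ext.comp_assoc _ _ _ h (add_zero 1) (by omega), hS.extClass_comp,
      Abelian.Ext.comp_zero]
  rw [this, map_zero]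

lemma δ_map_zero (i j : ℕ) (h : i + 1 = j) (x : (F i).obj S.X₂) :
    δ c hS i j h (((F i).map S.g).hom x) = 0 := by
  obtain ⟨t, x, rfl⟩ := (c i).exists_rep inferInstance _ x
  rw [(c i).natural, δ_toH]
  have : (x.comp (Abelian.Ext.mk₀ S.g) (add_zero i)).comp hS.extClass h = 0 := by
    rw [Abelian.Ext.comp_assoc _ _ _ (add_zero i) (zero_add 1) (by omega), hS.comp_extClass,
      Abelian.Ext.comp_zero]
  rw [this, map_zero]

include c hS in
/-- Exactness at `H^i(S.X₂)`. -/
lemma exact₂ (i : ℕ) : Function.Exact ((F i).map S.f).hom ((F i).map S.g).hom := by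
  intro y
  constructor
  · intro hy
    obtain ⟨t, x, rfl⟩ := (c i).exists_rep inferInstance _ y
    rw [(c i).natural] at hy
    obtain ⟨s, w, hw⟩ := (c i).eq_zero inferInstance t _ _ hy
    have hw' : ((Abelian.Ext.mk₀ (X.map w)).comp x (zero_add i)).comp (Abelian.Ext.mk₀ S.g)
        (add_zero i) = 0 := by
      rw [Abelian.Ext.comp_assoc_of_third_deg_zero, hw]
    obtain ⟨z, hz⟩ := Abelian.Ext.covariant_sequence_exact₂ (X.obj s) hS _ hw'
    refine ⟨(c i).toH s S.X₁ z, ?_⟩
    rw [(c i).natural, hz, (c i).transition]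
  · rintro ⟨x, rfl⟩
    exact map_comp_zero c i x

/-- Exactness at `H^i(S.X₃)`. -/
lemma exact₃ (i j : ℕ) (h : i + 1 = j) :
    Function.Exact ((F i).map S.g).hom (δ c hS i j h) := by
  intro y
  constructor
  · intro hy
    obtain ⟨t, x, rfl⟩ := (c i).exists_rep inferInstance _ y
    rw [δ_toH] at hy
    obtain ⟨s, w, hw⟩ := (c j).eq_zero inferInstance t _ _ hy
    have hw' : ((Abelian.Ext.mk₀ (X.map w)).comp x (zero_add i)).comp hS.extClass h = 0 := by
      rw [Abelian.Ext.comp_assoc _ _ _ (zero_add i) h (by omega), hw]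
    obtain ⟨z, hz⟩ := Abelian.Ext.covariant_sequence_exact₃ (X.obj s) hS _ h hw'
    refine ⟨(c i).toH s S.X₂ z, ?_⟩
    rw [(c i).natural, hz, (c i).transition]
  · rintro ⟨x, rfl⟩
    exact δ_map_zero c hS i j h x

/-- Exactness at `H^{i+1}(S.X₁)`. -/
lemma exact₁ (i j : ℕ) (h : i + 1 = j) :
    Function.Exact (δ c hS i j h) ((F j).map S.f).hom := by
  intro y
  constructor
  · intro hy
    obtain ⟨t, x, rfl⟩ := (c j).exists_rep inferInstance _ y
    rw [(c j).natural] at hy
    obtain ⟨s, w, hw⟩ := (c j).eq_zero inferInstance t _ _ hy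
    have hw' : ((Abelian.Ext.mk₀ (X.map w)).comp x (zero_add j)).comp (Abelian.Ext.mk₀ S.f)
        (add_zero j) = 0 := by
      rw [Abelian.Ext.comp_assoc_of_third_deg_zero, hw]
    obtain ⟨z, hz⟩ := Abelian.Ext.covariant_sequence_exact₁ (X.obj s) hS _ hw' h
    refine ⟨(c i).toH s S.X₃ z, ?_⟩
    rw [δ_toH, hz, (c j).transition]
  · rintro ⟨x, rfl⟩
    exact map_δ_zero c hS i j h x

/-- Naturality of the connecting homomorphism. -/
lemma δ_naturality {S' : ShortComplex (ModuleCat.{u} R)} (hS' : S'.ShortExact) (φ : S ⟶ S')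
    (i j : ℕ) (h : i + 1 = j) (x : (F i).obj S.X₃) :
    ((F j).map φ.τ₁).hom (δ c hS i j h x) = δ c hS' i j h (((F i).map φ.τ₃).hom x) := by
  obtain ⟨t, x, rfl⟩ := (c i).exists_rep inferInstance _ x
  rw [(c i).natural, δ_toH, δ_toH, (c j).natural]
  congr 1
  rw [Abelian.Ext.comp_assoc _ _ _ h (add_zero 1) (by omega),
    ShortComplex.ShortExact.extClass_naturality hS hS' φ,
    Abelian.Ext.comp_assoc _ _ _ (add_zero i) (zero_add 1) (by omega)]

end Delta

section Basic

variable [IsCofiltered D]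

include c in
lemma map_add' (i : ℕ) {M N : ModuleCat.{u} R} (f g : M ⟶ N) :
    (F i).map (f + g) = (F i).map f + (F i).map g := by
  ext y
  obtain ⟨t, x, rfl⟩ := (c i).exists_rep inferInstance _ y
  have h1 : ((F i).map (f + g)).hom ((c i).toH t M x) =
      ((F i).map f).hom ((c i).toH t M x) + ((F i).map g).hom ((c i).toH t M x) := by
    rw [(c i).natural, (c i).natural, (c i).natural, ← map_add, Abelian.Ext.mk₀_add,
      Abelian.Ext.comp_add]
  exact h1

include c in
lemma map_smul' (i : ℕ) {M N : ModuleCat.{u} R} (r : R) (f : M ⟶ N) :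
    (F i).map (r • f) = r • (F i).map f := by
  ext y
  obtain ⟨t, x, rfl⟩ := (c i).exists_rep inferInstance _ y
  have h1 : ((F i).map (r • f)).hom ((c i).toH t M x) =
      r • ((F i).map f).hom ((c i).toH t M x) := by
    rw [(c i).natural, (c i).natural, ← map_smul, Abelian.Ext.mk₀_smul,
      Abelian.Ext.comp_smul]
  exact h1

include c in
lemma additive (i : ℕ) : (F i).Additive where
  map_add := map_add' c i _ _

include c in
lemma subsingleton_of_injective (i : ℕ) (M : ModuleCat.{u} R) [Injective M] :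
    Subsingleton ((F (i + 1)).obj M) := by
  refine ⟨fun a b => ?_⟩
  obtain ⟨t, x, rfl⟩ := (c (i + 1)).exists_rep inferInstance _ a
  obtain ⟨s, y, rfl⟩ := (c (i + 1)).exists_rep inferInstance _ b
  rw [Abelian.Ext.eq_zero_of_injective x, Abelian.Ext.eq_zero_of_injective y, map_zero, map_zero]

omit [IsCofiltered D] in
/-- If `a` kills `X_t` then `a` kills the image of `Ext^i(X_t, M)`. -/
lemma smul_toH_eq_zero (i : ℕ) (t : D) (M : ModuleCat.{u} R)
    (x : Abelian.Ext.{u} (X.obj t) M i) (a : R) (ha : ∀ y : X.obj t, a • y = 0) :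
    a • (c i).toH t M x = 0 := by
  have h1 : a • x = (Abelian.Ext.mk₀ (a • 𝟙 (X.obj t))).comp x (zero_add i) := by
    rw [Abelian.Ext.mk₀_smul, Abelian.Ext.smul_comp, Abelian.Ext.mk₀_id_comp]
  have h2 : a • 𝟙 (X.obj t) = 0 := by
    ext y
    exact ha y
  rw [← map_smul, h1, h2, Abelian.Ext.mk₀_zero, Abelian.Ext.zero_comp, map_zero]

end Basic

end Groth.Agent.Localalg.LCFam
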