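import Mathlib.RingTheory.Length
import Mathlib.RingTheory.Flat.EquationalCriterion
import Mathlib.Tactic.LinearCombination
import Mathlib.Tactic.Ring

/-!
Lech independence and lengths of quotients by powers.
-/

set_option autoImplicit false

namespace Groth.Agent.Localalg.Lech

open Ideal

variable {R : Type*} [CommRing R]

/-- The length of `R / I`. -/
noncomputable def len (I : Ideal R) : ℕ∞ := Module.length R (R ⧸ I)

section Length

variable (K : Ideal R) (g h : R)

/-- multiplication by `h` -/
def mulMap : (R ⧸ (span {g} ⊔ K)) →ₗ[R] (R ⧸ (span {g * h} ⊔ K)) :=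
  Submodule.mapQ _ _ (LinearMap.lsmul R R h) (by
    refine sup_le ?_ ?_
    · rw [Ideal.span_le, Set.singleton_subset_iff]
      change h • g ∈ (span {g * h} ⊔ K : Ideal R)
      rw [smul_eq_mul, mul_comm]
      exact Ideal.mem_sup_left (Ideal.mem_span_singleton_self _)
    · intro x hx
      change h • x ∈ (span {g * h} ⊔ K : Ideal R)
      exact Ideal.mem_sup_right (K.mul_mem_left _ hx))

/-- the projection -/
def projMap : (R ⧸ (span {g * h} ⊔ K)) →ₗ[R] (R ⧸ (span {h} ⊔ K)) :=
  Submodule.mapQ _ _ LinearMap.id (by
    refine sup_le ?_ ?_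
    · rw [Ideal.span_le, Set.singleton_subset_iff]
      exact Ideal.mem_sup_left (Ideal.mul_mem_left _ _ (Ideal.mem_span_singleton_self _))
    · intro x hx
      exact Ideal.mem_sup_right hx)

theorem projMap_surjective : Function.Surjective (projMap K g h) := by
  intro x
  obtain ⟨x, rfl⟩ := Submodule.Quotient.mk_surjective _ x
  exact ⟨Submodule.Quotient.mk x, rfl⟩

theorem exact_mulMap_projMap : Function.Exact (mulMap K g h) (projMap K g h) := by
  intro x
  obtain ⟨x, rfl⟩ := Submodule.Quotient.mk_surjective _ x
  constructor
  · intro hx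
    have hx' : x ∈ span {h} ⊔ K := (Submodule.Quotient.mk_eq_zero _).mp hx
    obtain ⟨y, hy, z, hz, rfl⟩ := Submodule.mem_sup.mp hx'
    obtain ⟨c, rfl⟩ := Ideal.mem_span_singleton'.mp hy
    refine ⟨Submodule.Quotient.mk c, ?_⟩
    change (Submodule.Quotient.mk (h • c) : R ⧸ (span {g * h} ⊔ K)) = _
    rw [Submodule.Quotient.eq]
    have : h • c - (c * h + z) = - z := by rw [smul_eq_mul]; ring
    rw [this]
    exact neg_mem (Ideal.mem_sup_right hz)
  · rintro ⟨c, hc⟩
    obtain ⟨c, rfl⟩ := Submodule.Quotient.mk_surjective _ c
    have hc' : (Submodule.Quotient.mk (h • c) : R ⧸ (span {g * h} ⊔ K)) = Submodule.Quotient.mk x := hc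
    rw [← hc']
    change (Submodule.Quotient.mk (h • c) : R ⧸ (span {h} ⊔ K)) = 0
    rw [Submodule.Quotient.mk_eq_zero, smul_eq_mul]
    exact Ideal.mem_sup_left (Ideal.mul_mem_right _ _ (Ideal.mem_span_singleton_self _))

theorem length_mul_eq (hinj : ∀ a, h * a ∈ span {g * h} ⊔ K → a ∈ span {g} ⊔ K) :
    len (span {g * h} ⊔ K) = len (span {g} ⊔ K) + len (span {h} ⊔ K) := by
  refine Module.length_eq_add_of_exact (mulMap K g h) (projMap K g h) ?_
    (projMap_surjective K g h) (exact_mulMap_projMap K g h)
  rw [injective_iff_map_eq_zero]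
  intro x hx
  obtain ⟨x, rfl⟩ := Submodule.Quotient.mk_surjective _ x
  have hx' : (Submodule.Quotient.mk (h • x) : R ⧸ (span {g * h} ⊔ K)) = 0 := hx
  rw [Submodule.Quotient.mk_eq_zero] at hx' ⊢
  exact hinj x hx'

theorem length_mul_le :
    len (span {g * h} ⊔ K) ≤ len (span {g} ⊔ K) + len (span {h} ⊔ K) := by
  have h1 := Module.length_eq_add_of_exact (LinearMap.range (mulMap K g h)).subtype (projMap K g h)
    (Submodule.subtype_injective _) (projMap_surjective K g h) (by
      intro x
      rw [exact_mulMap_projMap K g h x]
      constructor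
      · rintro ⟨y, rfl⟩
        exact ⟨⟨_, ⟨y, rfl⟩⟩, rfl⟩
      · rintro ⟨⟨_, ⟨y, rfl⟩⟩, rfl⟩
        exact ⟨y, rfl⟩)
  unfold len
  rw [h1]
  exact add_le_add (Module.length_le_of_surjective _ (LinearMap.surjective_rangeRestrict _)) le_rfl

theorem length_pow_le (n : ℕ) :
    len (span {g ^ n} ⊔ K) ≤ n * len (span {g} ⊔ K) := by
  induction n with
  | zero =>
    have : (span {g ^ 0} ⊔ K : Ideal R) = ⊤ := by
      rw [pow_zero, Ideal.span_singleton_one, top_sup_eq]
    rw [this]
    have : Subsingleton (R ⧸ (⊤ : Ideal R)) := Ideal.Quotient.subsingleton_iff.mpr rfl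
    have h0 : len (⊤ : Ideal R) = 0 := Module.length_eq_zero
    rw [h0]
    exact zero_le
  | succ n ih =>
    rw [pow_succ]
    refine (length_mul_le K (g ^ n) g).trans ?_
    rw [Nat.cast_succ, add_mul, one_mul]
    exact add_le_add ih le_rfl

end Length

variable {ι : Type*} [Fintype ι] [DecidableEq ι]

/-- Lech independence of a family of elements. -/
def Indep (f : ι → R) : Prop :=
  ∀ a : ι → R, ∑ i, a i * f i = 0 → ∀ i, a i ∈ Ideal.span (Set.range f)

omit [Fintype ι] in
theorem span_range_update (f : ι → R) (i₀ : ι) (g : R) :
    span (Set.range (Function.update f i₀ g)) = span {g} ⊔ span (f '' {i₀}ᶜ) := by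
  apply le_antisymm
  · rw [Ideal.span_le]
    rintro _ ⟨i, rfl⟩
    by_cases h : i = i₀
    · subst h
      rw [Function.update_self]
      exact Ideal.mem_sup_left (Ideal.mem_span_singleton_self _)
    · rw [Function.update_of_ne h]
      exact Ideal.mem_sup_right (Ideal.subset_span ⟨i, h, rfl⟩)
  · refine sup_le ?_ ?_
    · rw [Ideal.span_le, Set.singleton_subset_iff]
      exact Ideal.subset_span ⟨i₀, Function.update_self _ _ _⟩
    · rw [Ideal.span_le]
      rintro _ ⟨i, hi, rfl⟩
      exact Ideal.subset_span ⟨i, Function.update_of_ne hi _ _⟩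

theorem span_range_eq (f : ι → R) (i₀ : ι) :
    span (Set.range f) = span {f i₀} ⊔ span (f '' {i₀}ᶜ) := by
  rw [← span_range_update f i₀ (f i₀), Function.update_eq_self]

theorem sum_mul_update (a f : ι → R) (i₀ : ι) (g : R) :
    ∑ i, a i * Function.update f i₀ g i = a i₀ * g + ∑ i ∈ Finset.univ.erase i₀, a i * f i := by
  rw [← Finset.add_sum_erase _ _ (Finset.mem_univ i₀), Function.update_self]
  congr 1
  refine Finset.sum_congr rfl fun i hi => ?_
  rw [Function.update_of_ne (Finset.ne_of_mem_erase hi)]

theorem Indep.update {f : ι → R} (hf : Indep f) (i₀ : ι) (g h : R) (hgh : f i₀ = g * h) :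
    Indep (Function.update f i₀ g) := by
  have hle : span (Set.range f) ≤ span (Set.range (Function.update f i₀ g)) := by
    rw [span_range_eq f i₀, span_range_update]
    refine sup_le ?_ le_sup_right
    rw [Ideal.span_le, Set.singleton_subset_iff, hgh]
    exact Ideal.mem_sup_left (Ideal.mul_mem_right _ _ (Ideal.mem_span_singleton_self _))
  have hg : g ∈ span (Set.range (Function.update f i₀ g)) :=
    Ideal.subset_span ⟨i₀, Function.update_self _ _ _⟩
  intro a ha
  rw [sum_mul_update] at ha
  have h1 : ∑ i, Function.update (fun j => h * a j) i₀ (a i₀) i * f i = 0 := by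
    rw [← Finset.add_sum_erase _ _ (Finset.mem_univ i₀), Function.update_self]
    have : ∑ i ∈ Finset.univ.erase i₀, Function.update (fun j => h * a j) i₀ (a i₀) i * f i
        = h * ∑ i ∈ Finset.univ.erase i₀, a i * f i := by
      rw [Finset.mul_sum]
      refine Finset.sum_congr rfl fun i hi => ?_
      rw [Function.update_of_ne (Finset.ne_of_mem_erase hi), mul_assoc]
    rw [this, hgh]
    linear_combination h * ha
  have h2 := hf _ h1 i₀
  rw [Function.update_self] at h2
  obtain ⟨b, hb⟩ := (Ideal.mem_span_range_iff_exists_fun).mp h2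
  have h3 : ∑ i, (Function.update a i₀ 0 + fun i => g * b i) i * f i = 0 := by
    simp only [Pi.add_apply, add_mul, Finset.sum_add_distrib]
    have e1 : ∑ i, Function.update a i₀ 0 i * f i = ∑ i ∈ Finset.univ.erase i₀, a i * f i := by
      rw [← Finset.add_sum_erase _ _ (Finset.mem_univ i₀), Function.update_self, zero_mul, zero_add]
      refine Finset.sum_congr rfl fun i hi => ?_
      rw [Function.update_of_ne (Finset.ne_of_mem_erase hi)]
    have e2 : ∑ i, g * b i * f i = g * a i₀ := by
      rw [← hb, Finset.mul_sum]
      refine Finset.sum_congr rfl fun i _ => by ring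
    rw [e1, e2]
    linear_combination ha
  intro i
  by_cases hi : i = i₀
  · subst hi; exact hle h2
  · have h4 := hf _ h3 i
    simp only [Pi.add_apply, Function.update_of_ne hi] at h4
    have h5 : a i = (a i + g * b i) - g * b i := by ring
    rw [h5]
    exact sub_mem (hle h4) (Ideal.mul_mem_right _ _ hg)

theorem Indep.length_update_mul {f : ι → R} (i₀ : ι) (g h : R)
    (hf : Indep (Function.update f i₀ (g * h))) :
    len (span (Set.range (Function.update f i₀ (g * h)))) =
      len (span (Set.range (Function.update f i₀ g))) +
      len (span (Set.range (Function.update f i₀ h))) := by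
  rw [span_range_update, span_range_update, span_range_update]
  refine length_mul_eq _ _ _ ?_
  intro a ha
  rw [← span_range_update] at ha ⊢
  obtain ⟨b, hb⟩ := (Ideal.mem_span_range_iff_exists_fun).mp ha
  rw [sum_mul_update] at hb
  have h1 : ∑ i, Function.update (fun j => - (g * b j)) i₀ (a - b i₀ * g) i *
      Function.update f i₀ (g * h) i = 0 := by
    rw [sum_mul_update, Function.update_self]
    have : ∑ i ∈ Finset.univ.erase i₀, Function.update (fun j => - (g * b j)) i₀ (a - b i₀ * g) i * f i
        = - g * ∑ i ∈ Finset.univ.erase i₀, b i * f i := by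
      rw [Finset.mul_sum]
      refine Finset.sum_congr rfl fun i hi => ?_
      rw [Function.update_of_ne (Finset.ne_of_mem_erase hi)]
      ring
    rw [this]
    linear_combination (-g) * hb
  have h2 := hf _ h1 i₀
  rw [Function.update_self] at h2
  have hle : span (Set.range (Function.update f i₀ (g * h))) ≤
      span (Set.range (Function.update f i₀ g)) := by
    rw [span_range_update, span_range_update]
    refine sup_le ?_ le_sup_right
    rw [Ideal.span_le, Set.singleton_subset_iff]
    exact Ideal.mem_sup_left (Ideal.mul_mem_right _ _ (Ideal.mem_span_singleton_self _))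
  have h3 : a = (a - b i₀ * g) + b i₀ * g := by ring
  rw [h3]
  exact add_mem (hle h2) (Ideal.mul_mem_left _ _ (Ideal.subset_span ⟨i₀, Function.update_self _ _ _⟩))

theorem Indep.length_update_pow {f : ι → R} (i₀ : ι) (g : R) (n : ℕ)
    (hf : Indep (Function.update f i₀ (g ^ (n + 1)))) :
    len (span (Set.range (Function.update f i₀ (g ^ (n + 1))))) =
      (n + 1 : ℕ) * len (span (Set.range (Function.update f i₀ g))) := by
  induction n with
  | zero => simp
  | succ n ih =>
    rw [pow_succ] at hf ⊢
    rw [Indep.length_update_mul i₀ _ _ hf, ih]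
    · push_cast; ring
    · have := hf.update i₀ (g ^ (n + 1)) g (Function.update_self _ _ _)
      rwa [Function.update_idem] at this

/-- If `x_i ^ (n + 1)` is Lech-independent, the length of the quotient is `(n + 1) ^ r` times the
length of the quotient by the `x_i`. -/
theorem Indep.length_pow {x : ι → R} (n : ℕ) (hf : Indep (fun i => x i ^ (n + 1))) :
    len (span (Set.range (fun i => x i ^ (n + 1)))) =
      ((n + 1) ^ Fintype.card ι : ℕ) * len (span (Set.range x)) := by
  -- replace the exponents one at a time
  have key : ∀ s : Finset ι, Indep (fun i => if i ∈ s then x i else x i ^ (n + 1)) ∧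
      len (span (Set.range (fun i => x i ^ (n + 1)))) =
      ((n + 1) ^ s.card : ℕ) *
        len (span (Set.range (fun i => if i ∈ s then x i else x i ^ (n + 1)))) := by
    intro s
    induction s using Finset.induction_on with
    | empty => simpa using hf
    | insert i s his ih =>
      obtain ⟨ih1, ih2⟩ := ih
      have e1 : (fun j => if j ∈ s then x j else x j ^ (n + 1)) =
          Function.update (fun j => if j ∈ insert i s then x j else x j ^ (n + 1)) i
            (x i ^ (n + 1)) := by
        funext j
        by_cases hj : j = i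
        · subst hj; simp [his]
        · simp [hj]
      have e2 : (fun j => if j ∈ insert i s then x j else x j ^ (n + 1)) =
          Function.update (fun j => if j ∈ insert i s then x j else x j ^ (n + 1)) i (x i) := by
        funext j
        by_cases hj : j = i
        · subst hj; simp
        · simp [hj]
      constructor
      · rw [e1] at ih1
        have h1 := ih1.update i (x i) (x i ^ n) (by rw [Function.update_self]; ring)
        rw [Function.update_idem, ← e2] at h1
        exact h1
      · rw [ih2, e1, Indep.length_update_pow i (x i) n (e1 ▸ ih1), ← e2,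
          Finset.card_insert_of_notMem his, pow_succ]
        push_cast
        ring
  have h := (key Finset.univ).2
  simpa using h

theorem length_pow_le' (x : ι → R) (n : ℕ) :
    len (span (Set.range (fun i => x i ^ n))) ≤
      (n ^ Fintype.card ι : ℕ) * len (span (Set.range x)) := by
  have key : ∀ s : Finset ι,
      len (span (Set.range (fun i => x i ^ n))) ≤
      (n ^ s.card : ℕ) *
        len (span (Set.range (fun i => if i ∈ s then x i else x i ^ n))) := by
    intro s
    induction s using Finset.induction_on with
    | empty => simp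
    | insert i s his ih =>
      have e1 : (fun j => if j ∈ s then x j else x j ^ n) =
          Function.update (fun j => if j ∈ insert i s then x j else x j ^ n) i
            (x i ^ n) := by
        funext j
        by_cases hj : j = i
        · subst hj; simp [his]
        · simp [hj]
      have e2 : (fun j => if j ∈ insert i s then x j else x j ^ n) =
          Function.update (fun j => if j ∈ insert i s then x j else x j ^ n) i (x i) := by
        funext j
        by_cases hj : j = i
        · subst hj; simp
        · simp [hj]
      refine ih.trans ?_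
      rw [Finset.card_insert_of_notMem his, pow_succ, Nat.cast_mul, mul_assoc]
      refine mul_le_mul_right ?_ _
      have e3 : span (Set.range (fun j => if j ∈ insert i s then x j else x j ^ n)) =
          span {x i} ⊔ span ((fun j => if j ∈ insert i s then x j else x j ^ n) '' {i}ᶜ) := by
        conv_lhs => rw [e2]
        rw [span_range_update]
      rw [e1, span_range_update, e3]
      exact length_pow_le _ _ _
  have h := key Finset.univ
  simpa using h

end Groth.Agent.Localalg.Lech
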