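import Groth.Agent.Localalg.TopNonvanAlg
import Groth.Agent.CohqB.DevSupport
import Groth.Agent.Sga67.CohBasic
import Groth.Agent.Sga67.QCohEpi
import Groth.Agent.CohqB.LocBaseHH
import Groth.Agent.Ega1.QCohSpec

/-!
# Sheaf part of the nonvanishing of the top cohomology

`Z` Noetherian, `E` quasi-coherent with an automorphism `T` (powers `P i`) which locally on a set `S`
satisfies an equation with a unit coefficient, `C → E` coherent, `H^{p+1} = 0` on coherent modules and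
`H^p = 0` on coherent modules with zero stalks on `S`. Then the image `W` of `H^p(C)` in `H^p(E)`
satisfies `T^l W ⊆ ∑_{i ≥ 0 or i ≤ -n} T^i W` (`mem_closure`).
-/

set_option autoImplicit false
universe u
open CategoryTheory CategoryTheory.Limits AlgebraicGeometry TopologicalSpace Opposite ZeroObject

namespace Groth.Agent.Localalg.TopNonvanSheaf

open Groth.Agent.CohqB.DevSupport Groth.Agent.Sga67.CohBasic Groth.Agent.Localalg.TopNonvanAlg
open Groth.Agent.CohqB.LocBaseHH (hmap hmap_comp hmap_id hmap_add hmap_zero)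

variable {Z : Scheme.{u}} {E C : Z.Modules} (ι : C ⟶ E) (P : ℤ → (E ⟶ E))

/-- `C ⊞ ... ⊞ C → E`, given by `T^i` on the summand with label `i`. -/
theorem exists_sum [IsLocallyNoetherian Z] (hC : Coh.IsCoh C) (p : ℕ) (L : List ℤ) :
    ∃ (D : Z.Modules) (φ : D ⟶ E), Coh.IsCoh D ∧ (∀ i ∈ L, ∃ a : C ⟶ D, a ≫ φ = ι ≫ P i) ∧
      ∀ y : Coh.HH Z D p, hmap φ p y ∈ AddSubgroup.closure
        {x : Coh.HH Z E p | ∃ i ∈ L, ∃ w : Coh.HH Z C p, x = hmap (P i) p (hmap ι p w)} := by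
  induction L with
  | nil =>
    refine ⟨0, 0, isCoh_of_isZero (isZero_zero _), by simp, fun y => ?_⟩
    rw [hmap_zero]
    exact zero_mem _
  | cons i L ih =>
    obtain ⟨D, φ, hD, h1, h2⟩ := ih
    refine ⟨D ⊞ C, biprod.desc φ (ι ≫ P i), isCoh_biprod hD hC, ?_, fun y => ?_⟩
    · intro j hj
      rcases List.mem_cons.1 hj with rfl | hj
      · exact ⟨biprod.inr, biprod.inr_desc _ _⟩
      · obtain ⟨a, ha⟩ := h1 j hj
        exact ⟨a ≫ biprod.inl, by rw [Category.assoc, biprod.inl_desc, ha]⟩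
    · have h3 : biprod.desc φ (ι ≫ P i) = biprod.fst ≫ φ + biprod.snd ≫ ι ≫ P i := by
        apply biprod.hom_ext'
        · simp
        · simp
      rw [h3, hmap_add, hmap_comp, hmap_comp, hmap_comp]
      refine add_mem (AddSubgroup.closure_mono ?_ (h2 _)) (AddSubgroup.subset_closure ?_)
      · rintro x ⟨j, hj, w, rfl⟩
        exact ⟨j, List.mem_cons_of_mem _ hj, w, rfl⟩
      · exact ⟨i, List.mem_cons_self, _, rfl⟩

/-- linear map on sections -/
noncomputable def appL {M N : Z.Modules} (f : M ⟶ N) (V : Z.Opens) : Γ(M, V) →ₗ[Γ(Z, V)] Γ(N, V) where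
  toFun := f.app V
  map_add' := map_add _
  map_smul' r x := Scheme.Modules.Hom.app_smul f r x

theorem appL_apply {M N : Z.Modules} (f : M ⟶ N) (V : Z.Opens) (x : Γ(M, V)) :
    appL f V x = f.app V x := rfl

theorem comp_app_apply {M N K : Z.Modules} (f : M ⟶ N) (g : N ⟶ K) (V : Z.Opens) (x : Γ(M, V)) :
    (f ≫ g).app V x = g.app V (f.app V x) := rfl

theorem mem_range_phi (V : Z.Opens) (L : List ℤ) {D : Z.Modules} (φ : D ⟶ E)
    (h : ∀ i ∈ L, ∃ a : C ⟶ D, a ≫ φ = ι ≫ P i) (y : Γ(E, V))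
    (hy : y ∈ ⨆ i ∈ L, (LinearMap.range (appL ι V)).map (appL (P i) V)) :
      ∃ x, φ.app V x = y := by
  have h1 : ∀ j ∈ L, (LinearMap.range (appL ι V)).map (appL (P j) V) ≤
      LinearMap.range (appL φ V) := by
    intro j hj
    rintro _ ⟨_, ⟨c, rfl⟩, rfl⟩
    obtain ⟨a, ha⟩ := h j hj
    refine ⟨a.app V c, ?_⟩
    rw [appL_apply, appL_apply, appL_apply, ← comp_app_apply, ha, comp_app_apply]
  exact (iSup₂_le h1) hy


theorem not_mem_support_of_subsingleton {M : Z.Modules} (hM : Coh.IsQCoh M) {V : Z.Opens}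
    (hV : IsAffineOpen V) (h : Subsingleton Γ(M, V)) {z : Z} (hz : z ∈ V) :
    z ∉ CohB1.support M := by
  rw [not_mem_support_iff]
  have key : ∀ t : M.presheaf.stalk z, t = 0 := by
    intro t
    obtain ⟨W, hzW, s, rfl⟩ := M.presheaf.exists_germ_eq t
    obtain ⟨f, hf, hzf⟩ := hV.exists_basicOpen_le (V := W) ⟨z, hzW⟩ hz
    let s' : Γ(M, Z.basicOpen f) := M.presheaf.map (homOfLE hf).op s
    have hs' : s' = 0 := by
      obtain ⟨n, t, ht⟩ := (Groth.Agent.Ega1.QCohLoc.isLocAt_of_isQCoh hM hV f).surj s'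
      rw [Subsingleton.elim t 0, map_zero] at ht
      have hu : IsUnit (Groth.Agent.Ega1.QCohLoc.resO (Z.basicOpen_le f) f ^ n) :=
        (RingedSpace.isUnit_res_basicOpen (X := Z.toRingedSpace) f).pow n
      exact (hu.smul_eq_zero.1 ht.symm)
    rw [← TopCat.Presheaf.germ_res_apply M.presheaf (homOfLE hf) z hzf]
    change M.presheaf.germ _ z hzf s' = 0
    rw [hs', map_zero]
  exact ⟨fun a b => (key a).trans (key b).symm⟩

/-- The section-level statement on an affine open. -/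
theorem cokernel_sections [IsLocallyNoetherian Z] {D F : Z.Modules} (α : D ⟶ F) (β : C ⟶ F)
    [Epi (biprod.desc α β)] (j : F ⟶ E) [Mono j] (hC : Coh.IsCoh C) (hD : Coh.IsCoh D)
    (hF : Coh.IsCoh F) {V : Z.Opens} (hV : IsAffineOpen V)
    (h : ∀ c : Γ(C, V), ∃ x : Γ(D, V), (α ≫ j).app V x = (β ≫ j).app V c) :
    Subsingleton Γ(cokernel α, V) := by
  have hDC : Coh.IsCoh (D ⊞ C) := isCoh_biprod hD hC
  have hR : Coh.IsCoh (cokernel α) := isCoh_cokernel α hD.1 hF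
  have key : ∀ γ : Γ(cokernel α, V), γ = 0 := by
    intro γ
    obtain ⟨y, rfl⟩ := Groth.Agent.Sga67.QCohEpi.app_surjective (cokernel.π α) hF.1 hR.1 hV γ
    obtain ⟨y, rfl⟩ := Groth.Agent.Sga67.QCohEpi.app_surjective (biprod.desc α β) hDC.1 hF.1 hV y
    obtain ⟨x, hx⟩ := h ((biprod.snd : D ⊞ C ⟶ C).app V y)
    have h2 : β.app V ((biprod.snd : D ⊞ C ⟶ C).app V y) = α.app V x := by
      apply Groth.Agent.Ega1.QCohSpec.app_injective_of_mono j V
      exact hx.symm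
    have h3 : (biprod.desc α β).app V y = α.app V ((biprod.fst : D ⊞ C ⟶ D).app V y) + α.app V x := by
      rw [← h2, biprod.desc_eq]
      rfl
    have h4 : ∀ d : Γ(D, V), (cokernel.π α).app V (α.app V d) = 0 := by
      intro d
      rw [← comp_app_apply, cokernel.condition]
      rfl
    rw [h3, map_add, h4, h4, add_zero]
  exact ⟨fun a b => (key a).trans (key b).symm⟩

theorem exists_list_support [IsNoetherian Z] (hC : Coh.IsCoh C)
    (hP : ∀ i j, P (i + j) = P j ≫ P i) (S : Set Z)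
    (hS : ∀ z ∈ S, ∃ (V : Z.Opens) (_ : IsAffineOpen V) (_ : z ∈ V) (h : Polynomial Γ(Z, V)) (a : ℕ),
      IsUnit (h.coeff a) ∧ ∀ x : Γ(E, V), (h.sum fun j c => c • (P j).app V x) = 0)
    (n : ℕ) (l : ℤ) :
    ∃ L : List ℤ, (∀ i ∈ L, 0 ≤ i ∨ i ≤ -(n : ℤ)) ∧ ∀ z ∈ S, ∃ (V : Z.Opens) (_ : IsAffineOpen V)
      (_ : z ∈ V), ∀ c : Γ(C, V),
        (P l).app V (ι.app V c) ∈ ⨆ i ∈ L, (LinearMap.range (appL ι V)).map (appL (P i) V) := by
  have h1 : ∀ z : S, ∃ (V : Z.Opens) (_ : IsAffineOpen V) (_ : (z : Z) ∈ V) (J : Finset ℤ),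
      (∀ i ∈ J, 0 ≤ i ∨ i ≤ -(n : ℤ)) ∧ ∀ J' : Finset ℤ, J ⊆ J' → ∀ c : Γ(C, V),
        (P l).app V (ι.app V c) ∈ ⨆ i ∈ J', (LinearMap.range (appL ι V)).map (appL (P i) V) := by
    rintro ⟨z, hz⟩
    obtain ⟨V, hV, hzV, h, a, ha, hT⟩ := hS z hz
    have hfin : Module.Finite Γ(Z, V) Γ(C, V) := finite_sections hC ⟨V, hV⟩
    have hfg : (LinearMap.range (appL ι V)).FG := Submodule.FG.of_finite
    obtain ⟨J, hJ, hJ'⟩ := exists_finset_map_pw_le (fun i => appL (P i) V)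
      (fun i j x => by
        rw [hP]
        rfl) h a ha hT (LinearMap.range (appL ι V)) hfg n l
    exact ⟨V, hV, hzV, J, hJ, fun J' hJJ' c => hJ' J' hJJ' ⟨appL ι V c, ⟨c, rfl⟩, rfl⟩⟩
  choose V hV hzV J hJ hJ' using h1
  have hcomp : IsCompact (⋃ z : S, (V z : Set Z)) := by
    have : NoetherianSpace Z := inferInstance
    exact NoetherianSpace.isCompact _
  obtain ⟨t, ht⟩ := hcomp.elim_finite_subcover (fun z : S => (V z : Set Z)) (fun z => (V z).2) subset_rfl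
  classical
  let J₀ : Finset ℤ := t.biUnion J
  refine ⟨J₀.toList, ?_, ?_⟩
  · intro i hi
    rw [Finset.mem_toList, Finset.mem_biUnion] at hi
    obtain ⟨z, -, hz⟩ := hi
    exact hJ z i hz
  · intro z hz
    have h2 : z ∈ ⋃ z : S, (V z : Set Z) := Set.mem_iUnion.2 ⟨⟨z, hz⟩, hzV _⟩
    obtain ⟨y, hy, hzy⟩ := Set.mem_iUnion₂.1 (ht h2)
    refine ⟨V y, hV y, hzy, fun c => ?_⟩
    have h3 := hJ' y J₀ (Finset.subset_biUnion_of_mem J hy) c
    simpa only [Finset.mem_toList] using h3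

theorem hmap_surjective {M N : Z.Modules} (α : M ⟶ N) (p : ℕ)
    (h1 : Subsingleton (Coh.HH Z (kernel α) (p + 1))) (h2 : Subsingleton (Coh.HH Z (cokernel α) p)) :
    Function.Surjective (hmap α p) := by
  have s1 := Groth.Agent.CohqB.LocBaseHH.hmap_surjective_of_next_subsingleton
    (shortExact_kernel_coimage α) p h1
  have s2 := Groth.Agent.CohqB.LocBaseHH.hmap_surjective_of_right_subsingleton
    (shortExact_image_cokernel α) p h2
  intro x
  obtain ⟨y, hy⟩ := s2 x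
  obtain ⟨z, hz⟩ := s1 (hmap (inv (Abelian.coimageImageComparison α)) p y)
  refine ⟨z, ?_⟩
  have h : α = cokernel.π (kernel.ι α) ≫ Abelian.coimageImageComparison α ≫ kernel.ι (cokernel.π α) :=
    (Abelian.coimage_image_factorisation α).symm
  rw [h, hmap_comp, hmap_comp]
  rw [show hmap (cokernel.π (kernel.ι α)) p z = _ from hz, ← hmap_comp (inv _), IsIso.inv_hom_id, hmap_id]
  exact hy

/-- Main consequence: the image of `T^l w` is a sum of elements `T^i w'`, `i ≥ 0` or `i ≤ -n`. -/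
theorem mem_closure [IsNoetherian Z] (hE : Coh.IsQCoh E) (hC : Coh.IsCoh C)
    (hP : ∀ i j, P (i + j) = P j ≫ P i) (S : Set Z)
    (hS : ∀ z ∈ S, ∃ (V : Z.Opens) (_ : IsAffineOpen V) (_ : z ∈ V) (h : Polynomial Γ(Z, V)) (a : ℕ),
      IsUnit (h.coeff a) ∧ ∀ x : Γ(E, V), (h.sum fun j c => c • (P j).app V x) = 0)
    (p : ℕ) (hvan : ∀ R : Z.Modules, Coh.IsCoh R → (∀ z ∈ S, z ∉ CohB1.support R) →
      Subsingleton (Coh.HH Z R p))
    (hright : ∀ K : Z.Modules, Coh.IsCoh K → Subsingleton (Coh.HH Z K (p + 1)))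
    (n : ℕ) (l : ℤ) (w : Coh.HH Z C p) :
    hmap (P l) p (hmap ι p w) ∈ AddSubgroup.closure {x : Coh.HH Z E p |
      ∃ i : ℤ, (0 ≤ i ∨ i ≤ -(n : ℤ)) ∧ ∃ w' : Coh.HH Z C p, x = hmap (P i) p (hmap ι p w')} := by
  obtain ⟨L, hL, hLS⟩ := exists_list_support ι P hC hP S hS n l
  obtain ⟨D, φ, hD, h1, h2⟩ := exists_sum ι P hC p L
  let Φ : D ⊞ C ⟶ E := biprod.desc φ (ι ≫ P l)
  let F := Abelian.image Φ
  let α : D ⟶ F := biprod.inl ≫ Abelian.factorThruImage Φ
  let β : C ⟶ F := biprod.inr ≫ Abelian.factorThruImage Φ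
  let j : F ⟶ E := Abelian.image.ι Φ
  have hαj : α ≫ j = φ := by
    simp only [α, j, Category.assoc, Abelian.image.fac, Φ, biprod.inl_desc]
  have hβj : β ≫ j = ι ≫ P l := by
    simp only [β, j, Category.assoc, Abelian.image.fac, Φ, biprod.inr_desc]
  have hdesc : biprod.desc α β = Abelian.factorThruImage Φ := by
    apply biprod.hom_ext' <;> simp [α, β]
  have hepi : Epi (biprod.desc α β) := by rw [hdesc]; infer_instance
  have hF : Coh.IsCoh F := isCoh_image Φ (isCoh_biprod hD hC) hE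
  have hR : Coh.IsCoh (cokernel α) := isCoh_cokernel α hD.1 hF
  have hRS : ∀ z ∈ S, z ∉ CohB1.support (cokernel α) := by
    intro z hz
    obtain ⟨V, hV, hzV, hVc⟩ := hLS z hz
    refine not_mem_support_of_subsingleton hR.1 hV ?_ hzV
    refine cokernel_sections α β j hC hD hF hV fun c => ?_
    rw [hαj, hβj]
    exact mem_range_phi ι P V L φ h1 _ (hVc c)
  have hsurj : Function.Surjective (hmap α p) :=
    hmap_surjective α p (hright _ (isCoh_kernel α hD hF.1)) (hvan _ hR hRS)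
  obtain ⟨y, hy⟩ := hsurj (hmap β p w)
  have h3 : hmap (P l) p (hmap ι p w) = hmap φ p y := by
    rw [← hmap_comp, ← hβj, hmap_comp, ← hy, ← hmap_comp, hαj]
  rw [h3]
  refine AddSubgroup.closure_mono ?_ (h2 y)
  rintro x ⟨i, hi, w', rfl⟩
  exact ⟨i, hL i hi, w', rfl⟩

end Groth.Agent.Localalg.TopNonvanSheaf
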