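import Groth.Agent.Localalg.BlowBoundary2
import Groth.Agent.CycB.ImageInt
import Groth.Agent.S0384
import Groth.Agent.S1618

/-!
# Compactification with a Cartier boundary

`X` integral, separated and of finite type over a field `k`, not proper: there is an affine open
immersion `s : X ⟶ Y` into an integral scheme proper over `k`, of the same dimension, and a nonunit
`a` on an affine open `V` of `Y` which becomes invertible on `s⁻¹ V`.
-/

set_option autoImplicit false
universe u
open CategoryTheory CategoryTheory.Limits AlgebraicGeometry TopologicalSpace Opposite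

namespace Groth.Agent.Localalg.LichtB2

/-- A function whose basic open is everything is a unit. -/
theorem isUnit_of_basicOpen_eq {X : Scheme.{u}} {U : X.Opens} (f : Γ(X, U))
    (h : U ≤ X.basicOpen f) : IsUnit f :=
  RingedSpace.isUnit_of_isUnit_germ (X := X.toRingedSpace) U f fun x hx =>
    (X.mem_basicOpen f x hx).1 (h hx)

theorem exists_model {k : Type u} [Field k] {X : Scheme.{u}} (f : X ⟶ Spec (CommRingCat.of k))
    [IsIntegral X] [IsSeparated f] [LocallyOfFiniteType f] [QuasiCompact f] (hnp : ¬ IsProper f) :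
    ∃ (Y : Scheme.{u}) (g : Y ⟶ Spec (CommRingCat.of k)) (s : X ⟶ Y), IsIntegral Y ∧ IsProper g ∧
      IsAffineHom s ∧ topologicalKrullDim Y = topologicalKrullDim X ∧
      ∃ (V : Y.Opens) (_ : IsAffineOpen V) (a : Γ(Y, V)), ¬ IsUnit a ∧ IsUnit (s.app V a) := by
  obtain ⟨Xc, j, g, hj, hqc, hg, hf⟩ := Groth.Agent.S0384.result f
  have hZ : IsIntegral j.image := Groth.Agent.CycB.ImageInt.isIntegral_image j
  let f₁ : j.image ⟶ Spec (CommRingCat.of k) := j.imageι ≫ g
  have hf₁ : IsProper f₁ := inferInstance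
  let j₁ : X ⟶ j.image := j.toImage
  have hj₁ : IsOpenImmersion j₁ := inferInstance
  have hjf : j₁ ≫ f₁ = f := by
    change j.toImage ≫ j.imageι ≫ g = f
    rw [Scheme.Hom.toImage_imageι_assoc, hf]
  let U : j.image.Opens := j₁.opensRange
  have hUne : (U : Set j.image).Nonempty := by
    obtain ⟨x⟩ := (inferInstance : Nonempty X)
    exact ⟨j₁ x, ⟨x, rfl⟩⟩
  have hUtop : U ≠ ⊤ := by
    intro h
    apply hnp
    have h1 : Function.Surjective j₁ := by
      intro z
      have : z ∈ U := by rw [h]; trivial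
      exact this
    have h2 : Surjective j₁ := ⟨h1⟩
    have h3 : IsIso j₁ := by
      have h4 : Epi j₁.base := (TopCat.epi_iff_surjective _).mpr h1
      exact IsOpenImmersion.isIso j₁
    rw [← hjf]
    infer_instance
  have hdimX : topologicalKrullDim j.image = topologicalKrullDim X := by
    let _ : j.image.Over (Spec (CommRingCat.of k)) := ⟨f₁⟩
    have h1 : LocallyOfFiniteType (j.image ↘ Spec (CommRingCat.of k)) :=
      inferInstanceAs (LocallyOfFiniteType f₁)
    have h2 := Groth.Agent.S1618.result k j.image U hUne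
    have h3 : topologicalKrullDim X = topologicalKrullDim U :=
      IsHomeomorph.topologicalKrullDim_eq _ (Scheme.homeoOfIso j₁.isoOpensRange).isHomeomorph
    rw [h3, h2]
  obtain ⟨Y, b, I, -, -, -, -, -, hY, hb, hiso, haff, hsurj, hdim, V, hV, a, ha, -, hVa⟩ :=
    Groth.Agent.Localalg.BlowBoundary2.exists_blowUp_boundary_field j.image f₁ U hUne hUtop
  let s : X ⟶ Y := j₁.isoOpensRange.hom ≫ inv (b ∣_ U) ≫ (b ⁻¹ᵁ U).ι
  have hsV : s ⁻¹ᵁ (b ⁻¹ᵁ U) = ⊤ := by
    rw [eq_top_iff]
    intro x _
    change s x ∈ b ⁻¹ᵁ U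
    have : s x = (b ⁻¹ᵁ U).ι ((j₁.isoOpensRange.hom ≫ inv (b ∣_ U)) x) := by
      rw [← Scheme.Hom.comp_apply, Category.assoc]
    rw [this]
    exact (((j₁.isoOpensRange.hom ≫ inv (b ∣_ U)) x : (b ⁻¹ᵁ U).toScheme)).2
  refine ⟨Y, b ≫ f₁, s, hY, inferInstance, inferInstance, hdim.trans hdimX, V, hV, a, ha, ?_⟩
  apply isUnit_of_basicOpen_eq
  rw [← Scheme.preimage_basicOpen, ← hVa, Scheme.Hom.preimage_inf, hsV, inf_top_eq]

end Groth.Agent.Localalg.LichtB2
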