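import Groth.Agent.S2348
import Groth.Agent.S1682
import Groth.Agent.S1618
import Groth.Agent.Divis.CartierCompl
import Groth.Agent.Flat2C.BlowProper

/-!
# Blowing up the boundary of a nonempty open of an integral noetherian scheme

`exists_blowUp`: the complement becomes an effective Cartier divisor; the open is affine over the
blow-up.
-/

set_option autoImplicit false
universe u

open CategoryTheory CategoryTheory.Limits AlgebraicGeometry TopologicalSpace

namespace Groth.Agent.Localalg.LichtBU

/-- The reduced ideal sheaf of the complement of an open. -/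
theorem exists_ideal {X : Scheme.{u}} [IsNoetherian X] (U : X.Opens) :
    ∃ I : X.IdealSheafData, BlowUp.IsFiniteTypeIdeal I ∧ I.support.compl = U := by
  refine ⟨Scheme.IdealSheafData.vanishingIdeal U.compl, fun V => ?_, ?_⟩
  · have : IsNoetherianRing Γ(X, V.1) := IsLocallyNoetherian.component_noetherian V
    exact IsNoetherian.noetherian _
  · have h : (Scheme.IdealSheafData.vanishingIdeal U.compl).support = U.compl := rfl
    rw [h]
    ext x
    exact not_not

theorem exists_blowUp (X : Scheme.{u}) [IsNoetherian X] [IsIntegral X] (U : X.Opens)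
    (hne : (U : Set X).Nonempty) (hU : U ≠ ⊤) :
    ∃ (X' : Scheme.{u}) (π : X' ⟶ X) (J : X'.IdealSheafData), IsProper π ∧ IsIntegral X' ∧
      IsIso (π ∣_ U) ∧ BlowUp.IsEffCartierIdeal J ∧ J.support.compl = π ⁻¹ᵁ U ∧
      IsAffineHom (π ⁻¹ᵁ U).ι ∧ π ⁻¹ᵁ U ≠ ⊤ ∧ Function.Surjective π ∧
      ((π ⁻¹ᵁ U : X'.Opens) : Set X').Nonempty := by
  obtain ⟨I, hIf, hIU⟩ := exists_ideal U
  obtain ⟨X', π, hπ⟩ := Flat2C.BlowExist.exists_isBlowUp I
  have hI : I ≠ ⊥ := by
    rintro rfl
    rw [Scheme.IdealSheafData.support_bot] at hIU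
    obtain ⟨x, hx⟩ := hne
    rw [← hIU] at hx
    exact hx trivial
  have hprop : IsProper π := Flat2C.BlowProper.isProper_of_isBlowUp hπ hIf
  obtain ⟨hint, hgen, -⟩ := S2348.result I hI π hπ
  have hcomp : (I.comap π).support.compl = π ⁻¹ᵁ U := by
    rw [← hIU]
    ext x
    simp [Scheme.IdealSheafData.support_comap]
  have hsurj : Function.Surjective π := by
    have hcl : IsClosed (Set.range π) := π.isClosedMap.isClosed_range
    rw [← Set.range_eq_univ, Set.eq_univ_iff_forall]
    intro x
    have h1 : genericPoint X ∈ Set.range π := ⟨genericPoint X', hgen⟩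
    have h2 : closure {genericPoint X} ⊆ Set.range π :=
      hcl.closure_subset_iff.2 (Set.singleton_subset_iff.2 h1)
    exact h2 (by rw [genericPoint_closure]; trivial)
  refine ⟨X', π, I.comap π, hprop, hint, ?_, hπ.1, hcomp, ?_, ?_, hsurj, ?_⟩
  · rw [← hIU]
    exact S1682.result I π hπ
  · rw [← hcomp]
    exact Divis.CartierCompl.isAffineHom_compl hπ.1
  · intro h
    apply hU
    ext x
    obtain ⟨y, rfl⟩ := hsurj x
    have : y ∈ π ⁻¹ᵁ U := by rw [h]; trivial
    exact ⟨fun _ => trivial, fun _ => this⟩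
  · obtain ⟨x, hx⟩ := hne
    obtain ⟨y, rfl⟩ := hsurj x
    exact ⟨y, hx⟩

end Groth.Agent.Localalg.LichtBU
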