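import Groth.Agent.CohtopA.DimShift
import Mathlib.CategoryTheory.MorphismProperty.Basic

/-!
# Comparison of cohomology along a left exact functor up to "null" maps

`T : C ⥤ D` left exact, preserving injectives, `P : D`, `P' : C` with `Hom(P, T Y) = Hom(P', Y)`
and edge maps `ε : Ext^n(P, T Y) → Ext^n(P', Y)` (structure `Edge`).
A class `W` of morphisms of `C` is null if (morally) `R^q T` kills it for all `q ≥ 1`.

* `descend` : if `h : Y ⟶ Z` is a composite of `n` null maps and `x ∈ Ext^(n+1)(P, T Y)` has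
  `ε x = 0` then `T h` kills `x`.
* `ascend` : if `g : Y ⟶ Z` is a composite of `n+1` null maps, the image of
  `Ext^(n+1)(P', Y) → Ext^(n+1)(P', Z)` lies in the image of `ε`.
-/

set_option autoImplicit false
universe w w' v v' u u'

open CategoryTheory Abelian Limits

namespace Groth.Agent.Localalg.LichtNull

variable {C : Type u} [Category.{v} C] [Abelian C]
variable {D : Type u'} [Category.{v'} D] [Abelian D]
variable (T : C ⥤ D) [T.Additive]

set_option linter.unusedSectionVars false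

/-- The cokernel of `T X₁ ⟶ T X₂`. -/
noncomputable abbrev B (S : ShortComplex C) : D := cokernel (T.map S.f)

/-- The map `coker (T X₁ ⟶ T X₂) ⟶ T X₃`. -/
noncomputable def b (S : ShortComplex C) : B T S ⟶ T.obj S.X₃ :=
  cokernel.desc _ (T.map S.g) (by rw [← T.map_comp, S.zero, T.map_zero])

@[reassoc (attr := simp)]
theorem π_b (S : ShortComplex C) : cokernel.π (T.map S.f) ≫ b T S = T.map S.g :=
  cokernel.π_desc _ _ _

/-- The functoriality of `B`. -/
noncomputable def bMap {S S' : ShortComplex C} (φ : S ⟶ S') : B T S ⟶ B T S' :=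
  cokernel.map _ _ (T.map φ.τ₁) (T.map φ.τ₂) (by rw [← T.map_comp, ← T.map_comp, φ.comm₁₂])

@[reassoc (attr := simp)]
theorem π_bMap {S S' : ShortComplex C} (φ : S ⟶ S') :
    cokernel.π (T.map S.f) ≫ bMap T φ = T.map φ.τ₂ ≫ cokernel.π (T.map S'.f) :=
  cokernel.π_desc _ _ _

@[reassoc]
theorem bMap_b {S S' : ShortComplex C} (φ : S ⟶ S') :
    bMap T φ ≫ b T S' = b T S ≫ T.map φ.τ₃ := by
  rw [← cancel_epi (cokernel.π (T.map S.f)), π_bMap_assoc, π_b, π_b_assoc, ← T.map_comp,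
    ← T.map_comp, φ.comm₂₃]

/-- The short complex `T X₁ ⟶ T X₂ ⟶ B`. -/
noncomputable abbrev BS (S : ShortComplex C) : ShortComplex D :=
  ShortComplex.mk (T.map S.f) (cokernel.π (T.map S.f)) (cokernel.condition _)

/-- The functoriality of `BS`. -/
noncomputable def BSMap {S S' : ShortComplex C} (φ : S ⟶ S') : BS T S ⟶ BS T S' where
  τ₁ := T.map φ.τ₁
  τ₂ := T.map φ.τ₂
  τ₃ := bMap T φ
  comm₁₂ := by dsimp; rw [← T.map_comp, ← T.map_comp, φ.comm₁₂]
  comm₂₃ := by dsimp; rw [π_bMap]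

section LeftExact

variable [PreservesFiniteLimits T]

theorem exact_map {S : ShortComplex C} (hS : S.ShortExact) : (S.map T).Exact := by
  have := hS.mono_f
  have h := ((Functor.preservesFiniteLimits_tfae T).out 0 3).2
    (inferInstance : PreservesFiniteLimits T)
  exact (h S hS).1

theorem mono_map {S : ShortComplex C} (hS : S.ShortExact) : Mono (T.map S.f) := by
  have := hS.mono_f
  infer_instance

theorem mono_b {S : ShortComplex C} (hS : S.ShortExact) : Mono (b T S) := by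
  exact (exact_map T hS).mono_cokernelDesc

theorem BS_shortExact {S : ShortComplex C} (hS : S.ShortExact) : (BS T S).ShortExact where
  exact := ShortComplex.exact_cokernel (T.map S.f)
  mono_f := mono_map T hS
  epi_g := by dsimp; infer_instance

end LeftExact

/-- An extension of a morphism to short exact sequences with injective middle term. -/
theorem exists_hom {S S' : ShortComplex C} (hS : S.ShortExact) (hI : Injective S'.X₂)
    (f : S.X₁ ⟶ S'.X₁) : ∃ φ : S ⟶ S', φ.τ₁ = f := by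
  have := hS.mono_f
  have := hS.epi_g
  have h2 : S.f ≫ Injective.factorThru (f ≫ S'.f) S.f = f ≫ S'.f := Injective.comp_factorThru _ _
  have h3 : S.f ≫ (Injective.factorThru (f ≫ S'.f) S.f ≫ S'.g) = 0 := by
    rw [← Category.assoc, h2, Category.assoc, S'.zero, comp_zero]
  exact ⟨{ τ₁ := f
           τ₂ := Injective.factorThru (f ≫ S'.f) S.f
           τ₃ := hS.exact.desc _ h3
           comm₁₂ := h2.symm
           comm₂₃ := (hS.exact.g_desc _ h3).symm }, rfl⟩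

/-- Null classes of morphisms for a left exact functor `T`. -/
structure NullClass (W : MorphismProperty C) : Prop where
  factor : ∀ {S S' : ShortComplex C} (_ : S.ShortExact) (_ : S'.ShortExact) (_ : Injective S.X₂)
    (_ : Injective S'.X₂) (φ : S ⟶ S'), W φ.τ₁ → ∃ c : T.obj S.X₃ ⟶ B T S', c ≫ b T S' = T.map φ.τ₃
  shift : ∀ {S S' : ShortComplex C} (_ : S.ShortExact) (_ : S'.ShortExact) (_ : Injective S.X₂)
    (_ : Injective S'.X₂) (φ : S ⟶ S'), W φ.τ₁ → W φ.τ₃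

/-- Composites of `n` maps in `W` (preceded by an arbitrary map). -/
def NullPow (W : MorphismProperty C) : ℕ → ∀ {Y Z : C}, (Y ⟶ Z) → Prop
  | 0, _, _, _ => True
  | n + 1, Y, Z, h => ∃ (Y₁ : C) (g : Y ⟶ Y₁) (f : Y₁ ⟶ Z), NullPow W n g ∧ W f ∧ g ≫ f = h

variable {T}

theorem nullPow_shift [EnoughInjectives C] {W : MorphismProperty C} (hW : NullClass T W) (n : ℕ) :
    ∀ {S S' : ShortComplex C} (_ : S.ShortExact) (_ : S'.ShortExact) (_ : Injective S.X₂)
    (_ : Injective S'.X₂) (g : S.X₁ ⟶ S'.X₁), NullPow W n g →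
      ∃ φ : S ⟶ S', φ.τ₁ = g ∧ NullPow W n φ.τ₃ := by
  induction n with
  | zero =>
    intro S S' hS hS' hI hI' g _
    obtain ⟨φ, hφ⟩ := exists_hom hS hI' g
    exact ⟨φ, hφ, trivial⟩
  | succ n ih =>
    rintro S S' hS hS' hI hI' g ⟨Y₁, g', f', hg', hf', rfl⟩
    obtain ⟨I, Q, i, q, w, hI₁, hS₁⟩ := CohtopA.DimShift.exists_shortExact_injective Y₁
    obtain ⟨φ, hφ, hφn⟩ := ih hS hS₁ hI hI₁ g' hg'
    obtain ⟨ψ, hψ⟩ := exists_hom hS₁ hI' (S' := S') f'
    refine ⟨φ ≫ ψ, ?_, ?_⟩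
    · rw [ShortComplex.comp_τ₁, hφ, hψ]
    · exact ⟨_, φ.τ₃, ψ.τ₃, hφn, hW.shift hS₁ hS' hI₁ hI' ψ (by rw [hψ]; exact hf'), rfl⟩

variable [HasExt.{w} C] [HasExt.{w'} D] [PreservesFiniteLimits T] [EnoughInjectives C]
variable {P : D} {P' : C}

variable (T P P') in
/-- Edge maps `Ext^n(P, T Y) → Ext^n(P', Y)`, bijective for `n = 0`. -/
structure Edge where
  /-- the edge map -/
  ε : ∀ (Y : C) (n : ℕ), Ext.{w'} P (T.obj Y) n → Ext.{w} P' Y n
  zero : ∀ (Y : C) (n : ℕ), ε Y n 0 = 0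
  nat : ∀ {Y Z : C} (f : Y ⟶ Z) (n : ℕ) (x : Ext.{w'} P (T.obj Y) n),
    ε Z n (x.comp (Ext.mk₀ (T.map f)) (add_zero n)) = (ε Y n x).comp (Ext.mk₀ f) (add_zero n)
  δ : ∀ {S : ShortComplex C} (hS : S.ShortExact) (n : ℕ) (β : Ext.{w'} P (B T S) n),
    ε S.X₁ (n + 1) (β.comp (BS_shortExact T hS).extClass rfl) =
      (ε S.X₃ n (β.comp (Ext.mk₀ (b T S)) (add_zero n))).comp hS.extClass rfl
  bij : ∀ (Y : C), Function.Bijective (ε Y 0)

omit [EnoughInjectives C] [HasExt.{w} C] in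
theorem comp_BSMap {S S' : ShortComplex C} (hS : S.ShortExact) (hS' : S'.ShortExact)
    (φ : S ⟶ S') {n p : ℕ} (β : Ext P (B T S) n) (hp : n + 1 = p) :
    (β.comp (BS_shortExact T hS).extClass hp).comp (Ext.mk₀ (T.map φ.τ₁)) (add_zero p) =
      (β.comp (Ext.mk₀ (bMap T φ)) (add_zero n)).comp (BS_shortExact T hS').extClass hp := by
  have h := ShortComplex.ShortExact.extClass_naturality (BS_shortExact T hS)
    (BS_shortExact T hS') (BSMap T φ)
  rw [Ext.comp_assoc _ _ _ hp (add_zero 1) (by omega)]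
  erw [h]
  rw [Ext.comp_assoc _ _ _ (add_zero n) (zero_add 1) (by omega)]
  rfl

omit [HasExt.{w'} D] [PreservesFiniteLimits T] [EnoughInjectives C] [T.Additive] in
theorem comp_hom {S S' : ShortComplex C} (hS : S.ShortExact) (hS' : S'.ShortExact)
    (φ : S ⟶ S') {n p : ℕ} (β : Ext P' S.X₃ n) (hp : n + 1 = p) :
    (β.comp hS.extClass hp).comp (Ext.mk₀ φ.τ₁) (add_zero p) =
      (β.comp (Ext.mk₀ φ.τ₃) (add_zero n)).comp hS'.extClass hp := by
  rw [Ext.comp_assoc _ _ _ hp (add_zero 1) (by omega),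
    ShortComplex.ShortExact.extClass_naturality hS hS' φ,
    Ext.comp_assoc _ _ _ (add_zero n) (zero_add 1) (by omega)]

theorem comp_mk₀_comp {D : Type u'} [Category.{v'} D] [Abelian D] [HasExt.{w'} D]
    {P A B Z : D} {n : ℕ} (x : Ext.{w'} P A n) (f : A ⟶ B) (g : B ⟶ Z) :
    x.comp (Ext.mk₀ (f ≫ g)) (add_zero n) =
      (x.comp (Ext.mk₀ f) (add_zero n)).comp (Ext.mk₀ g) (add_zero n) := by
  rw [← Ext.mk₀_comp_mk₀, Ext.comp_assoc _ _ _ (add_zero n) (zero_add 0) (by omega)]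

variable (hT : ∀ I : C, Injective I → Injective (T.obj I)) (e : Edge.{w, w'} T P P')

include hT in
/-- If `h` is a composite of `n` null maps and `ε x = 0` then `T h` kills `x`. -/
theorem descend {W : MorphismProperty C} (hW : NullClass T W) (n : ℕ) :
    ∀ {Y Z : C} (h : Y ⟶ Z), NullPow W n h → ∀ x : Ext P (T.obj Y) (n + 1), e.ε Y (n + 1) x = 0 →
      x.comp (Ext.mk₀ (T.map h)) (add_zero (n + 1)) = 0 := by
  induction n with
  | zero =>
    intro Y Z h _ x hx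
    obtain ⟨I, Q, i, q, w, hI, hS⟩ := CohtopA.DimShift.exists_shortExact_injective Y
    have hTI := hT I hI
    have hm := mono_b T hS
    obtain ⟨β, rfl⟩ := Ext.covariant_sequence_exact₁ P (BS_shortExact T hS) x
      (Ext.eq_zero_of_injective _) (show 0 + 1 = 0 + 1 from rfl)
    have h0 : β.comp (BS_shortExact T hS).extClass rfl = 0 := by
      rw [e.δ hS 0 β] at hx
      obtain ⟨γ', hγ'⟩ := Ext.covariant_sequence_exact₃ P' hS _ rfl hx
      obtain ⟨γ, rfl⟩ := (e.bij I).2 γ'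
      have h1 : γ.comp (Ext.mk₀ (T.map q)) (add_zero 0) = β.comp (Ext.mk₀ (b T _)) (add_zero 0) := by
        apply (e.bij Q).1
        rw [e.nat]
        exact hγ'
      have h2 : γ.comp (Ext.mk₀ (cokernel.π (T.map i))) (add_zero 0) = β := by
        obtain ⟨γ, rfl⟩ := Ext.addEquiv₀.symm.surjective γ
        obtain ⟨β, rfl⟩ := Ext.addEquiv₀.symm.surjective β
        change (Ext.mk₀ γ).comp _ _ = (Ext.mk₀ β).comp _ _ at h1
        change (Ext.mk₀ γ).comp _ _ = Ext.mk₀ β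
        erw [Ext.mk₀_comp_mk₀, Ext.mk₀_comp_mk₀] at h1
        rw [Ext.mk₀_comp_mk₀]
        have h3 := (Ext.mk₀_bijective _ _).1 h1
        dsimp at h3
        congr 1
        rw [← cancel_mono (b T (ShortComplex.mk i q w)), ← h3, Category.assoc]
        congr 1
        exact π_b T (ShortComplex.mk i q w)
      rw [← h2]
      exact (Ext.comp_assoc _ _ _ (add_zero 0) (zero_add 1) (by omega)).trans
        ((congrArg (fun t => γ.comp t (zero_add 1)) (BS_shortExact T hS).comp_extClass).trans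
          (Ext.comp_zero _ _ _ _ _))
    rw [h0, Ext.zero_comp]
  | succ n ih =>
    rintro Y Z h ⟨Y₁, g, f, hg, hf, rfl⟩ x hx
    obtain ⟨I, Q, i, q, w, hI, hS⟩ := CohtopA.DimShift.exists_shortExact_injective Y
    obtain ⟨I₁, Q₁, i₁, q₁, w₁, hI₁, hS₁⟩ := CohtopA.DimShift.exists_shortExact_injective Y₁
    obtain ⟨I₀, Q₀, i₀, q₀, w₀, hI₀, hS₀⟩ := CohtopA.DimShift.exists_shortExact_injective Z
    obtain ⟨φ, hφ, hφn⟩ := nullPow_shift hW n hS hS₁ hI hI₁ g hg
    obtain ⟨ψ, hψ⟩ := exists_hom hS₁ (S' := ShortComplex.mk i₀ q₀ w₀) hI₀ f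
    obtain ⟨c, hc⟩ := hW.factor hS₁ hS₀ hI₁ hI₀ ψ (by rw [hψ]; exact hf)
    have hTI := hT I hI
    obtain ⟨β, rfl⟩ := Ext.covariant_sequence_exact₁ P (BS_shortExact T hS) x
      (Ext.eq_zero_of_injective _) (show n + 1 + 1 = n + 2 from rfl)
    have h1 : T.map (g ≫ f) = T.map (φ ≫ ψ).τ₁ := by
      rw [ShortComplex.comp_τ₁, hφ, hψ]
    rw [h1, comp_BSMap hS hS₀ (φ ≫ ψ) β rfl]
    have hm := mono_b T hS₀
    have h2 : bMap T (φ ≫ ψ) = b T _ ≫ T.map φ.τ₃ ≫ c := by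
      rw [← cancel_mono (b T (ShortComplex.mk i₀ q₀ w₀)), bMap_b, ShortComplex.comp_τ₃,
        T.map_comp, Category.assoc, Category.assoc, hc]
    have h3 : β.comp (Ext.mk₀ (bMap T (φ ≫ ψ))) (add_zero (n + 1)) = 0 := by
      rw [h2, comp_mk₀_comp, comp_mk₀_comp]
      have h5 : e.ε Q (n + 1) (β.comp (Ext.mk₀ (b T (ShortComplex.mk i q w))) (add_zero (n + 1))) = 0 := by
        rw [e.δ hS (n + 1) β] at hx
        obtain ⟨γ, hγ⟩ := Ext.covariant_sequence_exact₃ P' hS _ rfl hx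
        have h6 : γ = 0 := Ext.eq_zero_of_injective _
        rw [h6, Ext.zero_comp] at hγ
        exact hγ.symm
      have h4 := ih φ.τ₃ hφn _ h5
      erw [h4]
      rw [Ext.zero_comp]
    rw [h3, Ext.zero_comp]

include hT in
/-- If `g : Y ⟶ Z` is a composite of `n + 1` null maps, then the image of
`Ext^(n+1)(P', Y) → Ext^(n+1)(P', Z)` lies in the image of `ε`. -/
theorem ascend {W : MorphismProperty C} (hW : NullClass T W) (n : ℕ) :
    ∀ {Y Z : C} (g : Y ⟶ Z), NullPow W (n + 1) g → ∀ x : Ext P' Y (n + 1),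
      ∃ y : Ext P (T.obj Z) (n + 1), e.ε Z (n + 1) y = x.comp (Ext.mk₀ g) (add_zero (n + 1)) := by
  induction n with
  | zero =>
    rintro Y Z g ⟨Y₂, g', f₁, -, hf₁, rfl⟩ x
    obtain ⟨I₂, Q₂, i₂, q₂, w₂, hI₂, hS₂⟩ := CohtopA.DimShift.exists_shortExact_injective Y₂
    obtain ⟨I₀, Q₀, i₀, q₀, w₀, hI₀, hS₀⟩ := CohtopA.DimShift.exists_shortExact_injective Z
    obtain ⟨φ, hφ⟩ := exists_hom hS₂ (S' := ShortComplex.mk i₀ q₀ w₀) hI₀ f₁
    obtain ⟨c, hc⟩ := hW.factor hS₂ hS₀ hI₂ hI₀ φ (by rw [hφ]; exact hf₁)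
    obtain ⟨β, hβ⟩ := Ext.covariant_sequence_exact₁ P' hS₂ (x.comp (Ext.mk₀ g') (add_zero _))
      (Ext.eq_zero_of_injective _) (show 0 + 1 = 0 + 1 from rfl)
    obtain ⟨β, rfl⟩ := (e.bij Q₂).2 β
    refine ⟨(β.comp (Ext.mk₀ c) (add_zero 0)).comp (BS_shortExact T hS₀).extClass rfl, ?_⟩
    rw [e.δ hS₀ 0, comp_mk₀_comp, ← hβ]
    have h1 : f₁ = φ.τ₁ := hφ.symm
    subst h1
    refine Eq.trans ?_ (comp_hom hS₂ hS₀ φ (e.ε Q₂ 0 β) rfl).symm
    congr 1
    rw [← e.nat]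
    congr 1
    rw [← comp_mk₀_comp, hc]
  | succ n ih =>
    rintro Y Z g ⟨Y₂, g', f₁, hg', hf₁, rfl⟩ x
    obtain ⟨I, Q, i, q, w, hI, hS⟩ := CohtopA.DimShift.exists_shortExact_injective Y
    obtain ⟨I₂, Q₂, i₂, q₂, w₂, hI₂, hS₂⟩ := CohtopA.DimShift.exists_shortExact_injective Y₂
    obtain ⟨I₀, Q₀, i₀, q₀, w₀, hI₀, hS₀⟩ := CohtopA.DimShift.exists_shortExact_injective Z
    obtain ⟨χ, hχ, hχn⟩ := nullPow_shift hW (n + 1) hS hS₂ hI hI₂ g' hg'
    obtain ⟨φ, hφ⟩ := exists_hom hS₂ (S' := ShortComplex.mk i₀ q₀ w₀) hI₀ f₁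
    obtain ⟨c, hc⟩ := hW.factor hS₂ hS₀ hI₂ hI₀ φ (by rw [hφ]; exact hf₁)
    obtain ⟨β, rfl⟩ := Ext.covariant_sequence_exact₁ P' hS x
      (Ext.eq_zero_of_injective _) (show n + 1 + 1 = n + 2 from rfl)
    obtain ⟨y, hy⟩ := ih χ.τ₃ hχn β
    refine ⟨(y.comp (Ext.mk₀ c) (add_zero _)).comp (BS_shortExact T hS₀).extClass rfl, ?_⟩
    rw [e.δ hS₀ (n + 1)]
    have h1 : f₁ = φ.τ₁ := hφ.symm
    have h2 : g' = χ.τ₁ := hχ.symm
    subst h1
    subst h2
    rw [← ShortComplex.comp_τ₁]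
    refine Eq.trans ?_ (comp_hom hS hS₀ (χ ≫ φ) β rfl).symm
    congr 1
    rw [ShortComplex.comp_τ₃, comp_mk₀_comp, ← hy, ← e.nat]
    congr 1
    rw [← comp_mk₀_comp, hc]

end Groth.Agent.Localalg.LichtNull
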