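import Groth.Agent.Localalg.Matlis3
import Groth.Agent.Ega4A.CompleteNoeth

/-!
# Matlis duality, part 4

An injective hull of the residue field of a Noetherian local ring is Artinian; characterization of Artinian
modules.
-/

set_option autoImplicit false
universe u v w

namespace Groth.Agent.Localalg.Matlis

open _root_.InjHull IsLocalRing

section Noetherian

variable {R : Type u} [CommRing R] [IsLocalRing R] [IsNoetherianRing R]
  {E : Type u} [AddCommGroup E] [Module R E] {f : ResidueField R →ₗ[R] E}

/-- The ideal of the completion of elements which kill `N ≤ E`. -/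
noncomputable def annCompl (hf : IsInjectiveHull f) (N : Submodule R E) :
    Ideal (AdicCompletion (maximalIdeal R) R) where
  carrier := {a | ∀ x ∈ N, (endEquivAdicCompletion hf).symm a x = 0}
  add_mem' := by
    intro a b ha hb x hx
    rw [map_add, LinearMap.add_apply, ha x hx, hb x hx, add_zero]
  zero_mem' := by
    intro x hx
    rw [map_zero]; rfl
  smul_mem' := by
    intro c a ha x hx
    rw [smul_eq_mul, map_mul]
    change (endEquivAdicCompletion hf).symm c ((endEquivAdicCompletion hf).symm a x) = 0
    rw [ha x hx, map_zero]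

theorem mem_annCompl (hf : IsInjectiveHull f) (N : Submodule R E) (a) :
    a ∈ annCompl hf N ↔ ∀ x ∈ N, (endEquivAdicCompletion hf).symm a x = 0 := Iff.rfl

theorem annCompl_strictAnti (hf : IsInjectiveHull f) : StrictAnti (annCompl hf) := by
  intro N N' hlt
  refine lt_of_le_of_ne (fun a ha x hx => ha x (hlt.le hx)) fun heq => ?_
  obtain ⟨x, hx', hx⟩ := Set.exists_of_ssubset hlt
  have hx0 : N.mkQ x ≠ 0 := by
    rw [Ne, Submodule.mkQ_apply, Submodule.Quotient.mk_eq_zero]
    exact hx
  obtain ⟨ψ, hψ⟩ := exists_apply_ne_zero hf hx0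
  have h1 : endEquivAdicCompletion hf (ψ ∘ₗ N.mkQ : Module.End R E) ∈ annCompl hf N := by
    intro y hy
    rw [AlgEquiv.symm_apply_apply]
    change ψ (N.mkQ y) = 0
    rw [Submodule.mkQ_apply, (Submodule.Quotient.mk_eq_zero N).mpr hy, map_zero]
  rw [← heq] at h1
  have h2 := h1 x hx'
  rw [AlgEquiv.symm_apply_apply] at h2
  exact hψ h2

/-- Stacks 08Z7. -/
theorem isArtinian_hull (hf : IsInjectiveHull f) : IsArtinian R E := by
  have hN : IsNoetherianRing (AdicCompletion (maximalIdeal R) R) :=
    Groth.Agent.Ega4A.CompleteNoeth.isNoetherianRing_adicCompletion _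
  have h : StrictMono (fun N => OrderDual.toDual (annCompl hf N)) :=
    fun N N' hlt => annCompl_strictAnti hf hlt
  exact h.wellFoundedLT

end Noetherian

section Artinian

variable {R : Type u} [CommRing R] [IsLocalRing R]

/-- An Artinian module over a Noetherian local ring is power torsion. -/
theorem isPowerTorsion_of_isArtinian [IsNoetherianRing R] (M : Type v) [AddCommGroup M] [Module R M]
    [IsArtinian R M] : LocCoh.IsPowerTorsion (maximalIdeal R) M := by
  intro x
  let N : ℕ → Submodule R M := fun k => (maximalIdeal R) ^ k • Submodule.span R {x}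
  have hanti : Antitone N := fun a b hab => Submodule.smul_mono_left (Ideal.pow_le_pow_right hab)
  obtain ⟨n, hn⟩ := IsArtinian.monotone_stabilizes
    (⟨fun k => OrderDual.toDual (N k), fun a b hab => hanti hab⟩ : ℕ →o (Submodule R M)ᵒᵈ)
  have h1 : N n = N (n + 1) := hn (n + 1) (Nat.le_succ n)
  have h2 : N n = ⊥ := by
    apply Submodule.eq_bot_of_le_smul_of_le_jacobson_bot (maximalIdeal R) (N n)
    · exact Submodule.FG.smul (IsNoetherian.noetherian _) (Submodule.fg_span_singleton x)
    · have h3 : N (n + 1) = maximalIdeal R • N n := by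
        change (maximalIdeal R) ^ (n + 1) • Submodule.span R {x} =
          maximalIdeal R • ((maximalIdeal R) ^ n • Submodule.span R {x})
        rw [pow_succ', Submodule.mul_smul]
      rw [← h3]
      exact h1.le
    · exact maximalIdeal_le_jacobson _
  refine ⟨n, fun a ha => ?_⟩
  have : a • x ∈ N n := Submodule.smul_mem_smul ha (Submodule.mem_span_singleton_self x)
  rw [h2] at this
  simpa using this

theorem finite_socle_of_isArtinian (M : Type v) [AddCommGroup M] [Module R M]
    [IsArtinian R M] : Module.Finite (R ⧸ maximalIdeal R) ↥(LocCoh.torsionBy (maximalIdeal R) M) := by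
  let S := LocCoh.torsionBy (maximalIdeal R) M
  have h1 : IsArtinian R S := inferInstance
  have h2 : IsArtinian (R ⧸ maximalIdeal R) S := isArtinian_of_tower R h1
  let _ : Field (R ⧸ maximalIdeal R) := Ideal.Quotient.field _
  have h3 : IsSemisimpleModule (R ⧸ maximalIdeal R) S := inferInstance
  exact (IsSemisimpleModule.finite_tfae.out 2 0).mp h2

end Artinian

end Groth.Agent.Localalg.Matlis
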