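import Groth.Agent.Localalg.Matlis3
import Mathlib.LinearAlgebra.TensorProduct.Pi
import Mathlib.RingTheory.Flat.FaithfullyFlat.Algebra

/-!
# Injective hulls and flat base change

`A → B` flat, `A` Noetherian, `E` injective over `A`: maps from `I B` to `B ⊗ E` extend to `B`.
For `A → B` flat local with `m_A B = m_B`, the base change of an injective hull of the residue field of `A` is
an injective hull of the residue field of `B` (Stacks 0E4E).
-/

set_option autoImplicit false
universe u v w

namespace Groth.Agent.Localalg.MatlisFlat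

open _root_.InjHull IsLocalRing TensorProduct Groth.Agent.Localalg.Matlis

section Nat

variable {A : Type u} [CommRing A] {B : Type u} [CommRing B] [Algebra A B]
  {E : Type u} [AddCommGroup E] [Module A E]

/-- `piRight` intertwines the matrix maps. -/
theorem piRight_lTensor {q p : ℕ} (a : Fin p → Fin q → A) (β : (Fin q → E) →ₗ[A] (Fin p → E))
    (hβ : ∀ z j, β z j = ∑ i, a j i • z i) (ζ : B ⊗[A] (Fin q → E)) (j : Fin p) :
    piRight A A B (fun _ : Fin p => E) (β.lTensor B ζ) j =
      ∑ i, a j i • piRight A A B (fun _ : Fin q => E) ζ i := by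
  induction ζ with
  | zero => simp
  | tmul b v =>
    simp only [LinearMap.lTensor_tmul, piRight_apply, piRightHom_tmul]
    rw [hβ, tmul_sum]
    simp
  | add x y hx hy =>
    simp only [map_add, Pi.add_apply, smul_add, Finset.sum_add_distrib] at *
    rw [hx, hy]

theorem piRight_lTensor' {q : ℕ} (x : Fin q → A) (α : E →ₗ[A] (Fin q → E))
    (hα : ∀ e i, α e i = x i • e) (y : B ⊗[A] E) (i : Fin q) :
    piRight A A B (fun _ : Fin q => E) (α.lTensor B y) i = x i • y := by
  induction y with
  | zero => simp
  | tmul b v =>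
    simp only [LinearMap.lTensor_tmul, piRight_apply, piRightHom_tmul]
    rw [hα]
    simp
  | add x y hx hy =>
    simp only [map_add, Pi.add_apply, smul_add] at *
    rw [hx, hy]

end Nat

section Extend

variable {A : Type u} [CommRing A] [IsNoetherianRing A] {B : Type u} [CommRing B] [Algebra A B]
  [Module.Flat A B] {E : Type u} [AddCommGroup E] [Module A E]

/-- For `A → B` flat, `A` Noetherian, `E` injective over `A`, every `B`-linear map `I B → B ⊗ E` is
of the form `b ↦ b • w`. -/
theorem exists_extend_flat (hE : Module.Injective A E) (I : Ideal A)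
    (g : (I.map (algebraMap A B)) →ₗ[B] B ⊗[A] E) :
    ∃ w : B ⊗[A] E, ∀ (b : B) (hb : b ∈ I.map (algebraMap A B)), g ⟨b, hb⟩ = b • w := by
  classical
  obtain ⟨q, π, hπ⟩ := Module.Finite.exists_fin' A I
  obtain ⟨p, σ', hσ'⟩ := Module.Finite.exists_fin' A (LinearMap.ker π)
  let x : Fin q → A := fun i => (π (Pi.single i 1) : A)
  have hx : ∀ i, x i ∈ I := fun i => (π (Pi.single i 1)).2
  let σ : (Fin p → A) →ₗ[A] (Fin q → A) := (LinearMap.ker π).subtype ∘ₗ σ'
  let ξ : (Fin q → A) →ₗ[A] A := I.subtype ∘ₗ π
  have hexact : Function.Exact σ ξ := by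
    intro c
    constructor
    · intro hc
      have : c ∈ LinearMap.ker π := by
        rw [LinearMap.mem_ker]
        exact Subtype.ext hc
      obtain ⟨d, hd⟩ := hσ' ⟨c, this⟩
      exact ⟨d, congrArg Subtype.val hd⟩
    · rintro ⟨d, rfl⟩
      have : π (σ d) = 0 := (σ' d).2
      change ((π (σ d) : I) : A) = 0
      rw [this]; rfl
  let a : Fin p → Fin q → A := fun j => σ (Pi.single j 1)
  have hξa : ∀ j, ∑ i, a j i * x i = 0 := by
    intro j
    have h1 : ξ (a j) = 0 := hexact.apply_apply_eq_zero _
    have h2 : a j = ∑ i, a j i • (Pi.single i 1 : Fin q → A) := by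
      conv_lhs => rw [← Finset.univ_sum_single (a j)]
      refine Finset.sum_congr rfl fun i _ => ?_
      rw [← Pi.single_smul, smul_eq_mul, mul_one]
    rw [h2, map_sum] at h1
    simpa [ξ, x] using h1
  let α : E →ₗ[A] (Fin q → E) := LinearMap.pi fun i => (LinearMap.lsmul A E (x i))
  have hα : ∀ e i, α e i = x i • e := fun e i => rfl
  let β : (Fin q → E) →ₗ[A] (Fin p → E) := LinearMap.pi fun j => ∑ i, a j i • LinearMap.proj i
  have hβ : ∀ z j, β z j = ∑ i, a j i • z i := fun z j => by simp [β]
  have hex : Function.Exact α β := by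
    intro z
    constructor
    · intro hz
      let ψ : (Fin q → A) →ₗ[A] E := Fintype.linearCombination A z
      have hψ : LinearMap.lcomp A E σ ψ = 0 := by
        apply LinearMap.pi_ext'
        intro j
        apply LinearMap.ext_ring
        change Fintype.linearCombination A z (σ (Pi.single j 1)) = 0
        rw [Fintype.linearCombination_apply]
        have := congrFun hz j
        rw [hβ] at this
        exact this
      obtain ⟨k, hk⟩ := (lcomp_exact hE σ ξ hexact ψ).mp hψ
      refine ⟨k 1, ?_⟩
      ext i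
      rw [hα, ← map_smul, smul_eq_mul, mul_one]
      have h1 : k (ξ (Pi.single i 1)) = ψ (Pi.single i 1) := LinearMap.congr_fun hk _
      have h2 : ψ (Pi.single i 1) = z i := by
        simp [ψ, Fintype.linearCombination_apply_single]
      rw [← h2, ← h1]
      rfl
    · rintro ⟨e, rfl⟩
      ext j
      rw [hβ]
      simp only [hα, smul_smul, ← Finset.sum_smul]
      rw [hξa, zero_smul]; rfl
  have hexB := Module.Flat.lTensor_exact B hex
  let z : Fin q → B ⊗[A] E := fun i =>
    g ⟨algebraMap A B (x i), Ideal.mem_map_of_mem _ (hx i)⟩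
  let ζ := (piRight A A B (fun _ : Fin q => E)).symm z
  have hζ : piRight A A B (fun _ : Fin q => E) ζ = z := LinearEquiv.apply_symm_apply _ _
  have h0 : β.lTensor B ζ = 0 := by
    apply (piRight A A B (fun _ : Fin p => E)).injective
    rw [map_zero]
    ext j
    rw [piRight_lTensor a β hβ, hζ]
    have h1 : ∀ i, a j i • z i = g (a j i • ⟨algebraMap A B (x i),
        Ideal.mem_map_of_mem _ (hx i)⟩) := fun i => (LinearMap.map_smul_of_tower g _ _).symm
    simp only [h1]
    rw [← map_sum]
    have h2 : ∑ i, a j i • (⟨algebraMap A B (x i), Ideal.mem_map_of_mem _ (hx i)⟩ :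
        I.map (algebraMap A B)) = 0 := by
      apply Subtype.ext
      rw [AddSubmonoidClass.coe_finsetSum]
      have : ∀ i, ((a j i • (⟨algebraMap A B (x i), Ideal.mem_map_of_mem _ (hx i)⟩ :
        I.map (algebraMap A B)) : I.map (algebraMap A B)) : B) = algebraMap A B (a j i * x i) :=
        fun i => by rw [map_mul]; exact Algebra.smul_def _ _
      simp only [this]
      rw [← map_sum, hξa, map_zero]
      rfl
    rw [h2, map_zero]
    rfl
  obtain ⟨w, hw⟩ := (hexB ζ).mp h0
  have hz : ∀ i, z i = x i • w := by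
    intro i
    rw [← hζ, ← hw, piRight_lTensor' x α hα]
  refine ⟨w, fun b hb => ?_⟩
  refine Submodule.span_induction (p := fun b hb => g ⟨b, hb⟩ = b • w) ?_ ?_ ?_ ?_ hb
  · rintro _ ⟨y, hy, rfl⟩
    obtain ⟨c, hc⟩ := hπ ⟨y, hy⟩
    have h1 : y = ∑ i, c i * x i := by
      have h2 : c = ∑ i, c i • (Pi.single i 1 : Fin q → A) := by
        conv_lhs => rw [← Finset.univ_sum_single c]
        refine Finset.sum_congr rfl fun i _ => ?_
        rw [← Pi.single_smul, smul_eq_mul, mul_one]
      have h3 : ((π c : I) : A) = y := congrArg Subtype.val hc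
      rw [← h3]
      conv_lhs => rw [h2]
      rw [map_sum, AddSubmonoidClass.coe_finsetSum]
      refine Finset.sum_congr rfl fun i _ => ?_
      rw [map_smul]
      rfl
    have h4 : (⟨algebraMap A B y, Ideal.mem_map_of_mem _ hy⟩ : I.map (algebraMap A B)) =
        ∑ i, c i • (⟨algebraMap A B (x i), Ideal.mem_map_of_mem _ (hx i)⟩ :
        I.map (algebraMap A B)) := by
      apply Subtype.ext
      rw [AddSubmonoidClass.coe_finsetSum]
      have : ∀ i, ((c i • (⟨algebraMap A B (x i), Ideal.mem_map_of_mem _ (hx i)⟩ :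
        I.map (algebraMap A B)) : I.map (algebraMap A B)) : B) = algebraMap A B (c i * x i) :=
        fun i => by rw [map_mul]; exact Algebra.smul_def _ _
      simp only [this]
      rw [← map_sum, ← h1]
    have h5 : g ⟨algebraMap A B y, Ideal.mem_map_of_mem _ hy⟩ = ∑ i, c i • z i := by
      rw [h4, map_sum]
      exact Finset.sum_congr rfl fun i _ => LinearMap.map_smul_of_tower g _ _
    have h6 : algebraMap A B y • w = y • w := algebraMap_smul B y w
    refine Eq.trans h5 ?_
    rw [h6, h1, Finset.sum_smul]
    exact Finset.sum_congr rfl fun i _ => by rw [hz, mul_smul]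
  · have : (⟨0, zero_mem _⟩ : I.map (algebraMap A B)) = 0 := rfl
    rw [zero_smul]
    exact map_zero g
  · intro b c hb hc h1 h2
    rw [add_smul, ← h1, ← h2, ← map_add]
    rfl
  · intro r b hb h1
    rw [smul_assoc r b w, ← h1, ← map_smul]
    rfl

end Extend

section Local

variable {A : Type u} [CommRing A] {B : Type u} [CommRing B] [Algebra A B]
  {E : Type u} [AddCommGroup E] [Module A E]

/-- Base change of a power torsion module. -/
theorem isPowerTorsion_baseChange {I : Ideal A} (hE : LocCoh.IsPowerTorsion I E) :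
    LocCoh.IsPowerTorsion (I.map (algebraMap A B)) (B ⊗[A] E) := by
  intro y
  induction y with
  | zero => exact ⟨0, fun a _ => smul_zero a⟩
  | tmul b e =>
    obtain ⟨n, hn⟩ := hE e
    refine ⟨n, fun c hc => ?_⟩
    rw [← Ideal.map_pow] at hc
    refine Submodule.span_induction (p := fun c _ => c • (b ⊗ₜ[A] e) = 0) ?_ ?_ ?_ ?_ hc
    · rintro _ ⟨a, ha, rfl⟩
      rw [algebraMap_smul, ← tmul_smul, hn a ha, tmul_zero]
    · rw [zero_smul]
    · intro c d _ _ h1 h2
      rw [add_smul, h1, h2, add_zero]
    · intro r c _ h1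
      rw [smul_assoc, h1, smul_zero]
  | add y z hy hz =>
    obtain ⟨m, hm⟩ := hy
    obtain ⟨n, hn⟩ := hz
    refine ⟨max m n, fun c hc => ?_⟩
    rw [smul_add, hm c (Ideal.pow_le_pow_right (le_max_left m n) hc),
      hn c (Ideal.pow_le_pow_right (le_max_right m n) hc), add_zero]

variable [IsLocalRing A] [IsNoetherianRing A] [IsLocalRing B] [IsLocalHom (algebraMap A B)]
  [Module.Flat A B] {f : ResidueField A →ₗ[A] E}

/-- The map `κ_B → B ⊗ E`. -/
noncomputable def hullMap (hm : (maximalIdeal A).map (algebraMap A B) = maximalIdeal B)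
    (f : ResidueField A →ₗ[A] E) : ResidueField B →ₗ[B] B ⊗[A] E :=
  Submodule.liftQ (maximalIdeal B) (LinearMap.toSpanSingleton B (B ⊗[A] E) (1 ⊗ₜ[A] f 1)) (by
    rw [← hm]
    intro c hc
    rw [LinearMap.mem_ker]
    change c • ((1 : B) ⊗ₜ[A] f 1) = 0
    refine Submodule.span_induction (p := fun c _ => c • ((1 : B) ⊗ₜ[A] f 1) = 0) ?_ ?_ ?_ ?_ hc
    · rintro _ ⟨a, ha, rfl⟩
      rw [algebraMap_smul, ← tmul_smul, ← map_smul, smul_residueField_eq_zero ha, map_zero,
        tmul_zero]
    · rw [zero_smul]
    · intro c d _ _ h1 h2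
      rw [add_smul, h1, h2, add_zero]
    · intro r c _ h1
      rw [smul_assoc, h1, smul_zero])

omit [IsNoetherianRing A] [Module.Flat A B] [IsLocalHom (algebraMap A B)] in
theorem hullMap_residue (hm : (maximalIdeal A).map (algebraMap A B) = maximalIdeal B)
    (f : ResidueField A →ₗ[A] E) (b : B) :
    hullMap hm f (residue B b) = b ⊗ₜ[A] f 1 := by
  change b • ((1 : B) ⊗ₜ[A] f 1) = _
  rw [smul_tmul', smul_eq_mul, mul_one]

/-- The socle of `B ⊗ E`. -/
theorem mem_range_hullMap (hm : (maximalIdeal A).map (algebraMap A B) = maximalIdeal B)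
    (hf : IsEssentialInj f) {y : B ⊗[A] E} (hy : ∀ a ∈ maximalIdeal B, a • y = 0) :
    y ∈ LinearMap.range (hullMap (B := B) hm f) := by
  classical
  obtain ⟨q, π, hπ⟩ := Module.Finite.exists_fin' A (maximalIdeal A)
  let x : Fin q → A := fun i => (π (Pi.single i 1) : A)
  have hx : ∀ i, x i ∈ maximalIdeal A := fun i => (π (Pi.single i 1)).2
  let α : E →ₗ[A] (Fin q → E) := LinearMap.pi fun i => (LinearMap.lsmul A E (x i))
  have hα : ∀ e i, α e i = x i • e := fun e i => rfl
  have hex : Function.Exact f α := by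
    intro e
    constructor
    · intro he
      apply mem_range_of_smul_eq_zero hf
      intro a ha
      obtain ⟨c, hc⟩ := hπ ⟨a, ha⟩
      have h1 : a = ∑ i, c i * x i := by
        have h2 : c = ∑ i, c i • (Pi.single i 1 : Fin q → A) := by
          conv_lhs => rw [← Finset.univ_sum_single c]
          refine Finset.sum_congr rfl fun i _ => ?_
          rw [← Pi.single_smul, smul_eq_mul, mul_one]
        have h3 : ((π c : maximalIdeal A) : A) = a := congrArg Subtype.val hc
        rw [← h3]
        conv_lhs => rw [h2]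
        rw [map_sum, AddSubmonoidClass.coe_finsetSum]
        refine Finset.sum_congr rfl fun i _ => ?_
        rw [map_smul]
        rfl
      rw [h1, Finset.sum_smul]
      refine Finset.sum_eq_zero fun i _ => ?_
      rw [mul_smul]
      have := congrFun he i
      rw [hα] at this
      rw [this]
      simp
    · rintro ⟨z, rfl⟩
      ext i
      rw [hα, ← map_smul, smul_residueField_eq_zero (hx i), map_zero]
      rfl
  have hexB := Module.Flat.lTensor_exact B hex
  have h0 : α.lTensor B y = 0 := by
    apply (piRight A A B (fun _ : Fin q => E)).injective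
    rw [map_zero]
    ext i
    rw [piRight_lTensor' x α hα, ← algebraMap_smul B (x i) y]
    exact hy _ (by rw [← hm]; exact Ideal.mem_map_of_mem _ (hx i))
  obtain ⟨ζ, rfl⟩ := (hexB y).mp h0
  clear hy h0
  induction ζ with
  | zero => rw [map_zero]; exact zero_mem _
  | tmul b z =>
    obtain ⟨a, rfl⟩ := residue_surjective z
    refine ⟨residue B (a • b), ?_⟩
    rw [hullMap_residue, LinearMap.lTensor_tmul]
    have h2 : residue A a = a • (1 : ResidueField A) := by
      rw [Algebra.smul_def, mul_one]; rfl
    rw [h2, map_smul, tmul_smul, smul_tmul']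
  | add u v hu hv =>
    rw [map_add]
    exact add_mem hu hv

theorem hullMap_injective (hm : (maximalIdeal A).map (algebraMap A B) = maximalIdeal B)
    (hf : IsEssentialInj f) : Function.Injective (hullMap (B := B) hm f) := by
  have hff : Module.FaithfullyFlat A B := Module.FaithfullyFlat.of_flat_of_isLocalHom
  have hsimple : IsSimpleModule B (ResidueField B) :=
    isSimpleModule_iff_quot_maximal.mpr ⟨maximalIdeal B, inferInstance, ⟨LinearEquiv.refl _ _⟩⟩
  rcases (hullMap (B := B) hm f).injective_or_eq_zero with h | h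
  · exact h
  · exfalso
    have h1 := hullMap_residue (B := B) hm f 1
    rw [h, LinearMap.zero_apply] at h1
    have h2 : f 1 = 0 := Module.FaithfullyFlat.tensorProduct_mk_injective (A := A) (B := B) E
      (by rw [map_zero]; exact h1.symm)
    have h3 : (1 : ResidueField A) = 0 := hf.injective (by rw [h2, map_zero])
    exact one_ne_zero h3

theorem isEssentialInj_hullMap (hm : (maximalIdeal A).map (algebraMap A B) = maximalIdeal B)
    (hf : IsEssentialInj f) (hE : LocCoh.IsPowerTorsion (maximalIdeal A) E) :
    IsEssentialInj (hullMap (B := B) hm f) := by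
  rw [Groth.Agent.Localalg.InjHull.isEssentialInj_iff]
  refine ⟨hullMap_injective hm hf, fun y hy => ?_⟩
  have ht : LocCoh.IsPowerTorsion (maximalIdeal B) (B ⊗[A] E) := by
    rw [← hm]; exact isPowerTorsion_baseChange hE
  obtain ⟨r, hr0, hr⟩ := exists_smul_mem_socle ht hy
  exact ⟨r, hr0, mem_range_hullMap hm hf hr⟩

end Local

section Criterion

/-- A power torsion module `M` over a Noetherian local ring such that all maps `m → M` extend to `R → M`
is injective. -/
theorem injective_of_extend {R : Type u} [CommRing R] [IsLocalRing R] [IsNoetherianRing R]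
    {M : Type u} [AddCommGroup M] [Module R M] (hM : LocCoh.IsPowerTorsion (maximalIdeal R) M)
    (h : ∀ g : maximalIdeal R →ₗ[R] M, ∃ w : M, ∀ (b : R) (hb : b ∈ maximalIdeal R),
      g ⟨b, hb⟩ = b • w) : Module.Injective R M := by
  obtain ⟨J, _, _, j, hj⟩ := Groth.Agent.Localalg.InjHull.exists_injective_hull R M
  have hJ := isPowerTorsion_of_isInjectiveHull hj (maximalIdeal R) hM
  suffices hsurj : Function.Surjective j from
    Groth.Agent.Localalg.InjHull.injective_of_equiv hj.isInjective
      (LinearEquiv.ofBijective j ⟨hj.injective, hsurj⟩)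
  rw [← LinearMap.range_eq_top]
  by_contra hne
  obtain ⟨y0, hy0⟩ : ∃ y, y ∉ LinearMap.range j := by
    by_contra hcon
    push Not at hcon
    exact hne (eq_top_iff.mpr fun y _ => hcon y)
  have htor : LocCoh.IsPowerTorsion (maximalIdeal R) (J ⧸ LinearMap.range j) := by
    intro z
    obtain ⟨y, rfl⟩ := Submodule.Quotient.mk_surjective _ z
    obtain ⟨n, hn⟩ := hJ y
    exact ⟨n, fun a ha => by rw [← Submodule.Quotient.mk_smul, hn a ha, Submodule.Quotient.mk_zero]⟩
  have hz0 : (Submodule.Quotient.mk y0 : J ⧸ LinearMap.range j) ≠ 0 := by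
    rwa [Ne, Submodule.Quotient.mk_eq_zero]
  obtain ⟨r, hr0, hr⟩ := exists_smul_mem_socle htor hz0
  have hy : r • y0 ∉ LinearMap.range j := by
    rwa [← Submodule.Quotient.mk_smul, Ne, Submodule.Quotient.mk_eq_zero] at hr0
  have hy' : ∀ a ∈ maximalIdeal R, a • (r • y0) ∈ LinearMap.range j := by
    intro a ha
    have := hr a ha
    rwa [← Submodule.Quotient.mk_smul, ← Submodule.Quotient.mk_smul,
      Submodule.Quotient.mk_eq_zero] at this
  generalize r • y0 = y at hy hy'
  let e := LinearEquiv.ofInjective j hj.injective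
  let g : maximalIdeal R →ₗ[R] M := e.symm.toLinearMap ∘ₗ
    (((LinearMap.toSpanSingleton R J y) ∘ₗ (maximalIdeal R).subtype).codRestrict
      (LinearMap.range j) (fun c => hy' c.1 c.2))
  have hg : ∀ (b : R) (hb : b ∈ maximalIdeal R), j (g ⟨b, hb⟩) = b • y := by
    intro b hb
    have : (e (g ⟨b, hb⟩) : J) = b • y := by
      change ((e (e.symm _) : LinearMap.range j) : J) = _
      rw [LinearEquiv.apply_symm_apply]
      rfl
    exact this
  obtain ⟨w, hw⟩ := h g
  have hd : y - j w ≠ 0 := by
    intro h0
    rw [sub_eq_zero] at h0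
    exact hy ⟨w, h0.symm⟩
  have hd' : ∀ a ∈ maximalIdeal R, a • (y - j w) = 0 := by
    intro a ha
    rw [smul_sub, ← hg a ha, hw a ha, map_smul, sub_self]
  obtain ⟨s, hs0, hs⟩ := (Groth.Agent.Localalg.InjHull.isEssentialInj_iff.mp
    hj.toIsEssentialInj).2 _ hd
  have hu : IsUnit s := by
    by_contra hcon
    exact hs0 (hd' s ((mem_maximalIdeal s).mpr hcon))
  obtain ⟨u, rfl⟩ := hu
  apply hy
  have h1 : y - j w ∈ LinearMap.range j := by
    have : y - j w = (↑u⁻¹ : R) • ((u : R) • (y - j w)) := by rw [smul_smul]; simp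
    rw [this]
    exact Submodule.smul_mem _ _ hs
  have h2 := add_mem h1 (LinearMap.mem_range_self j w)
  rwa [sub_add_cancel] at h2

end Criterion

section Main

variable {A : Type u} [CommRing A] [IsLocalRing A] [IsNoetherianRing A] {B : Type u} [CommRing B]
  [IsLocalRing B] [IsNoetherianRing B] [Algebra A B] [IsLocalHom (algebraMap A B)]
  [Module.Flat A B] {E : Type u} [AddCommGroup E] [Module A E] {f : ResidueField A →ₗ[A] E}

/-- Stacks 0E4E. -/
theorem isInjectiveHull_hullMap (hm : (maximalIdeal A).map (algebraMap A B) = maximalIdeal B)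
    (hf : IsInjectiveHull f) : IsInjectiveHull (hullMap (B := B) hm f) where
  toIsEssentialInj := isEssentialInj_hullMap hm hf.toIsEssentialInj (isPowerTorsion_hull hf)
  isInjective := by
    apply injective_of_extend
    · rw [← hm]
      exact isPowerTorsion_baseChange (isPowerTorsion_hull hf)
    · rw [← hm]
      exact exists_extend_flat hf.isInjective (maximalIdeal A)

end Main

end Groth.Agent.Localalg.MatlisFlat
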