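import Groth.Agent.Localalg.Lech

/-!
The socle of `R / (x_1^n, ..., x_r^n)` is cyclic when the `x_i^n` are Lech-independent and the `x_i`
generate the maximal ideal.
-/

set_option autoImplicit false

namespace Groth.Agent.Localalg.Lech

open Ideal

variable {R : Type*} [CommRing R] {ι : Type*} [Fintype ι] [DecidableEq ι]

theorem Indep.mem_of_mul_mem {f : ι → R} (i₀ : ι) (g h : R)
    (hf : Indep (Function.update f i₀ (g * h))) (a : R)
    (ha : h * a ∈ span (Set.range (Function.update f i₀ (g * h)))) :
    a ∈ span (Set.range (Function.update f i₀ g)) := by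
  obtain ⟨b, hb⟩ := (Ideal.mem_span_range_iff_exists_fun).mp ha
  rw [sum_mul_update] at hb
  have h1 : ∑ i, Function.update (fun j => - (g * b j)) i₀ (a - b i₀ * g) i *
      Function.update f i₀ (g * h) i = 0 := by
    rw [sum_mul_update, Function.update_self]
    have : ∑ i ∈ Finset.univ.erase i₀, Function.update (fun j => - (g * b j)) i₀ (a - b i₀ * g) i * f i
        = - g * ∑ i ∈ Finset.univ.erase i₀, b i * f i := by
      rw [Finset.mul_sum]
      refine Finset.sum_congr rfl fun i hi => ?_
      rw [Function.update_of_ne (Finset.ne_of_mem_erase hi)]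
      ring
    rw [this]
    linear_combination (-g) * hb
  have h2 := hf _ h1 i₀
  rw [Function.update_self] at h2
  have hle : span (Set.range (Function.update f i₀ (g * h))) ≤
      span (Set.range (Function.update f i₀ g)) := by
    rw [span_range_update, span_range_update]
    refine sup_le ?_ le_sup_right
    rw [Ideal.span_le, Set.singleton_subset_iff]
    exact Ideal.mem_sup_left (Ideal.mul_mem_right _ _ (Ideal.mem_span_singleton_self _))
  have h3 : a = (a - b i₀ * g) + b i₀ * g := by ring
  rw [h3]
  exact add_mem (hle h2) (Ideal.mul_mem_left _ _ (Ideal.subset_span ⟨i₀, Function.update_self _ _ _⟩))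

/-- `(J : m) / J` is cyclic. -/
def CycSoc (m J : Ideal R) : Prop :=
  ∃ c : R, (∀ a ∈ m, a * c ∈ J) ∧ ∀ r, (∀ a ∈ m, a * r ∈ J) → r ∈ J ⊔ span {c}

theorem CycSoc.step {m : Ideal R} {f : ι → R} (i₀ : ι) (x : R) (hx : x ∈ m) (n : ℕ)
    (hf : Indep (Function.update f i₀ (x ^ (n + 1))))
    (h : CycSoc m (span (Set.range (Function.update f i₀ x)))) :
    CycSoc m (span (Set.range (Function.update f i₀ (x ^ (n + 1))))) := by
  obtain ⟨c, hc1, hc2⟩ := h
  have hmul : ∀ j ∈ span (Set.range (Function.update f i₀ x)),
      x ^ n * j ∈ span (Set.range (Function.update f i₀ (x ^ (n + 1)))) := by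
    intro j hj
    rw [span_range_update] at hj ⊢
    obtain ⟨y, hy, k, hk, rfl⟩ := Submodule.mem_sup.mp hj
    obtain ⟨t, rfl⟩ := Ideal.mem_span_singleton'.mp hy
    rw [mul_add]
    refine add_mem (Ideal.mem_sup_left ?_) (Ideal.mem_sup_right (Ideal.mul_mem_left _ _ hk))
    exact Ideal.mem_span_singleton'.mpr ⟨t, by ring⟩
  refine ⟨x ^ n * c, ?_, ?_⟩
  · intro a ha
    have : a * (x ^ n * c) = x ^ n * (a * c) := by ring
    rw [this]
    exact hmul _ (hc1 a ha)
  · intro r hr
    have h1 : r ∈ span (Set.range (Function.update f i₀ (x ^ n))) := by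
      have hf' := hf
      rw [pow_succ] at hf'
      refine hf'.mem_of_mul_mem i₀ (x ^ n) x r ?_
      rw [← pow_succ]
      exact hr x hx
    rw [span_range_update] at h1
    obtain ⟨y, hy, k, hk, rfl⟩ := Submodule.mem_sup.mp h1
    obtain ⟨a, rfl⟩ := Ideal.mem_span_singleton'.mp hy
    have hk' : k ∈ span (Set.range (Function.update f i₀ (x ^ (n + 1)))) := by
      rw [span_range_update]; exact Ideal.mem_sup_right hk
    have h2 : ∀ b ∈ m, b * a ∈ span (Set.range (Function.update f i₀ x)) := by
      intro b hb
      have hf' := hf
      rw [pow_succ'] at hf'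
      refine hf'.mem_of_mul_mem i₀ x (x ^ n) (b * a) ?_
      rw [← pow_succ']
      have h3 := hr b hb
      have h4 : x ^ n * (b * a) = b * (a * x ^ n + k) - b * k := by ring
      rw [h4]
      exact sub_mem h3 (Ideal.mul_mem_left _ _ hk')
    obtain ⟨j, hj, z, hz, hjz⟩ := Submodule.mem_sup.mp (hc2 a h2)
    obtain ⟨t, rfl⟩ := Ideal.mem_span_singleton'.mp hz
    have h5 : a * x ^ n + k = (x ^ n * j + k) + t * (x ^ n * c) := by
      rw [← hjz]; ring
    rw [h5]
    exact add_mem (Ideal.mem_sup_left (add_mem (hmul j hj) hk'))
      (Ideal.mem_sup_right (Ideal.mem_span_singleton'.mpr ⟨t, rfl⟩))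

theorem cycSoc_pow {x : ι → R} {m : Ideal R} (hm : span (Set.range x) = m) (n : ℕ)
    (hf : Indep (fun i => x i ^ (n + 1))) :
    CycSoc m (span (Set.range (fun i => x i ^ (n + 1)))) := by
  have hxm : ∀ i, x i ∈ m := fun i => hm ▸ Ideal.subset_span ⟨i, rfl⟩
  have hindep : ∀ s : Finset ι, Indep (fun i => if i ∈ s then x i else x i ^ (n + 1)) := by
    intro s
    induction s using Finset.induction_on with
    | empty => simpa using hf
    | insert i s his ih =>
      have e1 : (fun j => if j ∈ s then x j else x j ^ (n + 1)) =
          Function.update (fun j => if j ∈ insert i s then x j else x j ^ (n + 1)) i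
            (x i ^ (n + 1)) := by
        funext j
        by_cases hj : j = i
        · subst hj; simp [his]
        · simp [hj]
      have e2 : (fun j => if j ∈ insert i s then x j else x j ^ (n + 1)) =
          Function.update (fun j => if j ∈ insert i s then x j else x j ^ (n + 1)) i (x i) := by
        funext j
        by_cases hj : j = i
        · subst hj; simp
        · simp [hj]
      rw [e1] at ih
      have h1 := ih.update i (x i) (x i ^ n) (by rw [Function.update_self]; ring)
      rw [Function.update_idem, ← e2] at h1
      exact h1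
  -- descend from `univ` to `∅`
  have key : ∀ s : Finset ι, CycSoc m (span (Set.range
      (fun i => if i ∈ Finset.univ \ s then x i else x i ^ (n + 1)))) := by
    intro s
    induction s using Finset.induction_on with
    | empty =>
      refine ⟨1, ?_, ?_⟩
      · intro a ha
        simpa [hm] using ha
      · intro r _
        rw [Ideal.span_singleton_one, sup_top_eq]
        trivial
    | insert i s his ih =>
      have e1 : (fun j => if j ∈ Finset.univ \ insert i s then x j else x j ^ (n + 1)) =
          Function.update (fun j => if j ∈ Finset.univ \ s then x j else x j ^ (n + 1)) i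
            (x i ^ (n + 1)) := by
        funext j
        by_cases hj : j = i
        · subst hj; simp
        · simp [hj]
      have e2 : (fun j => if j ∈ Finset.univ \ s then x j else x j ^ (n + 1)) =
          Function.update (fun j => if j ∈ Finset.univ \ s then x j else x j ^ (n + 1)) i (x i) := by
        funext j
        by_cases hj : j = i
        · subst hj; simp [his]
        · simp [hj]
      rw [e2] at ih
      have h3 := hindep (Finset.univ \ insert i s)
      rw [e1] at h3 ⊢
      exact CycSoc.step i (x i) (hxm i) n h3 ih
  have h := key Finset.univ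
  simpa using h

end Groth.Agent.Localalg.Lech
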