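import Groth.Agent.Localalg.UnitCoeff
import Groth.Agent.CycB.RelDim2
import Groth.Agent.Ega1.ReducedSub
import Groth.Prelude.Def_Coh
import Mathlib.AlgebraicGeometry.FunctionField
import Mathlib.AlgebraicGeometry.Morphisms.SchemeTheoreticallyDominant
import Mathlib.AlgebraicGeometry.Morphisms.Proper

/-!
# Slicing a proper variety over a field by a transcendental function
-/

set_option autoImplicit false

universe u

namespace Groth.Agent.Localalg.TopNonvanSlice

open AlgebraicGeometry CategoryTheory Limits TopologicalSpace Polynomial Cardinal Algebra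
open Groth.Agent.CycB.RelDim Groth.Agent.CycB.TrdegAlg

/-- the function on U given by a constant c : K -/
noncomputable def const {K : Type u} [CommRing K] {G : Scheme.{u}} (g : G ⟶ Spec (CommRingCat.of K))
    (U : G.Opens) : K →+* Γ(G, U) :=
  ((G.presheaf.map (homOfLE (le_top : U ≤ ⊤)).op).hom).comp (Coh.toGlobal g)

/-- evaluation at a point of the spectrum of a field -/
noncomputable def evK (F : Type u) [Field F] (x : Spec (CommRingCat.of F)) :
    F →+* (Spec (CommRingCat.of F)).residueField x :=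
  ((Scheme.ΓSpecIso (CommRingCat.of F)).inv ≫
    (Spec (CommRingCat.of F)).evaluation ⊤ x trivial).hom

theorem evK_surjective (F : Type u) [Field F] (x : Spec (CommRingCat.of F)) :
    Function.Surjective (evK F x) := by
  intro z
  obtain ⟨a, b, hb, hab⟩ := fracGen_evaluation (isAffineOpen_top (Spec (CommRingCat.of F))) x trivial z
  obtain ⟨a', rfl⟩ : ∃ a' : F, (Scheme.ΓSpecIso (CommRingCat.of F)).inv.hom a' = a :=
    ⟨(Scheme.ΓSpecIso (CommRingCat.of F)).hom.hom a, by
      rw [← RingHom.comp_apply, ← CommRingCat.hom_comp, Iso.hom_inv_id]; rfl⟩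
  obtain ⟨b', rfl⟩ : ∃ a' : F, (Scheme.ΓSpecIso (CommRingCat.of F)).inv.hom a' = b :=
    ⟨(Scheme.ΓSpecIso (CommRingCat.of F)).hom.hom b, by
      rw [← RingHom.comp_apply, ← CommRingCat.hom_comp, Iso.hom_inv_id]; rfl⟩
  change evK F x b' ≠ 0 at hb
  change z * evK F x b' = evK F x a' at hab
  refine ⟨a' / b', ?_⟩
  rw [map_div₀, ← hab, mul_div_cancel_right₀ _ hb]

theorem rtd_specMap {k F : Type u} [Field k] [Field F] (φ : k →+* F)
    (x : Spec (CommRingCat.of F)) :
    rtd (Spec.map (CommRingCat.ofHom φ)) x = trd φ := by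
  unfold rtd
  rw [← trd_comp_surjective' (evK k (Spec.map (CommRingCat.ofHom φ) x))
    ((Spec.map (CommRingCat.ofHom φ)).residueFieldMap x).hom (evK_surjective _ _),
    ← trd_comp_surjective φ (evK F x) (evK_surjective _ _)]
  congr 1
  have h1 := Scheme.evaluation_naturality (Spec.map (CommRingCat.ofHom φ)) (V := ⊤) x trivial
  have h2 := Scheme.ΓSpecIso_inv_naturality (CommRingCat.ofHom φ)
  have h3 : ((Scheme.ΓSpecIso (CommRingCat.of k)).inv ≫
      (Spec (CommRingCat.of k)).evaluation ⊤ (Spec.map (CommRingCat.ofHom φ) x) trivial) ≫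
        (Spec.map (CommRingCat.ofHom φ)).residueFieldMap x = CommRingCat.ofHom φ ≫
      ((Scheme.ΓSpecIso (CommRingCat.of F)).inv ≫
        (Spec (CommRingCat.of F)).evaluation ⊤ x trivial) := by
    rw [Category.assoc, h1, ← Category.assoc, ← Category.assoc, h2]
    rfl
  exact congrArg CommRingCat.Hom.hom h3

theorem trd_fractionRing (k : Type u) [Field k] :
    trd (algebraMap k (FractionRing (Polynomial k))) = 1 := by
  rw [trd_algebraMap]
  have h1 : Algebra.trdeg k (Polynomial k) = 1 := by simp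
  have hloc : IsLocalization (nonZeroDivisors (Polynomial k)) (FractionRing (Polynomial k)) :=
    inferInstance
  have : Algebra.IsAlgebraic (Polynomial k) (FractionRing (Polynomial k)) := hloc.isAlgebraic
  have h2 : Algebra.trdeg (Polynomial k) (FractionRing (Polynomial k)) = 0 := trdeg_eq_zero
  have h3 := trdeg_add_eq k (Polynomial k) (A := FractionRing (Polynomial k))
  rw [← h3, h1, h2, add_zero]

/-- A field extension of positive transcendence degree contains `k(X)`. -/
theorem exists_fractionRing_lift {k F : Type u} [Field k] [Field F] (φ : k →+* F)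
    (h : trd φ ≠ 0) : ∃ ψ : FractionRing (Polynomial k) →+* F,
      ψ.comp (algebraMap k (FractionRing (Polynomial k))) = φ := by
  let _ := φ.toAlgebra
  have h' : Algebra.trdeg k F ≠ 0 := h
  rw [trdeg_ne_zero_iff] at h'
  obtain ⟨t, ht⟩ := h'
  rw [transcendental_iff_injective] at ht
  refine ⟨IsFractionRing.lift (g := (aeval (R := k) t : Polynomial k →+* F)) ht, ?_⟩
  ext a
  rw [RingHom.comp_apply, IsScalarTower.algebraMap_apply k (Polynomial k), IsFractionRing.lift_algebraMap]
  simp
  rfl

theorem closure_eq_univ_of_isDominant {F : Type u} [Field F] {G : Scheme.{u}}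
    (s : Spec (CommRingCat.of F) ⟶ G) [IsDominant s] (x : Spec (CommRingCat.of F)) :
    closure {s x} = (Set.univ : Set G) := by
  have h : Set.range s = {s x} := by
    ext y
    constructor
    · rintro ⟨x', rfl⟩
      have : Subsingleton (Spec (CommRingCat.of F)) :=
        inferInstanceAs (Subsingleton (PrimeSpectrum F))
      rw [Subsingleton.elim x' x]
      rfl
    · rintro rfl
      exact ⟨x, rfl⟩
  rw [← h]
  exact s.denseRange.closure_range

/-- The closure of the image of a field-valued point in the base change of a proper scheme. -/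
theorem construct {k K F : Type u} [Field k] [Field K] [Field F] (α : k →+* K) (ψ : K →+* F)
    {Z : Scheme.{u}} (f : Z ⟶ Spec (CommRingCat.of k)) [IsProper f]
    (j : Spec (CommRingCat.of F) ⟶ Z) [IsPreimmersion j]
    (comm : j ≫ f = Spec.map (CommRingCat.ofHom ψ) ≫ Spec.map (CommRingCat.ofHom α)) :
    ∃ (G : Scheme.{u}) (_ : IsIntegral G) (g : G ⟶ Spec (CommRingCat.of K)) (_ : IsProper g)
      (π : G ⟶ Z) (_ : IsAffineHom π) (s : Spec (CommRingCat.of F) ⟶ G) (_ : IsDominant s)
      (_ : QuasiCompact s), π ≫ f = g ≫ Spec.map (CommRingCat.ofHom α) ∧ s ≫ π = j ∧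
      s ≫ g = Spec.map (CommRingCat.ofHom ψ) ∧
      ∃ n : ℕ, trd ψ = n ∧ topologicalKrullDim G = n := by
  let c : Spec (CommRingCat.of K) ⟶ Spec (CommRingCat.of k) := Spec.map (CommRingCat.ofHom α)
  let q : Spec (CommRingCat.of F) ⟶ pullback f c :=
    pullback.lift j (Spec.map (CommRingCat.ofHom ψ)) comm
  have hq1 : q ≫ pullback.fst f c = j := pullback.lift_fst _ _ _
  have hq2 : q ≫ pullback.snd f c = Spec.map (CommRingCat.ofHom ψ) := pullback.lift_snd _ _ _
  have hqc : QuasiCompact q := by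
    have : QuasiCompact (q ≫ pullback.snd f c) := by rw [hq2]; infer_instance
    exact QuasiCompact.of_comp q (pullback.snd f c)
  let x : Spec (CommRingCat.of F) := IsLocalRing.closedPoint F
  have hred : AlgebraicGeometry.IsReduced q.image := Ega1.ReducedSub.isReduced_image q
  have hcl : closure {q.toImage x} = (Set.univ : Set q.image) :=
    closure_eq_univ_of_isDominant q.toImage x
  have hirr : IrreducibleSpace q.image := by
    rw [irreducibleSpace_def]
    change IsIrreducible (Set.univ : Set q.image)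
    rw [← hcl]
    exact isIrreducible_singleton.closure
  have hca : IsAffineHom c := inferInstanceAs (IsAffineHom (Spec.map (CommRingCat.ofHom α)))
  have hfa : IsAffineHom (pullback.fst f c) := MorphismProperty.pullback_fst _ _ hca
  have hia : IsAffineHom q.imageι := inferInstance
  have hpa : IsAffineHom (q.imageι ≫ pullback.fst f c) :=
    MorphismProperty.comp_mem _ _ _ hia hfa
  have hint : AlgebraicGeometry.IsIntegral q.image := isIntegral_of_irreducibleSpace_of_isReduced _
  have hs1 : q.toImage ≫ (q.imageι ≫ pullback.fst f c) = j := by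
    rw [← Category.assoc, Scheme.Hom.toImage_imageι, hq1]
  have hs2 : q.toImage ≫ (q.imageι ≫ pullback.snd f c) = Spec.map (CommRingCat.ofHom ψ) := by
    rw [← Category.assoc, Scheme.Hom.toImage_imageι, hq2]
  refine ⟨q.image, hint, q.imageι ≫ pullback.snd f c, inferInstance, q.imageι ≫ pullback.fst f c,
    inferInstance, q.toImage, inferInstance, inferInstance, ?_, hs1, hs2, ?_⟩
  · rw [Category.assoc, Category.assoc, pullback.condition]
  · have h0 : rtd q.toImage x = 0 := by
      have := rtd_comp q.toImage (q.imageι ≫ pullback.fst f c) x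
      rw [hs1, rtd_eq_zero_of_isPreimmersion] at this
      exact (add_eq_zero.mp this.symm).2
    have h1 : rtd (q.imageι ≫ pullback.snd f c) (q.toImage x) = trd ψ := by
      have := rtd_comp q.toImage (q.imageι ≫ pullback.snd f c) x
      rw [hs2, rtd_specMap, h0, add_zero] at this
      exact this.symm
    obtain ⟨n, hn, hn'⟩ := exists_dim_closure (q.imageι ≫ pullback.snd f c) (isAffineOpen_top _)
      ((Scheme.ΓSpecIso (CommRingCat.of K)).commRingCatIsoToRingEquiv.toMulEquiv.isField
      (Field.toIsField _)) (q.toImage x)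
    refine ⟨n, h1.symm.trans hn, ?_⟩
    rw [← hn', hcl]
    exact ((Homeomorph.Set.univ q.image).isHomeomorph.topologicalKrullDim_eq _).symm

/-- The relative transcendence degree at the generic point is the dimension. -/
theorem rtd_genericPoint {k : Type u} [Field k] {Z : Scheme.{u}} [IsIntegral Z]
    (f : Z ⟶ Spec (CommRingCat.of k)) [LocallyOfFiniteType f] :
    ∃ n : ℕ, rtd f (genericPoint Z) = n ∧ topologicalKrullDim Z = n := by
  obtain ⟨n, hn, hn'⟩ := exists_dim_closure f (isAffineOpen_top _)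
    ((Scheme.ΓSpecIso (CommRingCat.of k)).commRingCatIsoToRingEquiv.toMulEquiv.isField
      (Field.toIsField _)) (genericPoint Z)
  refine ⟨n, hn, ?_⟩
  have h : closure {genericPoint Z} = (Set.univ : Set Z) := genericPoint_spec Z
  rw [← hn', h]
  exact ((Homeomorph.Set.univ Z).isHomeomorph.topologicalKrullDim_eq _).symm

/-- The inclusion of the generic point. -/
noncomputable def genPt (Z : Scheme.{u}) [IsIntegral Z] :
    Spec (CommRingCat.of Z.functionField) ⟶ Z := Z.fromSpecStalk (genericPoint Z)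

instance (Z : Scheme.{u}) [IsIntegral Z] : IsPreimmersion (genPt Z) :=
  inferInstanceAs (IsPreimmersion (Z.fromSpecStalk (genericPoint Z)))

theorem genPt_apply (Z : Scheme.{u}) [IsIntegral Z]
    (x : Spec (CommRingCat.of Z.functionField)) : genPt Z x = genericPoint Z := by
  have : Subsingleton (Spec (CommRingCat.of Z.functionField)) :=
    inferInstanceAs (Subsingleton (PrimeSpectrum Z.functionField))
  rw [Subsingleton.elim x (IsLocalRing.closedPoint Z.functionField)]
  exact Scheme.fromSpecStalk_closedPoint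

theorem top_le_preimage {Z : Scheme.{u}} [IsIntegral Z] (V : Z.Opens) (hV : genericPoint Z ∈ V) :
    ⊤ ≤ genPt Z ⁻¹ᵁ V := by
  intro x _
  change genPt Z x ∈ V
  rw [genPt_apply]
  exact hV

theorem genPt_appLE {Z : Scheme.{u}} [IsIntegral Z] (V : Z.Opens) (hV : genericPoint Z ∈ V) :
    (genPt Z).appLE V ⊤ (top_le_preimage V hV) ≫
      (Scheme.ΓSpecIso (CommRingCat.of Z.functionField)).hom =
      Z.presheaf.germ V (genericPoint Z) hV := by
  have h : (genPt Z).app V = Z.presheaf.germ V (genericPoint Z) hV ≫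
      (Scheme.ΓSpecIso (CommRingCat.of Z.functionField)).inv ≫
        (Spec (CommRingCat.of Z.functionField)).presheaf.map (homOfLE le_top).op :=
    Scheme.fromSpecStalk_app hV
  rw [Scheme.Hom.appLE, h, Category.assoc, Category.assoc, Category.assoc,
    ← Functor.map_comp_assoc]
  have h2 : (homOfLE (le_top : genPt Z ⁻¹ᵁ V ≤ ⊤)).op ≫ (homOfLE (top_le_preimage V hV)).op = 𝟙 _ :=
    Subsingleton.elim _ _
  rw [h2, CategoryTheory.Functor.map_id, Category.id_comp, Iso.inv_hom_id, Category.comp_id]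

/-- The relation near a point of codimension at most one. -/
theorem exists_relation {Z : Scheme.{u}} [IsIntegral Z] [IsLocallyNoetherian Z] (z : Z)
    (hz : ringKrullDim (Z.presheaf.stalk z) ≤ 1) (t : Z.functionField) :
    ∃ (V : Z.Opens) (_ : z ∈ V) (hV : genericPoint Z ∈ V) (h : Polynomial Γ(Z, V)) (i : ℕ),
      IsUnit (h.coeff i) ∧ h.eval₂ (Z.presheaf.germ V (genericPoint Z) hV).hom t = 0 := by
  obtain ⟨W, hW, hzW, -⟩ := exists_isAffineOpen_mem_and_subset (x := z) (U := ⊤) trivial
  have : Nonempty W := ⟨⟨z, hzW⟩⟩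
  have hgW : genericPoint Z ∈ W :=
    ((genericPoint_spec Z).mem_open_set_iff W.isOpen).mpr ⟨z, trivial, hzW⟩
  let _ := Z.presheaf.algebra_section_stalk ⟨z, hzW⟩
  have := hW.isLocalization_stalk ⟨z, hzW⟩
  have : IsFractionRing (Z.presheaf.stalk z) Z.functionField := inferInstance
  obtain ⟨h, i, hi, h0⟩ := UnitCoeff.exists_of_localization (B := Γ(Z, W)) (A := Z.presheaf.stalk z)
    (hW.primeIdealOf ⟨z, hzW⟩).asIdeal (algebraMap (Z.presheaf.stalk z) Z.functionField)
    (IsFractionRing.injective _ _) hz t (by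
      obtain ⟨⟨a, b⟩, hab⟩ := IsLocalization.surj (nonZeroDivisors (Z.presheaf.stalk z)) t
      exact ⟨a, b, nonZeroDivisors.ne_zero b.2, hab⟩)
  have hcomp : (algebraMap (Z.presheaf.stalk z) Z.functionField).comp
      (algebraMap Γ(Z, W) (Z.presheaf.stalk z)) = (Z.presheaf.germ W (genericPoint Z) hgW).hom := by
    change (Z.presheaf.germ W z hzW ≫
      Z.presheaf.stalkSpecializes ((genericPoint_spec Z).specializes trivial)).hom = _
    rw [Z.presheaf.germ_stalkSpecializes]
  rw [hcomp] at h0
  have hzV : z ∈ Z.basicOpen (h.coeff i) := by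
    rw [Scheme.mem_basicOpen (hx := hzW)]
    exact (IsLocalization.AtPrime.isUnit_to_map_iff (Z.presheaf.stalk z)
      (hW.primeIdealOf ⟨z, hzW⟩).asIdeal (h.coeff i)).mpr hi
  have hVW : Z.basicOpen (h.coeff i) ≤ W := Z.basicOpen_le _
  have hgV : genericPoint Z ∈ Z.basicOpen (h.coeff i) :=
    ((genericPoint_spec Z).mem_open_set_iff (Z.basicOpen (h.coeff i)).isOpen).mpr ⟨z, trivial, hzV⟩
  refine ⟨Z.basicOpen (h.coeff i), hzV, hgV,
    h.map (Z.presheaf.map (homOfLE hVW).op).hom, i, ?_, ?_⟩
  · rw [coeff_map]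
    exact RingedSpace.isUnit_res_basicOpen _ _
  · rw [eval₂_map, ← CommRingCat.hom_comp, Z.presheaf.germ_res]
    exact h0

theorem const_comp {K : Type u} [Field K] {G : Scheme.{u}} {F : Type u} [Field F]
    (g : G ⟶ Spec (CommRingCat.of K)) (s : Spec (CommRingCat.of F) ⟶ G) (ψ : K →+* F)
    (hsg : s ≫ g = Spec.map (CommRingCat.ofHom ψ)) (U : G.Opens) (e : ⊤ ≤ s ⁻¹ᵁ U) (t : K) :
    (s.appLE U ⊤ e ≫ (Scheme.ΓSpecIso (CommRingCat.of F)).hom).hom (const g U t) = ψ t := by
  have h1 : (Scheme.ΓSpecIso (CommRingCat.of K)).inv ≫ g.appTop ≫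
      G.presheaf.map (homOfLE (le_top : U ≤ ⊤)).op ≫ s.appLE U ⊤ e ≫
        (Scheme.ΓSpecIso (CommRingCat.of F)).hom = CommRingCat.ofHom ψ := by
    have h2 : G.presheaf.map (homOfLE (le_top : U ≤ ⊤)).op ≫ s.appLE U ⊤ e = s.appTop := by
      rw [Scheme.Hom.map_appLE]
      exact Scheme.Hom.appLE_eq_app s
    have h3 : g.appTop ≫ s.appTop = (Spec.map (CommRingCat.ofHom ψ)).appTop := by
      rw [← hsg, Scheme.Hom.comp_appTop]
    rw [reassoc_of% h2, reassoc_of% h3, ← Scheme.ΓSpecIso_inv_naturality_assoc, Iso.inv_hom_id,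
      Category.comp_id]
  exact congrArg (fun φ => φ.hom t) h1

/-- A relation at the generic point holds on the slice. -/
theorem relation_pullback {K : Type u} [Field K] {Z G : Scheme.{u}} [IsIntegral Z] [IsIntegral G]
    (g : G ⟶ Spec (CommRingCat.of K)) (π : G ⟶ Z) (ψ : K →+* Z.functionField)
    (s : Spec (CommRingCat.of Z.functionField) ⟶ G) [IsDominant s] [QuasiCompact s]
    (hsπ : s ≫ π = genPt Z) (hsg : s ≫ g = Spec.map (CommRingCat.ofHom ψ))
    (V : Z.Opens) (hV : genericPoint Z ∈ V) (h : Polynomial Γ(Z, V)) (t : K)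
    (h0 : h.eval₂ (Z.presheaf.germ V (genericPoint Z) hV).hom (ψ t) = 0) :
    h.eval₂ (π.app V).hom (const g (π ⁻¹ᵁ V) t) = 0 := by
  have e : ⊤ ≤ s ⁻¹ᵁ (π ⁻¹ᵁ V) := by
    intro x _
    change (s ≫ π) x ∈ V
    rw [hsπ, genPt_apply]
    exact hV
  have hst : IsSchemeTheoreticallyDominant s := .of_isDominant s
  have hinj : Function.Injective (s.appLE (π ⁻¹ᵁ V) ⊤ e ≫
      (Scheme.ΓSpecIso (CommRingCat.of Z.functionField)).hom).hom := by
    have : Nonempty ((⊤ : (Spec (CommRingCat.of Z.functionField)).Opens)) :=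
      ⟨⟨IsLocalRing.closedPoint Z.functionField, trivial⟩⟩
    have h1 : Function.Injective (Scheme.ΓSpecIso (CommRingCat.of Z.functionField)).hom.hom :=
      (Scheme.ΓSpecIso (CommRingCat.of Z.functionField)).commRingCatIsoToRingEquiv.injective
    have h2 : Function.Injective
        ((Spec (CommRingCat.of Z.functionField)).presheaf.map (homOfLE e).op).hom :=
      map_injective_of_isIntegral _ _
    have h3 : Function.Injective (s.app (π ⁻¹ᵁ V)).hom := s.app_injective _
    exact h1.comp (h2.comp h3)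
  apply hinj
  rw [map_zero, hom_eval₂, const_comp g s ψ hsg, ← h0]
  congr 1
  rw [← genPt_appLE V hV, ← CommRingCat.hom_comp]
  congr 1
  rw [← Category.assoc]
  congr 1
  rw [Scheme.Hom.app_eq_appLE, Scheme.Hom.appLE_comp_appLE]
  simp only [hsπ]

theorem exists_slice {k : Type u} [Field k] {Z : Scheme.{u}} [IsIntegral Z]
    (f : Z ⟶ Spec (CommRingCat.of k)) [IsProper f] {d : ℕ}
    (hd : topologicalKrullDim Z = ((d + 1 : ℕ) : WithBot ℕ∞)) :
    ∃ (G : Scheme.{u}) (_ : IsIntegral G)
      (g : G ⟶ Spec (CommRingCat.of (FractionRing (Polynomial k)))) (_ : IsProper g)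
      (π : G ⟶ Z) (_ : IsAffineHom π),
      π ≫ f = g ≫ Spec.map (CommRingCat.ofHom (algebraMap k (FractionRing (Polynomial k)))) ∧
      topologicalKrullDim G = (d : WithBot ℕ∞) ∧
      ∀ z : Z, ringKrullDim (Z.presheaf.stalk z) ≤ 1 →
        ∃ (V : Z.Opens) (_ : z ∈ V) (h : Polynomial Γ(Z, V)) (i : ℕ), IsUnit (h.coeff i) ∧
          h.eval₂ (π.app V).hom (const g (π ⁻¹ᵁ V)
            (algebraMap (Polynomial k) (FractionRing (Polynomial k)) Polynomial.X)) = 0 := by
  obtain ⟨φ, hφ⟩ : ∃ φ : k →+* Z.functionField, Spec.map (CommRingCat.ofHom φ) = genPt Z ≫ f :=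
    ⟨(Spec.preimage (genPt Z ≫ f)).hom, Spec.map_preimage _⟩
  obtain ⟨n, hn, hn'⟩ := rtd_genericPoint f
  have hnd : n = d + 1 := by
    rw [hn'] at hd
    exact_mod_cast hd
  subst hnd
  have x : Spec (CommRingCat.of Z.functionField) := IsLocalRing.closedPoint Z.functionField
  have hφd : trd φ = ((d + 1 : ℕ) : Cardinal.{u}) := by
    rw [← rtd_specMap φ x, hφ, rtd_comp, rtd_eq_zero_of_isPreimmersion (genPt Z), add_zero, genPt_apply,
      hn]
  obtain ⟨ψ, hψ⟩ := exists_fractionRing_lift φ (by
    rw [hφd]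
    exact_mod_cast Nat.succ_ne_zero d)
  obtain ⟨G, hG, g, hg, π, hπ, s, hs, hs', hcomm, hsπ, hsg, m, hm, hm'⟩ :=
    construct (algebraMap k (FractionRing (Polynomial k))) ψ f (genPt Z) (by
      rw [← hφ, ← hψ, CommRingCat.ofHom_comp, Spec.map_comp])
  refine ⟨G, hG, g, hg, π, hπ, hcomm, ?_, ?_⟩
  · have h1 := trd_comp (algebraMap k (FractionRing (Polynomial k))) ψ
    rw [hψ, hφd, trd_fractionRing, hm] at h1
    have h2 : d + 1 = 1 + m := by exact_mod_cast h1
    have h3 : m = d := by omega
    rw [hm', h3]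
  · intro z hz
    have : IsLocallyNoetherian Z := LocallyOfFiniteType.isLocallyNoetherian f
    obtain ⟨V, hzV, hV, h, i, hi, h0⟩ := exists_relation z hz
      (ψ (algebraMap (Polynomial k) (FractionRing (Polynomial k)) Polynomial.X))
    exact ⟨V, hzV, h, i, hi, relation_pullback g π ψ s hsπ hsg V hV h _ h0⟩

end Groth.Agent.Localalg.TopNonvanSlice
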