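import Groth.Agent.CohqB.LocBaseHH
import Groth.Agent.Localalg.TopNonvanSlice
import Groth.Agent.LoccohB.HHmap

/-!
# The action of constants on `H^p(Z, π_* M)`, `π : G → Z`, `G` over `Spec K`
-/

set_option autoImplicit false
universe u
open CategoryTheory CategoryTheory.Limits AlgebraicGeometry TopologicalSpace Opposite Polynomial

namespace Groth.Agent.Localalg.TopNonvanAct

open Groth.Agent.LoccohB.HHmap (smulHom)
open Groth.Agent.CohqB.LocBaseHH (hmap hmap_comp hmap_id hmap_add hmap_zero)

section Act

variable {K : Type u} [CommRing K] {Z G : Scheme.{u}} (g : G ⟶ Spec (CommRingCat.of K)) (π : G ⟶ Z)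
  (M : G.Modules)

/-- The action of constants on `π_* M`. -/
noncomputable def act (c : K) : (Scheme.Modules.pushforward π).obj M ⟶
    (Scheme.Modules.pushforward π).obj M :=
  (Scheme.Modules.pushforward π).map (smulHom M (Coh.toGlobal g c))

theorem act_app (c : K) (V : Z.Opens) (x : Γ(M, π ⁻¹ᵁ V)) :
    (act g π M c).app V x = (TopNonvanSlice.const g (π ⁻¹ᵁ V) c • x : Γ(M, π ⁻¹ᵁ V)) := rfl

theorem act_one : act g π M 1 = 𝟙 _ := by
  apply Scheme.Modules.hom_ext
  intro V
  ext x
  refine (act_app g π M 1 V x).trans ?_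
  rw [map_one, one_smul]
  rfl

theorem act_zero : act g π M 0 = 0 := by
  apply Scheme.Modules.hom_ext
  intro V
  ext x
  refine (act_app g π M 0 V x).trans ?_
  rw [map_zero, zero_smul]
  rfl

theorem act_add (c c' : K) : act g π M (c + c') = act g π M c + act g π M c' := by
  apply Scheme.Modules.hom_ext
  intro V
  ext x
  refine (act_app g π M _ V x).trans ?_
  rw [map_add, add_smul]
  rfl

theorem act_mul (c c' : K) : act g π M (c * c') = act g π M c' ≫ act g π M c := by
  apply Scheme.Modules.hom_ext
  intro V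
  ext x
  refine (act_app g π M _ V x).trans ?_
  rw [map_mul, mul_smul]
  rfl

end Act


section Mod

variable {K : Type u} [CommRing K] {Z G : Scheme.{u}} (g : G ⟶ Spec (CommRingCat.of K)) (π : G ⟶ Z)
  (M : G.Modules) (p : ℕ)

/-- The `K`-module structure on `H^p(Z, π_* M)`. -/
@[reducible] noncomputable def actModule :
    Module K (Coh.HH Z ((Scheme.Modules.pushforward π).obj M) p) where
  smul c x := hmap (act g π M c) p x
  one_smul x := by
    change hmap (act g π M 1) p x = x
    rw [act_one, hmap_id]
  mul_smul c c' x := by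
    change hmap (act g π M (c * c')) p x = hmap (act g π M c) p (hmap (act g π M c') p x)
    rw [act_mul, hmap_comp]
  smul_zero c := map_zero (hmap (act g π M c) p)
  smul_add c := map_add (hmap (act g π M c) p)
  add_smul c c' x := by
    change hmap (act g π M (c + c')) p x = hmap (act g π M c) p x + hmap (act g π M c') p x
    rw [act_add, hmap_add]
  zero_smul x := by
    change hmap (act g π M 0) p x = 0
    rw [act_zero, hmap_zero]

end Mod

section Lin

variable {k K : Type u} [CommRing k] [CommRing K] [Algebra k K] {Z G : Scheme.{u}}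
  (f : Z ⟶ Spec (CommRingCat.of k)) (g : G ⟶ Spec (CommRingCat.of K)) (π : G ⟶ Z)
  (hcomm : π ≫ f = g ≫ Spec.map (CommRingCat.ofHom (algebraMap k K)))

include hcomm in
theorem appTop_toGlobal (c : k) :
    π.appTop (Coh.toGlobal f c) = Coh.toGlobal g (algebraMap k K c) := by
  have h1 : f.appTop ≫ π.appTop = (Spec.map (CommRingCat.ofHom (algebraMap k K))).appTop ≫ g.appTop := by
    rw [← Scheme.Hom.comp_appTop, ← Scheme.Hom.comp_appTop, hcomm]
  have h2 : (Scheme.ΓSpecIso (CommRingCat.of k)).inv ≫ f.appTop ≫ π.appTop =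
      CommRingCat.ofHom (algebraMap k K) ≫ (Scheme.ΓSpecIso (CommRingCat.of K)).inv ≫ g.appTop := by
    rw [h1, ← Category.assoc, ← Category.assoc, Scheme.ΓSpecIso_inv_naturality]
  exact congrArg (fun φ => φ.hom c) h2

include hcomm in
theorem act_algebraMap (M : G.Modules) (c : k) :
    act g π M (algebraMap k K c) =
      smulHom ((Scheme.Modules.pushforward π).obj M) (Coh.toGlobal f c) := by
  apply Scheme.Modules.hom_ext
  intro V
  ext x
  refine (act_app g π M _ V x).trans ?_
  have h1 : TopNonvanSlice.const g (π ⁻¹ᵁ V) (algebraMap k K c) =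
      (π.app V) (Z.presheaf.map (homOfLE (le_top : V ≤ ⊤)).op (Coh.toGlobal f c)) := by
    have h2 := congrArg (fun φ => φ.hom (Coh.toGlobal f c)) (π.naturality (homOfLE (le_top : V ≤ ⊤)).op)
    refine Eq.trans ?_ h2.symm
    change G.presheaf.map (homOfLE le_top).op (Coh.toGlobal g (algebraMap k K c)) = _
    rw [← appTop_toGlobal f g π hcomm]
    rfl
  rw [h1]
  rfl

end Lin

end Groth.Agent.Localalg.TopNonvanAct
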