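import Mathlib

/-!
# Algebra for the nonvanishing of the top cohomology of proper schemes

* `exists_finset_map_pw_le`: `E` a module with an automorphism `T` killed by a polynomial one of whose
  coefficients is a unit: for `N ≤ E` finitely generated, `T^l N ≤ ∑_{i ≥ 0 or i ≤ -n} T^i N`.
* `lattice`: for a nonzero finite-dimensional `k`-subspace `W` of a `k(T)`-vector space this fails for
  large `n`.
-/

set_option autoImplicit false
universe u v

namespace Groth.Agent.Localalg.TopNonvanAlg

open Polynomial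

section ModLemma

variable {A : Type u} [CommRing A] {E : Type v} [AddCommGroup E] [Module A E]

/-- A finitely generated submodule `Q` with `Q ≤ 𝔪 Q` for all maximal ideals `𝔪` is zero. -/
theorem eq_bot_of_le_smul (Q : Submodule A E) (hQ : Q.FG)
    (h : ∀ m : Ideal A, m.IsMaximal → Q ≤ m • Q) : Q = ⊥ := by
  have h1 : Q.annihilator = ⊤ := by
    by_contra hne
    obtain ⟨m, hm, hle⟩ := Ideal.exists_le_maximal _ hne
    obtain ⟨r, hr, hr'⟩ := Submodule.exists_sub_one_mem_and_smul_eq_zero_of_fg_of_le_smul m Q hQ (h m hm)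
    have h2 : r ∈ Q.annihilator := Submodule.mem_annihilator.2 hr'
    have h3 : r ∈ m := hle h2
    have h4 : (1 : A) ∈ m := by
      have := m.sub_mem h3 hr
      simpa using this
    exact hm.ne_top ((Ideal.eq_top_iff_one m).2 h4)
  exact Submodule.annihilator_eq_top_iff.1 h1

/-- A `ℤ`-indexed family satisfying a recurrence with unit-ideal coefficients and vanishing outside
a finite interval is zero. -/
theorem family_eq_zero (q : ℤ → E) (n : ℕ) (hq : ∀ i, 0 ≤ i ∨ i ≤ -(n : ℤ) → q i = 0)
    (h : A[X]) (a : ℕ) (ha : IsUnit (h.coeff a))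
    (hrec : ∀ i : ℤ, (h.sum fun j c => c • q (i + j)) = 0) (l : ℤ) : q l = 0 := by
  set Q : Submodule A E := Submodule.span A (Set.range q) with hQ
  have hmem : ∀ i, q i ∈ Q := fun i => Submodule.subset_span ⟨i, rfl⟩
  have hfg : Q.FG := by
    have h1 : Q = Submodule.span A (q '' (Set.Ioo (-(n : ℤ)) 0)) := by
      refine le_antisymm (Submodule.span_le.2 ?_) (Submodule.span_mono (Set.image_subset_range _ _))
      rintro _ ⟨i, rfl⟩
      by_cases hi : 0 ≤ i ∨ i ≤ -(n : ℤ)
      · rw [hq i hi]; exact Submodule.zero_mem _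
      · push Not at hi
        exact Submodule.subset_span ⟨i, ⟨hi.2, hi.1⟩, rfl⟩
    rw [h1]
    exact Submodule.fg_span ((Set.finite_Ioo _ _).image _)
  have hbot : Q = ⊥ := by
    refine eq_bot_of_le_smul Q hfg fun m hm => ?_
    have hex : ∃ b, h.coeff b ∉ m := ⟨a, fun h' => hm.ne_top (Ideal.eq_top_of_isUnit_mem _ h' ha)⟩
    classical
    let b := Nat.find hex
    have hb : h.coeff b ∉ m := Nat.find_spec hex
    have hb' : ∀ j < b, h.coeff j ∈ m := fun j hj => not_not.1 (Nat.find_min hex hj)
    have key : ∀ N : ℕ, ∀ i : ℤ, -(N : ℤ) ≤ i → q i ∈ m • Q := by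
      intro N
      induction N with
      | zero =>
        intro i hi
        rw [hq i (Or.inl (by simpa using hi))]
        exact Submodule.zero_mem _
      | succ N ih =>
        intro i hi
        by_cases hi' : -(N : ℤ) ≤ i
        · exact ih i hi'
        have hr := hrec (i - b)
        rw [Polynomial.sum_def] at hr
        have hbs : b ∈ h.support := by
          rw [Polynomial.mem_support_iff]
          intro h0
          exact hb (by rw [h0]; exact m.zero_mem)
        rw [← Finset.add_sum_erase _ _ hbs] at hr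
        have h2 : h.coeff b • q i ∈ m • Q := by
          have h3 : h.coeff b • q i = - ∑ x ∈ h.support.erase b, h.coeff x • q (i - b + x) := by
            rw [eq_neg_iff_add_eq_zero]
            simpa using hr
          rw [h3]
          refine Submodule.neg_mem _ (Submodule.sum_mem _ fun j hj => ?_)
          rw [Finset.mem_erase] at hj
          rcases lt_or_gt_of_ne hj.1 with hlt | hgt
          · exact Submodule.smul_mem_smul (hb' j hlt) (hmem _)
          · refine Submodule.smul_mem _ _ (ih _ ?_)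
            have : (b : ℤ) < j := by exact_mod_cast hgt
            push_cast at hi
            lia
        obtain ⟨c, hc⟩ := hm.exists_inv hb
        obtain ⟨mm, hmm, hsum⟩ := hc
        have h4 : q i = (c * h.coeff b) • q i + mm • q i := by
          rw [← add_smul, hsum, one_smul]
        rw [h4]
        refine Submodule.add_mem _ ?_ (Submodule.smul_mem_smul hmm (hmem i))
        rw [mul_smul]
        exact Submodule.smul_mem _ _ h2
    refine Submodule.span_le.2 ?_
    rintro _ ⟨i, rfl⟩
    exact key i.natAbs i (by omega)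
  have := hmem l
  rw [hbot] at this
  simpa using this

/-- If a polynomial `h` with unit-ideal coefficients kills `E` (acting through an automorphism
with powers `P i`), then the powers of `T` on a submodule `N` are already in the span of the powers
with exponent outside `(-n, 0)`. -/
theorem map_pw_le (P : ℤ → E →ₗ[A] E) (hP : ∀ i j x, P (i + j) x = P i (P j x))
    (h : A[X]) (a : ℕ) (ha : IsUnit (h.coeff a))
    (hT : ∀ x : E, (h.sum fun j c => c • P j x) = 0) (N : Submodule A E) (n : ℕ) (l : ℤ) :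
    N.map (P l) ≤ ⨆ i : {i : ℤ // 0 ≤ i ∨ i ≤ -(n : ℤ)}, N.map (P i) := by
  set M' := ⨆ i : {i : ℤ // 0 ≤ i ∨ i ≤ -(n : ℤ)}, N.map (P i) with hM'
  rintro _ ⟨g, hg, rfl⟩
  have h1 : M'.mkQ (P l g) = 0 := by
    refine family_eq_zero (fun i => M'.mkQ (P i g)) n ?_ h a ha ?_ l
    · intro i hi
      rw [Submodule.mkQ_apply, Submodule.Quotient.mk_eq_zero]
      exact Submodule.mem_iSup_of_mem ⟨i, hi⟩ (Submodule.mem_map_of_mem hg)
    · intro i
      have h2 := congrArg M'.mkQ (hT (P i g))
      rw [Polynomial.sum_def, map_sum, map_zero] at h2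
      rw [Polynomial.sum_def, ← h2]
      refine Finset.sum_congr rfl fun j _ => ?_
      rw [map_smul, ← hP, add_comm]
  rwa [Submodule.mkQ_apply, Submodule.Quotient.mk_eq_zero] at h1

/-- Finite version. -/
theorem exists_finset_map_pw_le (P : ℤ → E →ₗ[A] E) (hP : ∀ i j x, P (i + j) x = P i (P j x))
    (h : A[X]) (a : ℕ) (ha : IsUnit (h.coeff a))
    (hT : ∀ x : E, (h.sum fun j c => c • P j x) = 0) (N : Submodule A E) (hN : N.FG)
    (n : ℕ) (l : ℤ) :
    ∃ J : Finset ℤ, (∀ i ∈ J, 0 ≤ i ∨ i ≤ -(n : ℤ)) ∧ ∀ J' : Finset ℤ, J ⊆ J' →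
      N.map (P l) ≤ ⨆ i ∈ J', N.map (P i) := by
  have h1 := map_pw_le P hP h a ha hT N n l
  have h2 := (Submodule.fg_iff_compact _).1 (hN.map (P l))
  obtain ⟨t, ht⟩ := CompleteLattice.IsCompactElement.exists_finset_of_le_iSup _ h2 _ h1
  classical
  refine ⟨t.image Subtype.val, ?_, fun J' hJ' => ht.trans ?_⟩
  · intro i hi
    rw [Finset.mem_image] at hi
    obtain ⟨⟨i, hi⟩, -, rfl⟩ := hi
    exact hi
  · refine iSup₂_le fun i hi => ?_
    exact le_iSup₂_of_le (i : ℤ) (hJ' (Finset.mem_image_of_mem _ hi)) le_rfl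

end ModLemma

section Lattice

variable {k : Type*} [Field k] {K : Type*} [Field K] [Algebra k[X] K] [IsFractionRing k[X] K]

/-- The Laurent expansion at `X = 0` of elements of `k(X)`. -/
noncomputable def laurent : K →+* LaurentSeries k :=
  IsFractionRing.lift (A := k[X]) (K := K) (g := algebraMap k[X] (LaurentSeries k))
    (by
      have : Function.Injective (algebraMap k[X] (LaurentSeries k)) :=
        FaithfulSMul.algebraMap_injective _ _
      exact this)

theorem laurent_algebraMap (p : k[X]) :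
    laurent (k := k) (K := K) (algebraMap k[X] K p) = algebraMap k[X] (LaurentSeries k) p :=
  IsFractionRing.lift_algebraMap _ _

theorem coeff_algebraMap (p : k[X]) (n : ℕ) :
    (algebraMap k[X] (LaurentSeries k) p).coeff (n : ℤ) = p.coeff n := by
  rw [← Polynomial.coeff_coe, ← LaurentSeries.coeff_coe_powerSeries]
  rfl

theorem coeff_algebraMap_neg (p : k[X]) (n : ℤ) (hn : n < 0) :
    (algebraMap k[X] (LaurentSeries k) p).coeff n = 0 := by
  change (HahnSeries.ofPowerSeries ℤ k (p : PowerSeries k)).coeff n = 0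
  rw [HahnSeries.ofPowerSeries_apply, HahnSeries.embDomain_of_notMem_range]
  rintro ⟨m, hm⟩
  have : (m : ℤ) = n := hm
  lia

theorem coeff_laurent (i : ℤ) (p : k[X]) (e : ℤ) :
    (laurent (k := k) ((algebraMap k[X] K X) ^ i * algebraMap k[X] K p)).coeff e =
      (algebraMap k[X] (LaurentSeries k) p).coeff (e - i) := by
  rw [map_mul, map_zpow₀, laurent_algebraMap, laurent_algebraMap]
  have h1 : algebraMap k[X] (LaurentSeries k) X = HahnSeries.single (1 : ℤ) 1 := by
    change HahnSeries.ofPowerSeries ℤ k ((X : k[X]) : PowerSeries k) = _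
    rw [Polynomial.coe_X, HahnSeries.ofPowerSeries_X]
  rw [h1, ← RatFunc.single_zpow, HahnSeries.coeff_single_mul, one_mul]

variable [Algebra k K] [IsScalarTower k k[X] K]
variable {H : Type*} [AddCommGroup H] [Module K H] [Module k H] [IsScalarTower k K H]

/-- Lattice lemma: a nonzero finite-dimensional `k`-subspace `W` of a `k(T)`-vector space: some
`T^l w₀` is not a sum of elements `T^i w` with `i ≥ 0` or `i ≤ -n`. -/
theorem lattice (W : Set H) (s : Finset H) (hs : W ⊆ Submodule.span k (s : Set H)) (w₀ : H)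
    (hw₀ : w₀ ∈ W) (hne : w₀ ≠ 0) :
    ∃ (n : ℕ) (l : ℤ), ((algebraMap k[X] K X) ^ l • w₀) ∉ AddSubgroup.closure
      {x : H | ∃ i : ℤ, (0 ≤ i ∨ i ≤ -(n : ℤ)) ∧ ∃ w ∈ W, x = (algebraMap k[X] K X) ^ i • w} := by
  classical
  obtain ⟨f, hf⟩ : ∃ f : H →ₗ[K] K, f w₀ ≠ 0 := by
    by_contra hcon
    push Not at hcon
    exact hne ((Module.forall_dual_apply_eq_zero_iff K w₀).1 hcon)
  obtain ⟨b, hb⟩ := IsLocalization.exist_integer_multiples_of_finset (nonZeroDivisors k[X])
    (s.image f)
  have hb' : ∀ x ∈ s, ∃ p : k[X], algebraMap k[X] K p = algebraMap k[X] K b * f x := by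
    intro x hx
    obtain ⟨p, hp⟩ := hb (f x) (Finset.mem_image_of_mem f hx)
    exact ⟨p, by rw [hp, Algebra.smul_def]⟩
  choose! p hp using hb'
  let a : ℕ := s.sup fun x => (p x).natDegree
  have key : ∀ w ∈ W, ∃ q : k[X], q.natDegree ≤ a ∧ algebraMap k[X] K q = algebraMap k[X] K b * f w := by
    intro w hw
    refine Submodule.span_induction (p := fun w _ => ∃ q : k[X], q.natDegree ≤ a ∧
      algebraMap k[X] K q = algebraMap k[X] K b * f w) ?_ ?_ ?_ ?_ (hs hw)
    · intro x hx
      exact ⟨p x, Finset.le_sup (f := fun x => (p x).natDegree) hx, hp x hx⟩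
    · exact ⟨0, by simp, by simp⟩
    · rintro x y - - ⟨q, hq, hq'⟩ ⟨r, hr, hr'⟩
      exact ⟨q + r, (Polynomial.natDegree_add_le _ _).trans (max_le hq hr), by
        rw [map_add, hq', hr', map_add, mul_add]⟩
    · rintro c x - ⟨q, hq, hq'⟩
      refine ⟨C c * q, (Polynomial.natDegree_C_mul_le _ _).trans hq, ?_⟩
      rw [map_mul, hq']
      have h1 : c • x = (algebraMap k K c) • x := (algebraMap_smul K c x).symm
      rw [h1, map_smul, smul_eq_mul, IsScalarTower.algebraMap_apply k k[X] K]
      change _ = algebraMap k[X] K b * (algebraMap k[X] K (C c) * f x)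
      ring
  obtain ⟨q₀, -, hq₀⟩ := key w₀ hw₀
  have hq₀ne : q₀ ≠ 0 := by
    rintro rfl
    rw [map_zero] at hq₀
    have hbne : algebraMap k[X] K b ≠ 0 :=
      IsFractionRing.to_map_ne_zero_of_mem_nonZeroDivisors b.2
    exact mul_ne_zero hbne hf hq₀.symm
  let S : AddSubgroup H :=
    { carrier := {x | (laurent (k := k) (algebraMap k[X] K b * f x)).coeff (-1) = 0}
      add_mem' := by
        intro x y hx hy
        simp only [Set.mem_ofPred_eq] at hx hy ⊢
        rw [map_add, mul_add, map_add, HahnSeries.coeff_add, hx, hy, add_zero]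
      zero_mem' := by simp
      neg_mem' := by
        intro x hx
        simp only [Set.mem_ofPred_eq] at hx ⊢
        rw [map_neg, mul_neg, map_neg, HahnSeries.coeff_neg, hx, neg_zero] }
  refine ⟨a + 2, -1 - q₀.natDegree, fun hcl => ?_⟩
  have hle : AddSubgroup.closure {x : H | ∃ i : ℤ, (0 ≤ i ∨ i ≤ -((a + 2 : ℕ) : ℤ)) ∧
      ∃ w ∈ W, x = (algebraMap k[X] K X) ^ i • w} ≤ S := by
    rw [AddSubgroup.closure_le]
    rintro _ ⟨i, hi, w, hw, rfl⟩
    change (laurent (k := k) (algebraMap k[X] K b * f _)).coeff (-1) = 0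
    obtain ⟨q, hq, hq'⟩ := key w hw
    rw [map_smul, smul_eq_mul, mul_left_comm, ← hq', coeff_laurent]
    rcases hi with hi | hi
    · exact coeff_algebraMap_neg _ _ (by lia)
    · obtain ⟨e, he⟩ : ∃ e : ℕ, (e : ℤ) = -1 - i := ⟨(-1 - i).toNat, by push_cast at hi; lia⟩
      rw [← he, coeff_algebraMap]
      apply Polynomial.coeff_eq_zero_of_natDegree_lt
      push_cast at hi
      lia
  have h1 := hle hcl
  change (laurent (k := k) (algebraMap k[X] K b * f _)).coeff (-1) = 0 at h1
  rw [map_smul, smul_eq_mul, mul_left_comm, ← hq₀, coeff_laurent] at h1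
  have h2 : (-1 - (-1 - (q₀.natDegree : ℤ))) = (q₀.natDegree : ℤ) := by ring
  rw [h2, coeff_algebraMap] at h1
  exact hq₀ne (Polynomial.leadingCoeff_eq_zero.1 h1)

end Lattice

end Groth.Agent.Localalg.TopNonvanAlg
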