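import Groth.Agent.Models2.CodimStalk
import Groth.Agent.CurvesB.DimPts

set_option autoImplicit false
universe u
open CategoryTheory AlgebraicGeometry TopologicalSpace

namespace Groth.Agent.Localalg.TopNonvanDim

open Groth.Agent.Models2.CodimStalk

theorem dim_lt {Y Z : Scheme.{u}} (i : Y ⟶ Z) [IsClosedImmersion i] [IsLocallyNoetherian Z] {d : ℕ}
    (hd : topologicalKrullDim Z = ((d + 1 : ℕ) : WithBot ℕ∞))
    (h : ∀ y : Y, ¬ ringKrullDim (Z.presheaf.stalk (i y)) ≤ 1) :
    IsEmpty Y ∨ ∃ d' : ℕ, d' < d ∧ topologicalKrullDim Y ≤ (d' : WithBot ℕ∞) := by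
  by_cases hY : IsEmpty Y
  · exact Or.inl hY
  right
  rw [not_isEmpty_iff] at hY
  obtain ⟨y₀⟩ := hY
  have h2 : ∀ y : Y, 2 ≤ codim Z (i y) := by
    intro y
    by_contra hlt
    apply h y
    rw [coe_codim]
    have : codim Z (i y) ≤ 1 := by lia
    exact_mod_cast this
  have h3 : ∀ y : Y, codim Z (i y) ≤ d + 1 := fun y => codim_le Z hd (i y)
  have h4 := h2 y₀
  have h5 := h3 y₀
  refine ⟨d - 1, by lia, ?_⟩
  rw [Groth.Agent.CurvesB.DimPts.krullDim_eq]
  refine iSup_le fun p => ?_
  have hmono : StrictMono fun y : Y => d + 1 - codim Z (i y) := by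
    intro y y' hyy'
    have h6 : y' ⤳ y := hyy'.le
    have h7 : ¬ y ⤳ y' := fun h => hyy'.not_ge h
    have h8 : codim Z (i y') < codim Z (i y) := by
      refine codim_lt Z (h6.map i.continuous) fun h9 => h7 ?_
      exact i.isClosedEmbedding.isInducing.specializes_iff.1 h9
    have h9 := h3 y
    have h10 := h3 y'
    change d + 1 - codim Z (i y) < d + 1 - codim Z (i y')
    lia
  have h11 := LTSeries.head_add_length_le_nat (p.map _ hmono)
  have h12 : (p.map _ hmono).last = d + 1 - codim Z (i p.last) := rfl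
  have h13 : (p.map _ hmono).length = p.length := rfl
  have h14 := h2 p.last
  have : p.length ≤ d - 1 := by lia
  exact_mod_cast this

end Groth.Agent.Localalg.TopNonvanDim
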