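import Groth.Agent.Localalg.TopNonvanDim
import Groth.Agent.Localalg.TopNonvanSheaf
import Groth.Agent.VarietyB.HHPush
import Groth.Agent.Ega1.AnnIdeal
import Groth.Agent.FormalA.ClosedImm
import Groth.Agent.FormalA.PullbackQC
import Groth.Agent.S0458

/-!
# Vanishing of `H^d` for coherent modules supported in codimension at least two
-/

set_option autoImplicit false
universe u
open CategoryTheory CategoryTheory.Limits AlgebraicGeometry TopologicalSpace

namespace Groth.Agent.Localalg.TopNonvanSupp

open Groth.Agent.CohqB.DevSupport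

theorem subsingleton_HH {k : Type u} [Field k] {Z : Scheme.{u}} [IsNoetherian Z]
    (f : Z ⟶ Spec (CommRingCat.of k)) {d : ℕ}
    (hd : topologicalKrullDim Z = ((d + 1 : ℕ) : WithBot ℕ∞)) (R : Z.Modules) (hR : Coh.IsCoh R)
    (h : ∀ z : Z, ringKrullDim (Z.presheaf.stalk z) ≤ 1 → z ∉ CohB1.support R) :
    Subsingleton (Coh.HH Z R d) := by
  let J := Groth.Agent.Ega1.AnnIdeal.annIdeal R hR.1 hR.2
  have hJ : ClSub.KilledByIdeal J R :=
    fun U a ha m => (Groth.Agent.Ega1.AnnIdeal.mem_annIdeal R hR.1 hR.2 U a).mp ha m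
  have hJs : (J.support : Set Z) = CohB1.support R :=
    Groth.Agent.Ega1.AnnIdeal.support_annIdeal R hR.1 hR.2
  let i := J.subschemeι
  have hk : ClSub.KilledByIdeal i.ker R := by
    rw [Scheme.IdealSheafData.ker_subschemeι]; exact hJ
  let N := (Scheme.Modules.pullback i).obj R
  have hN : Coh.IsQCoh N := Groth.Agent.FormalA.PullbackQC.isQCoh_pullback i R hR.1
  have e : (Scheme.Modules.pushforward i).obj N ≅ R := Groth.Agent.FormalA.ClosedImm.pushPullIso i hk
  have hi : ∀ y : J.subscheme, ¬ ringKrullDim (Z.presheaf.stalk (i y)) ≤ 1 := by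
    intro y hy
    refine h _ hy (hJs.subset ?_)
    rw [← Scheme.IdealSheafData.range_subschemeι]
    exact Set.mem_range_self y
  rcases TopNonvanDim.dim_lt i hd hi with hemp | ⟨d', hd', hdim⟩
  · have h0 : CohB1.support R = ∅ := by
      rw [← hJs, ← Scheme.IdealSheafData.range_subschemeι, Set.range_eq_empty_iff]
      exact hemp
    have h1 : IsZero R := isZero_of_support_eq_empty h0
    exact Sheaf.subsingleton_H_of_isZero (Functor.map_isZero (toAbF Z) h1) d
  · let _ : Z.Over (Spec (CommRingCat.of k)) := ⟨f⟩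
    let _ : J.subscheme.Over (Spec (CommRingCat.of k)) := ⟨i ≫ f⟩
    obtain ⟨e2⟩ := Groth.Agent.VarietyB.HHPush.exists_linearEquiv i k rfl N hN d
    have : NoetherianSpace J.subscheme.toTopCat := i.isClosedEmbedding.isInducing.noetherianSpace
    have h1 : Subsingleton (Coh.HH J.subscheme N d) :=
      Groth.Agent.S0458.result (X := J.subscheme.toTopCat) d' hdim (Coh.toAb N) d hd'
    have h2 : Subsingleton (Coh.HH Z ((Coh.push i).obj N) d) := e2.toEquiv.subsingleton
    exact Groth.Agent.CohqB.LocBaseHH.subsingleton_of_iso e d h2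

end Groth.Agent.Localalg.TopNonvanSupp
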