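import Groth.Agent.CycA.TorShift
import Groth.Agent.Localalg.Matlis
import Mathlib.LinearAlgebra.Contraction
import Mathlib.Algebra.Homology.DerivedCategory.Ext.Linear
import Mathlib.Algebra.Homology.DerivedCategory.Ext.ExactSequences

/-!
# `Tor_i(E, N) ≃ Hom(Ext^i(N, A), E)` for `E` injective, `N` finite over a Noetherian ring `A`
-/

set_option autoImplicit false
universe u

open CategoryTheory Abelian Limits
open scoped TensorProduct

namespace Groth.Agent.Localalg.TorDual

variable {A : Type u} [CommRing A] (E : Type u) [AddCommGroup E] [Module A E]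

section Ev

variable (N : Type u) [AddCommGroup N] [Module A N]

variable (A) in
/-- `E ⊗ N → Hom(Hom(N, A), E)`. -/
noncomputable def ev : E ⊗[A] N →ₗ[A] ((N →ₗ[A] A) →ₗ[A] E) :=
  (dualTensorHom A (Module.Dual A N) E) ∘ₗ (LinearMap.rTensor E (Module.Dual.eval A N)) ∘ₗ
    (TensorProduct.comm A E N).toLinearMap

@[simp]
lemma ev_tmul (e : E) (n : N) (φ : N →ₗ[A] A) : ev A E N (e ⊗ₜ n) φ = φ n • e := rfl

variable {N}

lemma ev_naturality {N' : Type u} [AddCommGroup N'] [Module A N'] (f : N →ₗ[A] N')
    (x : E ⊗[A] N) :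
    ev A E N' (LinearMap.lTensor E f x) =
      LinearMap.lcomp A E (LinearMap.lcomp A A f) (ev A E N x) := by
  induction x with
  | zero => simp
  | add x y hx hy => rw [map_add, map_add, hx, hy, map_add, map_add]
  | tmul e n =>
    ext φ
    rfl

lemma ev_bijective_of_projective (F : Type u) [AddCommGroup F] [Module A F] [Module.Finite A F]
    [Module.Projective A F] : Function.Bijective (ev A E F) := by
  have h1 : Function.Bijective (LinearMap.rTensor E (Module.Dual.eval A F)) :=
    (TensorProduct.congr (Module.evalEquiv A F) (LinearEquiv.refl A E)).bijective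
  exact (dualTensorHom_bijective (R := A) (M := Module.Dual A F) (N := E)).comp
    (h1.comp (TensorProduct.comm A E F).bijective)

variable {E}
variable {K F : Type u} [AddCommGroup K] [Module A K] [AddCommGroup F] [Module A F]

lemma ev_surjective_of_surjective (hE : Module.Injective A E) (g : F →ₗ[A] N)
    (hg : Function.Surjective g) (hF : Function.Surjective (ev A E F)) :
    Function.Surjective (ev A E N) := by
  have h1 : Function.Injective (LinearMap.lcomp A A g) := fun φ ψ h ↦ by
    ext n
    obtain ⟨x, rfl⟩ := hg n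
    exact LinearMap.congr_fun h x
  intro y
  obtain ⟨z, rfl⟩ := Matlis.lcomp_surjective hE (LinearMap.lcomp A A g) h1 y
  obtain ⟨w, rfl⟩ := hF z
  exact ⟨LinearMap.lTensor E g w, ev_naturality E g w⟩

lemma lcomp_lcomp_exact (f : K →ₗ[A] F) (g : F →ₗ[A] N) (h : Function.Exact f g)
    (hg : Function.Surjective g) :
    Function.Exact (LinearMap.lcomp A A g) (LinearMap.lcomp A A f) := by
  intro φ
  constructor
  · intro hφ
    have h1 : φ ∘ₗ f = 0 := hφ
    have h2 : LinearMap.ker g ≤ LinearMap.ker φ := by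
      intro x hx
      obtain ⟨y, rfl⟩ := (h x).1 hx
      exact LinearMap.congr_fun h1 y
    refine ⟨(LinearMap.ker g).liftQ φ h2 ∘ₗ (g.quotKerEquivOfSurjective hg).symm.toLinearMap, ?_⟩
    ext x
    change (LinearMap.ker g).liftQ φ h2 ((g.quotKerEquivOfSurjective hg).symm (g x)) = φ x
    have : (g.quotKerEquivOfSurjective hg).symm (g x) = Submodule.Quotient.mk x := by
      rw [LinearEquiv.symm_apply_eq]
      rfl
    rw [this]
    rfl
  · rintro ⟨ψ, rfl⟩
    ext x
    change ψ (g (f x)) = 0
    rw [h.apply_apply_eq_zero, map_zero]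

lemma ev_injective_of_exact (hE : Module.Injective A E) (f : K →ₗ[A] F) (g : F →ₗ[A] N)
    (h : Function.Exact f g) (hg : Function.Surjective g)
    (hF : Function.Injective (ev A E F)) (hK : Function.Surjective (ev A E K)) :
    Function.Injective (ev A E N) := by
  rw [injective_iff_map_eq_zero]
  intro x hx
  obtain ⟨y, rfl⟩ := LinearMap.lTensor_surjective E hg x
  rw [ev_naturality] at hx
  obtain ⟨z, hz⟩ := (Matlis.lcomp_exact hE (LinearMap.lcomp A A g) (LinearMap.lcomp A A f)
    (lcomp_lcomp_exact f g h hg) _).1 hx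
  obtain ⟨w, rfl⟩ := hK z
  rw [← ev_naturality] at hz
  rw [← hF hz]
  exact (lTensor_exact E h hg).apply_apply_eq_zero w

end Ev

section Cover

lemma exists_finite_cover (A : Type u) [CommRing A] [IsNoetherianRing A] (N : Type u)
    [AddCommGroup N] [Module A N] [Module.Finite A N] :
    ∃ (K P : Type u) (_ : AddCommGroup K) (_ : Module A K) (_ : AddCommGroup P) (_ : Module A P)
      (f : K →ₗ[A] P) (g : P →ₗ[A] N), Module.Free A P ∧ Module.Finite A P ∧ Module.Finite A K ∧
      Function.Injective f ∧ Function.Exact f g ∧ Function.Surjective g := by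
  obtain ⟨n, g, hg⟩ := Module.Finite.exists_fin' A N
  refine ⟨LinearMap.ker g, Fin n → A, inferInstance, inferInstance, inferInstance, inferInstance,
    (LinearMap.ker g).subtype, g, inferInstance, inferInstance, inferInstance,
    Subtype.val_injective, ?_, hg⟩
  intro x
  simp

end Cover

variable {E}

theorem ev_bijective [IsNoetherianRing A] (hE : Module.Injective A E) (N : Type u)
    [AddCommGroup N] [Module A N] [Module.Finite A N] : Function.Bijective (ev A E N) := by
  have hsurj : ∀ (N : Type u) [AddCommGroup N] [Module A N] [Module.Finite A N],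
      Function.Surjective (ev A E N) := by
    intro N _ _ _
    obtain ⟨K, P, _, _, _, _, f, g, _, _, _, hf, h, hg⟩ := exists_finite_cover A N
    exact ev_surjective_of_surjective hE g hg (ev_bijective_of_projective E P).2
  obtain ⟨K, P, _, _, _, _, f, g, _, _, _, hf, h, hg⟩ := exists_finite_cover A N
  exact ⟨ev_injective_of_exact hE f g h hg (ev_bijective_of_projective E P).1 (hsurj K), hsurj N⟩

section Ext

variable {K P N M : Type u} [AddCommGroup K] [Module A K] [AddCommGroup P] [Module A P]
  [AddCommGroup N] [Module A N] [AddCommGroup M] [Module A M]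

/-- `Ext_A^n(N, M)` for modules as types. -/
noncomputable abbrev E' (n : ℕ) (N M : Type u) [AddCommGroup N] [Module A N] [AddCommGroup M]
    [Module A M] : Type u :=
  Abelian.Ext (ModuleCat.of A N) (ModuleCat.of A M) n

/-- dimension shifting for `Ext` in the first variable, linear. -/
theorem ext_shift [Module.Projective A P] (f : K →ₗ[A] P) (g : P →ₗ[A] N)
    (hf : Function.Injective f) (h : Function.Exact f g) (hg : Function.Surjective g) (n : ℕ) :
    Nonempty (E' (A := A) (n + 1) K M ≃ₗ[A] E' (A := A) (n + 2) N M) := by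
  have hS := CycA.TorBasic.sc_shortExact f g hf h hg
  have hP : Projective (CycA.TorBasic.sc f g h).X₂ := (IsProjective.iff_projective P).1 inferInstance
  let F : Abelian.Ext (ModuleCat.of A K) (ModuleCat.of A M) (n + 1) →ₗ[A]
      Abelian.Ext (ModuleCat.of A N) (ModuleCat.of A M) (n + 2) :=
    { toFun := fun z ↦ hS.extClass.comp z (by omega)
      map_add' := fun y z ↦ Ext.comp_add _ _ _ _
      map_smul' := fun a y ↦ Ext.comp_smul _ _ _ _ }
  refine ⟨LinearEquiv.ofBijective F ⟨?_, ?_⟩⟩
  · rw [injective_iff_map_eq_zero]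
    intro z hz
    obtain ⟨y, rfl⟩ := Ext.contravariant_sequence_exact₁ hS (ModuleCat.of A M) z (by omega) hz
    rw [show y = 0 from Ext.eq_zero_of_projective y, Ext.comp_zero]
  · intro z
    exact Ext.contravariant_sequence_exact₃ hS (ModuleCat.of A M) z
      (Ext.eq_zero_of_projective _) (by omega)

/-- `Hom(K, M) → Ext^1(N, M)` is surjective with kernel the image of `Hom(P, M)`. -/
theorem ext_one [Module.Projective A P] (f : K →ₗ[A] P) (g : P →ₗ[A] N)
    (hf : Function.Injective f) (h : Function.Exact f g) (hg : Function.Surjective g) :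
    ∃ δ : (K →ₗ[A] M) →ₗ[A] E' (A := A) 1 N M, Function.Surjective δ ∧
      Function.Exact (LinearMap.lcomp A M f) δ := by
  have hS := CycA.TorBasic.sc_shortExact f g hf h hg
  have hP : Projective (CycA.TorBasic.sc f g h).X₂ := (IsProjective.iff_projective P).1 inferInstance
  let δ : (K →ₗ[A] M) →ₗ[A] Abelian.Ext (ModuleCat.of A N) (ModuleCat.of A M) 1 :=
    { toFun := fun z ↦ hS.extClass.comp (Ext.mk₀ (ModuleCat.ofHom z)) rfl
      map_add' := fun y z ↦ by
        rw [ModuleCat.ofHom_add, Ext.mk₀_add, Ext.comp_add]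
      map_smul' := fun a y ↦ by
        change hS.extClass.comp (Ext.mk₀ (a • ModuleCat.ofHom y)) rfl = _
        rw [Ext.mk₀_smul, Ext.comp_smul]
        rfl }
  have hδ : ∀ z, δ z = hS.extClass.comp (Ext.mk₀ (ModuleCat.ofHom z)) rfl := fun z ↦ rfl
  refine ⟨δ, fun x ↦ ?_, fun z ↦ ⟨fun hz ↦ ?_, ?_⟩⟩
  · obtain ⟨z, hz⟩ := Ext.contravariant_sequence_exact₃ hS (ModuleCat.of A M) x
      (Ext.eq_zero_of_projective _) (show 1 + 0 = 1 from rfl)
    obtain ⟨z, rfl⟩ := (Ext.mk₀_bijective _ _).2 z
    exact ⟨z.hom, hz⟩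
  · obtain ⟨y, hy⟩ := Ext.contravariant_sequence_exact₁ hS (ModuleCat.of A M) _
      (show 1 + 0 = 1 from rfl) hz
    obtain ⟨y, rfl⟩ := (Ext.mk₀_bijective _ _).2 y
    rw [Ext.mk₀_comp_mk₀] at hy
    have := (Ext.mk₀_bijective _ _).1 hy
    refine ⟨y.hom, ?_⟩
    exact congr_arg ModuleCat.Hom.hom this
  · rintro ⟨y, rfl⟩
    rw [hδ]
    change hS.extClass.comp (Ext.mk₀ ((CycA.TorBasic.sc f g h).f ≫ ModuleCat.ofHom y)) rfl = 0
    rw [← Ext.mk₀_comp_mk₀]
    exact hS.extClass_comp_assoc _

end Ext

/-- `Tor_i(E, N) ≃ Hom(Ext^i(N, A), E)`. -/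
theorem tor_dual [IsNoetherianRing A] (hE : Module.Injective A E) (i : ℕ) :
    ∀ (N : Type u) [AddCommGroup N] [Module A N] [Module.Finite A N],
    Nonempty (DRing.Tor A i E N ≃ₗ[A] (E' (A := A) i N A →ₗ[A] E)) := by
  induction i using Nat.twoStepInduction with
  | zero =>
    intro N _ _ _
    let e : (N →ₗ[A] A) ≃ₗ[A] (ModuleCat.of A N ⟶ ModuleCat.of A A) :=
      { toFun := fun f ↦ ModuleCat.ofHom f
        map_add' := fun _ _ ↦ rfl
        map_smul' := fun _ _ ↦ rfl
        invFun := fun f ↦ f.hom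
        left_inv := fun _ ↦ rfl
        right_inv := fun _ ↦ rfl }
    let e' : (N →ₗ[A] A) ≃ₗ[A] E' (A := A) 0 N A := e.trans (Ext.linearEquiv₀ (R := A)).symm
    exact ⟨(CycA.TorShift.zeroEquiv A E N).trans ((LinearEquiv.ofBijective _
      (ev_bijective hE N)).trans (e'.arrowCongr (LinearEquiv.refl A E)))⟩
  | one =>
    intro N _ _ _
    obtain ⟨K, P, _, _, _, _, f, g, _, _, _, hf, h, hg⟩ := exists_finite_cover A N
    obtain ⟨e1⟩ := CycA.TorShift.shiftR_one f g hf h hg E
    obtain ⟨δ, hδ, hδ'⟩ := ext_one (M := A) f g hf h hg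
    have h1 := Matlis.lcomp_exact hE (LinearMap.lcomp A A f) δ hδ'
    have h2 : Function.Injective (LinearMap.lcomp A E δ) := fun φ ψ h ↦ by
      ext n
      obtain ⟨x, rfl⟩ := hδ n
      exact LinearMap.congr_fun h x
    let F : (E' (A := A) 1 N A →ₗ[A] E) ≃ₗ[A]
        LinearMap.ker (LinearMap.lcomp A E (LinearMap.lcomp A A f)) :=
      (LinearEquiv.ofInjective _ h2).trans (LinearEquiv.ofEq _ _ (by
        rw [LinearMap.exact_iff] at h1
        exact h1.symm))
    suffices h3 : Submodule.map (LinearEquiv.ofBijective _ (ev_bijective hE K)).toLinearMap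
        (LinearMap.ker (LinearMap.lTensor E f)) =
        LinearMap.ker (LinearMap.lcomp A E (LinearMap.lcomp A A f)) from
      ⟨e1.trans (((LinearEquiv.ofBijective _ (ev_bijective hE K)).ofSubmodules _ _ h3).trans
        F.symm)⟩
    ext x
    constructor
    · rintro ⟨y, hy, rfl⟩
      have hy' : LinearMap.lTensor E f y = 0 := hy
      change LinearMap.lcomp A E (LinearMap.lcomp A A f) (ev A E K y) = 0
      rw [← ev_naturality, hy', map_zero]
    · intro hx
      obtain ⟨y, rfl⟩ := (ev_bijective hE K).2 x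
      refine ⟨y, ?_, rfl⟩
      have hx' : LinearMap.lcomp A E (LinearMap.lcomp A A f) (ev A E K y) = 0 := hx
      rw [← ev_naturality] at hx'
      change LinearMap.lTensor E f y = 0
      apply (ev_bijective hE P).1
      rw [hx', map_zero]
  | more i _ ih =>
    intro N _ _ _
    obtain ⟨K, P, _, _, _, _, f, g, _, _, _, hf, h, hg⟩ := exists_finite_cover A N
    obtain ⟨e1⟩ := CycA.TorShift.shiftR f g hf h hg i E
    obtain ⟨e2⟩ := ih K
    obtain ⟨e3⟩ := ext_shift (M := A) f g hf h hg i
    exact ⟨e1.trans (e2.trans (e3.arrowCongr (LinearEquiv.refl A E)))⟩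

end Groth.Agent.Localalg.TorDual
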