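import Mathlib.RingTheory.KrullDimension.Polynomial
import Mathlib.RingTheory.Localization.Integral
import Mathlib.RingTheory.Localization.AtPrime.Basic

/-!
# A polynomial relation with a unit coefficient over a local domain of dimension at most one
-/

set_option autoImplicit false

universe u v

namespace Groth.Agent.Localalg.UnitCoeff

open Polynomial

/-- If `t` is a fraction over a Noetherian local domain `A` of dimension `≤ 1`, then `t` is a root of
a polynomial over `A` with some coefficient a unit. -/
theorem exists_of_local {A : Type u} {F : Type v} [CommRing A] [IsDomain A] [IsLocalRing A]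
    [IsNoetherianRing A] [Field F] (ι : A →+* F) (hι : Function.Injective ι)
    (hdim : ringKrullDim A ≤ 1) (t : F) (ht : ∃ a b : A, b ≠ 0 ∧ t * ι b = ι a) :
    ∃ (h : Polynomial A) (i : ℕ), IsUnit (h.coeff i) ∧ h.eval₂ ι t = 0 := by
  by_contra hcon
  push Not at hcon
  set P : Ideal A[X] := RingHom.ker (eval₂RingHom ι t) with hP
  have hprime : P.IsPrime := RingHom.ker_isPrime _
  set m := IsLocalRing.maximalIdeal A with hm
  have hle : P ≤ m.map C := by
    intro h hh
    rw [Ideal.mem_map_C_iff]
    intro n
    rw [hm, IsLocalRing.mem_maximalIdeal, mem_nonunits_iff]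
    intro hu
    exact hcon h n hu (by simpa [hP, RingHom.mem_ker] using hh)
  obtain ⟨a, b, hb, hab⟩ := ht
  have hbP : C b * X - C a ∈ P := by
    rw [hP, RingHom.mem_ker, coe_eval₂RingHom, eval₂_sub, eval₂_mul, eval₂_C, eval₂_C, eval₂_X,
      mul_comm, hab, sub_self]
  have hne : C b * X - C a ≠ (0 : A[X]) := by
    intro h0
    apply hb
    have := congrArg (fun p : A[X] => p.coeff 1) h0
    simpa [coeff_C] using this
  have hbot : P ≠ ⊥ := fun h => hne (by rw [h] at hbP; simpa using hbP)
  have hmprime : (m.map C : Ideal A[X]).IsPrime := Ideal.isPrime_map_C_of_isPrime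
  have hht : (m.map C : Ideal A[X]).height ≤ 1 := by
    rw [height_map_C]
    have h1 : (m.height : WithBot ℕ∞) ≤ 1 := (Ideal.height_le_ringKrullDim_of_ne_top
      (Ideal.IsPrime.ne_top inferInstance)).trans hdim
    exact_mod_cast h1
  have heq : P = m.map C := by
    by_contra hne'
    have hlt : P < m.map C := lt_of_le_of_ne hle hne'
    have h0 : (⊥ : Ideal A[X]) < P := bot_lt_iff_ne_bot.mpr hbot
    have hb0 : (⊥ : Ideal A[X]).IsPrime := Ideal.isPrime_bot
    have h1 := Ideal.height_add_one_le_of_lt_of_isPrime h0
    have h2 := Ideal.height_add_one_le_of_lt_of_isPrime hlt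
    have h3 : (1 + 1 : ℕ∞) ≤ 1 := by
      refine le_trans (le_trans ?_ h2) hht
      gcongr
      exact le_trans (by simp) h1
    exact absurd h3 (by decide)
  have hm0 : m = ⊥ := by
    rw [eq_bot_iff]
    intro x hx
    have : C x ∈ P := by rw [heq]; exact Ideal.mem_map_of_mem _ hx
    rw [hP, RingHom.mem_ker, coe_eval₂RingHom, eval₂_C] at this
    exact hι (by rw [this, map_zero])
  apply hbot
  rw [heq, hm0, Ideal.map_bot]

/-- The same over a localization of `B` at a prime `p`, with the relation cleared of denominators. -/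
theorem exists_of_localization {B A : Type u} {F : Type v} [CommRing B] [CommRing A] [Algebra B A]
    (p : Ideal B) [p.IsPrime] [IsLocalization.AtPrime A p] [IsDomain A] [IsNoetherianRing A]
    [Field F] (ι : A →+* F) (hι : Function.Injective ι)
    (hdim : ringKrullDim A ≤ 1) (t : F) (ht : ∃ a b : A, b ≠ 0 ∧ t * ι b = ι a) :
    ∃ (h : Polynomial B) (i : ℕ), h.coeff i ∉ p ∧ h.eval₂ (ι.comp (algebraMap B A)) t = 0 := by
  have := IsLocalization.AtPrime.isLocalRing A p
  obtain ⟨h, i, hi, h0⟩ := exists_of_local ι hι hdim t ht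
  refine ⟨IsLocalization.integerNormalization p.primeCompl h, i, ?_,
    IsLocalization.integerNormalization_eval₂_eq_zero p.primeCompl ι h h0⟩
  obtain ⟨b, hb, hb'⟩ := IsLocalization.integerNormalization_spec p.primeCompl h
  have h1 := congrArg (fun q : Polynomial A => q.coeff i) hb'
  simp only [coeff_map, coeff_smul] at h1
  have h2 : IsUnit (algebraMap B A ((IsLocalization.integerNormalization p.primeCompl h).coeff i)) := by
    rw [h1, Algebra.smul_def]
    exact (IsLocalization.map_units A (⟨b, hb⟩ : p.primeCompl)).mul hi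
  exact (IsLocalization.AtPrime.isUnit_to_map_iff A p _).mp h2

end Groth.Agent.Localalg.UnitCoeff
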