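import Mathlib.RingTheory.Ideal.KrullsHeightTheorem
import Mathlib.RingTheory.Polynomial.Basic
import Mathlib.RingTheory.Localization.FractionRing
import Mathlib.RingTheory.KrullDimension.Basic

/-!
# An element of the fraction field of a local domain of dimension at least two

`exists_forall_coeff_mem`: if `A` is a Noetherian local domain of dimension at least two there is an
element `t` of the fraction field of `A` such that every polynomial over `A` which vanishes at `t`
has its coefficients in the maximal ideal.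
-/

set_option autoImplicit false

universe u v

open Polynomial Ideal IsLocalRing

namespace Groth.Agent.Localalg.VanAlg

lemma exists_pow_mul_sub_mem {A : Type u} [CommRing A] (a b : A) (p : A[X]) :
    ∃ (n : ℕ) (c : A), C b ^ n * p - C c ∈ Ideal.span {C b * X - C a} := by
  induction p using Polynomial.induction_on' with
  | add p q hp hq =>
    obtain ⟨n, c, h⟩ := hp
    obtain ⟨m, d, h'⟩ := hq
    refine ⟨n + m, b ^ m * c + b ^ n * d, ?_⟩
    have h1 : C b ^ (n + m) * (p + q) - C (b ^ m * c + b ^ n * d) =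
        C b ^ m * (C b ^ n * p - C c) + C b ^ n * (C b ^ m * q - C d) := by
      simp only [map_add, map_mul, map_pow]
      ring
    rw [h1]
    exact Ideal.add_mem _ (Ideal.mul_mem_left _ _ h) (Ideal.mul_mem_left _ _ h')
  | monomial k r =>
    refine ⟨k, r * a ^ k, ?_⟩
    rw [Ideal.mem_span_singleton]
    have h1 : C b ^ k * monomial k r - C (r * a ^ k) = C r * ((C b * X) ^ k - C a ^ k) := by
      rw [← C_mul_X_pow_eq_monomial]
      simp only [map_mul, map_pow]
      ring
    rw [h1]
    exact Dvd.dvd.mul_left (sub_dvd_pow_sub_pow _ _ k) _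

lemma exists_pow_mul_mem {A : Type u} [CommRing A] [IsDomain A] {F : Type v} [Field F] [Algebra A F]
    [IsFractionRing A F] {a b : A} (hb : b ≠ 0) {p : A[X]}
    (hp : aeval (algebraMap A F a / algebraMap A F b) p = 0) :
    ∃ n : ℕ, C b ^ n * p ∈ Ideal.span {C b * X - C a} := by
  obtain ⟨n, c, h⟩ := exists_pow_mul_sub_mem a b p
  have hb' : algebraMap A F b ≠ 0 := fun h0 =>
    hb ((IsFractionRing.injective A F) (by rw [h0, map_zero]))
  have h0 : aeval (algebraMap A F a / algebraMap A F b) (C b ^ n * p - C c) = 0 := by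
    obtain ⟨d, hd⟩ := Ideal.mem_span_singleton.1 h
    rw [hd, map_mul]
    have : aeval (algebraMap A F a / algebraMap A F b) (C b * X - C a) = 0 := by
      rw [map_sub, map_mul, aeval_C, aeval_C, aeval_X]
      field_simp
      ring
    rw [this, zero_mul]
  rw [map_sub, map_mul, hp, mul_zero, zero_sub, aeval_C, neg_eq_zero] at h0
  have hc : c = 0 := (IsFractionRing.injective A F) (by rw [h0, map_zero])
  rw [hc, map_zero, sub_zero] at h
  exact ⟨n, h⟩

theorem exists_forall_coeff_mem (A : Type u) [CommRing A] [IsDomain A] [IsNoetherianRing A]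
    [IsLocalRing A] (h : 2 ≤ ringKrullDim A) (F : Type v) [Field F] [Algebra A F]
    [IsFractionRing A F] :
    ∃ t : F, ∀ p : A[X], aeval t p = 0 → ∀ i, p.coeff i ∈ maximalIdeal A := by
  have hm : (2 : ℕ∞) ≤ (maximalIdeal A).height := by
    have := IsLocalRing.maximalIdeal_height_eq_ringKrullDim (R := A)
    rw [← this] at h
    exact WithBot.coe_le_coe.1 h
  -- `a`
  obtain ⟨a, ham, ha⟩ : ∃ a ∈ maximalIdeal A, a ≠ 0 := by
    by_contra! hcon
    have : maximalIdeal A = ⊥ := (Submodule.eq_bot_iff _).2 hcon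
    rw [this, Ideal.height_bot] at hm
    simp at hm
  -- `b`
  have hfin : (Ideal.span {a} : Ideal A).minimalPrimes.Finite :=
    Ideal.finite_minimalPrimes_of_isNoetherianRing A _
  obtain ⟨b, hbm, hb⟩ : ∃ b ∈ maximalIdeal A, ∀ P ∈ (Ideal.span {a} : Ideal A).minimalPrimes,
      b ∉ P := by
    by_contra! hcon
    have hsub : (maximalIdeal A : Set A) ⊆ ⋃ P ∈ (Ideal.span {a} : Ideal A).minimalPrimes,
        (P : Set A) := by
      intro x hx
      obtain ⟨P, hP, hxP⟩ := hcon x hx
      exact Set.mem_biUnion hP hxP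
    rw [Ideal.subset_union_prime_finite hfin (f := fun P => P) ⊥ ⊥
      (fun P hP _ _ => hP.1.1)] at hsub
    obtain ⟨P, hP, hle⟩ := hsub
    have hPp : P.IsPrime := hP.1.1
    have : P = maximalIdeal A := le_antisymm (le_maximalIdeal hPp.ne_top) hle
    subst this
    have := Ideal.height_le_one_of_isPrincipal_of_mem_minimalPrimes _ _ hP
    exact absurd (hm.trans this) (by decide)
  have hb0 : b ≠ 0 := by
    rintro rfl
    obtain ⟨P, hP, -⟩ := Ideal.exists_minimalPrimes_le (I := Ideal.span {a}) (J := maximalIdeal A)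
      ((Ideal.span_singleton_le_iff_mem _).2 ham)
    exact hb P hP (zero_mem _)
  refine ⟨algebraMap A F a / algebraMap A F b, fun p hp => ?_⟩
  obtain ⟨n, hn⟩ := exists_pow_mul_mem hb0 hp
  -- the minimal prime
  have hle : Ideal.span {C b * X - C a} ≤ (maximalIdeal A).map (C : A →+* A[X]) := by
    rw [Ideal.span_singleton_le_iff_mem]
    exact Ideal.sub_mem _ (Ideal.mul_mem_right _ _ (Ideal.mem_map_of_mem _ hbm))
      (Ideal.mem_map_of_mem _ ham)
  obtain ⟨Q, hQ, hQM⟩ := Ideal.exists_minimalPrimes_le hle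
  have hQp : Q.IsPrime := hQ.1.1
  have hQ1 : Q.height ≤ 1 := Ideal.height_le_one_of_isPrincipal_of_mem_minimalPrimes _ _ hQ
  have hbQ : C b ∉ Q := by
    intro hbQ
    have haQ : C a ∈ Q := by
      have h1 : C b * X - C a ∈ Q := hQ.1.2 (Ideal.mem_span_singleton_self _)
      have := Ideal.sub_mem _ (Ideal.mul_mem_right X _ hbQ) h1
      rwa [sub_sub_cancel] at this
    have hq : Ideal.span {a} ≤ Q.comap (C : A →+* A[X]) :=
      (Ideal.span_singleton_le_iff_mem _).2 haQ
    obtain ⟨q, hq1, hqle⟩ := Ideal.exists_minimalPrimes_le hq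
    have hqp : q.IsPrime := hq1.1.1
    have haq : a ∈ q := hq1.1.2 (Ideal.mem_span_singleton_self _)
    have h1 : (⊥ : Ideal A[X]) < q.map (C : A →+* A[X]) := by
      rw [bot_lt_iff_ne_bot]
      intro h0
      have : C a ∈ (⊥ : Ideal A[X]) := by
        rw [← h0]
        exact Ideal.mem_map_of_mem _ haq
      rw [Ideal.mem_bot, C_eq_zero] at this
      exact ha this
    have h2 : q.map (C : A →+* A[X]) < Q := by
      refine lt_of_le_of_ne (Ideal.map_le_iff_le_comap.2 hqle) fun h0 => ?_
      rw [← h0, Ideal.mem_map_C_iff] at hbQ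
      have := hbQ 0
      rw [coeff_C_zero] at this
      exact hb q hq1 this
    have h3 := Ideal.height_add_one_le_of_lt_of_isPrime h2
    have h4 := Ideal.height_add_one_le_of_lt_of_isPrime h1
    rw [Ideal.height_bot, zero_add] at h4
    have h5 : (1 : ℕ∞) + 1 ≤ 1 := ((add_le_add_left h4 1).trans h3).trans hQ1
    exact absurd h5 (by decide)
  have hpQ : p ∈ Q := by
    rcases hQp.mem_or_mem (hQ.1.2 hn) with h1 | h1
    · exact absurd (hQp.mem_of_pow_mem _ h1) hbQ
    · exact h1
  exact Ideal.mem_map_C_iff.1 (hQM hpQ)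

end Groth.Agent.Localalg.VanAlg
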