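import Groth.Agent.CycB.ImageInt
import Groth.Agent.S0384
import Mathlib.AlgebraicGeometry.Morphisms.Proper
import Mathlib.AlgebraicGeometry.Morphisms.Immersion
import Mathlib.AlgebraicGeometry.Noetherian

/-!
# Integral compactifications of varieties
-/

set_option autoImplicit false
universe u

open CategoryTheory CategoryTheory.Limits AlgebraicGeometry TopologicalSpace

namespace Groth.Agent.Localalg.VanComp

/-- Nagata: a variety is an open of a proper variety. -/
theorem exists_compactification {k : Type u} [Field k] {U : Scheme.{u}} [IsIntegral U]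
    (f : U ⟶ Spec (CommRingCat.of k)) [IsSeparated f] [LocallyOfFiniteType f] [QuasiCompact f] :
    ∃ (X : Scheme.{u}) (_ : IsIntegral X) (p : X ⟶ Spec (CommRingCat.of k)) (_ : IsProper p)
      (j : U ⟶ X) (_ : IsOpenImmersion j), j ≫ p = f := by
  obtain ⟨Y, i, g, hi, hqi, hg, hcomm⟩ := S0384.result f
  refine ⟨i.image, CycB.ImageInt.isIntegral_image i, i.imageι ≫ g, inferInstance, i.toImage,
    inferInstance, ?_⟩
  rw [Scheme.Hom.toImage_imageι_assoc, hcomm]

end Groth.Agent.Localalg.VanComp
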