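import Groth.Agent.Localalg.TopNonvanSlice
import Mathlib.AlgebraicGeometry.Morphisms.Flat
import Mathlib.LinearAlgebra.TensorProduct.Finiteness

/-!
# Sections of a slice are generated by sections of the base and constants
-/

set_option autoImplicit false

universe u

namespace Groth.Agent.Localalg.VanGen

open AlgebraicGeometry CategoryTheory Limits TopologicalSpace Opposite
open Groth.Agent.Localalg.TopNonvanSlice

theorem gen_of_isPushout {R A B P : CommRingCat.{u}} {f : R ⟶ A} {g : R ⟶ B} {inl : A ⟶ P}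
    {inr : B ⟶ P} (h : IsPushout f g inl inr) (x : P) :
    ∃ (m : ℕ) (a : Fin m → A) (b : Fin m → B), x = ∑ i, inl.hom (a i) * inr.hom (b i) := by
  algebraize [f.hom, g.hom]
  have h' : IsPushout f g (CommRingCat.ofHom (Algebra.TensorProduct.includeLeftRingHom (R := R) (A := A) (B := B)))
    (CommRingCat.ofHom (Algebra.TensorProduct.includeRight (R := R) (A := A) (B := B)).toRingHom) :=
    CommRingCat.isPushout_tensorProduct R A B
  let e := h'.isoIsPushout _ _ h
  have hl1 := IsPushout.inl_isoIsPushout_hom _ _ h' h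
  have hr1 := IsPushout.inr_isoIsPushout_hom _ _ h' h
  have hl : ∀ a : A, e.hom.hom (a ⊗ₜ[R] (1 : B)) = inl.hom a := fun a =>
    congrArg (fun φ : A ⟶ P => φ.hom a) hl1
  have hr : ∀ b : B, e.hom.hom ((1 : A) ⊗ₜ[R] b) = inr.hom b := fun b =>
    congrArg (fun φ : B ⟶ P => φ.hom b) hr1
  obtain ⟨m, a, b, hab⟩ := TensorProduct.exists_sum_tmul_eq (R := R) (M := A) (N := B) (e.inv.hom x)
  refine ⟨m, a, b, ?_⟩
  have hx : x = e.hom.hom (e.inv.hom x) := by
    rw [← RingHom.comp_apply, ← CommRingCat.hom_comp, e.inv_hom_id]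
    rfl
  rw [hx, hab, map_sum]
  refine Finset.sum_congr rfl fun i _ => ?_
  rw [← hl, ← hr, ← map_mul, Algebra.TensorProduct.tmul_mul_tmul, mul_one, one_mul]

theorem const_comp_app {K : Type u} [CommRing K] {G G' : Scheme.{u}} (h : G' ⟶ G)
    (g : G ⟶ Spec (CommRingCat.of K)) (U : G.Opens) (c : K) :
    (h.app U).hom (const g U c) = const (h ≫ g) (h ⁻¹ᵁ U) c := by
  have h1 : G.presheaf.map (homOfLE (le_top : U ≤ ⊤)).op ≫ h.app U =
      h.appTop ≫ G'.presheaf.map (homOfLE (le_top : h ⁻¹ᵁ U ≤ ⊤)).op :=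
    h.naturality (homOfLE (le_top : U ≤ ⊤)).op
  have h2 : (g.appTop ≫ G.presheaf.map (homOfLE (le_top : U ≤ ⊤)).op) ≫ h.app U =
      (h ≫ g).appTop ≫ G'.presheaf.map (homOfLE (le_top : h ⁻¹ᵁ U ≤ ⊤)).op := by
    rw [Category.assoc, h1, Scheme.Hom.comp_appTop, Category.assoc]
  exact congrArg (fun φ => φ.hom ((Scheme.ΓSpecIso (CommRingCat.of K)).inv.hom c)) h2

/-- Sections of a base change of an affine open along a field extension. -/
theorem gen_pullback {k K : Type u} [CommRing k] [CommRing K] {Z : Scheme.{u}}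
    (f : Z ⟶ Spec (CommRingCat.of k)) (cc : Spec (CommRingCat.of K) ⟶ Spec (CommRingCat.of k))
    (V : Z.Opens) (hV : IsAffineOpen V) (x : Γ(pullback f cc, pullback.fst f cc ⁻¹ᵁ V)) :
    ∃ (m : ℕ) (a : Fin m → Γ(Z, V)) (c : Fin m → K), x = ∑ i,
      ((pullback.fst f cc).app V).hom (a i) *
        const (pullback.snd f cc) (pullback.fst f cc ⁻¹ᵁ V) (c i) := by
  have H : IsPullback (pullback.fst f cc) (pullback.snd f cc) f cc := IsPullback.of_hasPullback _ _
  have hUY : pullback.fst f cc ⁻¹ᵁ V = pullback.fst f cc ⁻¹ᵁ V ⊓ pullback.snd f cc ⁻¹ᵁ ⊤ := by simp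
  have hiso := isIso_pushoutSection_of_isAffineOpen H (US := ⊤) (UT := ⊤) (UX := V) le_top le_top hUY
    (isAffineOpen_top _) (isAffineOpen_top _) hV
  rw [isIso_pushoutSection_iff] at hiso
  obtain ⟨m, a, b, hx⟩ := gen_of_isPushout hiso x
  refine ⟨m, a, fun i => (Scheme.ΓSpecIso (CommRingCat.of K)).hom.hom (b i), ?_⟩
  rw [hx]
  refine Finset.sum_congr rfl fun i _ => ?_
  congr 1
  · rw [Scheme.Hom.app_eq_appLE]
  · have hb : b i = (Scheme.ΓSpecIso (CommRingCat.of K)).inv.hom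
        ((Scheme.ΓSpecIso (CommRingCat.of K)).hom.hom (b i)) := by
      rw [← RingHom.comp_apply, ← CommRingCat.hom_comp, Iso.hom_inv_id]
      rfl
    conv_lhs => rw [hb]
    rfl

end Groth.Agent.Localalg.VanGen
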