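import Mathlib.RingTheory.Nakayama
import Mathlib.RingTheory.Polynomial.Basic
import Mathlib.Algebra.Polynomial.Reverse
import Mathlib.Algebra.Polynomial.FieldDivision
import Mathlib.RingTheory.Algebraic.Integral
import Mathlib.RingTheory.Localization.FractionRing
import Mathlib.RingTheory.Localization.Integral

/-!
# Algebra for the vanishing half of Lichtenbaum's theorem

* `eq_zero_of_divisible`: a finite module over a domain which is not a field on which every nonzero
  element acts surjectively is zero;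
* the two subrings `k[T]` and `O_∞ = {p/q : deg p ≤ deg q}` of `k(T)` and `k(T) = k[T] + O_∞`.
-/

set_option autoImplicit false
universe u v

namespace Groth.Agent.Localalg.VanNak

open Polynomial

theorem eq_zero_of_divisible {S : Type u} [CommRing S] [IsDomain S] {M : Type v} [AddCommGroup M]
    [Module S M] [Module.Finite S M] (r : S) (hr0 : r ≠ 0) (hr : ¬ IsUnit r)
    (h : ∀ s : S, s ≠ 0 → Function.Surjective (fun x : M => s • x)) : Subsingleton M := by
  obtain ⟨s, hs, hsM⟩ := Submodule.exists_sub_one_mem_and_smul_eq_zero_of_fg_of_le_smul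
    (Ideal.span {r}) (⊤ : Submodule S M) Module.Finite.fg_top (by
      intro x _
      obtain ⟨y, hy⟩ := h r hr0 x
      rw [← hy]
      exact Submodule.smul_mem_smul (Ideal.mem_span_singleton_self r) trivial)
  have hs0 : s ≠ 0 := by
    rintro rfl
    rw [zero_sub, neg_mem_iff, Ideal.mem_span_singleton] at hs
    exact hr (isUnit_of_dvd_one hs)
  refine ⟨fun x y => ?_⟩
  obtain ⟨x', rfl⟩ := h s hs0 x
  obtain ⟨y', rfl⟩ := h s hs0 y
  change s • x' = s • y'
  rw [hsM x' trivial, hsM y' trivial]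

variable (k : Type u) [Field k]

/-- The field of rational functions. -/
local notation "K" => FractionRing (Polynomial k)

/-- The variable. -/
local notation "T" => (algebraMap (Polynomial k) (FractionRing (Polynomial k)) X)

theorem aeval_T (p : k[X]) : aeval T p = algebraMap k[X] K p := by
  rw [aeval_algebraMap_apply, aeval_X_left_apply]

theorem algebraMap_injective : Function.Injective (algebraMap k[X] K) :=
  IsFractionRing.injective k[X] K

theorem T_ne_zero : T ≠ 0 := by
  rw [Ne, map_eq_zero_iff _ (algebraMap_injective k)]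
  exact X_ne_zero

theorem transcendental_T : Transcendental k T := by
  rw [transcendental_iff]
  intro p hp
  rw [aeval_T, map_eq_zero_iff _ (algebraMap_injective k)] at hp
  exact hp

theorem transcendental_T_inv : Transcendental k (T)⁻¹ := by
  intro h
  refine transcendental_T k ?_
  have := h.inv
  rwa [inv_inv] at this

theorem aeval_T_injective : Function.Injective (aeval (R := k) T) :=
  transcendental_iff_injective.1 (transcendental_T k)

theorem aeval_T_inv_injective : Function.Injective (aeval (R := k) (T)⁻¹) :=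
  transcendental_iff_injective.1 (transcendental_T_inv k)

/-- The polynomials in `T`. -/
noncomputable def polyRing : Subring K := (algebraMap k[X] K).range

/-- The rational functions in `T` that are regular at infinity. -/
noncomputable def infRing : Subring K where
  carrier := {c | ∃ ρ σ : k[X], σ.coeff 0 ≠ 0 ∧ c * aeval (T)⁻¹ σ = aeval (T)⁻¹ ρ}
  mul_mem' := by
    rintro a b ⟨ρ, σ, h1, h2⟩ ⟨ρ', σ', h1', h2'⟩
    refine ⟨ρ * ρ', σ * σ', ?_, ?_⟩
    · rw [mul_coeff_zero]
      exact mul_ne_zero h1 h1'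
    · rw [map_mul, map_mul, ← h2, ← h2']
      ring
  one_mem' := ⟨1, 1, by simp, by simp⟩
  add_mem' := by
    rintro a b ⟨ρ, σ, h1, h2⟩ ⟨ρ', σ', h1', h2'⟩
    refine ⟨ρ * σ' + ρ' * σ, σ * σ', ?_, ?_⟩
    · rw [mul_coeff_zero]
      exact mul_ne_zero h1 h1'
    · rw [map_add, map_mul, map_mul, map_mul, ← h2, ← h2']
      ring
  zero_mem' := ⟨0, 1, by simp, by simp⟩
  neg_mem' := by
    rintro a ⟨ρ, σ, h1, h2⟩
    refine ⟨-ρ, σ, h1, ?_⟩
    rw [map_neg, ← h2]
    ring

theorem mem_infRing {c : K} : c ∈ infRing k ↔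
    ∃ ρ σ : k[X], σ.coeff 0 ≠ 0 ∧ c * aeval (T)⁻¹ σ = aeval (T)⁻¹ ρ := Iff.rfl

theorem mem_polyRing {c : K} : c ∈ polyRing k ↔ ∃ p : k[X], aeval T p = c := by
  constructor
  · rintro ⟨p, rfl⟩
    exact ⟨p, aeval_T k p⟩
  · rintro ⟨p, rfl⟩
    exact ⟨p, (aeval_T k p).symm⟩

theorem aeval_T_inv_ne_zero {σ : k[X]} (h : σ ≠ 0) : aeval (T)⁻¹ σ ≠ 0 := by
  rw [Ne, map_eq_zero_iff _ (aeval_T_inv_injective k)]
  exact h

theorem aeval_reflect (N : ℕ) (p : k[X]) (hp : p.natDegree ≤ N) :
    aeval (T)⁻¹ (p.reflect N) * T ^ N = aeval T p := by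
  let _ := invertibleOfNonzero (T_ne_zero k)
  have h := eval₂_reflect_mul_pow (algebraMap k K) T N p hp
  rw [invOf_eq_inv] at h
  exact h

theorem exists_add (c : K) : ∃ a ∈ polyRing k, ∃ b ∈ infRing k, c = a + b := by
  obtain ⟨p, q, hq, rfl⟩ := IsFractionRing.div_surjective (A := k[X]) c
  have hq0 : q ≠ 0 := nonZeroDivisors.ne_zero hq
  have hq' : algebraMap k[X] K q ≠ 0 := by
    rwa [Ne, map_eq_zero_iff _ (algebraMap_injective k)]
  refine ⟨algebraMap k[X] K (p / q), ⟨_, rfl⟩, algebraMap k[X] K (p % q) / algebraMap k[X] K q, ?_, ?_⟩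
  · have hT : (T : K) ^ q.natDegree ≠ 0 := pow_ne_zero _ (T_ne_zero k)
    refine ⟨(p % q).reflect q.natDegree, q.reflect q.natDegree, ?_, ?_⟩
    · rw [coeff_reflect, revAt_le (Nat.zero_le _), tsub_zero]
      exact leadingCoeff_ne_zero.2 hq0
    · refine mul_right_cancel₀ hT ?_
      rw [mul_assoc, aeval_reflect k _ _ le_rfl, aeval_reflect k _ _
        (natDegree_le_natDegree (EuclideanDomain.mod_lt p hq0).le), aeval_T, aeval_T,
        div_mul_cancel₀ _ hq']
  · rw [eq_comm, add_div' _ _ _ hq', ← map_mul, ← map_add, mul_comm (p / q) q, EuclideanDomain.div_add_mod]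

theorem T_mem_polyRing : T ∈ polyRing k := ⟨X, rfl⟩

theorem algebraMap_mem_polyRing (c : k) : algebraMap k K c ∈ polyRing k :=
  ⟨C c, (IsScalarTower.algebraMap_apply k k[X] K c).symm⟩

theorem T_inv_mem_infRing : (T)⁻¹ ∈ infRing k := ⟨X, 1, by simp, by simp⟩

theorem algebraMap_mem_infRing (c : k) : algebraMap k K c ∈ infRing k :=
  ⟨C c, 1, by simp, by simp⟩

theorem not_isUnit_T : ¬ IsUnit (⟨T, T_mem_polyRing k⟩ : polyRing k) := by
  rintro h
  obtain ⟨⟨_, p, rfl⟩, hb⟩ := h.exists_right_inv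
  have h1 : algebraMap k[X] K X * algebraMap k[X] K p = 1 := congrArg Subtype.val hb
  rw [← map_mul, ← map_one (algebraMap k[X] K)] at h1
  exact not_isUnit_X (IsUnit.of_mul_eq_one _ (algebraMap_injective k h1))

theorem not_isUnit_T_inv : ¬ IsUnit (⟨(T)⁻¹, T_inv_mem_infRing k⟩ : infRing k) := by
  rintro h
  obtain ⟨⟨b, ρ, σ, h0, hσ⟩, hb⟩ := h.exists_right_inv
  have h1 : (T)⁻¹ * b = 1 := congrArg Subtype.val hb
  have h2 : aeval (T)⁻¹ σ = aeval (T)⁻¹ (X * ρ) := by
    rw [map_mul, aeval_X, ← hσ, ← mul_assoc, h1, one_mul]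
  have h3 := aeval_T_inv_injective k h2
  rw [h3] at h0
  simp at h0

theorem exists_aeval_T (c : K) (hc : c ≠ 0) :
    ∃ p q : k[X], p ≠ 0 ∧ q ≠ 0 ∧ c * aeval T p = aeval T q := by
  obtain ⟨p, q, hq, rfl⟩ := IsFractionRing.div_surjective (A := k[X]) c
  have hq0 : q ≠ 0 := nonZeroDivisors.ne_zero hq
  have hq' : algebraMap k[X] K q ≠ 0 := by
    rwa [Ne, map_eq_zero_iff _ (algebraMap_injective k)]
  refine ⟨q, p, hq0, ?_, ?_⟩
  · rintro rfl
    simp at hc
  · rw [aeval_T, aeval_T, div_mul_cancel₀ _ hq']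

theorem exists_aeval_T_inv (c : K) (hc : c ≠ 0) :
    ∃ p q : k[X], p ≠ 0 ∧ q ≠ 0 ∧ c * aeval (T)⁻¹ p = aeval (T)⁻¹ q := by
  obtain ⟨p, q, hp, hq, h⟩ := exists_aeval_T k c hc
  let N := max p.natDegree q.natDegree
  have hT : (T : K) ^ N ≠ 0 := pow_ne_zero _ (T_ne_zero k)
  refine ⟨p.reflect N, q.reflect N, by rwa [Ne, reflect_eq_zero_iff],
    by rwa [Ne, reflect_eq_zero_iff], mul_right_cancel₀ hT ?_⟩
  rw [mul_assoc, aeval_reflect k _ _ (le_max_left _ _), aeval_reflect k _ _ (le_max_right _ _), h]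

end Groth.Agent.Localalg.VanNak
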