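import Groth.Agent.VarietyB.PullSec
import Groth.Agent.Ega1.SubSheaf
import Mathlib.AlgebraicGeometry.Morphisms.Affine

/-!
# Sections of the pullback of a quasi-coherent module along an affine morphism

* `exists_sum`: sections of `π^* C` over the preimage of an affine open `V` are generated by `Γ(C, V)`;
* `mono_unit`: if `π : G ⟶ U` is dominant and `U` is integral then `M → π_* π^* M` is a monomorphism
  for `M ⊆ O_U`.
-/

set_option autoImplicit false

universe u

open CategoryTheory CategoryTheory.Limits AlgebraicGeometry TopologicalSpace Opposite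

namespace Groth.Agent.Localalg.VanPull

/-- Sections of `π^* C` over the preimage of an affine open `V` are generated by `Γ(C, V)`. -/
theorem exists_sum {G U : Scheme.{u}} (π : G ⟶ U) [IsAffineHom π] (C : U.Modules)
    (hC : Coh.IsQCoh C) (V : U.Opens) (hV : IsAffineOpen V)
    (s : Γ((Scheme.Modules.pullback π).obj C, π ⁻¹ᵁ V)) :
    ∃ (m : ℕ) (b : Fin m → Γ(G, π ⁻¹ᵁ V)) (c : Fin m → Γ(C, V)),
      s = ∑ i, b i • (show Γ((Scheme.Modules.pullback π).obj C, π ⁻¹ᵁ V) from
        ((Scheme.Modules.pullbackPushforwardAdjunction π).unit.app C).app V (c i)) := by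
  have e : π ⁻¹ᵁ V ≤ π ⁻¹ᵁ V := le_rfl
  let j1 : Algebra Γ(U, V) Γ(G, π ⁻¹ᵁ V) := (π.appLE V (π ⁻¹ᵁ V) e).hom.toAlgebra
  let j2 := VarietyB.PullSec.secModule π C e
  have j3 : IsScalarTower Γ(U, V) Γ(G, π ⁻¹ᵁ V) Γ((Scheme.Modules.pullback π).obj C, π ⁻¹ᵁ V) :=
    ⟨fun a b c => by rw [Algebra.smul_def, mul_smul]; rfl⟩
  have hbc : IsBaseChange Γ(G, π ⁻¹ᵁ V) (VarietyB.PullSec.secₗ π C e) :=
    VarietyB.PullSec.isBaseChange_secₗ π C e hC hV (hV.preimage π)
  have hsec : ∀ c : Γ(C, V), VarietyB.PullSec.secₗ π C e c =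
      (show Γ((Scheme.Modules.pullback π).obj C, π ⁻¹ᵁ V) from
        ((Scheme.Modules.pullbackPushforwardAdjunction π).unit.app C).app V c) := by
    intro c
    change VarietyB.PullSec.sec π C e c = _
    rw [VarietyB.PullSec.sec_apply]
    have h1 : (homOfLE e).op = 𝟙 _ := rfl
    rw [h1, CategoryTheory.Functor.map_id]
    rfl
  obtain ⟨x, hx⟩ := hbc.equiv.surjective s
  have key : ∀ x : TensorProduct Γ(U, V) Γ(G, π ⁻¹ᵁ V) Γ(C, V), ∃ (m : ℕ)
      (b : Fin m → Γ(G, π ⁻¹ᵁ V)) (c : Fin m → Γ(C, V)),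
      hbc.equiv x = ∑ i, b i • (show Γ((Scheme.Modules.pullback π).obj C, π ⁻¹ᵁ V) from
        ((Scheme.Modules.pullbackPushforwardAdjunction π).unit.app C).app V (c i)) := by
    intro x
    induction x using TensorProduct.induction_on with
    | zero => exact ⟨0, Fin.elim0, Fin.elim0, by rw [map_zero]; simp⟩
    | tmul b c =>
      refine ⟨1, fun _ => b, fun _ => c, ?_⟩
      rw [hbc.equiv_tmul, hsec, Finset.univ_unique, Finset.sum_singleton]
    | add x y hx hy =>
      obtain ⟨m, b, c, h⟩ := hx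
      obtain ⟨m', b', c', h'⟩ := hy
      refine ⟨m + m', Fin.append b b', Fin.append c c', ?_⟩
      rw [map_add, h, h', Fin.sum_univ_add]
      simp only [Fin.append_left, Fin.append_right]
  obtain ⟨m, b, c, h⟩ := key x
  exact ⟨m, b, c, hx ▸ h⟩

/-- For `U` integral and `π` dominant, `O_U → π_* O_G` is injective. -/
theorem app_injective {G U : Scheme.{u}} [IsIntegral U] (π : G ⟶ U) [IsDominant π] (V : U.Opens) :
    Function.Injective (π.app V) := by
  rw [injective_iff_map_eq_zero]
  intro s hs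
  by_cases hV : Nonempty V
  · have h1 : U.basicOpen s = ⊥ := by
      have h2 : π ⁻¹ᵁ (U.basicOpen s) = ⊥ := by
        rw [Scheme.preimage_basicOpen, hs, Scheme.basicOpen_zero]
      by_contra hne
      obtain ⟨x, hx⟩ := (Opens.ne_bot_iff_nonempty _).1 hne
      obtain ⟨y, hy, ⟨z, rfl⟩⟩ := π.denseRange.inter_open_nonempty (U.basicOpen s)
        (U.basicOpen s).isOpen ⟨x, hx⟩
      have : z ∈ π ⁻¹ᵁ (U.basicOpen s) := hy
      rw [h2] at this
      exact this
    exact (basicOpen_eq_bot_iff s).1 h1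
  · have : V = ⊥ := by
      rw [← Opens.not_nonempty_iff_eq_bot]
      rintro ⟨x, hx⟩
      exact hV ⟨⟨x, hx⟩⟩
    subst this
    exact Subsingleton.elim _ _

/-- For `U` integral, `π` dominant and `M ⊆ O_U`, the morphism `M → π_* π^* M` is a
monomorphism. -/
theorem mono_unit {G U : Scheme.{u}} [IsIntegral U] (π : G ⟶ U) [IsDominant π] (M : U.Modules)
    (ι : M ⟶ Coh.structureModule U) [Mono ι] :
    Mono ((Scheme.Modules.pullbackPushforwardAdjunction π).unit.app M) := by
  have h1 : Mono (Fga.UnitRestrict.unitToPush π) := by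
    rw [Ega1.SubSheaf.mono_iff_injective]
    exact fun V => app_injective π V
  rw [← Fga.UnitRestrict.unit_pullbackUnitHom] at h1
  have h2 : Mono ((Scheme.Modules.pullbackPushforwardAdjunction π).unit.app
      (Coh.structureModule U)) := mono_of_mono _ ((Scheme.Modules.pushforward π).map
        (Fga.UnitRestrict.pullbackUnitHom π))
  have h3 := (Scheme.Modules.pullbackPushforwardAdjunction π).unit.naturality ι
  have h4 : Mono ((Scheme.Modules.pullbackPushforwardAdjunction π).unit.app M ≫
      (Scheme.Modules.pullback π ⋙ Scheme.Modules.pushforward π).map ι) := by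
    rw [← h3]
    change Mono (ι ≫ _)
    infer_instance
  exact mono_of_mono _ ((Scheme.Modules.pullback π ⋙ Scheme.Modules.pushforward π).map ι)

end Groth.Agent.Localalg.VanPull
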