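import Mathlib.RingTheory.Valuation.LocalSubring
import Mathlib.RingTheory.KrullDimension.Polynomial
import Mathlib.RingTheory.Polynomial.Quotient
import Mathlib.RingTheory.Localization.FractionRing
import Mathlib.RingTheory.DiscreteValuationRing.TFAE

/-!
# Valuation rings centred at a maximal ideal with prescribed residually transcendental element
-/

set_option autoImplicit false

universe u

namespace Groth.Agent.Localalg.VanVal

open Polynomial IsLocalRing

/-- If every algebraic relation of `t` over the local ring `A` has coefficients in the maximal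
ideal, there is a valuation ring dominating `A` in which `t` is residually transcendental over
a coefficient field. -/
theorem exists_valuation {k A F : Type u} [Field k] [CommRing A] [IsLocalRing A] [Field F]
    (γ : k →+* A) (ι : A →+* F) (t : F)
    (ht : ∀ p : A[X], p.eval₂ ι t = 0 → ∀ i, p.coeff i ∈ maximalIdeal A) :
    ∃ V : ValuationSubring F, (∃ h : ∀ a, ι a ∈ V.toSubring, IsLocalHom (ι.codRestrict V.toSubring h)) ∧
      ∀ q : k[X], q ≠ 0 → q.eval₂ (ι.comp γ) t ∈ V ∧ (q.eval₂ (ι.comp γ) t)⁻¹ ∈ V := by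
  set P : Ideal A[X] := (maximalIdeal A).map C with hP
  have hprime : P.IsPrime := Ideal.isPrime_map_C_of_isPrime
  have hmem : ∀ p : A[X], p ∈ P ↔ ∀ i, p.coeff i ∈ maximalIdeal A := fun p =>
    Ideal.mem_map_C_iff
  have hunit : ∀ y : P.primeCompl, IsUnit (eval₂RingHom ι t (y : A[X])) := by
    rintro ⟨y, hy⟩
    rw [isUnit_iff_ne_zero]
    intro h0
    exact hy ((hmem y).mpr (ht y h0))
  let φ : Localization.AtPrime P →+* F := IsLocalization.lift (M := P.primeCompl) hunit
  have hφ : ∀ p : A[X], φ (algebraMap _ _ p) = p.eval₂ ι t := fun p =>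
    IsLocalization.lift_eq hunit p
  obtain ⟨V, hV, hloc⟩ := exists_factor_valuationRing φ
  have hι : ∀ a, ι a ∈ V.toSubring := by
    intro a
    have := hV (algebraMap _ _ (C a))
    rwa [hφ, eval₂_C] at this
  have hq : ∀ p : A[X], p ∉ P → p.eval₂ ι t ∈ V ∧ (p.eval₂ ι t)⁻¹ ∈ V := by
    intro p hp
    obtain ⟨u, hu⟩ := IsLocalization.map_units (Localization.AtPrime P) (⟨p, hp⟩ : P.primeCompl)
    have h1 : φ u = p.eval₂ ι t := by
      rw [hu]
      exact hφ p
    have h2 : φ (↑u⁻¹ : Localization.AtPrime P) = (p.eval₂ ι t)⁻¹ := by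
      rw [← h1]
      refine eq_inv_of_mul_eq_one_left ?_
      rw [← map_mul, Units.inv_mul, map_one]
    exact ⟨by rw [← h1]; exact hV _, by rw [← h2]; exact hV _⟩
  refine ⟨V, ⟨hι, ⟨fun a ha => ?_⟩⟩, fun q hq0 => ?_⟩
  · -- units
    by_contra hna
    have haP : C a ∈ P := Ideal.mem_map_of_mem _ ((mem_maximalIdeal a).mpr hna)
    have h1 : IsUnit (φ.codRestrict V.toSubring hV (algebraMap _ _ (C a))) := by
      have : φ.codRestrict V.toSubring hV (algebraMap _ _ (C a)) = ι.codRestrict V.toSubring hι a := by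
        apply Subtype.ext
        change φ (algebraMap _ _ (C a)) = ι a
        rw [hφ, eval₂_C]
      rw [this]
      exact ha
    have h2 := hloc.map_nonunit _ h1
    have h3 := (IsLocalization.AtPrime.isUnit_to_map_iff (Localization.AtPrime P) P (C a)).mp h2
    exact h3 haP
  · have h1 : q.map γ ∉ P := by
      rw [hmem]
      intro h
      apply hq0
      ext i
      have h2 := h i
      rw [coeff_map, mem_maximalIdeal, mem_nonunits_iff] at h2
      by_contra h3
      exact h2 ((isUnit_iff_ne_zero.mpr h3).map γ)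
    have h2 := hq _ h1
    rwa [eval₂_map] at h2

/-- A Noetherian local normal domain of dimension at most one is a valuation ring. -/
theorem isInteger_or {A F : Type u} [CommRing A] [IsDomain A] [IsLocalRing A] [IsNoetherianRing A]
    [IsIntegrallyClosed A] [Field F] [Algebra A F] [IsFractionRing A F] (hA : ringKrullDim A ≤ 1)
    (t : F) : (∃ a : A, algebraMap A F a = t) ∨ ∃ a ∈ maximalIdeal A, algebraMap A F a = t⁻¹ := by
  have h1 : Ring.KrullDimLE 1 A := Ring.krullDimLE_iff.mpr hA
  rw [Ring.krullDimLE_one_iff_of_noZeroDivisors] at h1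
  have h0 : ValuationRing A ↔
      (IsIntegrallyClosed A ∧ ∀ P : Ideal A, P ≠ ⊥ → P.IsPrime → P = maximalIdeal A) :=
    (tfae_of_isNoetherianRing_of_isLocalRing_of_isDomain A).out 1 3
  have h2 : ValuationRing A :=
    h0.mpr ⟨inferInstance, fun P hP hP' => eq_maximalIdeal (h1 P hP hP')⟩
  rcases ValuationRing.isInteger_or_isInteger A t with ⟨a, ha⟩ | ⟨a, ha⟩
  · exact Or.inl ⟨a, ha⟩
  · by_cases hu : IsUnit a
    · obtain ⟨u, rfl⟩ := hu
      refine Or.inl ⟨(↑u⁻¹ : A), ?_⟩
      have h3 : algebraMap A F (↑u⁻¹ : A) * algebraMap A F (u : A) = 1 := by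
        rw [← map_mul, Units.inv_mul, map_one]
      rw [ha] at h3
      have h4 := eq_inv_of_mul_eq_one_left h3
      rwa [inv_inv] at h4
    · exact Or.inr ⟨a, (mem_maximalIdeal a).mpr hu, ha⟩

end Groth.Agent.Localalg.VanVal
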