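import Groth.Agent.Localalg.VanGen
import Groth.Agent.Localalg.VanVal
import Groth.Agent.Localalg.VanAlg
import Groth.Agent.Localalg.VanComp
import Groth.Agent.VarietyB.DimSch
import Mathlib.AlgebraicGeometry.ValuativeCriterion

/-!
# Slices of non-proper varieties
-/

set_option autoImplicit false

universe u

namespace Groth.Agent.Localalg.VanSlice

open AlgebraicGeometry CategoryTheory Limits TopologicalSpace Opposite
open Groth.Agent.CycB.RelDim Groth.Agent.CycB.TrdegAlg
open Groth.Agent.Localalg.TopNonvanSlice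

/-- The closure of the image of a field-valued point in the base change of a scheme of finite type. -/
theorem construct {k K F : Type u} [Field k] [Field K] [Field F] (α : k →+* K) (ψ : K →+* F)
    {Z : Scheme.{u}} (f : Z ⟶ Spec (CommRingCat.of k)) [IsSeparated f] [LocallyOfFiniteType f]
    [QuasiCompact f] (j : Spec (CommRingCat.of F) ⟶ Z) [IsPreimmersion j]
    (comm : j ≫ f = Spec.map (CommRingCat.ofHom ψ) ≫ Spec.map (CommRingCat.ofHom α)) :
    ∃ (G : Scheme.{u}) (_ : IsIntegral G) (g : G ⟶ Spec (CommRingCat.of K)) (_ : IsSeparated g)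
      (_ : LocallyOfFiniteType g) (_ : QuasiCompact g)
      (π : G ⟶ Z) (_ : IsAffineHom π) (s : Spec (CommRingCat.of F) ⟶ G) (_ : IsDominant s)
      (_ : QuasiCompact s), π ≫ f = g ≫ Spec.map (CommRingCat.ofHom α) ∧ s ≫ π = j ∧
      s ≫ g = Spec.map (CommRingCat.ofHom ψ) ∧
      (∃ n : ℕ, trd ψ = n ∧ topologicalKrullDim G = n) ∧
      ∀ V : Z.Opens, IsAffineOpen V → ∀ x : Γ(G, π ⁻¹ᵁ V),
        ∃ (m : ℕ) (a : Fin m → Γ(Z, V)) (c : Fin m → K),
          x = ∑ i, (π.app V).hom (a i) * const g (π ⁻¹ᵁ V) (c i) := by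
  let c : Spec (CommRingCat.of K) ⟶ Spec (CommRingCat.of k) := Spec.map (CommRingCat.ofHom α)
  let q : Spec (CommRingCat.of F) ⟶ pullback f c :=
    pullback.lift j (Spec.map (CommRingCat.ofHom ψ)) comm
  have hq1 : q ≫ pullback.fst f c = j := pullback.lift_fst _ _ _
  have hq2 : q ≫ pullback.snd f c = Spec.map (CommRingCat.ofHom ψ) := pullback.lift_snd _ _ _
  have hqc : QuasiCompact q := by
    have : QuasiCompact (q ≫ pullback.snd f c) := by rw [hq2]; infer_instance
    exact QuasiCompact.of_comp q (pullback.snd f c)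
  let x : Spec (CommRingCat.of F) := IsLocalRing.closedPoint F
  have hred : AlgebraicGeometry.IsReduced q.image := Ega1.ReducedSub.isReduced_image q
  have hcl : closure {q.toImage x} = (Set.univ : Set q.image) :=
    closure_eq_univ_of_isDominant q.toImage x
  have hirr : IrreducibleSpace q.image := by
    rw [irreducibleSpace_def]
    change IsIrreducible (Set.univ : Set q.image)
    rw [← hcl]
    exact isIrreducible_singleton.closure
  have hca : IsAffineHom c := inferInstanceAs (IsAffineHom (Spec.map (CommRingCat.ofHom α)))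
  have hfa : IsAffineHom (pullback.fst f c) := MorphismProperty.pullback_fst _ _ hca
  have hia : IsAffineHom q.imageι := inferInstance
  have hpa : IsAffineHom (q.imageι ≫ pullback.fst f c) :=
    MorphismProperty.comp_mem _ _ _ hia hfa
  have hint : AlgebraicGeometry.IsIntegral q.image := isIntegral_of_irreducibleSpace_of_isReduced _
  have hs1 : q.toImage ≫ (q.imageι ≫ pullback.fst f c) = j := by
    rw [← Category.assoc, Scheme.Hom.toImage_imageι, hq1]
  have hs2 : q.toImage ≫ (q.imageι ≫ pullback.snd f c) = Spec.map (CommRingCat.ofHom ψ) := by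
    rw [← Category.assoc, Scheme.Hom.toImage_imageι, hq2]
  refine ⟨q.image, hint, q.imageι ≫ pullback.snd f c, inferInstance, inferInstance, inferInstance,
    q.imageι ≫ pullback.fst f c,
    inferInstance, q.toImage, inferInstance, inferInstance, ?_, hs1, hs2, ?_, ?_⟩
  · rw [Category.assoc, Category.assoc, pullback.condition]
  · have h0 : rtd q.toImage x = 0 := by
      have := rtd_comp q.toImage (q.imageι ≫ pullback.fst f c) x
      rw [hs1, rtd_eq_zero_of_isPreimmersion] at this
      exact (add_eq_zero.mp this.symm).2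
    have h1 : rtd (q.imageι ≫ pullback.snd f c) (q.toImage x) = trd ψ := by
      have := rtd_comp q.toImage (q.imageι ≫ pullback.snd f c) x
      rw [hs2, rtd_specMap, h0, add_zero] at this
      exact this.symm
    obtain ⟨n, hn, hn'⟩ := exists_dim_closure (q.imageι ≫ pullback.snd f c) (isAffineOpen_top _)
      ((Scheme.ΓSpecIso (CommRingCat.of K)).commRingCatIsoToRingEquiv.toMulEquiv.isField
      (Field.toIsField _)) (q.toImage x)
    refine ⟨n, h1.symm.trans hn, ?_⟩
    rw [← hn', hcl]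
    exact ((Homeomorph.Set.univ q.image).isHomeomorph.topologicalKrullDim_eq _).symm
  · intro V hV y
    have hW : IsAffineOpen (pullback.fst f c ⁻¹ᵁ V) := hV.preimage _
    obtain ⟨z, hz⟩ : ∃ z, (q.imageι.app (pullback.fst f c ⁻¹ᵁ V)).hom z = y :=
      q.ker.subschemeι_app_surjective ⟨_, hW⟩ y
    obtain ⟨m, a, b, hab⟩ := VanGen.gen_pullback f c V hV z
    refine ⟨m, a, b, ?_⟩
    rw [← hz, hab, map_sum]
    refine Finset.sum_congr rfl fun i _ => ?_
    rw [map_mul, VanGen.const_comp_app]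
    congr 1

/-- The slice of a variety is not proper if some valuation ring of the function field contains the
constants of the slice and is centred on the boundary. -/
theorem not_isProper {k K F : Type u} [Field k] [Field K] [Field F] (α : k →+* K) (ψ : K →+* F)
    {U X G : Scheme.{u}} (f : U ⟶ Spec (CommRingCat.of k)) (p : X ⟶ Spec (CommRingCat.of k))
    [IsSeparated p] (j : U ⟶ X) (hjp : j ≫ p = f) (x : X) (hx : x ∉ Set.range j)
    (g : G ⟶ Spec (CommRingCat.of K)) (π : G ⟶ U)
    (hπ : π ≫ f = g ≫ Spec.map (CommRingCat.ofHom α)) (s : Spec (CommRingCat.of F) ⟶ G)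
    (e : Spec (CommRingCat.of F) ⟶ U) (hse : s ≫ π = e)
    (hsg : s ≫ g = Spec.map (CommRingCat.ofHom ψ)) (ι : X.presheaf.stalk x →+* F)
    (hι : Spec.map (CommRingCat.ofHom ι) ≫ X.fromSpecStalk x = e ≫ j) (V : ValuationSubring F)
    (hV : ∃ h : ∀ a, ι a ∈ V.toSubring, IsLocalHom (ι.codRestrict V.toSubring h))
    (hK : ∀ c, ψ c ∈ V.toSubring) : ¬ IsProper g := by
  intro hg
  obtain ⟨hA, hloc⟩ := hV
  let ψ' : K →+* V := ψ.codRestrict V.toSubring hK
  let ι' : X.presheaf.stalk x →+* V := ι.codRestrict V.toSubring hA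
  have hψ' : (algebraMap V F).comp ψ' = ψ := rfl
  have hι' : (algebraMap V F).comp ι' = ι := rfl
  have hex : ValuativeCriterion.Existence g := by
    have h1 : UniversallyClosed g := inferInstance
    rw [UniversallyClosed.eq_valuativeCriterion] at h1
    exact h1.1
  let S : ValuativeCommSq g :=
    { R := V
      K := F
      i₁ := s
      i₂ := Spec.map (CommRingCat.ofHom ψ')
      commSq := ⟨by rw [hsg, ← Spec.map_comp, ← CommRingCat.ofHom_comp, hψ']⟩ }
  obtain ⟨⟨⟨l, hl1, hl2⟩⟩⟩ := hex S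
  change Spec.map (CommRingCat.ofHom (algebraMap V F)) ≫ l = s at hl1
  change l ≫ g = Spec.map (CommRingCat.ofHom ψ') at hl2
  -- the two lifts to `X`
  have hcommX : (e ≫ j) ≫ p = Spec.map (CommRingCat.ofHom (algebraMap V F)) ≫
      Spec.map (CommRingCat.ofHom (ψ'.comp α)) := by
    rw [Category.assoc, hjp, ← hse, Category.assoc, hπ, ← Category.assoc, hsg, ← Spec.map_comp,
      ← Spec.map_comp, ← CommRingCat.ofHom_comp, ← CommRingCat.ofHom_comp, ← RingHom.comp_assoc, hψ']
  let T : ValuativeCommSq p :=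
    { R := V
      K := F
      i₁ := e ≫ j
      i₂ := Spec.map (CommRingCat.ofHom (ψ'.comp α))
      commSq := ⟨hcommX⟩ }
  have huniq := IsSeparated.valuativeCriterion p T
  have h1a : Spec.map (CommRingCat.ofHom (algebraMap V F)) ≫ (l ≫ π ≫ j) = e ≫ j := by
    rw [← Category.assoc, hl1, ← Category.assoc, hse]
  have h1b : (l ≫ π ≫ j) ≫ p = Spec.map (CommRingCat.ofHom (ψ'.comp α)) := by
    rw [Category.assoc, Category.assoc, hjp, hπ, ← Category.assoc, hl2, ← Spec.map_comp,
      ← CommRingCat.ofHom_comp]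
  have h2a : Spec.map (CommRingCat.ofHom (algebraMap V F)) ≫
      (Spec.map (CommRingCat.ofHom ι') ≫ X.fromSpecStalk x) = e ≫ j := by
    rw [← Category.assoc, ← Spec.map_comp, ← CommRingCat.ofHom_comp, hι', hι]
  have h2b : (Spec.map (CommRingCat.ofHom ι') ≫ X.fromSpecStalk x) ≫ p =
      Spec.map (CommRingCat.ofHom (ψ'.comp α)) := by
    obtain ⟨γ, hγ⟩ : ∃ γ : CommRingCat.of k ⟶ X.presheaf.stalk x, Spec.map γ = X.fromSpecStalk x ≫ p :=
      ⟨Spec.preimage _, Spec.map_preimage _⟩
    rw [Category.assoc, ← hγ, ← Spec.map_comp]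
    congr 1
    have h3 : Spec.map (CommRingCat.ofHom (algebraMap V F)) ≫ Spec.map (γ ≫ CommRingCat.ofHom ι') =
        Spec.map (CommRingCat.ofHom (algebraMap V F)) ≫ Spec.map (CommRingCat.ofHom (ψ'.comp α)) := by
      rw [← hcommX, ← h2a, Category.assoc, Category.assoc, ← hγ,
        Spec.map_comp γ (CommRingCat.ofHom ι')]
      rfl
    rw [← Spec.map_comp, ← Spec.map_comp, Spec.map_inj] at h3
    ext a
    exact congrArg (fun φ => φ.hom a) h3
  have heq : l ≫ π ≫ j = Spec.map (CommRingCat.ofHom ι') ≫ X.fromSpecStalk x := by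
    have := Subsingleton.elim (⟨_, h1a, h1b⟩ : T.commSq.LiftStruct) ⟨_, h2a, h2b⟩
    exact congrArg CommSq.LiftStruct.l this
  have hpt := congrArg (fun φ : Spec (CommRingCat.of V) ⟶ X => φ (IsLocalRing.closedPoint V)) heq
  apply hx
  refine ⟨π (l (IsLocalRing.closedPoint V)), ?_⟩
  have h4 : (Spec.map (CommRingCat.ofHom ι') ≫ X.fromSpecStalk x) (IsLocalRing.closedPoint V) = x := by
    rw [Scheme.Hom.comp_apply]
    have h5 : Spec.map (CommRingCat.ofHom ι') (IsLocalRing.closedPoint V) =
        IsLocalRing.closedPoint (X.presheaf.stalk x) :=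
      IsLocalRing.comap_closedPoint ι'
    rw [h5, Scheme.fromSpecStalk_closedPoint]
  exact hpt.trans h4

/-- An equality at the generic point holds on the slice. -/
theorem app_eq_const {K : Type u} [Field K] {Z G : Scheme.{u}} [IsIntegral Z] [IsIntegral G]
    (g : G ⟶ Spec (CommRingCat.of K)) (π : G ⟶ Z) (ψ : K →+* Z.functionField)
    (s : Spec (CommRingCat.of Z.functionField) ⟶ G) [IsDominant s] [QuasiCompact s]
    (hsπ : s ≫ π = genPt Z) (hsg : s ≫ g = Spec.map (CommRingCat.ofHom ψ))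
    (V : Z.Opens) (hV : genericPoint Z ∈ V) (τ : Γ(Z, V)) (c : K)
    (h0 : (Z.presheaf.germ V (genericPoint Z) hV).hom τ = ψ c) :
    (π.app V).hom τ = const g (π ⁻¹ᵁ V) c := by
  have h1 := relation_pullback g π ψ s hsπ hsg V hV (Polynomial.X - Polynomial.C τ) c (by
    rw [Polynomial.eval₂_sub, Polynomial.eval₂_X, Polynomial.eval₂_C, h0, sub_self])
  rw [Polynomial.eval₂_sub, Polynomial.eval₂_X, Polynomial.eval₂_C, sub_eq_zero] at h1
  exact h1.symm

/-- Spreading out an element of a stalk to an affine neighbourhood. -/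
theorem exists_affine_germ {Z : Scheme.{u}} [IsIntegral Z] (z : Z) (a : Z.presheaf.stalk z) :
    ∃ (V : Z.Opens) (_ : IsAffineOpen V) (hz : z ∈ V) (hV : genericPoint Z ∈ V) (τ : Γ(Z, V)),
      (Z.presheaf.germ V z hz).hom τ = a ∧
      (Z.presheaf.germ V (genericPoint Z) hV).hom τ =
        algebraMap (Z.presheaf.stalk z) Z.functionField a := by
  obtain ⟨W, hW, σ, hσ⟩ := Z.presheaf.exists_germ_eq a
  obtain ⟨V, hV, hzV, hVW⟩ := exists_isAffineOpen_mem_and_subset (x := z) (U := W) hW
  have hgV : genericPoint Z ∈ V :=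
    ((genericPoint_spec Z).mem_open_set_iff V.isOpen).mpr ⟨z, trivial, hzV⟩
  refine ⟨V, hV, hzV, hgV, Z.presheaf.map (homOfLE hVW).op σ, ?_, ?_⟩
  · rw [← hσ]
    exact Z.presheaf.germ_res_apply (homOfLE hVW) z hzV σ
  · rw [← hσ]
    have h1 : Z.presheaf.germ W z hW ≫
        Z.presheaf.stalkSpecializes ((genericPoint_spec Z).specializes trivial) =
        Z.presheaf.germ W (genericPoint Z) (hVW hgV) := Z.presheaf.germ_stalkSpecializes _ _
    have h2 := congrArg (fun φ => φ.hom σ) h1
    exact (Z.presheaf.germ_res_apply (homOfLE hVW) _ hgV σ).trans h2.symm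

/-- The local condition at normal points of codimension at most one. -/
theorem exists_local {K : Type u} [Field K] {Z G : Scheme.{u}} [IsIntegral Z] [IsIntegral G]
    [IsLocallyNoetherian Z]
    (g : G ⟶ Spec (CommRingCat.of K)) (π : G ⟶ Z) (ψ : K →+* Z.functionField)
    (s : Spec (CommRingCat.of Z.functionField) ⟶ G) [IsDominant s] [QuasiCompact s]
    (hsπ : s ≫ π = genPt Z) (hsg : s ≫ g = Spec.map (CommRingCat.ofHom ψ)) (c : K) (z : Z)
    (hnorm : IsIntegrallyClosed (Z.presheaf.stalk z)) (hz : ringKrullDim (Z.presheaf.stalk z) ≤ 1) :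
    ∃ (V : Z.Opens) (_ : IsAffineOpen V) (_ : z ∈ V) (τ : Γ(Z, V)),
      (π.app V).hom τ = const g (π ⁻¹ᵁ V) c ∨
        (z ∉ Z.basicOpen τ ∧ (π.app V).hom τ = const g (π ⁻¹ᵁ V) c⁻¹) := by
  rcases VanVal.isInteger_or (A := Z.presheaf.stalk z) (F := Z.functionField) hz (ψ c) with
    ⟨a, ha⟩ | ⟨a, ha, ha'⟩
  · obtain ⟨V, hV, hzV, hgV, τ, -, hτ⟩ := exists_affine_germ z a
    exact ⟨V, hV, hzV, τ, Or.inl (app_eq_const g π ψ s hsπ hsg V hgV τ c (hτ.trans ha))⟩
  · obtain ⟨V, hV, hzV, hgV, τ, hτ', hτ⟩ := exists_affine_germ z a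
    refine ⟨V, hV, hzV, τ, Or.inr ⟨?_, app_eq_const g π ψ s hsπ hsg V hgV τ c⁻¹ ?_⟩⟩
    · rw [Scheme.mem_basicOpen (hx := hzV)]
      intro hu
      have h1 : IsUnit a := by
        rw [← hτ']
        exact hu
      exact ((IsLocalRing.mem_maximalIdeal a).mp ha) h1
    · rw [hτ, ha', map_inv₀]

theorem isDominant_of_genPt {Z G : Scheme.{u}} [IsIntegral Z] (π : G ⟶ Z)
    (s : Spec (CommRingCat.of Z.functionField) ⟶ G) (hsπ : s ≫ π = genPt Z) : IsDominant π := by
  refine ⟨?_⟩
  have h1 : genericPoint Z ∈ Set.range π := by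
    refine ⟨s (IsLocalRing.closedPoint Z.functionField), ?_⟩
    rw [← Scheme.Hom.comp_apply, hsπ, genPt_apply]
  have h2 : closure {genericPoint Z} = (Set.univ : Set Z) := genericPoint_spec Z
  rw [denseRange_iff_closure_range, ← Set.univ_subset_iff, ← h2]
  exact closure_mono (Set.singleton_subset_iff.mpr h1)

/-- The local ring at a closed point has the dimension of the variety. -/
theorem ringKrullDim_stalk_of_isClosed {k : Type u} [Field k] {X : Scheme.{u}} [IsIntegral X]
    (p : X ⟶ Spec (CommRingCat.of k)) [LocallyOfFiniteType p] (x : X)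
    (hx : IsClosed ({x} : Set X)) :
    ringKrullDim (X.presheaf.stalk x) = topologicalKrullDim X := by
  let _ : X.Over (Spec (CommRingCat.of k)) := ⟨p⟩
  have : LocallyOfFiniteType (X ↘ Spec (CommRingCat.of k)) := inferInstanceAs (LocallyOfFiniteType p)
  have h1 := VarietyB.DimSch.localDim_eq k x
  rw [VarietyB.DimSch.trd_eq_zero_of_isClosed k hx, VarietyB.DimSch.localDim_eq_of_irreducible k x,
    Nat.cast_zero, add_zero] at h1
  rw [← h1, VarietyB.DimSch.topologicalKrullDim_eq_trd k]

theorem exists_slice_nonproper {k : Type u} [Field k] {U : Scheme.{u}} [IsIntegral U]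
    (hnorm : ∀ z : U, IsIntegrallyClosed (U.presheaf.stalk z)) (f : U ⟶ Spec (CommRingCat.of k))
    [IsSeparated f] [LocallyOfFiniteType f] [QuasiCompact f] (hnp : ¬ IsProper f) {d : ℕ}
    (hd : topologicalKrullDim U = ((d + 2 : ℕ) : WithBot ℕ∞)) :
    ∃ (G : Scheme.{u}) (_ : IsIntegral G)
      (g : G ⟶ Spec (CommRingCat.of (FractionRing (Polynomial k)))) (_ : IsSeparated g)
      (_ : LocallyOfFiniteType g) (_ : QuasiCompact g) (_ : ¬ IsProper g)
      (π : G ⟶ U) (_ : IsAffineHom π) (_ : IsDominant π),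
      π ≫ f = g ≫ Spec.map (CommRingCat.ofHom (algebraMap k (FractionRing (Polynomial k)))) ∧
      topologicalKrullDim G = ((d + 1 : ℕ) : WithBot ℕ∞) ∧
      (∀ V : U.Opens, IsAffineOpen V → ∀ s : Γ(G, π ⁻¹ᵁ V),
        ∃ (m : ℕ) (a : Fin m → Γ(U, V)) (c : Fin m → FractionRing (Polynomial k)),
          s = ∑ i, π.app V (a i) * const g (π ⁻¹ᵁ V) (c i)) ∧
      ∀ z : U, ringKrullDim (U.presheaf.stalk z) ≤ 1 →
        ∃ (V : U.Opens) (_ : IsAffineOpen V) (_ : z ∈ V) (τ : Γ(U, V)),
          π.app V τ = const g (π ⁻¹ᵁ V)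
              (algebraMap (Polynomial k) (FractionRing (Polynomial k)) Polynomial.X) ∨
            (z ∉ U.basicOpen τ ∧ π.app V τ = const g (π ⁻¹ᵁ V)
              (algebraMap (Polynomial k) (FractionRing (Polynomial k)) Polynomial.X)⁻¹) := by
  obtain ⟨X, hX, p, hp, j, hj, hjp⟩ := VanComp.exists_compactification f
  -- a closed point of the boundary
  have hrange : (Set.range j)ᶜ.Nonempty := by
    rw [Set.nonempty_compl]
    intro hr
    apply hnp
    have : IsIso j := isIso_of_isOpenImmersion_of_opensRange_eq_top j (Opens.ext hr)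
    rw [← hjp]
    infer_instance
  have hcomp : CompactSpace X := QuasiCompact.compactSpace_of_compactSpace p
  obtain ⟨x, hx, hxc⟩ :=
    IsClosed.exists_closed_singleton (j.isOpenEmbedding.isOpen_range.isClosed_compl) hrange
  have hNoeth : IsLocallyNoetherian X := LocallyOfFiniteType.isLocallyNoetherian p
  have hNoethU : IsLocallyNoetherian U := LocallyOfFiniteType.isLocallyNoetherian f
  -- dimensions
  obtain ⟨n, hn, hn'⟩ := rtd_genericPoint f
  have hnd : n = d + 2 := by
    rw [hn'] at hd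
    exact_mod_cast hd
  subst hnd
  have hjξ : j (genericPoint U) = genericPoint X := genericPoint_eq_of_isOpenImmersion j
  have hdimX : topologicalKrullDim X = ((d + 2 : ℕ) : WithBot ℕ∞) := by
    obtain ⟨m, hm, hm'⟩ := rtd_genericPoint p
    have h1 := rtd_comp j p (genericPoint U)
    rw [hjp, hn, hjξ, hm, rtd_eq_zero_of_isPreimmersion j, add_zero] at h1
    have h2 : d + 2 = m := by exact_mod_cast h1
    rw [hm', h2]
  have hdimx : 2 ≤ ringKrullDim (X.presheaf.stalk x) := by
    rw [ringKrullDim_stalk_of_isClosed p x hxc, hdimX]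
    exact_mod_cast Nat.le_add_left 2 d
  obtain ⟨t₀, ht₀⟩ := VanAlg.exists_forall_coeff_mem (X.presheaf.stalk x) hdimx X.functionField
  -- the function field of `U`
  let spX : X.presheaf.stalk x ⟶ X.functionField :=
    X.presheaf.stalkSpecializes ((genericPoint_spec X).specializes trivial)
  have hsp : j (genericPoint U) ⤳ genericPoint X := by rw [hjξ]
  let φ : X.functionField ⟶ U.functionField :=
    X.presheaf.stalkSpecializes hsp ≫ j.stalkMap (genericPoint U)
  let ι : X.presheaf.stalk x →+* U.functionField := (spX ≫ φ).hom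
  have hι : Spec.map (CommRingCat.ofHom ι) ≫ X.fromSpecStalk x = genPt U ≫ j := by
    have h1 : Spec.map (spX ≫ φ) = Spec.map (j.stalkMap (genericPoint U)) ≫
        Spec.map (X.presheaf.stalkSpecializes hsp) ≫ Spec.map spX := by
      rw [Spec.map_comp, Spec.map_comp, Category.assoc]
    have h2 : Spec.map spX ≫ X.fromSpecStalk x = X.fromSpecStalk (genericPoint X) :=
      Scheme.SpecMap_stalkSpecializes_fromSpecStalk _
    have h3 : Spec.map (X.presheaf.stalkSpecializes hsp) ≫ X.fromSpecStalk (genericPoint X) =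
        X.fromSpecStalk (j (genericPoint U)) := Scheme.SpecMap_stalkSpecializes_fromSpecStalk _
    change Spec.map (spX ≫ φ) ≫ X.fromSpecStalk x = U.fromSpecStalk (genericPoint U) ≫ j
    rw [h1, Category.assoc, Category.assoc, h2, h3, Scheme.SpecMap_stalkMap_fromSpecStalk]
  let t : U.functionField := φ.hom t₀
  have ht : ∀ q : Polynomial (X.presheaf.stalk x), q.eval₂ ι t = 0 →
      ∀ i, q.coeff i ∈ IsLocalRing.maximalIdeal (X.presheaf.stalk x) := by
    intro q hq
    apply ht₀ q
    apply φ.hom.injective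
    rw [map_zero, ← hq, Polynomial.aeval_def, Polynomial.hom_eval₂]
    rfl
  -- constants
  obtain ⟨γ, hγ⟩ : ∃ γ : CommRingCat.of k ⟶ X.presheaf.stalk x, Spec.map γ = X.fromSpecStalk x ≫ p :=
    ⟨Spec.preimage _, Spec.map_preimage _⟩
  have hφ0 : Spec.map (CommRingCat.ofHom (ι.comp γ.hom)) = genPt U ≫ f := by
    have h1 : CommRingCat.ofHom (ι.comp γ.hom) = γ ≫ CommRingCat.ofHom ι := rfl
    have h2 : (Spec.map (CommRingCat.ofHom ι) ≫ X.fromSpecStalk x) ≫ p = (genPt U ≫ j) ≫ p :=
      congrArg (fun φ => φ ≫ p) hι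
    rw [Category.assoc, Category.assoc, hjp, ← hγ] at h2
    rw [h1, Spec.map_comp]
    exact h2
  obtain ⟨V, hV, hVq⟩ := VanVal.exists_valuation γ.hom ι t ht
  have htr : ∀ q : Polynomial k, q.eval₂ (ι.comp γ.hom) t = 0 → q = 0 := by
    intro q hq
    ext i
    have h1 := ht (q.map γ.hom) (by rw [Polynomial.eval₂_map]; exact hq) i
    rw [Polynomial.coeff_map, IsLocalRing.mem_maximalIdeal, mem_nonunits_iff] at h1
    by_contra h3
    exact h1 ((isUnit_iff_ne_zero.mpr h3).map γ.hom)
  have hinj : Function.Injective (Polynomial.eval₂RingHom (ι.comp γ.hom) t) := by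
    rw [injective_iff_map_eq_zero]
    exact htr
  let ψ : FractionRing (Polynomial k) →+* U.functionField := IsFractionRing.lift hinj
  have hψq : ∀ q : Polynomial k, ψ (algebraMap _ _ q) = q.eval₂ (ι.comp γ.hom) t := fun q =>
    IsFractionRing.lift_algebraMap hinj q
  have hψ : ψ.comp (algebraMap k (FractionRing (Polynomial k))) = ι.comp γ.hom := by
    ext a
    rw [RingHom.comp_apply, IsScalarTower.algebraMap_apply k (Polynomial k), hψq,
      Polynomial.algebraMap_eq, Polynomial.eval₂_C]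
  have hψt : ψ (algebraMap (Polynomial k) _ Polynomial.X) = t := by
    rw [hψq, Polynomial.eval₂_X]
  have hK : ∀ c, ψ c ∈ V.toSubring := by
    intro c
    obtain ⟨a, b, hb, rfl⟩ := IsFractionRing.div_surjective (A := Polynomial k) c
    rw [map_div₀, hψq, hψq, div_eq_mul_inv]
    by_cases ha : a = 0
    · rw [ha, Polynomial.eval₂_zero, zero_mul]
      exact zero_mem _
    · exact V.mul_mem _ _ (hVq a ha).1 (hVq b (nonZeroDivisors.ne_zero hb)).2
  have y : Spec (CommRingCat.of U.functionField) := IsLocalRing.closedPoint U.functionField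
  have hφd : trd (ι.comp γ.hom) = ((d + 2 : ℕ) : Cardinal.{u}) := by
    rw [← rtd_specMap (ι.comp γ.hom) y, hφ0, rtd_comp, rtd_eq_zero_of_isPreimmersion (genPt U),
      add_zero, genPt_apply, hn]
  obtain ⟨G, hG, g, hg1, hg2, hg3, π, hπ, s, hs, hs', hcomm, hsπ, hsg, ⟨m, hm, hm'⟩, hgen⟩ :=
    construct (algebraMap k (FractionRing (Polynomial k))) ψ f (genPt U) (by
      rw [← hφ0, ← hψ, CommRingCat.ofHom_comp, Spec.map_comp])
  refine ⟨G, hG, g, hg1, hg2, hg3, ?_, π, hπ, isDominant_of_genPt π s hsπ, hcomm, ?_, hgen, ?_⟩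
  · exact not_isProper (algebraMap k (FractionRing (Polynomial k))) ψ f p j hjp x hx g π hcomm s
      (genPt U) hsπ hsg ι hι V hV hK
  · have h1 := trd_comp (algebraMap k (FractionRing (Polynomial k))) ψ
    rw [hψ, hφd, trd_fractionRing, hm] at h1
    have h2 : d + 2 = 1 + m := by exact_mod_cast h1
    have h3 : m = d + 1 := by omega
    rw [hm', h3]
  · intro z hz
    exact exists_local g π ψ s hsπ hsg _ z (hnorm z) hz

end Groth.Agent.Localalg.VanSlice
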