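import Mathlib

/-!
# Trace-type argument for `W`-modules (Lipman–Sathaye)

`φ : R → F`, `J` an ideal of `R`, `p` monic over `R` with root `y` in `F`.  Elements of `(J + (p)) : ker` in `R[Y]`
are pushed to `J : ker φ` by the top coefficient modulo `p`, and this is division by `p'(y)` in `F`.
-/

set_option autoImplicit false

namespace Groth.Agent.Localalg.WMod

open Polynomial

variable {R F : Type*} [CommRing R] [CommRing F]

/-- the coefficient of `Y^(d-1)` of the remainder modulo a monic `p` of degree `d`. -/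
noncomputable def top (p g : R[X]) : R := (g %ₘ p).coeff (p.natDegree - 1)

lemma top_add (p g h : R[X]) : top p (g + h) = top p g + top p h := by
  rw [top, add_modByMonic, coeff_add]; rfl

lemma top_C_mul (p g : R[X]) (c : R) : top p (C c * g) = c * top p g := by
  rw [← smul_eq_C_mul, top, smul_modByMonic, coeff_smul, smul_eq_mul]; rfl

lemma top_mul_self (p g : R[X]) (hp : p.Monic) : top p (p * g) = 0 := by
  rw [top, (modByMonic_eq_zero_iff_dvd hp).2 (dvd_mul_right p g), coeff_zero]

lemma coeff_mem {J : Ideal R} {g : R[X]} (hg : g ∈ J.map C) (n : ℕ) : g.coeff n ∈ J :=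
  (Ideal.mem_map_C_iff.1 hg) n

lemma modByMonic_mem {J : Ideal R} {p g : R[X]} (hp : p.Monic) (hg : g ∈ J.map C) : g %ₘ p ∈ J.map C := by
  have hJ : J.map C = RingHom.ker (mapRingHom (Ideal.Quotient.mk J)) := by
    ext x
    rw [Ideal.mem_map_C_iff, RingHom.mem_ker, coe_mapRingHom, Polynomial.ext_iff]
    refine forall_congr' fun n => ?_
    rw [coeff_map, coeff_zero, Ideal.Quotient.eq_zero_iff_mem]
  rw [hJ, RingHom.mem_ker, coe_mapRingHom] at hg ⊢
  rw [map_modByMonic _ hp, hg, zero_modByMonic]

lemma top_mem {J : Ideal R} {p g : R[X]} (hp : p.Monic) (hg : g ∈ J.map C ⊔ Ideal.span {p}) : top p g ∈ J := by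
  rw [sup_comm, Ideal.mem_span_singleton_sup] at hg
  obtain ⟨a, b, hb, rfl⟩ := hg
  rw [top_add, mul_comm, top_mul_self _ _ hp, zero_add]
  exact coeff_mem (modByMonic_mem hp hb) _

/-- The key identity: if `(Y - y) g ∈ (p)` in `F[Y]` then `g(y) = top(g) p'(y)`. -/
lemma eval_eq (p g : F[X]) (hp : p.Monic) (y : F) (hy : p.eval y = 0) (h : (X - C y) * g ∈ Ideal.span {p}) :
    g.eval y = top p g * (derivative p).eval y := by
  obtain ⟨q, hq⟩ : (X - C y) ∣ p := dvd_iff_isRoot.2 hy
  rw [Ideal.mem_span_singleton] at h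
  obtain ⟨k, hk⟩ := h
  have hXy : (X - C y : F[X]).Monic := monic_X_sub_C y
  have hqm : q.Monic := by
    have : ((X - C y) * q).Monic := hq ▸ hp
    exact hXy.of_mul_monic_left this
  have hg : g = q * k := by
    have h1 : (X - C y) * g = (X - C y) * (q * k) := by rw [hk, hq]; ring
    exact hXy.isRegular.left h1
  obtain ⟨k₁, hk₁⟩ : (X - C y) ∣ (k - C (k.eval y)) := by
    rw [dvd_iff_isRoot, IsRoot, eval_sub, eval_C, sub_self]
  have hg2 : g = C (k.eval y) * q + p * k₁ := by
    have : k = C (k.eval y) + (X - C y) * k₁ := by rw [← hk₁]; ring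
    rw [hg, hq]
    conv_lhs => rw [this]
    ring
  have htop : top p g = k.eval y := by
    rcases subsingleton_or_nontrivial F with hF | hF
    · exact Subsingleton.elim _ _
    rw [hg2, top_add, top_mul_self _ _ hp, add_zero, top_C_mul]
    have hdeg : p.natDegree = q.natDegree + 1 := by
      rw [hq, hXy.natDegree_mul hqm, natDegree_X_sub_C]; ring
    have : q %ₘ p = q := by
      rw [modByMonic_eq_self_iff hp]
      rw [degree_eq_natDegree hqm.ne_zero, degree_eq_natDegree hp.ne_zero, hdeg]
      exact_mod_cast Nat.lt_succ_self _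
    rw [top, this, hdeg, Nat.add_sub_cancel, coeff_natDegree, hqm, mul_one]
  rw [htop]
  have h1 : (derivative p).eval y = q.eval y := by
    rw [hq, derivative_mul]
    simp
  rw [h1, hg, eval_mul, mul_comm]

/-- **Pushing down.** -/
theorem push (φ : R →+* F) (J I : Ideal R) (hJI : J ≤ RingHom.ker φ) (p : R[X]) (hp : p.Monic) (y : F)
    (hy : p.eval₂ φ y = 0) (a b : R) (hb : IsUnit (φ b)) (hab : φ b * y = φ a)
    (g : R[X]) (hg1 : (C b * X - C a) * g ∈ J.map C ⊔ Ideal.span {p})
    (hg2 : ∀ c ∈ I, C c * g ∈ J.map C ⊔ Ideal.span {p}) :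
    (∀ c ∈ I, c * top p g ∈ J) ∧ φ (top p g) * (derivative p).eval₂ φ y = g.eval₂ φ y := by
  refine ⟨fun c hc => ?_, ?_⟩
  · rw [← top_C_mul]
    exact top_mem hp (hg2 c hc)
  · have hpm : (p.map φ).Monic := hp.map φ
    have hkey := eval_eq (p.map φ) (g.map φ) hpm y (by rwa [eval_map]) (by
      rw [sup_comm, Ideal.mem_span_singleton_sup] at hg1
      obtain ⟨r, s, hs, hrs⟩ := hg1
      have hs0 : s.map φ = 0 := by
        ext n
        rw [coeff_map, coeff_zero]
        exact hJI (coeff_mem hs n)
      have h1 : (C (φ b) * X - C (φ a)) * g.map φ = r.map φ * p.map φ := by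
        have := congrArg (Polynomial.map φ) hrs
        rw [Polynomial.map_add, hs0, add_zero, Polynomial.map_mul, Polynomial.map_mul] at this
        rw [this]
        simp
      have h2 : (X - C y) * g.map φ = C (↑(hb.unit⁻¹) : F) * r.map φ * p.map φ := by
        rw [mul_assoc, ← h1, ← mul_assoc, mul_sub, ← mul_assoc, ← C_mul, ← C_mul, ← hab, ← mul_assoc]
        rw [IsUnit.val_inv_mul]
        simp
      rw [h2]
      exact Ideal.mul_mem_left _ _ (Ideal.mem_span_singleton_self _))
    rw [eval_map, derivative_map, eval_map] at hkey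
    rw [hkey]
    congr 1
    rcases subsingleton_or_nontrivial F with hF | hF
    · exact Subsingleton.elim _ _
    rw [top, top, ← map_modByMonic φ hp, coeff_map, hp.natDegree_map]

end Groth.Agent.Localalg.WMod
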