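import Mathlib

/-!
# Linkage by a matrix (Wiebe)

Let `R` be a Noetherian local ring, `J` an ideal and `f₁,…,fₙ`, `h₁,…,hₙ` two sequences in the maximal ideal,
both weakly regular on `R ⧸ J`, with `f = M h` modulo `J`.  Then
`(J + (f)) : (h) = J + (f) + (det M)` and `(J + (f)) : det M = J + (h)`.
-/

set_option autoImplicit false

namespace Groth.Agent.Localalg.Wiebe

open RingTheory.Sequence
open scoped Pointwise

section Basic

variable {R : Type*} [CommRing R]

/-- `y` is a non-zero-divisor modulo `J`. -/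
def RegMod (J : Ideal R) (y : R) : Prop := ∀ z, y * z ∈ J → z ∈ J

lemma isSMulRegular_iff (J : Ideal R) (y : R) : IsSMulRegular (R ⧸ J) y ↔ RegMod J y := by
  rw [isSMulRegular_iff_right_eq_zero_of_smul]
  constructor
  · intro h z hz
    have := h (Ideal.Quotient.mk J z) (by
      rw [Algebra.smul_def, Ideal.Quotient.algebraMap_eq, ← map_mul]
      exact Ideal.Quotient.eq_zero_iff_mem.2 hz)
    exact Ideal.Quotient.eq_zero_iff_mem.1 this
  · intro h z hz
    obtain ⟨z, rfl⟩ := Ideal.Quotient.mk_surjective z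
    rw [Algebra.smul_def, Ideal.Quotient.algebraMap_eq, ← map_mul] at hz
    exact Ideal.Quotient.eq_zero_iff_mem.2 (h z (Ideal.Quotient.eq_zero_iff_mem.1 hz))

/-- weakly regular sequences modulo `J`, by recursion. -/
def WR : Ideal R → List R → Prop
  | _, [] => True
  | J, a :: l => RegMod J a ∧ WR (J ⊔ Ideal.span {a}) l

/-- `(R/J)/a(R/J) ≃ R/(J+(a))`. -/
noncomputable def quotEquiv (J : Ideal R) (a : R) : QuotSMulTop a (R ⧸ J) ≃ₗ[R] (R ⧸ (J ⊔ Ideal.span {a})) :=
  (Submodule.quotEquivOfEq _ _ (by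
    have h : (Ideal.span {a} : Ideal R) = (a • ⊤ : Submodule R R) := by
      rw [← Submodule.ideal_span_singleton_smul, smul_eq_mul, Ideal.mul_top]
    rw [h, Submodule.map_pointwise_smul, Submodule.map_top, Submodule.range_mkQ])).trans
    (Submodule.quotientQuotientEquivQuotientSup (J : Submodule R R) (Ideal.span {a}))

lemma wr_iff (l : List R) : ∀ J : Ideal R, IsWeaklyRegular (R ⧸ J) l ↔ WR J l := by
  induction l with
  | nil => intro J; simp [WR]
  | cons a l ih =>
    intro J
    rw [isWeaklyRegular_cons_iff, isSMulRegular_iff, WR, (quotEquiv J a).isWeaklyRegular_congr, ih]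

lemma wr_append (l₁ l₂ : List R) : ∀ J : Ideal R, WR J (l₁ ++ l₂) ↔ WR J l₁ ∧ WR (J ⊔ Ideal.ofList l₁) l₂ := by
  induction l₁ with
  | nil => intro J; simp [WR]
  | cons a l ih =>
    intro J
    rw [List.cons_append, WR, WR, ih, Ideal.ofList_cons, sup_assoc, and_assoc]

lemma wr_perm [IsNoetherianRing R] [IsLocalRing R] {J : Ideal R} {l₁ l₂ : List R} (h : WR J l₁)
    (hp : l₁.Perm l₂) (hm : ∀ a ∈ l₁, a ∈ IsLocalRing.maximalIdeal R) : WR J l₂ := by
  rw [← wr_iff] at h ⊢
  exact IsLocalRing.isWeaklyRegular_of_perm_of_subset_maximalIdeal h hp hm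

/-- coset version of prime avoidance (Davis). -/
lemma exists_add_notMem (S : Finset (Ideal R)) (hS : ∀ p ∈ S, p.IsPrime) (x : R) (J : Ideal R)
    (h : ∀ p ∈ S, x ∈ p → ¬ J ≤ p) : ∃ j ∈ J, ∀ p ∈ S, x + j ∉ p := by
  classical
  set S1 := S.filter (fun q => x ∈ q) with hS1
  set S2 := S.filter (fun p => x ∉ p ∧ ∀ q ∈ S1, ¬ p ≤ q) with hS2
  set K : Ideal R := J ⊓ S2.inf id with hK
  have hKq : ∀ q ∈ S1, ¬ K ≤ q := by
    intro q hq hle
    have hqp : q.IsPrime := hS q (Finset.mem_filter.1 hq).1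
    rcases (hqp.inf_le).1 hle with h1 | h1
    · exact h q (Finset.mem_filter.1 hq).1 (Finset.mem_filter.1 hq).2 h1
    · obtain ⟨p, hp, hpq⟩ := (hqp.inf_le').1 h1
      exact (Finset.mem_filter.1 hp).2.2 q hq hpq
  have h2 : ¬ ((K : Set R) ⊆ ⋃ q ∈ (S1 : Set (Ideal R)), (q : Set R)) := by
    intro hc
    have := (Ideal.subset_union_prime (s := S1) (f := id) ⊤ ⊤ (fun q hq _ _ => hS q (Finset.mem_filter.1 hq).1)).1
      (by simpa using hc)
    obtain ⟨q, hq, hle⟩ := this
    exact hKq q hq hle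
  obtain ⟨j, hj, hj'⟩ := Set.not_subset.1 h2
  refine ⟨j, hj.1, ?_⟩
  have hj1 : ∀ q ∈ S1, j ∉ q := by
    intro q hq hjq
    exact hj' (Set.mem_biUnion (show q ∈ (S1 : Set (Ideal R)) from hq) hjq)
  have hj2 : ∀ p ∈ S2, j ∈ p := by
    intro p hp
    have := hj.2
    exact (Finset.inf_le hp : S2.inf id ≤ p) this
  intro p hp hxj
  have hpp := hS p hp
  by_cases hx : x ∈ p
  · exact hj1 p (Finset.mem_filter.2 ⟨hp, hx⟩) (by simpa using p.sub_mem hxj hx)
  · by_cases hq : ∀ q ∈ S1, ¬ p ≤ q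
    · have := hj2 p (Finset.mem_filter.2 ⟨hp, hx, hq⟩)
      exact hx (by simpa using p.sub_mem hxj this)
    · push Not at hq
      obtain ⟨q, hq, hpq⟩ := hq
      have h3 : x + j ∈ q := hpq hxj
      exact hj1 q hq (by simpa using q.sub_mem h3 (Finset.mem_filter.1 hq).2)

/-- generic element of a coset that is regular modulo `J`. -/
lemma exists_regMod [IsNoetherianRing R] (J L : Ideal R) (x y : R) (hy : RegMod J y)
    (hyL : y ∈ Ideal.span {x} ⊔ L ⊔ J) : ∃ j ∈ L, RegMod J (x + j) := by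
  classical
  set S : Finset (Ideal R) := (associatedPrimes.finite R (R ⧸ J)).toFinset with hS
  have hSm : ∀ p, p ∈ S ↔ p ∈ associatedPrimes R (R ⧸ J) := by
    intro p; rw [hS, Set.Finite.mem_toFinset]
  have hcompl := biUnion_associatedPrimes_eq_compl_regular R (R ⧸ J)
  have hreg : ∀ z : R, RegMod J z ↔ ∀ p ∈ S, z ∉ p := by
    intro z
    rw [← isSMulRegular_iff]
    constructor
    · intro h p hp hz
      have : z ∈ ⋃ p ∈ associatedPrimes R (R ⧸ J), (p : Set R) :=
        Set.mem_biUnion ((hSm p).1 hp) hz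
      rw [hcompl] at this
      exact this h
    · intro h
      by_contra hc
      have : z ∈ ({r : R | IsSMulRegular (R ⧸ J) r} : Set R)ᶜ := hc
      rw [← hcompl] at this
      obtain ⟨p, hp, hz⟩ := Set.mem_iUnion₂.1 this
      exact h p ((hSm p).2 hp) hz
  have hprime : ∀ p ∈ S, p.IsPrime := fun p hp => ((hSm p).1 hp).isPrime
  have hJp : ∀ p ∈ S, J ≤ p := by
    intro p hp
    have h1 := IsAssociatedPrime.annihilator_le ((hSm p).1 hp)
    rwa [Submodule.annihilator_top, Ideal.annihilator_quotient] at h1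
  obtain ⟨j, hj, hj'⟩ := exists_add_notMem S hprime x L (by
    intro p hp hx hL
    refine (hreg y).1 hy p hp ?_
    have : Ideal.span {x} ⊔ L ⊔ J ≤ p := by
      refine sup_le (sup_le ?_ hL) (hJp p hp)
      rw [Ideal.span_singleton_le_iff_mem]; exact hx
    exact this hyL)
  exact ⟨j, hj, (hreg _).2 hj'⟩

lemma span_range_succ {n : ℕ} (f : Fin (n + 1) → R) :
    Ideal.span (Set.range f) = Ideal.span {f 0} ⊔ Ideal.span (Set.range fun i : Fin n => f i.succ) := by
  rw [← Ideal.span_union]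
  congr 1
  ext x
  simp only [Set.mem_range, Set.mem_union, Set.mem_singleton_iff]
  constructor
  · rintro ⟨i, rfl⟩
    refine Fin.cases (Or.inl rfl) (fun i => Or.inr ⟨i, rfl⟩) i
  · rintro (rfl | ⟨i, rfl⟩)
    · exact ⟨0, rfl⟩
    · exact ⟨i.succ, rfl⟩

lemma ofList_ofFn {n : ℕ} (f : Fin n → R) : Ideal.ofList (List.ofFn f) = Ideal.span (Set.range f) := by
  have : {r | r ∈ List.ofFn f} = Set.range f := by
    ext x
    exact List.mem_ofFn' _ _
  rw [← this]

/-- `h₀ det M ≡ f₀ det M₀₀` modulo `J` and the `fᵢ`, `i ≥ 1`. -/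
lemma det_cong {n : ℕ} (J : Ideal R) (f h : Fin (n + 1) → R) (M : Matrix (Fin (n + 1)) (Fin (n + 1)) R)
    (hM : ∀ i, f i - ∑ j, M i j * h j ∈ J) :
    h 0 * M.det - f 0 * (M.submatrix Fin.succ Fin.succ).det ∈
      J ⊔ Ideal.span (Set.range fun i : Fin n => f i.succ) := by
  set K := J ⊔ Ideal.span (Set.range fun i : Fin n => f i.succ) with hK
  have h1 : M.det * h 0 = ∑ i, M.adjugate 0 i * ∑ j, M i j * h j := by
    have := congrFun (congrArg (fun A : Matrix (Fin (n + 1)) (Fin (n + 1)) R => A.mulVec h) M.adjugate_mul) 0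
    simp only [← Matrix.mulVec_mulVec] at this
    rw [Matrix.smul_mulVec, Matrix.one_mulVec] at this
    simp only [Pi.smul_apply, smul_eq_mul] at this
    rw [← this]
    simp only [Matrix.mulVec, dotProduct]
  have h2 : M.det * h 0 - ∑ i, M.adjugate 0 i * f i ∈ J := by
    rw [h1, ← Finset.sum_sub_distrib]
    refine Ideal.sum_mem _ fun i _ => ?_
    rw [← mul_sub]
    refine J.mul_mem_left _ ?_
    rw [← neg_sub]
    exact J.neg_mem (hM i)
  have h3 : ∑ i, M.adjugate 0 i * f i - f 0 * (M.submatrix Fin.succ Fin.succ).det ∈ K := by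
    rw [Fin.sum_univ_succ]
    have h4 : M.adjugate 0 0 = (M.submatrix Fin.succ Fin.succ).det := by
      rw [Matrix.adjugate_fin_succ_eq_det_submatrix]
      simp only [Fin.val_zero, add_zero, pow_zero, one_mul]
      congr 1
    rw [h4, mul_comm (f 0), add_sub_cancel_left]
    refine Ideal.sum_mem _ fun i _ => ?_
    exact K.mul_mem_left _ (Ideal.mem_sup_right (Ideal.subset_span ⟨i, rfl⟩))
  have h5 := K.add_mem (Ideal.mem_sup_left h2 : _ ∈ K) h3
  have h6 : h 0 * M.det - f 0 * (M.submatrix Fin.succ Fin.succ).det =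
      M.det * h 0 - ∑ i, M.adjugate 0 i * f i +
      (∑ i, M.adjugate 0 i * f i - f 0 * (M.submatrix Fin.succ Fin.succ).det) := by ring
  rw [h6]; exact h5

lemma step {n : ℕ} (J : Ideal R) (f h : Fin (n + 1) → R) (M : Matrix (Fin (n + 1)) (Fin (n + 1)) R)
    (hM : ∀ i, f i - ∑ j, M i j * h j ∈ J)
    (hf0 : RegMod (J ⊔ Ideal.span (Set.range fun i : Fin n => f i.succ)) (f 0))
    (hh0 : RegMod (J ⊔ Ideal.span (Set.range fun i : Fin n => f i.succ)) (h 0))
    (P' : ∀ r, (∀ j : Fin n, r * h j.succ ∈ J ⊔ Ideal.span {h 0} ⊔ Ideal.span (Set.range fun i : Fin n => f i.succ)) →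
      r ∈ J ⊔ Ideal.span {h 0} ⊔ Ideal.span (Set.range fun i : Fin n => f i.succ) ⊔
        Ideal.span {(M.submatrix Fin.succ Fin.succ).det})
    (Q' : ∀ x, x * (M.submatrix Fin.succ Fin.succ).det ∈
        J ⊔ Ideal.span {h 0} ⊔ Ideal.span (Set.range fun i : Fin n => f i.succ) →
      x ∈ J ⊔ Ideal.span {h 0} ⊔ Ideal.span (Set.range fun i : Fin n => h i.succ)) :
    (∀ x, (∀ j, x * h j ∈ J ⊔ Ideal.span (Set.range f)) →
      x ∈ J ⊔ Ideal.span (Set.range f) ⊔ Ideal.span {M.det}) ∧
    (∀ x, x * M.det ∈ J ⊔ Ideal.span (Set.range f) → x ∈ J ⊔ Ideal.span (Set.range h)) := by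
  have hdet := det_cong J f h M hM
  rw [span_range_succ f, span_range_succ h]
  set F := Ideal.span (Set.range fun i : Fin n => f i.succ) with hF
  set H := Ideal.span (Set.range fun i : Fin n => h i.succ) with hH
  set D' := (M.submatrix Fin.succ Fin.succ).det with hD'
  set K := J ⊔ F with hK
  have e1 : J ⊔ (Ideal.span {f 0} ⊔ F) = K ⊔ Ideal.span {f 0} := by
    rw [hK, sup_comm (Ideal.span {f 0}), sup_assoc]
  have e2 : J ⊔ Ideal.span {h 0} ⊔ F = K ⊔ Ideal.span {h 0} := by
    rw [hK, sup_right_comm]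
  have e3 : J ⊔ (Ideal.span {h 0} ⊔ H) = J ⊔ Ideal.span {h 0} ⊔ H := by rw [sup_assoc]
  rw [e1, e3]
  rw [e2] at P' Q'
  -- description of membership
  have mem1 : ∀ {a x : R}, x ∈ K ⊔ Ideal.span {a} ↔ ∃ r, x - r * a ∈ K := by
    intro a x
    rw [sup_comm, Ideal.mem_span_singleton_sup]
    constructor
    · rintro ⟨r, b, hb, rfl⟩
      exact ⟨r, by simpa using hb⟩
    · rintro ⟨r, hr⟩
      exact ⟨r, _, hr, by ring⟩
  refine ⟨fun x hx => ?_, fun x hx => ?_⟩
  · -- part P
    obtain ⟨r, hr⟩ := mem1.1 (hx 0)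
    have hr' : r ∈ K ⊔ Ideal.span {h 0} ⊔ Ideal.span {D'} := by
      refine P' r fun j => ?_
      obtain ⟨rj, hrj⟩ := mem1.1 (hx j.succ)
      refine mem1.2 ⟨rj, hf0 _ ?_⟩
      have h1 := K.mul_mem_left (h j.succ) hr
      have h2 := K.mul_mem_left (h 0) hrj
      have h3 := K.sub_mem h2 h1
      have h4 : f 0 * (r * h j.succ - rj * h 0) =
        h 0 * (x * h j.succ - rj * f 0) - h j.succ * (x * h 0 - r * f 0) := by ring
      rw [h4]; exact h3
    rw [sup_comm, Ideal.mem_span_singleton_sup] at hr'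
    obtain ⟨s, b, hb, hsb⟩ := hr'
    obtain ⟨t, ht⟩ := mem1.1 hb
    have key : x - s * M.det - t * f 0 ∈ K := by
      refine hh0 _ ?_
      have h1 := K.mul_mem_left s hdet
      have h2 := K.mul_mem_left (f 0) ht
      have h3 := K.sub_mem (K.add_mem hr h2) h1
      have h4 : h 0 * (x - s * M.det - t * f 0) =
          x * h 0 - r * f 0 + f 0 * (b - t * h 0) - s * (h 0 * M.det - f 0 * D') := by
        rw [← hsb]; ring
      rw [h4]; exact h3
    rw [sup_comm, Ideal.mem_span_singleton_sup]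
    exact ⟨s, x - s * M.det, mem1.2 ⟨t, key⟩, by ring⟩
  · -- part Q
    obtain ⟨r, hr⟩ := mem1.1 hx
    refine Q' x (mem1.2 ⟨r, hf0 _ ?_⟩)
    have h1 := K.mul_mem_left (h 0) hr
    have h2 := K.mul_mem_left x hdet
    have h3 := K.sub_mem h1 h2
    have h4 : f 0 * (x * D' - r * h 0) =
      h 0 * (x * M.det - r * f 0) - x * (h 0 * M.det - f 0 * D') := by ring
    rw [h4]; exact h3

lemma WR.regMod_last {J : Ideal R} {l : List R} {a : R} (h : WR J (l ++ [a])) :
    RegMod (J ⊔ Ideal.ofList l) a := ((wr_append l [a] J).1 h).2.1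

lemma wr_concat {J : Ideal R} {l : List R} {a : R} :
    WR J (l ++ [a]) ↔ WR J l ∧ RegMod (J ⊔ Ideal.ofList l) a := by
  rw [wr_append, WR, WR, and_true]

theorem key [IsNoetherianRing R] [IsLocalRing R] (n : ℕ) : ∀ (J : Ideal R) (f h : Fin n → R)
    (M : Matrix (Fin n) (Fin n) R), (∀ i, f i - ∑ j, M i j * h j ∈ J) →
    WR J (List.ofFn f) → WR J (List.ofFn h) →
    (∀ i, f i ∈ IsLocalRing.maximalIdeal R) → (∀ i, h i ∈ IsLocalRing.maximalIdeal R) →
    (∀ x, (∀ j, x * h j ∈ J ⊔ Ideal.span (Set.range f)) →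
      x ∈ J ⊔ Ideal.span (Set.range f) ⊔ Ideal.span {M.det}) ∧
    (∀ x, x * M.det ∈ J ⊔ Ideal.span (Set.range f) → x ∈ J ⊔ Ideal.span (Set.range h)) := by
  induction n with
  | zero =>
    intro J f h M _ _ _ _ _
    rw [Matrix.det_fin_zero, Ideal.span_singleton_one]
    simp
  | succ n ih =>
    intro J f h M hM hf hh hfm hhm
    set f' : Fin n → R := fun i => f i.succ with hf'
    set h' : Fin n → R := fun i => h i.succ with hh'
    have hfl : List.ofFn f = f 0 :: List.ofFn f' := List.ofFn_succ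
    have hhl : List.ofFn h = h 0 :: List.ofFn h' := List.ofFn_succ
    have hfperm : WR J (List.ofFn f' ++ [f 0]) := by
      refine wr_perm hf ?_ (fun a ha => ?_)
      · rw [hfl]; exact (List.perm_append_singleton _ _).symm
      · obtain ⟨i, rfl⟩ := (List.mem_ofFn' _ _).1 ha
        exact hfm i
    have hhperm : WR J (List.ofFn h' ++ [h 0]) := by
      refine wr_perm hh ?_ (fun a ha => ?_)
      · rw [hhl]; exact (List.perm_append_singleton _ _).symm
      · obtain ⟨i, rfl⟩ := (List.mem_ofFn' _ _).1 ha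
        exact hhm i
    rw [wr_concat, ofList_ofFn] at hfperm hhperm
    -- the generic element
    obtain ⟨z, hz, hz'⟩ := exists_regMod (J ⊔ Ideal.span (Set.range f')) (Ideal.span (Set.range h')) (h 0) (f 0)
      hfperm.2 (by
        have h1 : f 0 = (f 0 - ∑ j, M 0 j * h j) + ∑ j, M 0 j * h j := by ring
        rw [h1]
        refine Ideal.add_mem _ ?_ ?_
        · exact Ideal.mem_sup_right (Ideal.mem_sup_left (hM 0))
        · refine Ideal.mem_sup_left ?_
          rw [← span_range_succ h]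
          exact Ideal.sum_mem _ fun j _ => Ideal.mul_mem_left _ _ (Ideal.subset_span ⟨j, rfl⟩))
    obtain ⟨a, ha⟩ := (Ideal.mem_span_range_iff_exists_fun).1 hz
    set y := h 0 + z with hy
    have hym : y ∈ IsLocalRing.maximalIdeal R := by
      refine Ideal.add_mem _ (hhm 0) ?_
      rw [← ha]
      exact Ideal.sum_mem _ fun j _ => Ideal.mul_mem_left _ _ (hhm j.succ)
    -- new data
    set g : Fin (n + 1) → R := Fin.cons y h' with hg
    set N : Matrix (Fin (n + 1)) (Fin (n + 1)) R :=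
      Matrix.of fun i j => Fin.cases (M i 0) (fun j => M i j.succ - M i 0 * a j) j with hN
    have hg0 : g 0 = y := rfl
    have hgs : ∀ j : Fin n, g j.succ = h' j := fun j => rfl
    have hNM : ∀ i, ∑ j, N i j * g j = ∑ j, M i j * h j := by
      intro i
      rw [Fin.sum_univ_succ, Fin.sum_univ_succ]
      simp only [hN, Matrix.of_apply, Fin.cases_zero, Fin.cases_succ, hg0, hgs]
      rw [hy, ← ha, mul_add, add_assoc, Finset.mul_sum, ← Finset.sum_add_distrib]
      congr 1
      refine Finset.sum_congr rfl fun j _ => ?_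
      ring
    have hdetN : N.det = M.det := by
      rw [← Matrix.det_transpose N, ← Matrix.det_transpose M]
      refine Matrix.det_eq_of_forall_row_eq_smul_add_const (Fin.cons 0 fun j => - a j) 0 rfl ?_
      intro j i
      refine Fin.cases ?_ (fun j => ?_) j
      · simp [hN]
      · simp only [Matrix.transpose_apply, hN, Matrix.of_apply, Fin.cases_succ, Fin.cons_succ]
        ring
    have hspan : Ideal.span (Set.range g) = Ideal.span (Set.range h) := by
      rw [span_range_succ g, span_range_succ h]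
      change Ideal.span {y} ⊔ Ideal.span (Set.range h') = Ideal.span {h 0} ⊔ Ideal.span (Set.range h')
      apply le_antisymm
      · refine sup_le ?_ le_sup_right
        rw [Ideal.span_singleton_le_iff_mem]
        exact Ideal.add_mem _ (Ideal.mem_sup_left (Ideal.mem_span_singleton_self _)) (Ideal.mem_sup_right hz)
      · refine sup_le ?_ le_sup_right
        rw [Ideal.span_singleton_le_iff_mem]
        have : h 0 = y - z := by rw [hy]; ring
        rw [this]
        exact Ideal.sub_mem _ (Ideal.mem_sup_left (Ideal.mem_span_singleton_self _)) (Ideal.mem_sup_right hz)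
    -- regularity modulo J + (y)
    have hyf : WR (J ⊔ Ideal.span {y}) (List.ofFn f') := by
      have h1 : WR J (List.ofFn f' ++ [y]) := wr_concat.2 ⟨hfperm.1, by rw [ofList_ofFn]; exact hz'⟩
      have h2 : WR J (y :: List.ofFn f') := wr_perm h1 (List.perm_append_singleton _ _) (by
        intro b hb
        rw [List.mem_append, List.mem_singleton] at hb
        rcases hb with hb | rfl
        · obtain ⟨i, rfl⟩ := (List.mem_ofFn' _ _).1 hb
          exact hfm _
        · exact hym)
      exact h2.2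
    have hyh : WR (J ⊔ Ideal.span {y}) (List.ofFn h') := by
      have h1 : WR J (List.ofFn h' ++ [y]) := wr_concat.2 ⟨hhperm.1, by
        rw [ofList_ofFn]
        intro w hw
        refine hhperm.2 w ?_
        have : h 0 * w = y * w - w * z := by rw [hy]; ring
        rw [this]
        exact Ideal.sub_mem _ hw (Ideal.mul_mem_left _ _ (Ideal.mem_sup_right hz))⟩
      have h2 : WR J (y :: List.ofFn h') := wr_perm h1 (List.perm_append_singleton _ _) (by
        intro b hb
        rw [List.mem_append, List.mem_singleton] at hb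
        rcases hb with hb | rfl
        · obtain ⟨i, rfl⟩ := (List.mem_ofFn' _ _).1 hb
          exact hhm _
        · exact hym)
      exact h2.2
    have IH := ih (J ⊔ Ideal.span {y}) f' h' (N.submatrix Fin.succ Fin.succ) (by
      intro i
      have h1 := hM i.succ
      rw [← hNM, Fin.sum_univ_succ, hg0] at h1
      have h2 : f' i - ∑ j, N.submatrix Fin.succ Fin.succ i j * h' j =
        (f i.succ - (N i.succ 0 * y + ∑ j : Fin n, N i.succ j.succ * g j.succ)) + N i.succ 0 * y := by
        simp only [Matrix.submatrix_apply, hgs]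
        ring
      rw [h2]
      exact Ideal.add_mem _ (Ideal.mem_sup_left h1)
        (Ideal.mul_mem_left _ _ (Ideal.mem_sup_right (Ideal.mem_span_singleton_self _)))) hyf hyh
      (fun i => hfm _) (fun i => hhm _)
    have := step J f g N (fun i => by rw [hNM]; exact hM i) hfperm.2 hz' IH.1 IH.2
    rw [hspan, hdetN] at this
    refine ⟨fun x hx => this.1 x fun j => ?_, this.2⟩
    have hgj : g j ∈ Ideal.span (Set.range h) := by
      rw [← hspan]; exact Ideal.subset_span ⟨j, rfl⟩
    obtain ⟨c, hc⟩ := (Ideal.mem_span_range_iff_exists_fun).1 hgj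
    rw [← hc, Finset.mul_sum]
    refine Ideal.sum_mem _ fun k _ => ?_
    have : x * (c k * h k) = c k * (x * h k) := by ring
    rw [this]
    exact Ideal.mul_mem_left _ _ (hx k)

/-- **Linkage by a matrix**: `f = M h`, both regular sequences in a Noetherian local ring;
then `(f) : (h) ≤ (f) + (det M)`. -/
theorem mem_of_mul_mem [IsNoetherianRing R] [IsLocalRing R] {n : ℕ} (f h : Fin n → R)
    (M : Matrix (Fin n) (Fin n) R) (hM : ∀ i, f i = ∑ j, M i j * h j)
    (hf : IsWeaklyRegular R (List.ofFn f)) (hh : IsWeaklyRegular R (List.ofFn h))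
    (hfm : ∀ i, f i ∈ IsLocalRing.maximalIdeal R) (hhm : ∀ i, h i ∈ IsLocalRing.maximalIdeal R)
    (x : R) (hx : ∀ j, x * h j ∈ Ideal.span (Set.range f)) :
    x ∈ Ideal.span (Set.range f) ⊔ Ideal.span {M.det} := by
  have hf' : WR ⊥ (List.ofFn f) := (wr_iff _ _).1
    (((Submodule.quotEquivOfEqBot (⊥ : Ideal R) rfl).isWeaklyRegular_congr _).2 hf)
  have hh' : WR ⊥ (List.ofFn h) := (wr_iff _ _).1
    (((Submodule.quotEquivOfEqBot (⊥ : Ideal R) rfl).isWeaklyRegular_congr _).2 hh)
  have := (key n ⊥ f h M (fun i => by rw [hM i, sub_self]; exact Ideal.zero_mem _) hf' hh' hfm hhm).1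
  simp only [bot_sup_eq] at this
  exact this x hx

/-- `(f) : det M ≤ (h)`. -/
theorem mem_of_mul_det_mem [IsNoetherianRing R] [IsLocalRing R] {n : ℕ} (f h : Fin n → R)
    (M : Matrix (Fin n) (Fin n) R) (hM : ∀ i, f i = ∑ j, M i j * h j)
    (hf : IsWeaklyRegular R (List.ofFn f)) (hh : IsWeaklyRegular R (List.ofFn h))
    (hfm : ∀ i, f i ∈ IsLocalRing.maximalIdeal R) (hhm : ∀ i, h i ∈ IsLocalRing.maximalIdeal R)
    (x : R) (hx : x * M.det ∈ Ideal.span (Set.range f)) :
    x ∈ Ideal.span (Set.range h) := by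
  have hf' : WR ⊥ (List.ofFn f) := (wr_iff _ _).1
    (((Submodule.quotEquivOfEqBot (⊥ : Ideal R) rfl).isWeaklyRegular_congr _).2 hf)
  have hh' : WR ⊥ (List.ofFn h) := (wr_iff _ _).1
    (((Submodule.quotEquivOfEqBot (⊥ : Ideal R) rfl).isWeaklyRegular_congr _).2 hh)
  have := (key n ⊥ f h M (fun i => by rw [hM i, sub_self]; exact Ideal.zero_mem _) hf' hh' hfm hhm).2
  simp only [bot_sup_eq] at this
  exact this x hx

/-- `det M * hⱼ ∈ (f)` (Cramer; any commutative ring). -/
theorem det_mul_mem {n : ℕ} (f h : Fin n → R)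
    (M : Matrix (Fin n) (Fin n) R) (hM : ∀ i, f i = ∑ j, M i j * h j) (j : Fin n) :
    M.det * h j ∈ Ideal.span (Set.range f) := by
  have h1 : M.det * h j = ∑ i, M.adjugate j i * ∑ k, M i k * h k := by
    have := congrFun (congrArg (fun A : Matrix (Fin n) (Fin n) R => A.mulVec h) M.adjugate_mul) j
    simp only [← Matrix.mulVec_mulVec] at this
    rw [Matrix.smul_mulVec, Matrix.one_mulVec] at this
    simp only [Pi.smul_apply, smul_eq_mul] at this
    rw [← this]
    simp only [Matrix.mulVec, dotProduct]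
  rw [h1]
  refine Ideal.sum_mem _ fun i _ => ?_
  rw [← hM i]
  exact Ideal.mul_mem_left _ _ (Ideal.subset_span ⟨i, rfl⟩)

/-- `(f) : (h) = (f) + (det M)`. -/
theorem colon_eq [IsNoetherianRing R] [IsLocalRing R] {n : ℕ} (f h : Fin n → R)
    (M : Matrix (Fin n) (Fin n) R) (hM : ∀ i, f i = ∑ j, M i j * h j)
    (hf : IsWeaklyRegular R (List.ofFn f)) (hh : IsWeaklyRegular R (List.ofFn h))
    (hfm : ∀ i, f i ∈ IsLocalRing.maximalIdeal R) (hhm : ∀ i, h i ∈ IsLocalRing.maximalIdeal R) (x : R) :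
    x ∈ Ideal.span (Set.range f) ⊔ Ideal.span {M.det} ↔ ∀ y ∈ Ideal.span (Set.range h), x * y ∈ Ideal.span (Set.range f) := by
  constructor
  · intro hx y hy
    rw [sup_comm, Ideal.mem_span_singleton_sup] at hx
    obtain ⟨a, b, hb, rfl⟩ := hx
    obtain ⟨c, hc⟩ := (Ideal.mem_span_range_iff_exists_fun).1 hy
    rw [add_mul]
    refine Ideal.add_mem _ ?_ (Ideal.mul_mem_right _ _ hb)
    rw [← hc, mul_assoc, Finset.mul_sum]
    refine Ideal.mul_mem_left _ _ (Ideal.sum_mem _ fun i _ => ?_)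
    have : M.det * (c i * h i) = c i * (M.det * h i) := by ring
    rw [this]
    exact Ideal.mul_mem_left _ _ (det_mul_mem f h M hM i)
  · intro hx
    exact mem_of_mul_mem f h M hM hf hh hfm hhm x fun j => hx _ (Ideal.subset_span ⟨j, rfl⟩)

end Basic

end Groth.Agent.Localalg.Wiebe
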