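import Mathlib.RingTheory.Regular.RegularSequence
import Mathlib.LinearAlgebra.Alternating.Uncurry.Fin
import Mathlib.LinearAlgebra.ExteriorPower.Basis
import Mathlib.LinearAlgebra.Determinant
import Mathlib.RingTheory.Noetherian.Basic

set_option autoImplicit false
universe u v

namespace Groth.Agent.Localalg.WiebeLink

open RingTheory.Sequence AlternatingMap Pointwise

variable {R : Type u} [CommRing R]

/-- All permutations of the list are weakly regular on `N`. -/
def PermReg (N : Type v) [AddCommGroup N] [Module R N] (l : List R) : Prop :=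
  ∀ l' : List R, l'.Perm l → IsWeaklyRegular N l'

section PermReg

variable {N : Type v} [AddCommGroup N] [Module R N]

theorem PermReg.head {r : R} {l : List R} (h : PermReg N (r :: l)) : IsSMulRegular N r :=
  ((isWeaklyRegular_cons_iff N r l).1 (h _ (List.Perm.refl _))).1

theorem PermReg.tail {r : R} {l : List R} (h : PermReg N (r :: l)) :
    PermReg (QuotSMulTop r N) l := fun l' hl' =>
  ((isWeaklyRegular_cons_iff N r l').1 (h _ (hl'.cons r))).2

theorem PermReg.last {r : R} {l : List R} (h : PermReg N (r :: l)) :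
    IsSMulRegular (N ⧸ (Ideal.ofList l • (⊤ : Submodule R N))) r := by
  have h1 := h (l ++ [r]) (List.perm_append_singleton r l)
  rw [isWeaklyRegular_append_iff] at h1
  exact (isWeaklyRegular_singleton_iff _ r).1 h1.2

theorem permReg_of_isWeaklyRegular [IsLocalRing R] [IsNoetherian R N] {l : List R}
    (h : IsWeaklyRegular N l) (hl : ∀ r ∈ l, r ∈ IsLocalRing.maximalIdeal R) :
    PermReg N l := fun _ hl' =>
  IsLocalRing.isWeaklyRegular_of_perm_of_subset_maximalIdeal h hl'.symm hl

end PermReg

section forms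

variable {V : Type u} [AddCommGroup V] [Module R V] {N : Type v} [AddCommGroup N] [Module R N]

/-- The transposed Koszul differential on alternating forms. -/
noncomputable def dlt (h : V →ₗ[R] R) {k : ℕ} (c : V [⋀^Fin k]→ₗ[R] N) :
    V [⋀^Fin (k + 1)]→ₗ[R] N :=
  alternatizeUncurryFin (h.smulRight c)

theorem dlt_apply (h : V →ₗ[R] R) {k : ℕ} (c : V [⋀^Fin k]→ₗ[R] N) (w : Fin (k + 1) → V) :
    dlt h c w = ∑ i : Fin (k + 1), (-1 : ℤ) ^ (i : ℕ) • h (w i) • c (Fin.removeNth i w) := by
  simp [dlt, alternatizeUncurryFin_apply]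

theorem dlt_dlt (h : V →ₗ[R] R) {k : ℕ} (c : V [⋀^Fin k]→ₗ[R] N) : dlt h (dlt h c) = 0 := by
  have := alternatizeUncurryFin_alternatizeUncurryFinLM_comp_of_symmetric
    (f := h.smulRight (h.smulRight c)) (by
      intro x y
      simp only [LinearMap.smulRight_apply, LinearMap.smul_apply]
      exact smul_comm _ _ _)
  rw [← this]
  unfold dlt
  congr 1
  ext x : 1
  simp

theorem dlt_smul (h : V →ₗ[R] R) {k : ℕ} (a : R) (c : V [⋀^Fin k]→ₗ[R] N) :
    dlt h (a • c) = a • dlt h c := by
  ext w
  simp only [dlt_apply, AlternatingMap.smul_apply, Finset.smul_sum]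
  refine Finset.sum_congr rfl fun i _ => ?_
  rw [smul_comm a ((-1 : ℤ) ^ (i : ℕ)), smul_comm a (h (w i))]

theorem dlt_comp (h : V →ₗ[R] R) {k : ℕ} {N' : Type v} [AddCommGroup N'] [Module R N']
    (g : N →ₗ[R] N') (c : V [⋀^Fin k]→ₗ[R] N) :
    dlt h (g.compAlternatingMap c) = g.compAlternatingMap (dlt h c) := by
  ext w
  simp only [dlt_apply, LinearMap.compAlternatingMap_apply, map_sum, map_smul, map_zsmul]

theorem exists_lift [Module.Free R V] {k : ℕ} {N' : Type v} [AddCommGroup N'] [Module R N']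
    (g : N →ₗ[R] N') (hg : Function.Surjective g) (c' : V [⋀^Fin k]→ₗ[R] N') :
    ∃ c : V [⋀^Fin k]→ₗ[R] N, g.compAlternatingMap c = c' := by
  obtain ⟨φ, hφ⟩ := Module.projective_lifting_property g
    (exteriorPower.alternatingMapLinearEquiv c') hg
  refine ⟨exteriorPower.alternatingMapLinearEquiv.symm φ, ?_⟩
  apply exteriorPower.alternatingMapLinearEquiv.injective
  rw [← hφ]
  ext w
  simp

theorem exists_div {k : ℕ} {a : R} (ha : IsSMulRegular N a) (d : V [⋀^Fin k]→ₗ[R] N)
    (hd : ∀ w, d w ∈ a • (⊤ : Submodule R N)) : ∃ c : V [⋀^Fin k]→ₗ[R] N, a • c = d := by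
  have hinj : Function.Injective (LinearMap.lsmul R N a) := fun x y hxy => ha (by simpa using hxy)
  have hd' : ∀ w, d w ∈ LinearMap.range (LinearMap.lsmul R N a) := by
    intro w
    obtain ⟨x, -, hx⟩ := Submodule.mem_smul_pointwise_iff_exists _ _ _ |>.1 (hd w)
    exact ⟨x, by simpa using hx⟩
  refine ⟨(LinearEquiv.ofInjective _ hinj).symm.toLinearMap.compAlternatingMap
    (d.codRestrict _ hd'), ?_⟩
  ext w
  have h2 : LinearMap.lsmul R N a
      ((LinearEquiv.ofInjective (LinearMap.lsmul R N a) hinj).symm ⟨d w, hd' w⟩) = d w := by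
    rw [← LinearEquiv.ofInjective_apply (LinearMap.lsmul R N a) (h := hinj)]
    exact congrArg Subtype.val (LinearEquiv.apply_symm_apply
      (LinearEquiv.ofInjective (LinearMap.lsmul R N a) hinj) ⟨d w, hd' w⟩)
  exact h2

end forms

section core

variable {V : Type u} [AddCommGroup V] [Module R V] [Module.Free R V]

theorem mem_ofList_of_mk {N : Type v} [AddCommGroup N] [Module R N] (a : R) (l : List R) (y : N)
    (hy : (Submodule.mkQ (a • (⊤ : Submodule R N))) y ∈
      Ideal.ofList l • (⊤ : Submodule R (QuotSMulTop a N))) :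
    y ∈ Ideal.ofList (a :: l) • (⊤ : Submodule R N) := by
  have h1 : Submodule.map (Submodule.mkQ (a • (⊤ : Submodule R N)))
      (Ideal.ofList l • (⊤ : Submodule R N)) = Ideal.ofList l • (⊤ : Submodule R (QuotSMulTop a N)) := by
    rw [Submodule.map_smul'', Submodule.map_top, Submodule.range_mkQ]
  rw [← h1] at hy
  obtain ⟨z, hz, hzy⟩ := hy
  have h2 : y - z ∈ a • (⊤ : Submodule R N) := by
    rw [← Submodule.Quotient.mk_eq_zero (p := a • (⊤ : Submodule R N)), Submodule.Quotient.mk_sub,
      sub_eq_zero]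
    exact hzy.symm
  rw [Ideal.ofList_cons_smul]
  have : y = (y - z) + z := by abel
  rw [this]
  exact Submodule.add_mem_sup h2 hz

theorem mk_mem_of_mem {N : Type v} [AddCommGroup N] [Module R N] (a : R) (l : List R) (y : N)
    (hy : y ∈ Ideal.ofList (a :: l) • (⊤ : Submodule R N)) :
    (Submodule.mkQ (a • (⊤ : Submodule R N))) y ∈
      Ideal.ofList l • (⊤ : Submodule R (QuotSMulTop a N)) := by
  have h1 : Submodule.map (Submodule.mkQ (a • (⊤ : Submodule R N)))
      (Ideal.ofList l • (⊤ : Submodule R N)) = Ideal.ofList l • (⊤ : Submodule R (QuotSMulTop a N)) := by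
    rw [Submodule.map_smul'', Submodule.map_top, Submodule.range_mkQ]
  rw [← h1]
  rw [Ideal.ofList_cons_smul] at hy
  obtain ⟨u, hu, z, hz, rfl⟩ := Submodule.mem_sup.1 hy
  refine ⟨z, hz, ?_⟩
  rw [map_add]
  have : (Submodule.mkQ (a • (⊤ : Submodule R N))) u = 0 := by simpa using hu
  rw [this, zero_add]

theorem core (h : V →ₗ[R] R) (k : ℕ) : ∀ (N : Type v) [AddCommGroup N] [Module R N]
    (w : Fin k → V) (y : N), PermReg N (List.ofFn fun i => h (w i)) →
    (∀ x : V, h x • y ∈ Ideal.ofList (List.ofFn fun i => h (w i)) • (⊤ : Submodule R N)) →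
    ∃ c : V [⋀^Fin k]→ₗ[R] N, dlt h c = 0 ∧
      y - c w ∈ Ideal.ofList (List.ofFn fun i => h (w i)) • (⊤ : Submodule R N) := by
  induction k with
  | zero =>
    intro N _ _ w y _ hy
    refine ⟨AlternatingMap.constOfIsEmpty R V (Fin 0) y, ?_, ?_⟩
    · ext v
      simp only [List.ofFn_zero, Ideal.ofList_nil, Submodule.bot_smul, Submodule.mem_bot] at hy
      simp [dlt_apply, hy]
    · simp
  | succ k ih =>
    intro N _ _ w y hreg hy
    have hl : (List.ofFn fun i => h (w i)) = h (w 0) :: List.ofFn (fun i => h (Fin.tail w i)) := by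
      rw [List.ofFn_succ]; rfl
    rw [hl] at hreg hy ⊢
    set a := h (w 0) with ha
    set l := List.ofFn (fun i => h (Fin.tail w i)) with hlt
    obtain ⟨c', hc', hy'⟩ := ih (QuotSMulTop a N) (Fin.tail w)
      (Submodule.mkQ (a • (⊤ : Submodule R N)) y) hreg.tail (by
        intro x
        rw [← map_smul]
        exact mk_mem_of_mem a l _ (hy x))
    obtain ⟨c, rfl⟩ := exists_lift (Submodule.mkQ (a • (⊤ : Submodule R N)))
      (Submodule.mkQ_surjective _) c'
    obtain ⟨c'', hc''⟩ := exists_div hreg.head (dlt h c) (by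
      intro v
      have := congrArg (fun f => f v) hc'
      rw [dlt_comp] at this
      simpa using this)
    refine ⟨c'', ?_, ?_⟩
    · have h1 : a • dlt h c'' = 0 := by rw [← dlt_smul, hc'', dlt_dlt]
      ext v
      apply hreg.head
      have := congrArg (fun f => f v) h1
      simpa using this
    · have h1 : a • (c'' w - c (Fin.tail w)) ∈ Ideal.ofList l • (⊤ : Submodule R N) := by
        have e1 : a • c'' w = dlt h c w := by rw [← hc'']; rfl
        rw [smul_sub, e1, dlt_apply, Fin.sum_univ_succ]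
        have e2 : Fin.removeNth 0 w = Fin.tail w := by
          ext i; rfl
        simp only [Fin.val_zero, pow_zero, one_smul, e2, ← ha, add_sub_cancel_left]
        refine Submodule.sum_mem _ fun i _ => ?_
        refine zsmul_mem ?_ _
        refine Submodule.smul_mem_smul ?_ Submodule.mem_top
        refine Ideal.subset_span ?_
        rw [hlt]
        exact List.mem_ofFn.2 ⟨i, rfl⟩
      have h2 : c'' w - c (Fin.tail w) ∈ Ideal.ofList l • (⊤ : Submodule R N) := by
        have h3 := hreg.last
        rw [← Submodule.Quotient.mk_eq_zero] at h1 ⊢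
        refine h3 (show a • _ = a • _ from ?_)
        rw [smul_zero]
        exact h1
      have h4 : y - c (Fin.tail w) ∈ Ideal.ofList (a :: l) • (⊤ : Submodule R N) := by
        apply mem_ofList_of_mk
        rw [map_sub]
        exact hy'
      have h5 : y - c'' w = (y - c (Fin.tail w)) - (c'' w - c (Fin.tail w)) := by abel
      rw [h5]
      refine Submodule.sub_mem _ h4 ?_
      rw [Ideal.ofList_cons_smul]
      exact Submodule.mem_sup_right h2

end core

/-- An alternating `n`-form on `R^n` with values in a module, evaluated at the rows of a matrix. -/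
theorem apply_eq_det_smul {N : Type v} [AddCommGroup N] [Module R N] {n : ℕ}
    (c : (Fin n → R) [⋀^Fin n]→ₗ[R] N) (M : Matrix (Fin n) (Fin n) R) :
    c (fun i => M i) = M.det • c (fun i => Pi.single i 1) := by
  have key : c = (LinearMap.toSpanSingleton R N (c (fun i => Pi.single i 1))).compAlternatingMap
      Matrix.detRowAlternating := by
    refine Module.Basis.ext_alternating (Pi.basisFun R (Fin n)) fun v hv => ?_
    obtain ⟨σ, rfl⟩ : ∃ σ : Equiv.Perm (Fin n), (σ : Fin n → Fin n) = v :=
      ⟨Equiv.ofBijective v ⟨hv, Finite.surjective_of_injective hv⟩, rfl⟩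
    have e1 : (fun i => (Pi.basisFun R (Fin n)) (σ i)) =
        (fun i => (Pi.single i 1 : Fin n → R)) ∘ σ := by
      ext i : 1
      simp
    rw [e1, AlternatingMap.map_perm, AlternatingMap.map_perm]
    congr 1
    simp only [LinearMap.compAlternatingMap_apply, LinearMap.toSpanSingleton_apply]
    have e2 : Matrix.detRowAlternating (fun i => (Pi.single i 1 : Fin n → R)) = 1 := by
      have : (fun i => (Pi.single i 1 : Fin n → R)) = (1 : Matrix (Fin n) (Fin n) R) := by
        ext i j
        rw [Matrix.one_apply, Pi.single_apply]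
        simp [eq_comm]
      rw [this]
      exact Matrix.det_one
    rw [e2, one_smul]
  conv_lhs => rw [key]
  rfl

/-- **Linkage / Wiebe.**  If `f = M h` and all permutations of `f` are weakly regular on `N`, then
every `y` with `h_j y ∈ (f) N` for all `j` lies in `(f) N + det M · N`. -/
theorem mem_of_smul_mem {N : Type v} [AddCommGroup N] [Module R N] {n : ℕ}
    (f h : Fin n → R) (M : Matrix (Fin n) (Fin n) R) (hM : ∀ i, f i = ∑ j, M i j * h j)
    (hf : PermReg N (List.ofFn f)) (y : N)
    (hy : ∀ j, h j • y ∈ Ideal.ofList (List.ofFn f) • (⊤ : Submodule R N)) :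
    ∃ z : N, y - M.det • z ∈ Ideal.ofList (List.ofFn f) • (⊤ : Submodule R N) := by
  let φ : (Fin n → R) →ₗ[R] R := Fintype.linearCombination R h
  have hφ : ∀ x, φ x = ∑ j, x j * h j := fun x => by
    simp [φ, Fintype.linearCombination_apply]
  have e : (fun i => φ (M i)) = f := by
    ext i
    rw [hφ, hM]
  obtain ⟨c, -, hc⟩ := core φ n N (fun i => M i) y (by rw [e]; exact hf) (by
    intro x
    rw [e, hφ, Finset.sum_smul]
    refine Submodule.sum_mem _ fun j _ => ?_
    rw [mul_smul]
    exact Submodule.smul_mem _ _ (hy j))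
  rw [e, apply_eq_det_smul] at hc
  exact ⟨_, hc⟩

/-- **Linkage / Wiebe**, ring form. -/
theorem mem_of_mul_mem {n : ℕ} (f h : Fin n → R) (M : Matrix (Fin n) (Fin n) R)
    (hM : ∀ i, f i = ∑ j, M i j * h j) (hf : PermReg R (List.ofFn f)) (x : R)
    (hx : ∀ j, x * h j ∈ Ideal.span (Set.range f)) :
    x ∈ Ideal.span (Set.range f) ⊔ Ideal.span {M.det} := by
  have e : Ideal.ofList (List.ofFn f) • (⊤ : Submodule R R) = Ideal.span (Set.range f) := by
    rw [Ideal.smul_top_eq_map]
    simp only [Algebra.algebraMap_self, Ideal.map_id]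
    ext z
    simp only [Submodule.restrictScalars_mem]
    have : {r | r ∈ List.ofFn f} = Set.range f := by
      ext r; simp [List.mem_ofFn]
    rw [Ideal.ofList, this]
  obtain ⟨z, hz⟩ := mem_of_smul_mem (N := R) f h M hM hf x (by
    intro j
    rw [e, smul_eq_mul, mul_comm]
    exact hx j)
  rw [e] at hz
  have : x = (x - M.det • z) + M.det • z := by abel
  rw [this]
  refine Submodule.add_mem_sup hz ?_
  rw [smul_eq_mul]
  exact Ideal.mul_mem_right _ _ (Ideal.mem_span_singleton_self _)

/-- **Linkage / Wiebe**, Noetherian local form. -/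
theorem mem_of_mul_mem_of_isLocalRing [IsLocalRing R] [IsNoetherianRing R] {n : ℕ} (f h : Fin n → R)
    (M : Matrix (Fin n) (Fin n) R) (hM : ∀ i, f i = ∑ j, M i j * h j)
    (hf : IsWeaklyRegular R (List.ofFn f)) (hfm : ∀ i, f i ∈ IsLocalRing.maximalIdeal R) (x : R)
    (hx : ∀ j, x * h j ∈ Ideal.span (Set.range f)) :
    x ∈ Ideal.span (Set.range f) ⊔ Ideal.span {M.det} :=
  mem_of_mul_mem f h M hM (permReg_of_isWeaklyRegular hf (by
    intro r hr
    obtain ⟨i, rfl⟩ := List.mem_ofFn.1 hr
    exact hfm i)) x hx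

/-- Cramer: `det M` multiplies `(h)` into `(f)`. -/
theorem det_mul_mem {n : ℕ} (f h : Fin n → R) (M : Matrix (Fin n) (Fin n) R)
    (hM : ∀ i, f i = ∑ j, M i j * h j) (j : Fin n) :
    M.det * h j ∈ Ideal.span (Set.range f) := by
  have e : M.mulVec h = f := by
    ext i; rw [hM]; rfl
  have h1 : M.adjugate.mulVec f = M.det • h := by
    rw [← e, Matrix.mulVec_mulVec, Matrix.adjugate_mul, Matrix.smul_mulVec, Matrix.one_mulVec]
  have h2 := congrFun h1 j
  rw [Pi.smul_apply, smul_eq_mul] at h2
  rw [← h2]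
  change ∑ i, M.adjugate j i * f i ∈ Ideal.span (Set.range f)
  refine Ideal.sum_mem _ fun i _ => ?_
  exact Ideal.mul_mem_left _ _ (Ideal.subset_span ⟨i, rfl⟩)

end Groth.Agent.Localalg.WiebeLink
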